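import Cfsg.Agent.Lib.Classical.TensorWreathOrth.Descent
import Cfsg.Agent.Lib.Classical.TensorWreath.Classify
import Cfsg.Agent.Lib.Classical.TensorWreath.ThreeBase

set_option autoImplicit false
set_option linter.unusedSectionVars false

/-!
The monomial involutions with the signature of a rotation of one factor: such rotations, or for a factor of
dimension three possibly elements exchanging two factors.
-/

namespace CfsgLib.Classical.TensorWreathOrth

open Matrix CfsgLib.Classical.TensorWreath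
open CfsgLib.Classical.TensorOrthNine (eig mem_eig finrank_eig_add isCompl_eig)
open scoped MatrixGroups

variable {F : Type*} [Field F] [Finite F]

/-- The signature of the rotation on a line of one factor. -/
def xsig (τ : Type) [Fintype τ] (k : ℕ) : ℤ := (2 - (k : ℤ)) * (k : ℤ) ^ (Fintype.card τ - 1)

section

variable {γ : Type} [Fintype γ] [DecidableEq γ]

theorem rank_sub_one_eq (h2 : (2 : F) ≠ 0) {X : Matrix γ γ F} (hX : X * X = 1) :
    (X - 1).rank = Module.finrank F (eig X (-1)) := by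
  have h1 := LinearMap.finrank_range_add_finrank_ker (X - 1).mulVecLin
  have e : LinearMap.ker (X - 1).mulVecLin = eig X 1 := by
    ext x
    rw [LinearMap.mem_ker, mem_eig, one_smul, Matrix.mulVecLin_apply, Matrix.sub_mulVec, Matrix.one_mulVec,
      sub_eq_zero]
  rw [e, Module.finrank_pi] at h1
  have h3 := finrank_eig_add h2 hX
  rw [Matrix.rank]
  omega

/-- An involutive isometry with one fixed line is a rotation. -/
theorem eq_rot_of_eig {A : Matrix γ γ F} (h : Frm A) {R : Matrix γ γ F} (hR : R * R = 1) (hi : Rᵀ * A * R = A)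
    (h1 : Module.finrank F (eig R 1) = 1) : ∃ v, bf A v v ≠ 0 ∧ R = rot A v := by
  obtain ⟨w, hw0, hw⟩ := finrank_eq_one_iff'.1 h1
  obtain ⟨v, hv⟩ : ∃ v : γ → F, v = w.1 := ⟨_, rfl⟩
  have hRv : R *ᵥ v = v := by
    have := mem_eig.1 w.2
    rw [one_smul] at this
    rw [hv]; exact this
  have hx : ∀ x, ∃ t : F, R *ᵥ x + x = t • v := by
    intro x
    obtain ⟨t, ht⟩ := hw ⟨R *ᵥ x + x, by
      rw [mem_eig, one_smul, Matrix.mulVec_add, Matrix.mulVec_mulVec, hR, Matrix.one_mulVec, add_comm]⟩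
    exact ⟨t, by rw [hv]; exact (congrArg Subtype.val ht).symm⟩
  have hb : ∀ x t, R *ᵥ x + x = t • v → t * bf A v v = 2 * bf A v x := by
    intro x t ht
    have e := congrArg (bf A v) ht
    rw [bf_add_right, bf_smul_right] at e
    have e2 := h.bf_iso hi v x
    rw [hRv] at e2
    rw [← e, e2]; ring
  have hvv : bf A v v ≠ 0 := by
    intro h0
    refine hw0 (Subtype.ext ?_)
    show w.1 = 0
    rw [← hv]
    refine h.nondeg fun x => ?_
    obtain ⟨t, ht⟩ := hx x
    have := hb x t ht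
    rw [h0, mul_zero] at this
    exact (mul_eq_zero.1 this.symm).resolve_left h.two
  refine ⟨v, hvv, Matrix.ext_iff_mulVec.2 fun x => ?_⟩
  obtain ⟨t, ht⟩ := hx x
  have e : t = 2 * ((bf A v v)⁻¹ * bf A v x) := by
    have := hb x t ht
    field_simp
    linear_combination this
  rw [rot, Matrix.sub_mulVec, Matrix.smul_mulVec, Matrix.one_mulVec, pr_mulVec, smul_smul, ← e, ← ht,
    add_sub_cancel_right]

end

variable {τ : Type} [Fintype τ] [DecidableEq τ] {k : ℕ}

theorem xsig_lt (hk : 3 ≤ k) : xsig τ k < 0 := by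
  refine mul_neg_of_neg_of_pos ?_ (pow_pos ?_ _) <;> omega

/-- The signature of a monomial involution exchanging factors is small. -/
theorem sig_le_of_pairs (h2 : (2 : F) ≠ 0) (hk : 3 ≤ k) [Nonempty τ] {g : τ → Matrix (Fin k) (Fin k) F}
    {σ : Equiv.Perm τ} (hW : pureM g * permM F k σ * (pureM g * permM F k σ) = 1) {s : ℕ}
    (ι : Fin (2 * s) → τ) (hι : Function.Injective ι)
    (hσ : ∀ u : Fin s, σ (ι ⟨2 * u, by omega⟩) = ι ⟨2 * u + 1, by omega⟩) :
    |sig (pureM g * permM F k σ)| * ((k ^ (2 * s) : ℕ) : ℤ) ≤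
      (Fintype.card (Ix τ k) : ℤ) * (((k ^ (2 * s) : ℕ) : ℤ) -
        2 * ((Finset.univ.filter fun v : Fin (2 * s) → Fin k => Lex (TensorWreath.pr v)).card : ℤ)) := by
  haveI : NeZero k := ⟨by omega⟩
  obtain ⟨i⟩ := ‹Nonempty τ›
  obtain ⟨u, hu⟩ : ∃ u : τ → Matrix (Fin k) (Fin k) F, u = Function.update (fun _ => 1) i (-1) := ⟨_, rfl⟩
  have hneg : -(pureM g * permM F k σ) = pureM (u * g) * permM F k σ := by
    rw [← pureM_mul, show pureM u = embM i (-1 : Matrix (Fin k) (Fin k) F) from hu ▸ rfl,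
      show (-1 : Matrix (Fin k) (Fin k) F) = (-1 : F) • 1 by rw [neg_one_smul], embM_smul, embM_one,
      Matrix.smul_mul, Matrix.smul_mul, Matrix.one_mul, neg_one_smul]
  have b1 := pairs_bound hk hW ι hι hσ
  have b2 := pairs_bound hk (g := u * g) (σ := σ)
    (by rw [← hneg, neg_mul_neg, hW]) ι hι hσ
  rw [rank_sub_one_eq h2 hW] at b1
  rw [← hneg, rank_sub_one_eq h2 (by rw [neg_mul_neg, hW]), eig_neg, neg_neg] at b2
  have h3 := finrank_eig_add h2 hW
  rw [sig]
  obtain ⟨p, hp⟩ : ∃ p : ℕ, Module.finrank F (eig (pureM g * permM F k σ) 1) = p := ⟨_, rfl⟩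
  obtain ⟨m, hm⟩ : ∃ m : ℕ, Module.finrank F (eig (pureM g * permM F k σ) (-1)) = m := ⟨_, rfl⟩
  obtain ⟨M, hM⟩ : ∃ M : ℕ, k ^ (2 * s) = M := ⟨_, rfl⟩
  rw [hp, hm] at h3 ⊢
  rw [hp, hM] at b2
  rw [hm, hM] at b1
  rw [hM, ← h3]
  generalize (Finset.univ.filter fun v : Fin (2 * s) → Fin k => Lex (TensorWreath.pr v)).card = L at b1 b2 ⊢
  rw [← h3] at b1 b2
  zify at b1 b2
  push_cast
  rcases abs_cases ((p : ℤ) - (m : ℤ)) with ⟨e, -⟩ | ⟨e, -⟩ <;> rw [e] <;> nlinarith

theorem card_ix' (hk : 3 ≤ k) [Nonempty τ] :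
    (Fintype.card (Ix τ k) : ℤ) = (k : ℤ) * (k : ℤ) ^ (Fintype.card τ - 1) := by
  haveI : NeZero k := ⟨by omega⟩
  obtain ⟨i⟩ := ‹Nonempty τ›
  rw [card_ix i, card_rest]
  push_cast
  rfl

/-- An involution exchanging factors with the signature of a rotation exchanges two factors of dimension three. -/
theorem swap_of_sig (h2 : (2 : F) ≠ 0) (hk : 3 ≤ k) {g : τ → Matrix (Fin k) (Fin k) F}
    {σ : Equiv.Perm τ} (hW : pureM g * permM F k σ * (pureM g * permM F k σ) = 1)
    (hs : sig (pureM g * permM F k σ) = xsig τ k) (hσ : σ ≠ 1) :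
    k = 3 ∧ ∃ p q, p ≠ q ∧ σ = Equiv.swap p q := by
  obtain ⟨i, hi⟩ : ∃ i, σ i ≠ i := by
    by_contra hh
    push Not at hh
    exact hσ (Equiv.ext hh)
  haveI : Nonempty τ := ⟨i⟩
  have hD := card_ix' (τ := τ) hk
  obtain ⟨K, hK⟩ : ∃ K : ℤ, K = (k : ℤ) ^ (Fintype.card τ - 1) := ⟨_, rfl⟩
  have hK0 : 0 < K := by rw [hK]; exact pow_pos (by omega) _
  have hb1 := sig_le_of_pairs h2 hk hW (s := 1) ![i, σ i]
    (by intro a b; fin_cases a <;> fin_cases b <;> simp [hi, Ne.symm hi])
    (fun u => by fin_cases u; rfl)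
  rw [hs, xsig, ← hK, abs_mul, abs_of_pos hK0, abs_of_neg (show (2 : ℤ) - k < 0 by omega), hD, ← hK] at hb1
  push_cast at hb1
  by_cases hk4 : 4 ≤ k
  · exfalso
    have hL := lex_one_card hk4
    generalize (Finset.univ.filter fun v : Fin (2 * 1) → Fin k => Lex (TensorWreath.pr v)).card = L at hb1 hL
    zify at hL hk4
    nlinarith [mul_pos hK0 (show (0 : ℤ) < k by omega)]
  have hk3 : k = 3 := by omega
  subst hk3
  refine ⟨rfl, i, σ i, Ne.symm hi, Equiv.ext fun j => ?_⟩
  have hσσ : ∀ x, σ (σ x) = x := fun x => by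
    have h := hW
    rw [mono_mul_self] at h
    rw [← Equiv.Perm.mul_apply, (eq_one_of_pure_perm hk h).1, Equiv.Perm.one_apply]
  by_cases h1 : j = i
  · subst h1; rw [Equiv.swap_apply_left]
  by_cases h3 : j = σ i
  · subst h3; rw [Equiv.swap_apply_right, hσσ]
  rw [Equiv.swap_apply_of_ne_of_ne h1 h3]
  by_contra h4
  have h5 : σ j ≠ i := fun h => h3 (by rw [← h, hσσ])
  have h6 : σ j ≠ σ i := fun h => h1 (σ.injective h)
  have hb2 := sig_le_of_pairs h2 hk hW (s := 2) ![i, σ i, j, σ j]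
    (by
      intro a b
      fin_cases a <;> fin_cases b <;>
        simp [hi, Ne.symm hi, h1, Ne.symm h1, h3, Ne.symm h3, h4, Ne.symm h4, h5, Ne.symm h5, h6, Ne.symm h6])
    (fun u => by fin_cases u <;> rfl)
  rw [show (Finset.univ.filter fun v : Fin (2 * 2) → Fin 3 => Lex (TensorWreath.pr v)).card = 36 from
    lex_card_three_two, hs, xsig, ← hK, hD, ← hK] at hb2
  push_cast at hb2
  rw [abs_mul, abs_of_pos hK0] at hb2
  norm_num at hb2
  omega

section

variable {J : Matrix (Fin k) (Fin k) F} (hf : Fac J)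
include hf

/-- An involution keeping a factor: that factor does not count, or it is the rotation. -/
theorem Fac.fix_cases {W : GL (Ix τ k) F} {g : τ → Matrix (Fin k) (Fin k) F} {σ : Equiv.Perm τ}
    (hWe : W.1 = pureM g * permM F k σ) (hi : W ∈ iso (JJ J τ)) (hW : W.1 * W.1 = 1) (hs : sig W.1 = xsig τ k)
    {n : τ} (hn : σ n = n) : Cen n W.1 ∨ ∃ v, bf J v v ≠ 0 ∧ W.1 = embM n (rot J v) := by
  haveI := hf.neZero
  have h3 := hf.three
  have h2 := hf.frm.two
  obtain ⟨e0, hY⟩ := split_mono (h := g) hn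
  obtain ⟨A, hA⟩ : ∃ A, A = restM n (pureM (Function.update g n 1) * permM F k σ) := ⟨_, rfl⟩
  obtain ⟨R, hR⟩ : ∃ R, R = g n := ⟨_, rfl⟩
  have eW : W.1 = ins n A R := by
    rw [hWe, e0, hY.eq_ins, ← hA, ← hR, embM_eq_ins, ins_mul, Matrix.one_mul, Matrix.mul_one]
  obtain ⟨c, hc⟩ : ∃ c : F, R * R = c • 1 := by
    have h := hW
    rw [hWe, mono_mul_self] at h
    obtain ⟨hσ, hsc⟩ := eq_one_of_pure_perm h3 h
    obtain ⟨c, hc⟩ := hsc n
    refine ⟨c, ?_⟩
    rw [Pi.mul_apply, show σ.symm n = n by rw [Equiv.symm_apply_eq, hn]] at hc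
    rw [hR]; exact hc
  have hAA : c • (A * A) = 1 := by
    refine ins_one_injective n ?_
    show ins n (c • (A * A)) 1 = ins n 1 1
    have h := hW
    rw [eW, ins_mul, hc, ins_smul_right, ← ins_smul_left] at h
    rw [h, ← ins_one_one n]
  have hc0 : c ≠ 0 := fun e => by rw [e, zero_smul] at hAA; exact zero_ne_one hAA
  obtain ⟨K, hK⟩ : ∃ K : ℤ, K = (k : ℤ) ^ (Fintype.card τ - 1) := ⟨_, rfl⟩
  have hK0 : 0 < K := by rw [hK]; exact pow_pos (by omega) _
  have hKc : (Fintype.card (Ix (Rest n) k) : ℤ) = K := by rw [card_rest, hK]; push_cast; rfl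
  rw [xsig, ← hK] at hs
  by_cases hsq : IsSquare c
  · obtain ⟨t, rfl⟩ := hsq
    have ht : t ≠ 0 := left_ne_zero_of_mul hc0
    obtain ⟨R', hR'⟩ : ∃ R', R' = t⁻¹ • R := ⟨_, rfl⟩
    obtain ⟨A', hA'⟩ : ∃ A', A' = t • A := ⟨_, rfl⟩
    have hRR : R' * R' = 1 := by
      rw [hR', Matrix.smul_mul, Matrix.mul_smul, smul_smul, hc, smul_smul]
      rw [show t⁻¹ * t⁻¹ * (t * t) = 1 by field_simp, one_smul]
    have hAA' : A' * A' = 1 := by rw [hA', Matrix.smul_mul, Matrix.mul_smul, smul_smul, hAA]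
    have eW' : W.1 = ins n A' R' := by
      rw [hA', hR', ins_smul_left, ins_smul_right, smul_smul, mul_inv_cancel₀ ht, one_smul, eW]
    rw [eW', sig_ins h2 n hAA' hRR] at hs
    have ha := sig_abs_le h2 hAA'
    have hr := sig_abs_le h2 hRR
    rw [hKc] at ha
    rw [Fintype.card_fin] at hr
    have cR := sig_add_card h2 hRR
    have cA := sig_add_card h2 hAA'
    rw [hKc] at cA
    rw [Fintype.card_fin] at cR
    have dR := finrank_eig_add h2 hRR
    have dA := finrank_eig_add h2 hAA'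
    rw [Fintype.card_fin] at dR
    zify at dR dA
    rw [hKc] at dA
    rcases Nat.eq_zero_or_pos (Module.finrank F (eig R' (-1))) with h0 | hpos
    · exact Or.inl (by rw [eW', eq_one_of_eig h2 hRR h0]; exact cen_ins_one n A')
    rcases Nat.eq_zero_or_pos (Module.finrank F (eig R' 1)) with h0' | hpos'
    · refine Or.inl ?_
      have e := eq_one_of_eig h2 (X := -R') (by rw [neg_mul_neg, hRR]) (by rw [eig_neg, neg_neg, h0'])
      rw [eW', ← neg_neg R', e, ← neg_one_smul F (1 : Matrix (Fin k) (Fin k) F), ins_smul_right, ← ins_smul_left]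
      exact cen_ins_one n _
    refine Or.inr ?_
    -- the other factors carry a scalar
    obtain ⟨a, ha'⟩ : ∃ a, a = sig A' := ⟨_, rfl⟩
    obtain ⟨r, hr'⟩ : ∃ r, r = sig R' := ⟨_, rfl⟩
    rw [← ha'] at hs ha cA
    rw [← hr'] at hs hr cR
    have hrk : |r| ≤ (k : ℤ) - 2 := by rw [abs_le]; omega
    have hprod : |a| * |r| = K * ((k : ℤ) - 2) := by
      rw [← abs_mul, hs, abs_mul, abs_of_pos hK0, abs_of_neg (show (2 : ℤ) - k < 0 by omega)]; ring
    have haK : |a| = K := by
      refine le_antisymm ha (le_of_not_gt fun hlt => ?_)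
      nlinarith [mul_lt_mul_of_pos_right hlt (show (0 : ℤ) < (k : ℤ) - 2 by omega), abs_nonneg a]
    have hiso : ∀ X : Matrix (Fin k) (Fin k) F, W.1 = embM n X → Xᵀ * J * X = J := by
      intro X hX
      have hd : X.det ≠ 0 := fun h0 => by
        have h2' := ((Matrix.isUnit_iff_isUnit_det _).1 W.isUnit).ne_zero
        rw [hX, det_embM, h0] at h2'
        exact h2' (zero_pow Fintype.card_ne_zero)
      obtain ⟨u, hu⟩ : ∃ u : GL (Fin k) F, u.1 = X := ⟨Matrix.GeneralLinearGroup.mkOfDetNeZero _ hd, rfl⟩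
      have e : W = embG n u := Units.ext (by rw [embG_val, hu, hX])
      exact hu ▸ mem_iso.1 (hf.frm.iso_of_emb (j := n) (e ▸ hi))
    rcases abs_cases a with ⟨eA, -⟩ | ⟨eA, -⟩
    · have hA1 : A' = 1 := eq_one_of_eig h2 hAA' (by omega)
      have e : W.1 = embM n R' := by rw [eW', hA1, embM_eq_ins]
      have hrr : r = 2 - (k : ℤ) := mul_left_cancel₀ hK0.ne' (by linear_combination hs - r * (eA.symm.trans haK))
      obtain ⟨v, hv, hv'⟩ := eq_rot_of_eig hf.frm hRR (hiso _ e) (by omega)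
      exact ⟨v, hv, by rw [e, hv']⟩
    · have hA1 : -A' = 1 := eq_one_of_eig h2 (by rw [neg_mul_neg, hAA']) (by rw [eig_neg, neg_neg]; omega)
      have e : W.1 = embM n (-R') := by
        rw [eW', ← neg_neg A', hA1, embM_eq_ins, ← neg_one_smul F (1 : Matrix (Ix (Rest n) k) (Ix (Rest n) k) F),
          ins_smul_left, ← neg_one_smul F R', ins_smul_right]
      have hrr : r = (k : ℤ) - 2 := mul_left_cancel₀ hK0.ne' (by linear_combination -hs - r * (eA.symm.trans haK))
      obtain ⟨v, hv, hv'⟩ := eq_rot_of_eig hf.frm (R := -R') (by rw [neg_mul_neg, hRR]) (hiso _ e)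
        (by rw [eig_neg]; omega)
      exact ⟨v, hv, by rw [e, hv']⟩
  · -- no eigenvalue on the factor
    exfalso
    have hnsq : ∀ s : F, c ≠ s * s := fun s e => hsq ⟨s, e⟩
    obtain ⟨x, hx⟩ : ∃ x : Fin k → F, x = Pi.single ⟨0, by omega⟩ 1 := ⟨_, rfl⟩
    have hx0 : x ≠ 0 := fun e => by
      have := congrFun e ⟨0, by omega⟩
      rw [hx, Pi.single_eq_same] at this
      exact one_ne_zero this
    have hRR : ∀ z, R *ᵥ (R *ᵥ z) = c • z := fun z => by
      rw [Matrix.mulVec_mulVec, hc, Matrix.smul_mulVec, Matrix.one_mulVec]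
    obtain ⟨S, hS⟩ : ∃ S, S = Submodule.span F {x, R *ᵥ x} := ⟨_, rfl⟩
    have hSR : ∀ z ∈ S, R *ᵥ z ∈ S := by
      intro z hz
      rw [hS, Submodule.mem_span_pair] at hz ⊢
      obtain ⟨a, b, rfl⟩ := hz
      exact ⟨b * c, a, by rw [Matrix.mulVec_add, Matrix.mulVec_smul, Matrix.mulVec_smul, hRR, smul_smul, add_comm]⟩
    obtain ⟨x', hx'⟩ : ∃ x', x' ∉ S := by
      by_contra hcon
      push Not at hcon
      have e : S = ⊤ := eq_top_iff.2 fun z _ => hcon z
      classical
      have h := finrank_span_le_card (R := F) ({x, R *ᵥ x} : Set (Fin k → F))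
      rw [← hS, e, finrank_top, Module.finrank_fintype_fun_eq_card, Fintype.card_fin, Set.toFinset_insert,
        Set.toFinset_singleton] at h
      have := h.trans Finset.card_le_two
      omega
    -- four vectors in general position
    have key : ∀ a b a' b' : F, a • x + b • (R *ᵥ x) + (a' • x' + b' • (R *ᵥ x')) = 0 →
        a = 0 ∧ a' = 0 := by
      intro a b a' b' h
      have hmem : a' • x' + b' • (R *ᵥ x') ∈ S := by
        rw [eq_neg_of_add_eq_zero_right h]
        exact S.neg_mem (by rw [hS]; exact Submodule.mem_span_pair.2 ⟨a, b, rfl⟩)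
      have ha' : a' * a' - c * (b' * b') = 0 := by
        by_contra hne
        refine hx' ((S.smul_mem_iff hne).1 ?_)
        have := S.sub_mem (S.smul_mem a' hmem) (S.smul_mem b' (hSR _ hmem))
        rw [Matrix.mulVec_add, Matrix.mulVec_smul, Matrix.mulVec_smul, hRR] at this
        convert this using 1
        match_scalars <;> ring
      have hb' : b' = 0 := by
        by_contra hne
        exact hnsq (a' / b') (by field_simp; linear_combination -ha')
      rw [hb', mul_zero, mul_zero, sub_zero] at ha'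
      have ha0 : a' = 0 := by simpa using ha'
      refine ⟨?_, ha0⟩
      rw [hb', ha0, zero_smul, zero_smul, add_zero, add_zero] at h
      by_contra hne
      have hb0 : b ≠ 0 := fun e => by
        rw [e, zero_smul, add_zero] at h
        exact hne ((smul_eq_zero.1 h).resolve_right hx0)
      have e1 : R *ᵥ x = (-(a / b)) • x := by
        refine smul_right_injective _ hb0 ?_
        show b • R *ᵥ x = b • (-(a / b)) • x
        rw [smul_smul, mul_neg, mul_div_cancel₀ _ hb0, neg_smul]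
        exact eq_neg_of_add_eq_zero_right h
      have e2 := hRR x
      rw [e1, Matrix.mulVec_smul, e1, smul_smul] at e2
      exact hnsq (-(a / b)) (smul_left_injective F hx0 e2.symm)
    -- large eigenspaces
    have hdim : ∀ s : F, s * s = 1 → 2 * Fintype.card (Ix (Rest n) k) ≤ Module.finrank F (eig W.1 s) := by
      intro s hs1
      let L : ((Ix (Rest n) k → F) × (Ix (Rest n) k → F)) →ₗ[F] (Ix τ k → F) :=
        { toFun := fun z => (iv n z.1 x + iv n z.2 x') + s • (W.1 *ᵥ (iv n z.1 x + iv n z.2 x'))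
          map_add' := fun z z' => by
            simp only [Prod.fst_add, Prod.snd_add, iv_add_left, Matrix.mulVec_add, smul_add]
            abel
          map_smul' := fun a z => by
            simp only [Prod.smul_fst, Prod.smul_snd, iv_smul_left, Matrix.mulVec_add, Matrix.mulVec_smul,
              RingHom.id_apply, smul_add, smul_comm s a] }
      have hinj : Function.Injective L := by
        refine (injective_iff_map_eq_zero L).2 fun z hz => ?_
        change (iv n z.1 x + iv n z.2 x') + s • (W.1 *ᵥ (iv n z.1 x + iv n z.2 x')) = 0 at hz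
        rw [Matrix.mulVec_add, eW, ins_mulVec_iv, ins_mulVec_iv] at hz
        have hpt : ∀ p, z.1 p = 0 ∧ z.2 p = 0 := fun p =>
          key (z.1 p) (s * (A *ᵥ z.1) p) (z.2 p) (s * (A *ᵥ z.2) p) (funext fun d => by
            have := congrFun hz ((spl n).symm (p, d))
            simp only [Pi.add_apply, Pi.smul_apply, iv, Equiv.apply_symm_apply, smul_eq_mul, Pi.zero_apply] at this ⊢
            linear_combination this)
        exact Prod.ext (funext fun p => (hpt p).1) (funext fun p => (hpt p).2)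
      have hle : LinearMap.range L ≤ eig W.1 s := by
        rintro _ ⟨z, rfl⟩
        rw [mem_eig]
        change W.1 *ᵥ ((iv n z.1 x + iv n z.2 x') + s • (W.1 *ᵥ (iv n z.1 x + iv n z.2 x'))) =
          s • ((iv n z.1 x + iv n z.2 x') + s • (W.1 *ᵥ (iv n z.1 x + iv n z.2 x')))
        generalize iv n z.1 x + iv n z.2 x' = v
        rw [Matrix.mulVec_add, Matrix.mulVec_smul, Matrix.mulVec_mulVec, hW, Matrix.one_mulVec, smul_add,
          smul_smul, hs1, one_smul, add_comm]
      have h := Submodule.finrank_mono hle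
      rw [LinearMap.finrank_range_of_inj hinj, Module.finrank_prod, Module.finrank_fintype_fun_eq_card,
        ← two_mul] at h
      exact h
    have hd1 := hdim 1 (one_mul 1)
    have hd2 := hdim (-1) (by ring)
    have hD := finrank_eig_add h2 hW
    rw [card_ix n] at hD
    zify at hd1 hd2 hD
    rw [hKc] at hd1 hd2 hD
    rw [sig] at hs
    nlinarith

/-- The monomial involutions with the signature of a rotation. -/
theorem Fac.class_cases [Nonempty τ] {W : GL (Ix τ k) F} (hi : W ∈ iso (JJ J τ)) (hm : Mono W.1)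
    (hW : W.1 * W.1 = 1) (hs : sig W.1 = xsig τ k) :
    (∃ n v, bf J v v ≠ 0 ∧ W.1 = embM n (rot J v)) ∨
      (k = 3 ∧ ∃ (g : τ → Matrix (Fin k) (Fin k) F) (p q : τ), p ≠ q ∧
        W.1 = pureM g * permM F k (Equiv.swap p q) ∧ ∀ n, n ≠ p → n ≠ q → Cen n W.1) := by
  haveI := hf.neZero
  have h2 := hf.frm.two
  obtain ⟨g, σ, e⟩ := hm
  by_cases hr : ∃ n v, bf J v v ≠ 0 ∧ W.1 = embM n (rot J v)
  · exact Or.inl hr
  have hcen : ∀ n, σ n = n → Cen n W.1 := fun n hn =>
    (hf.fix_cases e hi hW hs hn).resolve_right fun ⟨v, hv⟩ => hr ⟨n, v, hv⟩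
  by_cases hσ : σ = 1
  · exfalso
    obtain ⟨i⟩ := ‹Nonempty τ›
    have hall : ∀ n, Cen n W.1 := fun n => hcen n (by rw [hσ, Equiv.Perm.one_apply])
    obtain ⟨R, hR⟩ := eq_embM_of_cen i fun n _ => hall n
    obtain ⟨s, hs'⟩ := hf.scalar_rot (X := R) fun d _ => embM_injective i (by
      rw [← embM_mul, ← embM_mul, ← hR, hall i])
    rw [hR, hs', embM_smul, embM_one] at hW hs
    have hs1 : s * s = 1 := by
      haveI : Nonempty (Ix τ k) := ⟨fun _ => 0⟩
      rw [Matrix.smul_mul, Matrix.mul_smul, Matrix.one_mul, smul_smul] at hW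
      exact smul_left_injective F (one_ne_zero (α := Matrix (Ix τ k) (Ix τ k) F)) (hW.trans (one_smul F _).symm)
    have h3 := hf.three
    have hD := card_ix' (τ := τ) h3
    have hK0 : (0 : ℤ) < (k : ℤ) ^ (Fintype.card τ - 1) := pow_pos (by omega) _
    rw [xsig] at hs
    rcases mul_self_eq_one_iff.1 hs1 with rfl | rfl
    · rw [one_smul, sig_one h2, hD] at hs
      nlinarith
    · rw [neg_one_smul, sig_neg, sig_one h2, hD] at hs
      nlinarith
  obtain ⟨hk, p, q, hpq, rfl⟩ := swap_of_sig h2 hf.three (by rw [← e]; exact hW) (by rw [← e]; exact hs) hσ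
  exact Or.inr ⟨hk, g, p, q, hpq, e, fun n hp hq => hcen n (Equiv.swap_apply_of_ne_of_ne hp hq)⟩

end

end CfsgLib.Classical.TensorWreathOrth
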