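import Cfsg.Agent.Lib.Classical.TensorWreathOrth.Class

set_option autoImplicit false
set_option linter.unusedSectionVars false

/-!
An element taking the rotation on a good line of a factor to a monomial element is monomial.
-/

namespace CfsgLib.Classical.TensorWreathOrth

open Matrix CfsgLib.Classical.TensorWreath
open CfsgLib.Classical.TensorOrthNine (eig mem_eig finrank_eig_add)
open scoped MatrixGroups

variable {F : Type*} [Field F] [Finite F] {τ : Type} [Fintype τ] [DecidableEq τ] {k : ℕ}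
  {J : Matrix (Fin k) (Fin k) F}

/-- The rotations on good lines of the factors. -/
def IsDl (J : Matrix (Fin k) (Fin k) F) (x : GL (Ix τ k) F) : Prop :=
  ∃ (i : τ) (c : Fin k → F), Good J c ∧ x.1 = embM i (rot J c)

/-- Their conjugates in `M`. -/
def Cls (J : Matrix (Fin k) (Fin k) F) (M : Subgroup (GL (Ix τ k) F)) (e : GL (Ix τ k) F) : Prop :=
  ∃ g ∈ M, ∃ y, IsDl J y ∧ g * y * g⁻¹ = e

/-- An element exchanging two factors of dimension three and not counting on the others. -/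
def Sw (W : Matrix (Ix τ k) (Ix τ k) F) : Prop :=
  k = 3 ∧ ∃ (g : τ → Matrix (Fin k) (Fin k) F) (p q : τ), p ≠ q ∧
    W = pureM g * permM F k (Equiv.swap p q) ∧ ∀ n, n ≠ p → n ≠ q → Cen n W

theorem isDl_embG (i : τ) {c : Fin k → F} (hc : Good J c) : IsDl J (embG i (rotG J c hc.1)) :=
  ⟨i, c, hc, rfl⟩

namespace Fac

variable (hf : Fac J)
include hf

/-- Commuting rotations have orthogonal or equal lines. -/
theorem rot_commute {a c : Fin k → F} (ha : bf J a a ≠ 0) (hc : bf J c c ≠ 0)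
    (h : rot J a * rot J c = rot J c * rot J a) : bf J a c = 0 ∨ rot J c = rot J a := by
  by_cases hb : bf J c a = 0
  · exact Or.inl (by rw [hf.frm.bf_comm]; exact hb)
  refine Or.inr ?_
  have h1 : rot J a *ᵥ (rot J c *ᵥ a) = rot J c *ᵥ a := by
    rw [Matrix.mulVec_mulVec, h, ← Matrix.mulVec_mulVec, rot_self J ha]
  have hm : rot J c *ᵥ a ∈ eig (rot J a) 1 := by rw [mem_eig, one_smul, h1]
  rw [eig_rot_one hf.frm ha, Submodule.mem_span_singleton] at hm
  obtain ⟨t, ht⟩ := hm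
  rw [rot, Matrix.sub_mulVec, Matrix.smul_mulVec, Matrix.one_mulVec, pr_mulVec, smul_smul] at ht
  obtain ⟨s, hs⟩ : ∃ s, s = 2 * ((bf J c c)⁻¹ * bf J c a) := ⟨_, rfl⟩
  rw [← hs] at ht
  have hs0 : s ≠ 0 := hs ▸ mul_ne_zero hf.frm.two (mul_ne_zero (inv_ne_zero hc) hb)
  have e : c = (s⁻¹ * (t + 1)) • a := by
    rw [← smul_smul, add_smul, one_smul, ht, sub_add_cancel, smul_smul, inv_mul_cancel₀ hs0, one_smul]
  have h0 : s⁻¹ * (t + 1) ≠ 0 := fun e0 => hc (by rw [e, e0, zero_smul, bf_zero_left])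
  rw [e, rot_smul J h0]

/-- The rotation of a factor is not an element of another factor. -/
theorem embM_rot_ne [NeZero k] {m n : τ} (hmn : m ≠ n) {v : Fin k → F} (hv : bf J v v ≠ 0)
    (b : Matrix (Fin k) (Fin k) F) : embM m (rot J v) ≠ embM n b := by
  intro e
  obtain ⟨s, hs⟩ := hf.scalar_rot (X := rot J v) fun d _ => embM_injective m (by
    rw [← embM_mul, ← embM_mul, e, embM_comm hmn.symm])
  exact hf.rot_not_scalar hv s hs

theorem embM_rot_not_cen [NeZero k] {m : τ} {v : Fin k → F} (hv : bf J v v ≠ 0) :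
    ¬ Cen m (embM m (rot J v)) := by
  intro h
  obtain ⟨s, hs⟩ := hf.scalar_rot (X := rot J v) fun d _ => embM_injective m (by
    rw [← embM_mul, ← embM_mul, h (rot J d)])
  exact hf.rot_not_scalar hv s hs

theorem det_pureM_ne {g : τ → Matrix (Fin k) (Fin k) F} {σ : Equiv.Perm τ} {W : GL (Ix τ k) F}
    (e : W.1 = pureM g * permM F k σ) : (pureM g).det ≠ 0 := fun h0 => by
  have h1 := ((Matrix.isUnit_iff_isUnit_det _).1 W.isUnit).ne_zero
  rw [e, Matrix.det_mul, h0, zero_mul] at h1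
  exact h1 rfl

/-- An exchanged factor is not centralised. -/
theorem swap_not_cen [NeZero k] {g : τ → Matrix (Fin k) (Fin k) F} {p q : τ} (hpq : p ≠ q) {W : GL (Ix τ k) F}
    (e : W.1 = pureM g * permM F k (Equiv.swap p q)) : ¬ Cen p W.1 ∧ ¬ Cen q W.1 := by
  have key : ∀ {σ : Equiv.Perm τ}, W.1 = pureM g * permM F k σ → ∀ j, σ j ≠ j → ¬ Cen j W.1 := by
    intro σ e j hj hc
    obtain ⟨a, a', haa⟩ : ∃ a a' : Fin k, a ≠ a' :=
      ⟨⟨0, by have := hf.three; omega⟩, ⟨1, by have := hf.three; omega⟩, by simp [Fin.ext_iff]⟩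
    have h1 := mono_mul_embM (g := g) (g' := fun l => (g l)⁻¹) σ j
      (nonsing_inv_of_pureM (hf.det_pureM_ne e) _) (TensorWreath.e a a')
    rw [← e, ← hc] at h1
    exact embM_eq_embM_ne hf.three (Ne.symm hj) haa (W.isUnit.mul_right_cancel h1)
  exact ⟨key e p (by rw [Equiv.swap_apply_left]; exact hpq.symm),
    key e q (by rw [Equiv.swap_apply_right]; exact hpq)⟩

/-- An exchange is not pure. -/
theorem swap_not_pure [NeZero k] {g h : τ → Matrix (Fin k) (Fin k) F} {p q : τ} (hpq : p ≠ q) {W : GL (Ix τ k) F}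
    (hW : W.1 * W.1 = 1) (e : W.1 = pureM g * permM F k (Equiv.swap p q)) (e' : W.1 = pureM h) : False := by
  have h1 : pureM (h * g) * permM F k (Equiv.swap p q) = 1 := by
    rw [← pureM_mul, Matrix.mul_assoc, ← e, ← e', hW]
  exact hpq (Equiv.swap_eq_refl_iff.1 (eq_one_of_pure_perm hf.three h1).1)

/-- An exchange times a commuting rotation is not an exchange. -/
theorem swap_mul_dl [NeZero k] {g g' : τ → Matrix (Fin k) (Fin k) F} {p q p' q' n : τ} (hpq : p ≠ q) (hpq' : p' ≠ q')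
    {v : Fin k → F} (hv : bf J v v ≠ 0) {W W' x : GL (Ix τ k) F}
    (e : W.1 = pureM g * permM F k (Equiv.swap p q)) (hc : ∀ l, l ≠ p → l ≠ q → Cen l W.1)
    (e' : W'.1 = pureM g' * permM F k (Equiv.swap p' q')) (hc' : ∀ l, l ≠ p' → l ≠ q' → Cen l W'.1)
    (hx : x.1 = embM n (rot J v)) (hWx : W * x = x * W) (hW' : W' = W * x) : False := by
  have key : ∀ {g : τ → Matrix (Fin k) (Fin k) F} {σ : Equiv.Perm τ} {W : GL (Ix τ k) F},
      W.1 = pureM g * permM F k σ → W * x = x * W → σ n = n := by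
    intro g σ W e hWx
    by_contra hne
    have h1 := mono_mul_embM (g := g) (g' := fun l => (g l)⁻¹) σ n
      (nonsing_inv_of_pureM (hf.det_pureM_ne e) _) (rot J v)
    rw [← e, ← hx, show W.1 * x.1 = x.1 * W.1 from congrArg Units.val hWx, hx] at h1
    exact hf.embM_rot_ne (Ne.symm hne) hv _ (W.isUnit.mul_right_cancel h1)
  have hW'x : W' * x = x * W' := by rw [hW', mul_assoc, ← mul_assoc x, ← hWx]; group
  have out : ∀ {p q : τ}, p ≠ q → Equiv.swap p q n = n → n ≠ p ∧ n ≠ q := by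
    intro p q hpq h
    refine ⟨?_, ?_⟩ <;> rintro rfl
    · exact hpq (by rwa [Equiv.swap_apply_left, eq_comm] at h)
    · exact hpq (by rwa [Equiv.swap_apply_right] at h)
  obtain ⟨h1, h2⟩ := out hpq (key e hWx)
  obtain ⟨h3, h4⟩ := out hpq' (key e' hW'x)
  refine hf.embM_rot_not_cen (m := n) hv fun b => ?_
  have c1 := hc n h1 h2 b
  have c2 := hc' n h3 h4 b
  rw [hW', Units.val_mul, hx] at c2
  generalize embM n b = B at c1 c2
  refine W.isUnit.mul_left_cancel ?_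
  calc W.1 * (B * embM n (rot J v)) = B * (W.1 * embM n (rot J v)) := by rw [← mul_assoc, ← c1, mul_assoc]
    _ = _ := by rw [c2, mul_assoc]

end Fac

namespace Ctx

variable {M : Subgroup (GL (Ix τ k) F)} (H : Ctx J M)
include H

theorem dl_mem {x : GL (Ix τ k) F} (hx : IsDl J x) : x ∈ M := by
  obtain ⟨i, c, hc, e⟩ := hx
  rw [show x = embG i (rotG J c hc.1) from Units.ext e]
  exact H.toHyp.emb_rot i hc

theorem dl_props [NeZero k] {x : GL (Ix τ k) F} (hx : IsDl J x) :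
    x * x = 1 ∧ sig x.1 = xsig τ k ∧ Mono x.1 := by
  obtain ⟨i, c, hc, e⟩ := hx
  refine ⟨Units.ext (by rw [Units.val_mul, e, embM_mul, rot_mul_self J hc.1, embM_one, Units.val_one]), ?_,
    e ▸ mono_pure _⟩
  rw [e, sig_embM H.fac.frm.two i (rot_mul_self J hc.1), sig_rot H.fac.frm hc.1, Fintype.card_fin, xsig]
  ring

theorem cls_props [NeZero k] {e : GL (Ix τ k) F} (he : Cls J M e) : e ∈ M ∧ e * e = 1 ∧ sig e.1 = xsig τ k := by
  obtain ⟨g, hg, y, hy, rfl⟩ := he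
  obtain ⟨h1, h2, -⟩ := H.dl_props hy
  refine ⟨M.mul_mem (M.mul_mem hg (H.dl_mem hy)) (M.inv_mem hg), ?_, ?_⟩
  · rw [show g * y * g⁻¹ * (g * y * g⁻¹) = g * (y * y) * g⁻¹ by group, h1, mul_one, mul_inv_cancel]
  · rw [Units.val_mul, Units.val_mul, sig_conj g.inv_mul, h2]

/-- Centralisers of the rotations are monomial. -/
theorem dl_cent [NeZero k] {x g : GL (Ix τ k) F} (hx : IsDl J x) (hg : g ∈ M) (hc : g * x = x * g) :
    Mono g.1 := by
  obtain ⟨i, c, hc', e⟩ := hx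
  refine H.cent_mono hc' hg (mem_comG_of_rot H.fac.frm (i := i) (a := c) ?_)
  have h1 := congrArg Units.val hc
  rw [Units.val_mul, Units.val_mul, e] at h1
  first | exact h1 | exact h1.symm

theorem mono_class [NeZero k] {W : GL (Ix τ k) F} (hW : W ∈ M) (hm : Mono W.1) (hW2 : W * W = 1)
    (hs : sig W.1 = xsig τ k) : IsDl J W ∨ Sw W.1 := by
  haveI : Nonempty τ := Fintype.card_pos_iff.1 (by have := H.two_le; omega)
  rcases H.fac.class_cases (H.toHyp.iso_mem hW) hm (congrArg Units.val hW2) hs with ⟨n, v, hv, e⟩ | h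
  · exact Or.inl ⟨n, v, H.toHyp.good_of_mem n hv (by
      rwa [show embG n (rotG J v hv) = W from Units.ext e.symm]), e⟩
  · exact Or.inr h

theorem conj_dl [NeZero k] {g y : GL (Ix τ k) F} (hg : g ∈ M) (hm : Mono g.1) (hy : IsDl J y) :
    IsDl J (g * y * g⁻¹) := by
  obtain ⟨c1, c2, c3⟩ := H.cls_props ⟨g, hg, y, hy, rfl⟩
  have hmw : Mono (g * y * g⁻¹).1 :=
    (monoGroup F τ k).mul_mem ((monoGroup F τ k).mul_mem hm (H.dl_props hy).2.2) ((monoGroup F τ k).inv_mem hm)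
  refine (H.mono_class c1 hmw c2 c3).resolve_right fun ⟨_, h, p, q, hpq, e, _⟩ => ?_
  obtain ⟨gs, σ, -, -, hconj⟩ := mono_iso_data H.fac hm (H.toHyp.iso_mem hg)
  obtain ⟨i, c, -, ey⟩ := hy
  obtain ⟨j, b, hj⟩ : ∃ j b, (g * y * g⁻¹).1 = embM j b :=
    ⟨_, _, by rw [Units.val_mul, Units.val_mul, ey, hconj i]⟩
  exact H.fac.swap_not_pure hpq (congrArg Units.val c2) e (h := Function.update 1 j b) hj

/-- Three involutions of the class with product one are rotations. -/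
theorem triple [NeZero k] {d₁ d₂ d₃ : GL (Ix τ k) F}
    (h₁ : IsDl J d₁ ∨ Sw d₁.1) (h₂ : IsDl J d₂ ∨ Sw d₂.1) (h₃ : IsDl J d₃ ∨ Sw d₃.1)
    (s₁ : d₁ * d₁ = 1) (s₂ : d₂ * d₂ = 1) (s₃ : d₃ * d₃ = 1) (hp : d₁ * d₂ * d₃ = 1) : IsDl J d₁ := by
  refine h₁.resolve_right fun ⟨hk, g, p, q, hpq, e, hc⟩ => ?_
  have hf := H.fac
  have i2 : d₂⁻¹ = d₂ := inv_eq_of_mul_eq_one_right s₂
  have i1 : d₁⁻¹ = d₁ := inv_eq_of_mul_eq_one_right s₁
  have e3 : d₃ = d₂ * d₁ := by rw [eq_inv_of_mul_eq_one_right hp, _root_.mul_inv_rev, i1, i2]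
  have e3' : d₃ = d₁ * d₂ := by
    rw [← inv_eq_of_mul_eq_one_right s₃, e3, _root_.mul_inv_rev, i1, i2]
  have hcomm : d₁ * d₂ = d₂ * d₁ := e3'.symm.trans e3
  rcases h₂ with ⟨n, v, hv, ev⟩ | ⟨_, g2, p2, q2, hpq2, e2, hc2⟩ <;>
    rcases h₃ with ⟨n3, v3, hv3, ev3⟩ | ⟨_, g3, p3, q3, hpq3, e3s, hc3⟩
  · refine hf.swap_not_pure hpq (congrArg Units.val s₁) e
      (h := Function.update (1 : τ → Matrix (Fin k) (Fin k) F) n3 (rot J v3) * Function.update (1 : τ → Matrix (Fin k) (Fin k) F) n (rot J v)) ?_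
    have e1 : d₁ = d₃ * d₂ := by rw [e3', mul_assoc, s₂, mul_one]
    rw [e1, Units.val_mul, ev3, ev, embM, embM, pureM_mul]
  · exact hf.swap_mul_dl hpq hpq3 hv.1 e hc e3s hc3 ev hcomm e3'
  · have h13 : d₁ * d₃ = d₃ * d₁ := by rw [e3', ← mul_assoc, mul_assoc _ d₂, ← hcomm, ← mul_assoc]
    refine hf.swap_mul_dl hpq hpq2 hv3.1 e hc e2 hc2 ev3 h13 ?_
    rw [e3', ← mul_assoc, s₁, one_mul]
  · have h1 := congrArg Units.val hp
    rw [Units.val_mul, Units.val_mul, e, e2, e3s, Units.val_one] at h1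
    obtain ⟨u, hu⟩ : ∃ u, pureM g * permM F k (Equiv.swap p q) * (pureM g2 * permM F k (Equiv.swap p2 q2)) *
        (pureM g3 * permM F k (Equiv.swap p3 q3)) =
        pureM u * permM F k (Equiv.swap p q * Equiv.swap p2 q2 * Equiv.swap p3 q3) := by
      have pm : ∀ (a b : τ → Matrix (Fin k) (Fin k) F) (s t : Equiv.Perm τ),
          pureM a * permM F k s * (pureM b * permM F k t) =
            pureM (a * fun j => b (s.symm j)) * permM F k (s * t) := fun a b s t => by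
        rw [← pureM_mul, ← permM_mul, mul_assoc, ← mul_assoc (permM F k s), permM_mul_pureM]
        simp only [mul_assoc]
      exact ⟨_, by rw [pm, pm]⟩
    rw [hu] at h1
    have hs := congrArg Equiv.Perm.sign (eq_one_of_pure_perm hf.three h1).1
    rw [map_mul, map_mul, Equiv.Perm.sign_swap hpq, Equiv.Perm.sign_swap hpq2, Equiv.Perm.sign_swap hpq3,
      map_one] at hs
    exact absurd hs (by decide)

/-- A frame through a line, in dimension three: the three rotations have product one. -/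
theorem frame_three [NeZero k] (hk : k = 3) {c : Fin k → F} (hc : Good J c) (n : τ) :
    ∃ x₂ x₃ : GL (Ix τ k) F, IsDl J x₂ ∧ IsDl J x₃ ∧ embG n (rotG J c hc.1) * x₂ * x₃ = 1 ∧
      (∃ b, Good J b ∧ x₂.1 = embM n (rot J b)) ∧ ∃ b, Good J b ∧ x₃.1 = embM n (rot J b) := by
  subst hk
  have hf := H.fac
  obtain ⟨f, hfr, hf0⟩ := hf.exists_frame_on {0} (fun _ => c) (fun a ha b hb hne => absurd
    ((Finset.mem_singleton.1 ha).trans (Finset.mem_singleton.1 hb).symm) hne) fun _ _ => hc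
  refine ⟨_, _, isDl_embG n (hfr.good 1), isDl_embG n (hfr.good 2), Units.ext ?_, ⟨_, hfr.good 1, rfl⟩,
    ⟨_, hfr.good 2, rfl⟩⟩
  have e : rot J c * rot J (f 1) * rot J (f 2) = 1 := by
    rw [← hf0 0 (Finset.mem_singleton_self 0)]
    refine hfr.ob.ext fun b => ?_
    rw [← Matrix.mulVec_mulVec, ← Matrix.mulVec_mulVec, Matrix.one_mulVec]
    fin_cases b <;> simp [hfr.ob.rot_apply, Matrix.mulVec_neg]
  rw [Units.val_mul, Units.val_mul, embG_val, embG_val, embG_val]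
  show embM n (rot J c) * embM n (rot J (f 1)) * embM n (rot J (f 2)) = 1
  rw [embM_mul, embM_mul, e, embM_one]

/-- The image of a rotation commuting with one going to a rotation goes to a rotation. -/
theorem image_dl [NeZero k] {g y z : GL (Ix τ k) F} (hg : g ∈ M) {i n : τ} (hin : n ≠ i) {a : Fin k → F}
    (ey : y.1 = embM i (rot J a)) (hgy : IsDl J (g * y * g⁻¹)) {c : Fin k → F} (hc : Good J c)
    (ez : z.1 = embM n (rot J c)) : IsDl J (g * z * g⁻¹) := by
  have key : ∀ {x : GL (Ix τ k) F}, IsDl J x → (∃ b, x.1 = embM n (rot J b)) →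
      IsDl J (g * x * g⁻¹) ∨ Sw (g * x * g⁻¹).1 := by
    rintro x hx ⟨b, eb⟩
    obtain ⟨h1, h2, h3⟩ := H.cls_props ⟨g, hg, x, hx, rfl⟩
    refine H.mono_class h1 (H.dl_cent hgy h1 ?_) h2 h3
    have hxy : x * y = y * x := Units.ext (by rw [Units.val_mul, Units.val_mul, ey, eb, embM_comm hin])
    calc g * x * g⁻¹ * (g * y * g⁻¹) = g * (x * y) * g⁻¹ := by group
      _ = _ := by rw [hxy]; group
  by_cases hk : k = 3
  swap
  · exact (key ⟨n, c, hc, ez⟩ ⟨c, ez⟩).resolve_right fun h => hk h.1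
  obtain ⟨x₂, x₃, h2, h3, hp, ⟨b2, -, e2⟩, b3, -, e3⟩ := H.frame_three hk hc n
  have sq : ∀ {x}, IsDl J x → g * x * g⁻¹ * (g * x * g⁻¹) = 1 := fun hx =>
    (H.cls_props ⟨g, hg, _, hx, rfl⟩).2.1
  rw [show embG n (rotG J c hc.1) = z from Units.ext ez.symm] at hp
  exact H.triple (key ⟨n, c, hc, ez⟩ ⟨c, ez⟩) (key h2 ⟨b2, e2⟩) (key h3 ⟨b3, e3⟩) (sq ⟨n, c, hc, ez⟩) (sq h2)
    (sq h3) (by
      rw [show g * z * g⁻¹ * (g * x₂ * g⁻¹) * (g * x₃ * g⁻¹) = g * (z * x₂ * x₃) * g⁻¹ by group, hp]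
      group)

/-- An element taking one rotation to a rotation is monomial. -/
theorem conn [NeZero k] {g y : GL (Ix τ k) F} (hg : g ∈ M) (hy : IsDl J y) (hgy : IsDl J (g * y * g⁻¹)) :
    Mono g.1 := by
  classical
  have hf := H.fac
  haveI : Nonempty τ := Fintype.card_pos_iff.1 (by have := H.two_le; omega)
  obtain ⟨i, a, -, ey⟩ := hy
  have other : ∀ n, n ≠ i → ∀ c (hc : Good J c), IsDl J (g * embG n (rotG J c hc.1) * g⁻¹) :=
    fun n hn c hc => H.image_dl hg hn ey hgy hc rfl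
  have all : ∀ z, IsDl J z → IsDl J (g * z * g⁻¹) := by
    rintro z ⟨n, c, hc, ez⟩
    by_cases hn : n = i
    · obtain ⟨l, hl⟩ := Fintype.exists_ne_of_one_lt_card (by have := H.two_le; omega) i
      obtain ⟨d, hd⟩ := hf.frm.exists_good (A := J) (by rw [Fintype.card_fin]; have := hf.three; omega)
      exact H.image_dl hg (show n ≠ l by rw [hn]; exact hl.symm) (a := d) rfl (other l hl d hd) hc ez
    · exact H.image_dl hg hn ey hgy hc ez
  obtain ⟨D, hD⟩ : ∃ D, D = Subgroup.closure {x : GL (Ix τ k) F | IsDl J x} := ⟨_, rfl⟩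
  refine hf.mono_of_normalise_sub (N0 := D) ?_ (fun j l hl => ?_) ?_
  · intro x hx
    have hle : D ≤ M ⊓ monoGroup F τ k := by
      rw [hD, Subgroup.closure_le]
      exact fun x hx => ⟨H.dl_mem hx, (H.dl_props hx).2.2⟩
    exact ⟨H.toHyp.iso_mem (hle hx).1, (hle hx).2⟩
  · obtain ⟨U, hU⟩ : ∃ U, U = Subgroup.closure {R : GL (Fin k) F | ∃ c, ∃ hc : Good J c, R = rotG J c hc.1} :=
      ⟨_, rfl⟩
    have hUD : U ≤ D.comap (embG j) := by
      rw [hU, Subgroup.closure_le]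
      rintro _ ⟨c, hc, rfl⟩
      rw [hD]
      exact Subgroup.subset_closure (isDl_embG j hc)
    refine hUD (hf.core.simp U (hU ▸ (Subgroup.closure_le _).2 ?_) ?_ ?_ hl)
    · rintro _ ⟨c, hc, rfl⟩
      exact hf.frm.rotG_mem hc.1
    · intro m hm u hu
      have hle : U.map (MulAut.conj m).toMonoidHom ≤ U := by
        rw [hU, MonoidHom.map_closure, Subgroup.closure_le]
        rintro _ ⟨_, ⟨c, hc, rfl⟩, rfl⟩
        have hmi : m ∈ iso J := om_le _ (lc_le _ hm)
        exact Subgroup.subset_closure ⟨_, hc.map hf.frm hmi, Units.ext (by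
          show (m * rotG J c hc.1 * m⁻¹).1 = _
          rw [Units.val_mul, Units.val_mul]
          exact hf.frm.conj_rot hmi c)⟩
      exact hle ⟨u, hu, rfl⟩
    · obtain ⟨c, hc⟩ := hf.frm.exists_good (A := J) (by rw [Fintype.card_fin]; have := hf.three; omega)
      exact ⟨rotG J c hc.1, hU ▸ Subgroup.subset_closure ⟨c, hc, rfl⟩, fun s e => hf.rot_not_scalar hc.1 s e⟩
  · intro x hx
    have hle : D.map (MulAut.conj g).toMonoidHom ≤ D := by
      rw [hD, MonoidHom.map_closure, Subgroup.closure_le]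
      rintro _ ⟨z, hz, rfl⟩
      exact Subgroup.subset_closure (all z hz)
    exact hle ⟨x, hx, rfl⟩

/-- An element taking one rotation to a monomial element is monomial. -/
theorem mono_of_mono_conj [NeZero k] (h3 : k = 3 → 3 ≤ Fintype.card τ) {g y : GL (Ix τ k) F} (hg : g ∈ M)
    (hy : IsDl J y) (hm : Mono (g * y * g⁻¹).1) : Mono g.1 := by
  classical
  have hf := H.fac
  obtain ⟨c1, c2, c3⟩ := H.cls_props ⟨g, hg, y, hy, rfl⟩
  rcases H.mono_class c1 hm c2 c3 with hd | ⟨hk, h, p, q, hpq, e, hc⟩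
  · exact H.conn hg hy hd
  -- a factor not exchanged
  obtain ⟨n, hn⟩ : ∃ n, n ∉ ({p, q} : Finset τ) := by
    by_contra hcon
    push Not at hcon
    have := Finset.card_le_card (show (Finset.univ : Finset τ) ⊆ {p, q} from fun x _ => hcon x)
    rw [Finset.card_univ, Finset.card_pair hpq] at this
    have := h3 hk
    omega
  rw [Finset.mem_insert, Finset.mem_singleton, not_or] at hn
  obtain ⟨f, hfc⟩ := hf.frm.exists_good (A := J) (by rw [Fintype.card_fin]; have := hf.three; omega)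
  obtain ⟨x₂, x₃, h2', h3', hp, ⟨b2, -, e2⟩, b3, -, e3⟩ := H.frame_three hk hfc n
  have hgi : g⁻¹ ∈ M := M.inv_mem hg
  have sq : ∀ {x}, IsDl J x → g⁻¹ * x * g * (g⁻¹ * x * g) = 1 := fun hx => by
    have := (H.cls_props ⟨g⁻¹, hgi, _, hx, rfl⟩).2.1
    rwa [inv_inv] at this
  have key : ∀ {x : GL (Ix τ k) F}, IsDl J x → (∃ b, x.1 = embM n (rot J b)) →
      IsDl J (g⁻¹ * x * g) ∨ Sw (g⁻¹ * x * g).1 := by
    rintro x hx ⟨b, eb⟩
    obtain ⟨k1, k2, k3⟩ := H.cls_props ⟨g⁻¹, hgi, x, hx, rfl⟩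
    rw [inv_inv] at k1 k2 k3
    refine H.mono_class k1 (H.dl_cent hy k1 ?_) k2 k3
    have hxw : x * (g * y * g⁻¹) = g * y * g⁻¹ * x := Units.ext (by
      rw [Units.val_mul, Units.val_mul _ x, eb]
      exact hc n hn.1 hn.2 _)
    calc g⁻¹ * x * g * y = g⁻¹ * (x * (g * y * g⁻¹)) * g := by group
      _ = _ := by rw [hxw]; group
  have hd := H.triple (key (isDl_embG n hfc) ⟨f, rfl⟩) (key h2' ⟨b2, e2⟩) (key h3' ⟨b3, e3⟩)
    (sq (isDl_embG n hfc)) (sq h2') (sq h3') (by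
      rw [show g⁻¹ * embG n (rotG J f hfc.1) * g * (g⁻¹ * x₂ * g) * (g⁻¹ * x₃ * g) =
        g⁻¹ * (embG n (rotG J f hfc.1) * x₂ * x₃) * g by group, hp]
      group)
  have := H.conn hgi (isDl_embG n hfc) (by rwa [inv_inv])
  have h' := (monoGroup F τ k).inv_mem (show g⁻¹ ∈ monoGroup F τ k from this)
  rwa [inv_inv] at h'

/-- A monomial element of the class is a rotation. -/
theorem cls_mono [NeZero k] (h3 : k = 3 → 3 ≤ Fintype.card τ) {e : GL (Ix τ k) F} (he : Cls J M e)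
    (hm : Mono e.1) : IsDl J e := by
  obtain ⟨g, hg, y, hy, rfl⟩ := he
  exact H.conj_dl hg (H.mono_of_mono_conj h3 hg hy hm) hy

theorem cls_conj {e h : GL (Ix τ k) F} (hh : h ∈ M) (he : Cls J M e) : Cls J M (h * e * h⁻¹) := by
  obtain ⟨g, hg, y, hy, rfl⟩ := he
  exact ⟨h * g, M.mul_mem hh hg, y, hy, by group⟩

theorem dl_cls {y : GL (Ix τ k) F} (hy : IsDl J y) : Cls J M y :=
  ⟨1, M.one_mem, y, hy, by group⟩

end Ctx

end CfsgLib.Classical.TensorWreathOrth
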