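import Cfsg.Agent.Lib.Classical.TensorWreathOrth.Lines
import Cfsg.Agent.Lib.Classical.OrthModels
import Cfsg.Agent.Lib.Classical.SmallIso
import Cfsg.Agent.Lib.Classical.OmegaFourMinus
import Cfsg.Agent.Lib.Classical.Transvection
import Cfsg.Agent.Lib.FischerTypes.OmegaCongr
import Cfsg.Agent.S0144

set_option autoImplicit false
set_option linter.unusedSectionVars false

/-!
The projective commutator groups of the isometry groups used are simple, and contain elements of prime order
whose minimal polynomial has smaller degree than the order.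
-/

namespace CfsgLib.Classical.TensorWreathOrth

open Matrix
open CfsgLib.Classical.TensorOrth (Gram)
open scoped MatrixGroups commutatorElement

variable {F : Type*} [Field F] [Finite F] {γ : Type} [Fintype γ] [DecidableEq γ]

/-- No two independent orthogonal singular vectors. -/
def NoPair (A : Matrix γ γ F) : Prop :=
  ∀ u w, bf A u u = 0 → bf A w w = 0 → bf A u w = 0 → u ≠ 0 → ∃ c : F, w = c • u

omit [Finite F] in
theorem iso_smul (A : Matrix γ γ F) {c : F} (hc : c ≠ 0) : iso (c • A) = iso A := by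
  ext g
  rw [mem_iso, mem_iso, Matrix.mul_smul, Matrix.smul_mul]
  exact (smul_right_injective _ hc).eq_iff

omit [Finite F] in
theorem bf_smul_mat (A : Matrix γ γ F) (c : F) (x y : γ → F) : bf (c • A) x y = c * bf A x y := by
  rw [bf, bf, Matrix.smul_mulVec, smul_dotProduct, smul_eq_mul]

omit [Finite F] in
theorem Frm.smul {A : Matrix γ γ F} (h : Frm A) {c : F} (hc : c ≠ 0) : Frm (c • A) :=
  ⟨h.two, by rw [Matrix.transpose_smul, h.symm], by rw [Matrix.det_smul]; exact mul_ne_zero (pow_ne_zero _ hc) h.det⟩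

theorem isSimple_of_iso {δ : Type} [Fintype δ] [DecidableEq δ] {Q : QuadraticForm F (γ → F)} {q : (δ → F) → F}
    (e : OrthModels.Iso (⇑Q) q) [IsSimpleGroup (Cfsg.POmega F q)] : IsSimpleGroup (Cfsg.POmega F ⇑Q) := by
  obtain ⟨e, he⟩ := e
  obtain ⟨E⟩ := CfsgLib.FischerTypes.pomega_congr (q := ⇑Q) (r := q)
    (LinearMap.toMatrix' e.toLinearMap) (LinearMap.toMatrix' e.symm.toLinearMap)
    (by rw [← LinearMap.toMatrix'_comp, LinearEquiv.comp_coe, LinearEquiv.symm_trans_self,
      LinearEquiv.refl_toLinearMap, LinearMap.toMatrix'_id])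
    (by rw [← LinearMap.toMatrix'_comp, LinearEquiv.comp_coe, LinearEquiv.self_trans_symm,
      LinearEquiv.refl_toLinearMap, LinearMap.toMatrix'_id])
    (fun v => by rw [LinearMap.toMatrix'_mulVec]; exact he v)
  exact E.isSimpleGroup

theorem psl_two_simple {K : Type*} [Field K] [Fintype K] (hK : 4 ≤ Fintype.card K) :
    IsSimpleGroup (ProjectiveSpecialLinearGroup (Fin 2) K) := by
  refine CfsgLib.Classical.isSimpleGroup_PSL (Or.inr ?_)
  classical
  by_contra hc
  push Not at hc
  have hsub : (Finset.univ : Finset K) ⊆ {0, 1, -1} := fun x _ => by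
    by_cases hx : x = 0
    · simp [hx]
    · rcases sq_eq_one_iff.1 (hc x hx) with e | e <;> simp [e]
  have h3 : ({0, 1, -1} : Finset K).card ≤ 3 := Finset.card_le_three
  have := Finset.card_le_card hsub
  rw [Finset.card_univ] at this
  omega

theorem Frm.core {A : Matrix γ γ F} (h : Frm A) (hn : 3 ≤ Fintype.card γ)
    (hbig : Fintype.card γ = 3 → 5 ≤ Nat.card F) (h4 : Fintype.card γ = 4 → NoPair A) : Core A := by
  cases nonempty_fintype F
  classical
  have two := h.two
  have hoddq : Odd (Fintype.card F) := Nat.odd_iff.2 (FiniteField.odd_card_of_char_ne_two (fun e => two (by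
    have := CharP.cast_eq_zero F (ringChar F)
    rwa [e, Nat.cast_ofNat] at this)))
  have hq3 : 3 ≤ Fintype.card F := by
    have h1 := Fintype.one_lt_card (α := F)
    obtain ⟨l, hl⟩ := hoddq; omega
  -- from a scaled form with simple group
  have key : ∀ c : F, c ≠ 0 → (∀ Q : QuadraticForm F (γ → F), (∀ x, 2 * Q x = bf (c • A) x x) →
      CfsgLib.Orth.Nondeg Q → IsSimpleGroup (Cfsg.POmega F ⇑Q)) → Core A := by
    intro c hc hs
    obtain ⟨Q, hQ, hQ2⟩ := exists_gram (h.smul hc)
    haveI := hs Q hQ2 hQ.nd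
    have C := core_of_simple hQ (fun X hX => (h.smul hc).scalar_of_om hn hbig hX) ((h.smul hc).exists_nonscal hn)
    have hO : Om (c • A) = Om A := by rw [Om, Om, iso_smul A hc]
    have hL : Lc (c • A) = Lc A := by rw [Lc, Lc, hO]
    exact ⟨fun X hX => C.cent X fun g hg => hX g (hL ▸ hg), fun g hg => hL ▸ C.omL g (hO ▸ hg),
      hL ▸ C.perf, fun U hU hn' hu => hL ▸ C.simp U ((iso_smul A hc).symm ▸ hU) (hL.symm ▸ hn') hu⟩
  rcases Nat.lt_or_ge (Fintype.card γ) 5 with h5 | h5
  · rcases (show Fintype.card γ = 3 ∨ Fintype.card γ = 4 by omega) with h3 | h44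
    · -- dimension three
      obtain ⟨Q, hQ, hQ2⟩ := exists_gram h
      obtain ⟨l, hl, e, he⟩ := OrthModels.classify_odd Q (CfsgLib.Orth.bilin_nondeg hQ.nd) (m := 1)
        (by rw [Module.finrank_fintype_fun_eq_card, h3])
      have hq : 5 ≤ Fintype.card F := by rw [← Nat.card_eq_fintype_card]; exact hbig h3
      haveI := psl_two_simple (K := F) (by omega)
      haveI : IsSimpleGroup (Cfsg.POmega F (Cfsg.quadFormOdd 1 F)) :=
        (CfsgLib.Classical.SmallIso.pomega_three hoddq).some.isSimpleGroup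
      refine key l⁻¹ (inv_ne_zero hl) fun Q' hQ' _ => isSimple_of_iso (q := Cfsg.quadFormOdd 1 F) ⟨e, fun x => ?_⟩
      refine mul_left_cancel₀ two ?_
      rw [hQ', bf_smul_mat, ← hQ2]
      have hx : Q x = l * Cfsg.quadFormOdd 1 F (e x) := (he x).symm
      rw [hx]
      field_simp
    · -- dimension four
      refine key 1 one_ne_zero fun Q hQ2 hB => ?_
      obtain ⟨a, b, hab⟩ := RestrictScalars.exists_ab (F := F)
      rcases OrthModels.classify_even Q (CfsgLib.Orth.bilin_nondeg hB) (k := 2)
          (by rw [Module.finrank_fintype_fun_eq_card, h44]) a b hab with ⟨e, he⟩ | ⟨j, hj, he⟩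
      · exfalso
        have hbf : ∀ x, bf A x x = 2 * Q x := fun x => by rw [hQ2, one_smul]
        have he' : ∀ v, bf A (e.symm v) (e.symm v) = 2 * Cfsg.quadFormPlus 2 F v := fun v => by
          rw [hbf, ← he (e.symm v), e.apply_symm_apply]
        obtain ⟨x, hx⟩ : ∃ x : Fin 2 ⊕ Fin 2 → F, x = Pi.single (Sum.inl 0) 1 := ⟨_, rfl⟩
        obtain ⟨y, hy⟩ : ∃ y : Fin 2 ⊕ Fin 2 → F, y = Pi.single (Sum.inl 1) 1 := ⟨_, rfl⟩
        have hpl : ∀ v : Fin 2 ⊕ Fin 2 → F, (∀ i, v (Sum.inr i) = 0) → Cfsg.quadFormPlus 2 F v = 0 := fun v hv => by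
          simp [Cfsg.quadFormPlus, hv]
        have q1 : bf A (e.symm x) (e.symm x) = 0 := by rw [he', hpl x (fun i => by simp [hx]), mul_zero]
        have q2 : bf A (e.symm y) (e.symm y) = 0 := by rw [he', hpl y (fun i => by simp [hy]), mul_zero]
        have q3 : bf A (e.symm x) (e.symm y) = 0 := by
          have := he' (x + y)
          rw [map_add, hpl (x + y) (fun i => by simp [hx, hy]), mul_zero, bf_add_left, bf_add_right, bf_add_right,
            q1, q2, h.bf_comm (e.symm y) (e.symm x), zero_add, add_zero, ← two_mul] at this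
          exact (mul_eq_zero.1 this).resolve_left two
        obtain ⟨c, hc⟩ := h4 h44 _ _ q1 q2 q3 fun e0 => by
          have := congrArg (fun v => e v (Sum.inl 0)) e0
          simp [hx] at this
        have := congrArg (fun v => e v (Sum.inl 1)) hc
        simp [hx, hy] at this
      · have : j = 1 := by omega
        subst this
        obtain ⟨K, _, _, hK⟩ := OrthModels.exists_field (F := F)
        haveI := psl_two_simple (K := K) (by rw [hK]; nlinarith)
        haveI : IsSimpleGroup (Cfsg.POmega F (Cfsg.quadFormMinus 1 F a b)) :=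
          (CfsgLib.Classical.OmegaFourMinus.pomega_four_minus rfl hK a b hab).some.isSimpleGroup
        exact isSimple_of_iso he
  · refine key 1 one_ne_zero fun Q _ hB => ?_
    exact CfsgLib.Orth.pOmega_simple hB (by rwa [Module.finrank_fintype_fun_eq_card])

/-- An element of prime order annihilated by a polynomial of smaller degree. -/
theorem Frm.exists_elt {A : Matrix γ γ F} (h : Frm A) (hn : 3 ≤ Fintype.card γ) (C : Core A) :
    ∃ u ∈ Lc A, NonScal u.1 ∧ ∃ (r : ℕ) (p : Polynomial F), r.Prime ∧ u ^ r = 1 ∧ p ≠ 0 ∧ p.natDegree < r ∧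
      Polynomial.aeval u.1 p = 0 := by
  cases nonempty_fintype F
  classical
  rcases Nat.lt_or_ge (Fintype.card γ) 5 with h5 | h5
  · -- small dimension: a prime at least five divides the order
    obtain ⟨x, hx, y, hy, z, hz, hzs⟩ := h.exists_nonscal hn
    have hzL : z ∈ Lc A := hz ▸ Subgroup.commutator_mem_commutator hx hy
    obtain ⟨r, hr, hr5, hrd⟩ : ∃ r, r.Prime ∧ 5 ≤ r ∧ r ∣ Nat.card (Lc A) := by
      by_contra hcon
      push Not at hcon
      obtain ⟨a, b, hab⟩ : ∃ a b, Nat.card (Lc A) = 2 ^ a * 3 ^ b := by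
        have hm0 : Nat.card (Lc A) ≠ 0 := Nat.card_pos.ne'
        obtain ⟨a, m1, hm1, e1⟩ := Nat.exists_eq_pow_mul_and_not_dvd hm0 2 (by norm_num)
        have hm10 : m1 ≠ 0 := fun e => hm0 (by rw [e1, e, mul_zero])
        obtain ⟨b, m2, hm2, e2⟩ := Nat.exists_eq_pow_mul_and_not_dvd hm10 3 (by norm_num)
        refine ⟨a, b, ?_⟩
        rcases eq_or_ne m2 1 with h1 | h1
        · rw [e1, e2, h1, mul_one]
        · exfalso
          obtain ⟨r, hr, hrd⟩ := Nat.exists_prime_and_dvd h1
          have hd : r ∣ m1 := e2 ▸ hrd.mul_left _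
          refine hcon r hr ?_ (e1 ▸ hd.mul_left _)
          by_contra hlt
          have h2 := hr.two_le
          interval_cases r
          · exact hm1 hd
          · exact hm2 hrd
          · norm_num at hr
      have hsol := Cfsg.Agent.S0144.result 2 3 a b Nat.prime_two Nat.prime_three hab
      have hnt : Nontrivial (Lc A) := by
        refine ⟨⟨z, hzL⟩, 1, fun e => hzs 1 ?_⟩
        rw [one_smul]; exact congrArg (fun t : Lc A => (t : GL γ F).1) e
      have hlt := IsSolvable.commutator_lt_top_of_nontrivial (Lc A)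
      refine hlt.ne ?_
      rw [commutator_def, eq_top_iff]
      intro g _
      have : (g : GL γ F) ∈ Subgroup.map (Lc A).subtype ⁅(⊤ : Subgroup (Lc A)), ⊤⁆ := by
        rw [Subgroup.map_commutator, ← MonoidHom.range_eq_map, Subgroup.range_subtype, C.perf]
        exact g.2
      obtain ⟨g', hg', e⟩ := this
      exact Subtype.ext e ▸ hg'
    haveI := Fact.mk hr
    obtain ⟨u, hu⟩ := exists_prime_orderOf_dvd_card' r hrd
    refine ⟨u, u.2, fun c hc => ?_, r, (u : GL γ F).1.charpoly, hr, ?_, (Matrix.charpoly_monic _).ne_zero,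
      ?_, Matrix.aeval_self_charpoly _⟩
    · -- scalar isometries are involutions
      have hi : (u : GL γ F) ∈ iso A := om_le A (lc_le A u.2)
      rw [mem_iso, hc, Matrix.transpose_smul, Matrix.transpose_one, Matrix.smul_mul, Matrix.one_mul,
        Matrix.smul_mul, Matrix.mul_smul, Matrix.mul_one, smul_smul] at hi
      have hcc : c * c = 1 := by
        by_contra hne
        refine h.det ?_
        have h0 : (c * c - 1) • A = 0 := by rw [sub_smul, hi, one_smul, sub_self]
        have hA : A = 0 := (smul_eq_zero.1 h0).resolve_left (sub_ne_zero.2 hne)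
        have : Nonempty γ := Fintype.card_pos_iff.1 (by omega)
        rw [hA, Matrix.det_zero]
      have h2 : u ^ 2 = 1 := Subtype.ext (Units.ext (by
        push_cast
        rw [hc, sq, Matrix.smul_mul, Matrix.one_mul, smul_smul, hcc, one_smul]))
      have := Nat.le_of_dvd (by norm_num) (orderOf_dvd_of_pow_eq_one h2)
      omega
    · rw [← hu]; exact congrArg Subtype.val (pow_orderOf_eq_one u)
    · rw [Matrix.charpoly_natDegree_eq_dim]; omega
  · -- a long root element
    obtain ⟨Q, hQ, hQ2⟩ := exists_gram h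
    have hd : 5 ≤ Module.finrank F (γ → F) := by rwa [Module.finrank_fintype_fun_eq_card]
    obtain ⟨u, hu, hu0⟩ := CfsgLib.Orth.exists_nonzero_singular (Q := Q) hd
    obtain ⟨f, hf, huf⟩ := CfsgLib.Orth.exists_partner hQ.nd hu hu0
    obtain ⟨v, hv, hv0, huv, hfv⟩ := CfsgLib.Orth.exists_singular_perp hQ.nd hd u f
    obtain ⟨g, hg⟩ := CfsgLib.Orth.exists_siegel hQ.nd hu huv
    have hgO : g ∈ Cfsg.Omega F ⇑Q := by
      rw [CfsgLib.Orth.omega_eq_El hQ.nd hd]; exact CfsgLib.Orth.siegel_mem_El hg
    have hgL : (g : GL γ F) ∈ Lc A := by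
      rw [← CfsgLib.Orth.omega_perfect hQ.nd hd] at hgO
      have := Subgroup.mem_map_of_mem (Cfsg.isometryGroup F ⇑Q).subtype hgO
      rw [Subgroup.map_commutator] at this
      rw [Lc, ← omegaGL_eq hQ]
      exact this
    obtain ⟨N, hN⟩ : ∃ N : Matrix γ γ F, N = (g : GL γ F).1 - 1 := ⟨_, rfl⟩
    have hNap : ∀ x, N *ᵥ x = QuadraticMap.polar (⇑Q) x u • v - QuadraticMap.polar (⇑Q) x v • u := fun x => by
      rw [hN, Matrix.sub_mulVec, Matrix.one_mulVec]
      show CfsgLib.Orth.ap g x - x = _
      rw [hg.2.2, hv, zero_mul, zero_smul, sub_zero]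
      abel
    have hNN : N * N = 0 := Matrix.ext_iff_mulVec.2 fun x => by
      rw [← Matrix.mulVec_mulVec, hNap x, Matrix.mulVec_sub, Matrix.mulVec_smul, Matrix.mulVec_smul, hNap v,
        hNap u, CfsgLib.Orth.b_comm v u, huv, CfsgLib.Orth.b_self_zero hv, CfsgLib.Orth.b_self_zero hu,
        Matrix.zero_mulVec]
      simp
    have hNf : N *ᵥ f = v := by
      rw [hNap, CfsgLib.Orth.b_comm f u, huf, hfv, one_smul, zero_smul, sub_zero]
    obtain ⟨p, hpc⟩ := CharP.exists F
    haveI := Fact.mk (CharP.char_is_prime F p)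
    have hpP : p.Prime := CharP.char_is_prime F p
    have hp2 : p ≠ 2 := fun e => h.two (by
      have := CharP.cast_eq_zero F p
      rwa [e, Nat.cast_ofNat] at this)
    refine ⟨(g : GL γ F), hgL, fun c hc => ?_, p, (Polynomial.X - 1) ^ 2, hpP, Units.ext ?_,
      pow_ne_zero _ (Polynomial.X_sub_C_ne_zero 1), ?_, ?_⟩
    · have hf1 : N *ᵥ f = (c - 1) • f := by
        rw [hN, hc, Matrix.sub_mulVec, Matrix.smul_mulVec, Matrix.one_mulVec, sub_smul, one_smul]
      rw [hNf] at hf1
      have : QuadraticMap.polar (⇑Q) u v = 0 := huv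
      rw [hf1, CfsgLib.Orth.b_smul_right, huf, mul_one] at this
      rw [this, zero_smul] at hf1
      exact hv0 hf1
    · have hg1 : (g : GL γ F).1 = N + 1 := by rw [hN, sub_add_cancel]
      rw [Units.val_pow_eq_pow_val, hg1, Units.val_one]
      have : Nonempty γ := Fintype.card_pos_iff.1 (by omega)
      rw [add_pow_char_of_commute p (Commute.one_right N), one_pow,
        show p = 2 + (p - 2) by have := hpP.two_le; omega, pow_add, sq, hNN, zero_mul, zero_add]
    · rw [Polynomial.natDegree_pow, show (Polynomial.X - 1 : Polynomial F).natDegree = 1 from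
        Polynomial.natDegree_X_sub_C 1]
      have := hpP.two_le; omega
    · rw [map_pow, map_sub, Polynomial.aeval_X, map_one, ← hN, sq, hNN]

end CfsgLib.Classical.TensorWreathOrth
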