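import Cfsg.Agent.Lib.Classical.TensorWreathOrth.Setup

set_option autoImplicit false
set_option linter.unusedSectionVars false

/-!
A group which is not full while the groups on fewer factors are monomial or full; the groups of elements keeping
the lines of a frame, and the first facts on their pieces.
-/

namespace CfsgLib.Classical.TensorWreathOrth

open Matrix CfsgLib.Classical.TensorWreath
open scoped MatrixGroups commutatorElement

variable {F : Type*} [Field F] [Finite F] {τ : Type} [Fintype τ] [DecidableEq τ] {k : ℕ}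
  {J : Matrix (Fin k) (Fin k) F}

/-- The inductive situation. -/
structure Ctx (J : Matrix (Fin k) (Fin k) F) (M : Subgroup (GL (Ix τ k) F)) : Prop extends Hyp J M where
  two_le : 2 ≤ Fintype.card τ
  low : ∀ (o : τ) (N : Subgroup (GL (Ix (Rest o) k) F)), Hyp J N → AllMono N ∨ Full J N
  nfull : ¬ Full J M

/-- A frame: an orthogonal basis of good lines. -/
structure Fr (J : Matrix (Fin k) (Fin k) F) (f : Fin k → Fin k → F) : Prop where
  ob : OB J f
  good : ∀ b, Good J (f b)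

theorem Fr.ne {f : Fin k → Fin k → F} (hf : Fr J f) (b : Fin k) : bf J (f b) (f b) ≠ 0 := (hf.good b).1

/-- The elements of `M` keeping the lines of a frame at the factor `i`. -/
def cF (M : Subgroup (GL (Ix τ k) F)) (J : Matrix (Fin k) (Fin k) F) (i : τ) (f : Fin k → Fin k → F) :
    Subgroup (GL (Ix τ k) F) := M ⊓ ⨅ b, comG J i (f b)

theorem mem_cF {M : Subgroup (GL (Ix τ k) F)} {i : τ} {f : Fin k → Fin k → F} {g : GL (Ix τ k) F} :
    g ∈ cF M J i f ↔ g ∈ M ∧ ∀ b, g ∈ comG J i (f b) := by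
  rw [cF, Subgroup.mem_inf, Subgroup.mem_iInf]

theorem lift_cF [NeZero k] {M : Subgroup (GL (Ix τ k) F)} {i : τ} {f : Fin k → Fin k → F}
    {u : GL (Ix (Rest i) k) F} (hu : TensorWreath.lift i u ∈ M) : TensorWreath.lift i u ∈ cF M J i f :=
  mem_cF.2 ⟨hu, fun _ => lift_comG i _ u⟩

namespace Fac

variable (hf : Fac J)
include hf

theorem embG_lc {σ : Type} [Fintype σ] [DecidableEq σ] (j : σ) {l : GL (Fin k) F} (hl : l ∈ Lc J) :
    embG j l ∈ Lc (JJ J σ) := by
  have h1 : (Om J).map (embG (τ := σ) j) ≤ Om (JJ J σ) := by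
    rintro _ ⟨x, hx, rfl⟩
    exact embG_om hf.frm j hx
  have h2 := Subgroup.mem_map_of_mem (embG (τ := σ) j) hl
  rw [Lc, Subgroup.map_commutator] at h2
  exact Subgroup.commutator_mono h1 h1 h2

/-- Commuting up to scalars with every factor's group means being scalar. -/
theorem scalar_of_commL {σ : Type} [Fintype σ] [DecidableEq σ] [Nonempty σ] {x : GL (Ix σ k) F}
    (hx : ∀ j : σ, ∀ l ∈ Lc J, ∃ c : F, x.1 * embM j l.1 = c • (embM j l.1 * x.1)) : ∃ c : F, x.1 = c • 1 := by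
  haveI := hf.neZero
  have hc : ∀ j, Cen j x.1 := by
    intro j
    have hperf : ⁅(Lc J).map (embG (τ := σ) j), (Lc J).map (embG j)⁆ = (Lc J).map (embG j) := by
      rw [← Subgroup.map_commutator, hf.core.perf]
    have h1 := comm_of_scalar hperf (u := x) (by
      rintro _ ⟨l, hl, rfl⟩
      exact hx j l hl)
    refine cen_of_comm (S := {b | ∃ l ∈ Lc J, l.1 = b}) (fun Y hY => hf.core.cent Y fun l hl => hY _ ⟨l, hl, rfl⟩)
      fun b ⟨l, hl, hb⟩ => ?_
    subst hb
    exact congrArg Units.val (h1 _ ⟨l, hl, rfl⟩)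
  obtain ⟨i⟩ := ‹Nonempty σ›
  obtain ⟨R, hR⟩ := eq_embM_of_cen i fun j _ => hc j
  obtain ⟨c, e⟩ := hf.scalar_rot (X := R) fun d _ => embM_injective i (by
    rw [← embM_mul, ← embM_mul, ← hR, hc i])
  exact ⟨c, by rw [hR, e, embM_smul, embM_one]⟩

/-- A non-scalar element of the second commutator group moves another one. -/
theorem exists_move {l : GL (Fin k) F} (hl : l ∈ iso J) (hs : NonScal l.1) :
    ∃ m ∈ Lc J, NonScal (⁅l, m⁆).1 := by
  by_contra hcon
  push Not at hcon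
  have hc := comm_of_scalar hf.core.perf (u := l) fun m hm => by
    have := hcon m hm
    simp only [NonScal, not_forall, not_not] at this
    obtain ⟨c, e⟩ := this
    refine ⟨c, ?_⟩
    have e' : ⁅l, m⁆ * (m * l) = l * m := by rw [commutatorElement_def]; group
    rw [← Units.val_mul, ← e', Units.val_mul, e, Matrix.smul_mul, Matrix.one_mul, Units.val_mul]
  obtain ⟨c, e⟩ := hf.core.cent l.1 fun m hm => congrArg Units.val (hc m hm)
  exact hs c e

/-- The isometries of one factor. -/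
theorem exists_emb_of_one {σ : Type} [Fintype σ] [DecidableEq σ] [Unique σ] {T : GL (Ix σ k) F}
    (hT : T ∈ Lc (JJ J σ)) : ∃ l ∈ Lc J, embG (default : σ) l = T := by
  haveI := hf.neZero
  have h1 : iso (JJ J σ) ≤ (iso J).map (embG (default : σ)) := by
    intro x hx
    obtain ⟨R, hR⟩ := eq_embM_of_cen (default : σ) (X := x.1) fun j hj => absurd (Unique.eq_default j) hj
    have hd : R.det ≠ 0 := fun h0 => by
      have h2 := ((Matrix.isUnit_iff_isUnit_det _).1 x.isUnit).ne_zero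
      rw [hR, det_embM, h0] at h2
      simp at h2
    obtain ⟨u, hu⟩ : ∃ u : GL (Fin k) F, u.1 = R := ⟨Matrix.GeneralLinearGroup.mkOfDetNeZero _ hd, rfl⟩
    have e : embG (default : σ) u = x := Units.ext (by rw [embG_val, hu, hR])
    refine ⟨u, ?_, e⟩
    show u ∈ iso J
    have h3 := mem_iso.1 hx
    rw [← e, embG_val, embM_eq_ins, JJ_ins J (default : σ), ins_transpose, ins_mul, ins_mul] at h3
    simp only [Matrix.transpose_one, Matrix.one_mul, Matrix.mul_one] at h3
    rw [mem_iso]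
    have hB : JJ J (Rest (default : σ)) ≠ 0 := fun e0 => (hf.frm.pow _).det (by rw [e0]; exact Matrix.det_zero)
    obtain ⟨p, q, hpq⟩ : ∃ p q, JJ J (Rest (default : σ)) p q ≠ 0 := by
      by_contra hc
      push Not at hc
      exact hB (Matrix.ext hc)
    ext a c
    have h4 := congrFun₂ h3 ((spl (default : σ)).symm (p, a)) ((spl (default : σ)).symm (q, c))
    simp only [ins, Matrix.submatrix_apply, Equiv.apply_symm_apply, Matrix.kronecker,
      Matrix.kroneckerMap_apply] at h4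
    exact mul_left_cancel₀ hpq h4
  have h2 : Om (JJ J σ) ≤ (Om J).map (embG (default : σ)) := by
    rw [Om, Om, Subgroup.map_commutator]; exact Subgroup.commutator_mono h1 h1
  have h3 : Lc (JJ J σ) ≤ (Lc J).map (embG (default : σ)) := by
    rw [Lc, Lc, Subgroup.map_commutator]; exact Subgroup.commutator_mono h2 h2
  exact h3 hT

/-- A frame with prescribed lines in some places. -/
theorem exists_frame_on (S : Finset (Fin k)) (v : Fin k → Fin k → F)
    (ho : ∀ a ∈ S, ∀ b ∈ S, a ≠ b → bf J (v a) (v b) = 0) (hg : ∀ a ∈ S, Good J (v a)) :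
    ∃ f, Fr J f ∧ ∀ a ∈ S, f a = v a := by
  classical
  have hle : S.card ≤ k := (Finset.card_le_univ S).trans_eq (Fintype.card_fin k)
  obtain ⟨e, -⟩ : ∃ e : {x // x ∈ S} ≃ Fin S.card, e = S.equivFin := ⟨_, rfl⟩
  obtain ⟨w, hw, hwg, hwv⟩ := hf.frm.exists_frame_extend (Fintype.card_fin k) hle (fun x => v (e.symm x).1)
    (fun a b hab => ho _ (e.symm a).2 _ (e.symm b).2 fun h => hab (e.symm.injective (Subtype.ext h)))
    (fun a => hg _ (e.symm a).2)
  obtain ⟨π, hπ⟩ : ∃ π : Equiv.Perm (Fin k), ∀ x : {x // x ∈ S}, π x.1 = Fin.castLE hle (e x) := by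
    let e' : {x // x ∈ S} ≃ {x : Fin k // x.val < S.card} :=
      e.trans
        { toFun := fun x => ⟨Fin.castLE hle x, x.2⟩
          invFun := fun x => ⟨x.1.val, x.2⟩
          left_inv := fun x => rfl
          right_inv := fun x => rfl }
    exact ⟨e'.extendSubtype, fun x => Equiv.extendSubtype_apply_of_mem e' x.1 x.2⟩
  refine ⟨fun a => w (π a), ⟨⟨fun a b hab => hw.orth _ _ (π.injective.ne hab), fun a => hw.aniso _, hw.card⟩,
    fun a => hwg _⟩, fun a ha => ?_⟩
  show w (π a) = v a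
  rw [hπ ⟨a, ha⟩, hwv, e.symm_apply_apply]

/-- A cyclic shift of three lines of one value, fixing their orthogonal. -/
theorem exists_cycle {u v w : Fin k → F} (hu : bf J u u ≠ 0) (ev : bf J v v = bf J u u)
    (ew : bf J w w = bf J u u) (huv : bf J u v = 0) (huw : bf J u w = 0) (hvw : bf J v w = 0) :
    ∃ g ∈ Om J, g.1 *ᵥ u = v ∧ g.1 *ᵥ v = w ∧ g.1 *ᵥ w = u ∧
      ∀ x, bf J u x = 0 → bf J v x = 0 → bf J w x = 0 → g.1 *ᵥ x = x := by
  have h := hf.frm
  have hv0 : bf J v v ≠ 0 := by rw [ev]; exact hu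
  obtain ⟨h1, h1a, h1b⟩ := h.rot_diff huv ev hu
  obtain ⟨h2, h2b, h2c⟩ := h.rot_diff hvw (ew.trans ev.symm) hv0
  have h10 : bf J (u - v) (u - v) ≠ 0 := by rw [h1]; exact mul_ne_zero h.two hu
  have h20 : bf J (v - w) (v - w) ≠ 0 := by rw [h2]; exact mul_ne_zero h.two hv0
  have hvu : bf J v u = 0 := by rw [h.bf_comm, huv]
  have hwu : bf J w u = 0 := by rw [h.bf_comm, huw]
  refine ⟨rotG J (u - v) h10 * rotG J (v - w) h20,
    rot_pair_mem_Om h h10 h20 ⟨2 * bf J u u, by rw [h1, h2, ev]⟩, ?_, ?_, ?_, fun x xu xv xw => ?_⟩ <;>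
    rw [Units.val_mul, ← Matrix.mulVec_mulVec]
  · show rot J (u - v) *ᵥ (rot J (v - w) *ᵥ u) = v
    rw [rot_perp J (c := v - w) (x := u) (by rw [bf_sub_left, hvu, hwu, sub_zero]), Matrix.mulVec_neg, h1a, neg_neg]
  · show rot J (u - v) *ᵥ (rot J (v - w) *ᵥ v) = w
    rw [h2b, Matrix.mulVec_neg, rot_perp J (c := u - v) (x := w) (by rw [bf_sub_left, huw, hvw, sub_zero]), neg_neg]
  · show rot J (u - v) *ᵥ (rot J (v - w) *ᵥ w) = u
    rw [h2c, Matrix.mulVec_neg, h1b, neg_neg]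
  · show rot J (u - v) *ᵥ (rot J (v - w) *ᵥ x) = x
    rw [rot_perp J (c := v - w) (x := x) (by rw [bf_sub_left, xv, xw, sub_zero]), Matrix.mulVec_neg,
      rot_perp J (c := u - v) (x := x) (by rw [bf_sub_left, xu, xv, sub_zero]), neg_neg]

end Fac

namespace Ctx

variable {M : Subgroup (GL (Ix τ k) F)} (H : Ctx J M)
include H

theorem rest_nonempty (i : τ) : Nonempty (Rest i) :=
  let ⟨j, hj⟩ := Fintype.exists_ne_of_one_lt_card (by have := H.two_le; omega) i
  ⟨⟨j, hj⟩⟩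

theorem down_mono [NeZero k] (o : τ) : AllMono (dn J o M) := by
  rcases (show Fintype.card τ = 2 ∨ 3 ≤ Fintype.card τ by have := H.two_le; omega) with h2 | h3
  · intro g _
    exact mono_of_card_one (by rw [Fintype.card_subtype_compl, Fintype.card_subtype_eq, h2]) _
  · exact (H.low o _ (H.toHyp.down o)).resolve_right fun h => H.nfull (H.toHyp.full_of_down h3 h)

/-- A group of pieces on one line, normalised by the other factors, contains one factor's group unless scalar. -/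
theorem line_group [NeZero k] {i : τ} {a : Fin k → F} (ha : bf J a a ≠ 0) {G : Subgroup (GL (Ix τ k) F)}
    (hG : G ≤ comG J i a) (hGM : G ≤ M) (hn : ∀ l ∈ dn J i M, ∀ g ∈ G,
      TensorWreath.lift i l * g * (TensorWreath.lift i l)⁻¹ ∈ G)
    (hne : ∃ g ∈ G, NonScal (pieceM J i a g.1)) :
    ∃ j : Rest i, ∀ l ∈ Lc J, ∃ g ∈ G, pieceM J i a g.1 = embM j l.1 := by
  classical
  have hf := H.fac
  haveI := H.rest_nonempty i
  obtain ⟨W, hW⟩ : ∃ W, W = (G.subgroupOf (comG J i a)).map (pieceG i a ha) ⊓ Om (JJ J (Rest i)) := ⟨_, rfl⟩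
  have memW : ∀ u, u ∈ W ↔ (∃ g, ∃ hg : g ∈ G, pieceG i a ha ⟨g, hG hg⟩ = u) ∧ u ∈ Om (JJ J (Rest i)) := by
    intro u
    rw [hW, Subgroup.mem_inf, Subgroup.mem_map]
    refine and_congr_left fun _ => ⟨?_, fun ⟨g, hg, e⟩ => ⟨⟨g, hG hg⟩, hg, e⟩⟩
    rintro ⟨⟨g, hg'⟩, hg, e⟩
    exact ⟨g, hg, e⟩
  have hconj : ∀ (l : GL (Ix (Rest i) k) F) (hl : l ∈ dn J i M) (g : GL (Ix τ k) F) (hg : g ∈ G),
      pieceG i a ha ⟨_, hG (hn l hl g hg)⟩ = l * pieceG i a ha ⟨g, hG hg⟩ * l⁻¹ := by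
    intro l hl g hg
    conv_rhs => rw [← pieceG_lift (J := J) i ha l]
    have e : (⟨_, hG (hn l hl g hg)⟩ : comG J i a) =
        ⟨TensorWreath.lift i l, lift_comG i a l⟩ * ⟨g, hG hg⟩ * ⟨TensorWreath.lift i l, lift_comG i a l⟩⁻¹ :=
      Subtype.ext rfl
    rw [e, map_mul, map_mul, map_inv]
  have hWn : ∀ l ∈ dn J i M, ∀ u ∈ W, l * u * l⁻¹ ∈ W := by
    intro l hl u hu
    obtain ⟨⟨g, hg, rfl⟩, huO⟩ := (memW u).1 hu
    exact (memW _).2 ⟨⟨_, hn l hl g hg, hconj l hl g hg⟩,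
      (conj_om (iso_conj (amb_le_iso hl.2))).1 _ huO⟩
  have hdn : ∀ (j : Rest i), ∀ l ∈ Om J, embG j l ∈ dn J i M := fun j l hl =>
    (H.toHyp.down i).emb_om j hl
  -- a non-scalar element
  obtain ⟨w, hw, hws⟩ : ∃ w ∈ W, NonScal w.1 := by
    obtain ⟨g, hg, hgs⟩ := hne
    by_contra hcon
    push Not at hcon
    obtain ⟨c, hc⟩ := hf.scalar_of_commL (x := pieceG i a ha ⟨g, hG hg⟩) fun j l hl => by
      have hm : ⁅pieceG i a ha ⟨g, hG hg⟩, embG j l⁆ ∈ W := by
        refine (memW _).2 ⟨⟨_, G.mul_mem hg (hn _ (hdn j l (lc_le _ hl)) _ (G.inv_mem hg)), ?_⟩, ?_⟩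
        · show pieceG i a ha (⟨g, hG hg⟩ * ⟨_, hG (hn _ (hdn j l (lc_le _ hl)) _ (G.inv_mem hg))⟩) = _
          rw [map_mul, hconj _ (hdn j l (lc_le _ hl)) _ (G.inv_mem hg),
            show (⟨g⁻¹, hG (G.inv_mem hg)⟩ : comG J i a) = (⟨g, hG hg⟩ : comG J i a)⁻¹ from rfl, map_inv,
            commutatorElement_def]
          simp only [mul_assoc]
        · exact Subgroup.commutator_mem_commutator (pieceG_iso hf.frm ha (H.toHyp.iso_mem (hGM hg)))
            (embG_iso hf.frm j (om_le _ (lc_le _ hl)))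
      have h1 := hcon _ hm
      simp only [NonScal, not_forall, not_not] at h1
      obtain ⟨c, e⟩ := h1
      refine ⟨c, ?_⟩
      generalize hx : pieceG i a ha ⟨g, hG hg⟩ = x at e
      have e' : ⁅x, embG j l⁆ * (embG j l * x) = x * embG j l := by rw [commutatorElement_def]; group
      rw [← embG_val, ← Units.val_mul, ← e', Units.val_mul, e, Matrix.smul_mul, Matrix.one_mul, Units.val_mul]
    exact hgs c hc
  -- a monomial non-scalar element
  obtain ⟨x, hx, hxm, hxs⟩ : ∃ x ∈ W, Mono x.1 ∧ NonScal x.1 := by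
    obtain ⟨N, hN⟩ : ∃ N, N = amb J (Rest i) ⊓ Subgroup.normalizer (W : Set (GL (Ix (Rest i) k) F)) := ⟨_, rfl⟩
    have hdN : dn J i M ≤ N := by
      intro l hl
      rw [hN]
      refine ⟨hl.2, Subgroup.mem_normalizer_iff.2 fun u => ⟨hWn l hl u, fun h' => ?_⟩⟩
      have := hWn l⁻¹ ((dn J i M).inv_mem hl) _ h'
      rwa [show l⁻¹ * (l * u * l⁻¹) * l⁻¹⁻¹ = u by group] at this
    have HN : Hyp J N := ⟨hf, hN ▸ inf_le_left, fun g hg hm => hdN ((H.toHyp.down i).mono g hg hm),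
      fun hk j R hR => hdN ((H.toHyp.down i).even hk j R hR)⟩
    rcases H.low i N HN with hm | hfull
    · refine ⟨w, hw, hm w ?_, hws⟩
      rw [hN]
      exact ⟨om_le_amb ((memW w).1 hw).2, Subgroup.le_normalizer hw⟩
    · obtain ⟨j⟩ := H.rest_nonempty i
      obtain ⟨l, hl, hls⟩ := hf.exists_nonscal
      have hle := hf.core_pow.simp W (fun u hu => om_le _ ((memW u).1 hu).2) (fun g hg u hu => by
        have := hfull (lc_le _ hg)
        rw [hN] at this
        exact (Subgroup.mem_normalizer_iff.1 this.2 u).1 hu) ⟨w, hw, hws⟩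
      exact ⟨embG j l, hle (hf.embG_lc j hl), mono_pure _, fun c e => hls c (hf.scalar_emb e)⟩
  -- one factor
  obtain ⟨j, m, hm, hmi, hms⟩ : ∃ j : Rest i, ∃ m : GL (Fin k) F, embG j m ∈ W ∧ m ∈ iso J ∧ NonScal m.1 := by
    obtain ⟨gs, σ, -, hsim, hconj'⟩ := mono_iso_data hf hxm (om_le _ ((memW x).1 hx).2)
    have hcomm : ∀ j, ∀ l ∈ Lc J, ⁅x, embG j l⁆ = embG (σ j) (gs (σ j) * l * (gs (σ j))⁻¹) * embG j l⁻¹ ∧
        ⁅x, embG j l⁆ ∈ W := by
      intro j l hl
      refine ⟨?_, ?_⟩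
      · rw [commutatorElement_def, map_inv]
        congr 1
        refine Units.ext ?_
        rw [Units.val_mul, Units.val_mul, embG_val, embG_val, hconj']
        rfl
      · rw [commutatorElement_def, mul_assoc, mul_assoc, ← mul_assoc (embG j l)]
        exact W.mul_mem hx (hWn _ (hdn j l (lc_le _ hl)) _ (W.inv_mem hx))
    obtain ⟨j, l, hl, hns⟩ : ∃ j : Rest i, ∃ l ∈ Lc J, NonScal (⁅x, embG j l⁆).1 := by
      refine Classical.byContradiction fun hcon => ?_
      push Not at hcon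
      obtain ⟨c, hc⟩ := hf.scalar_of_commL (x := x) fun j l hl => by
        have h1 := hcon j l hl
        simp only [NonScal, not_forall, not_not] at h1
        obtain ⟨c, e⟩ := h1
        refine ⟨c, ?_⟩
        have e' : ⁅x, embG j l⁆ * (embG j l * x) = x * embG j l := by rw [commutatorElement_def]; group
        rw [← embG_val, ← Units.val_mul, ← e', Units.val_mul, e, Matrix.smul_mul, Matrix.one_mul, Units.val_mul]
      exact hxs c hc
    obtain ⟨e, hyW⟩ := hcomm j l hl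
    have hl' : gs (σ j) * l * (gs (σ j))⁻¹ ∈ Lc J := (conj_om (hsim (σ j))).2 l hl
    by_cases hσ : σ j = j
    · have e2 : ⁅x, embG j l⁆ = embG j (gs (σ j) * l * (gs (σ j))⁻¹ * l⁻¹) := by rw [e, hσ, ← map_mul]
      refine ⟨j, _, e2 ▸ hyW, (iso J).mul_mem (om_le _ (lc_le _ hl')) ((iso J).inv_mem (om_le _ (lc_le _ hl))),
        fun c hc => hns c ?_⟩
      rw [e2, embG_val, hc, embM_smul, embM_one]
    · have hli : l⁻¹ ∈ Lc J := (Lc J).inv_mem hl
      have hls : NonScal (l⁻¹).1 := by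
        intro c hc
        obtain ⟨d, hd⟩ : ∃ d : F, l.1 = d • 1 := by
          have h1 : c • l.1 = 1 := by
            rw [← Matrix.mul_one l.1, ← Matrix.mul_smul, ← hc, l.mul_inv]
          have hc0 : c ≠ 0 := fun e0 => by rw [e0, zero_smul] at h1; exact zero_ne_one h1
          exact ⟨c⁻¹, by rw [← h1, smul_smul, inv_mul_cancel₀ hc0, one_smul]⟩
        refine hns 1 ?_
        rw [e, Units.val_mul, embG_val, embG_val, Units.val_mul, Units.val_mul, hd, hc, Matrix.mul_smul,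
          Matrix.mul_one, Matrix.smul_mul, Units.mul_inv, embM_smul, embM_smul, embM_one, embM_one,
          Matrix.smul_mul, Matrix.one_mul, smul_smul, one_smul]
        have h1 : d * c = 1 := by
          have h2 := l.mul_inv
          rw [hd, hc, Matrix.smul_mul, Matrix.one_mul, smul_smul] at h2
          have h3 : Nonempty (Fin k) := ⟨⟨0, Nat.pos_of_ne_zero (NeZero.ne k)⟩⟩
          obtain ⟨p⟩ := h3
          simpa using congrFun₂ h2 p p
        rw [h1, one_smul]
      obtain ⟨m, hm, hms⟩ := hf.exists_move (om_le _ (lc_le _ hli)) hls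
      refine ⟨j, ⁅l⁻¹, m⁆, ?_, om_le _ (lc_le _ ?_), hms⟩
      · have e3 : embG j ⁅l⁻¹, m⁆ = ⁅⁅x, embG j l⁆, embG j m⁆ := by
          have hcm : embG (σ j) (gs (σ j) * l * (gs (σ j))⁻¹) * embG j ⁅l⁻¹, m⁆ =
              embG j ⁅l⁻¹, m⁆ * embG (σ j) (gs (σ j) * l * (gs (σ j))⁻¹) := Units.ext (embM_comm hσ _ _)
          have hcm' : embG (σ j) (gs (σ j) * l * (gs (σ j))⁻¹) * embG j m =
              embG j m * embG (σ j) (gs (σ j) * l * (gs (σ j))⁻¹) := Units.ext (embM_comm hσ _ _)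
          rw [e]
          generalize embG (σ j) (gs (σ j) * l * (gs (σ j))⁻¹) = A at hcm hcm'
          rw [map_commutatorElement, map_inv] at hcm ⊢
          generalize embG j l = B at hcm ⊢
          generalize embG j m = C at hcm hcm' ⊢
          calc ⁅B⁻¹, C⁆ = A * ⁅B⁻¹, C⁆ * A⁻¹ * ⁅A, C⁆ := by
                rw [hcm, commutatorElement_eq_one_iff_mul_comm.2 hcm', mul_inv_cancel_right, mul_one]
            _ = ⁅A * B⁻¹, C⁆ := by simp only [commutatorElement_def]; group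
        rw [e3, commutatorElement_def, mul_assoc, mul_assoc, ← mul_assoc (embG j m)]
        exact W.mul_mem hyW (hWn _ (hdn j m (lc_le _ hm)) _ (W.inv_mem hyW))
      · exact (Lc J).mul_mem ((Lc J).mul_mem ((Lc J).mul_mem hli hm) ((Lc J).inv_mem hli)) ((Lc J).inv_mem hm)
  refine ⟨j, fun l hl => ?_⟩
  obtain ⟨V, hV⟩ : ∃ V, V = W.comap (embG j) ⊓ iso J := ⟨_, rfl⟩
  have hle : Lc J ≤ V := hf.core.simp V (hV ▸ inf_le_right) (fun g hg u hu => by
    rw [hV] at hu ⊢
    refine ⟨?_, (iso J).mul_mem ((iso J).mul_mem (om_le _ (lc_le _ hg)) hu.2) ((iso J).inv_mem (om_le _ (lc_le _ hg)))⟩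
    show embG j (g * u * g⁻¹) ∈ W
    rw [map_mul, map_mul, map_inv]
    exact hWn _ (hdn j g (lc_le _ hg)) _ hu.1) ⟨m, hV ▸ ⟨hm, hmi⟩, hms⟩
  have h1 := hle hl
  rw [hV] at h1
  obtain ⟨⟨g, hg, e⟩, -⟩ := (memW _).1 h1.1
  exact ⟨g, hg, congrArg Units.val e⟩

end Ctx

end CfsgLib.Classical.TensorWreathOrth
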