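import Cfsg.Agent.Lib.Classical.TensorWreathOrth.Ctx

set_option autoImplicit false
set_option linter.unusedSectionVars false

/-!
An element keeping the lines of a frame with one scalar piece has only scalar pieces.
-/

namespace CfsgLib.Classical.TensorWreathOrth

open Matrix CfsgLib.Classical.TensorWreath
open scoped MatrixGroups commutatorElement

variable {F : Type*} [Field F] [Finite F] {τ : Type} [Fintype τ] [DecidableEq τ] {k : ℕ}
  {J : Matrix (Fin k) (Fin k) F}

/-- The elements keeping a frame and trivial on the lines outside `S`. -/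
def gS (M : Subgroup (GL (Ix τ k) F)) (J : Matrix (Fin k) (Fin k) F) (i : τ) (f : Fin k → Fin k → F)
    (S : Finset (Fin k)) : Subgroup (GL (Ix τ k) F) where
  carrier := {g | g ∈ cF M J i f ∧ ∀ b, b ∉ S → ∀ y, g.1 *ᵥ iv i y (f b) = iv i y (f b)}
  one_mem' := ⟨(cF M J i f).one_mem, fun b _ y => Matrix.one_mulVec _⟩
  mul_mem' := fun {g h} hg hh => ⟨(cF M J i f).mul_mem hg.1 hh.1, fun b hb y => by
    rw [Units.val_mul, ← Matrix.mulVec_mulVec, hh.2 b hb, hg.2 b hb]⟩
  inv_mem' := fun {g} hg => ⟨(cF M J i f).inv_mem hg.1, fun b hb y => by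
    conv_lhs => rw [← hg.2 b hb y]
    rw [Matrix.mulVec_mulVec, g.inv_mul, Matrix.one_mulVec]⟩

theorem mem_gS {M : Subgroup (GL (Ix τ k) F)} {i : τ} {f : Fin k → Fin k → F} {S : Finset (Fin k)}
    {g : GL (Ix τ k) F} : g ∈ gS M J i f S ↔
      g ∈ cF M J i f ∧ ∀ b, b ∉ S → ∀ y, g.1 *ᵥ iv i y (f b) = iv i y (f b) := Iff.rfl

theorem gS_piece {M : Subgroup (GL (Ix τ k) F)} {i : τ} {f : Fin k → Fin k → F} (hfr : Fr J f)
    {S : Finset (Fin k)} {g : GL (Ix τ k) F} (hg : g ∈ gS M J i f S) {b : Fin k} (hb : b ∉ S) :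
    pieceM J i (f b) g.1 = 1 :=
  pieceM_eq (hfr.ne b) ((mem_cF.1 hg.1).2 b) fun y => by rw [Matrix.one_mulVec]; exact hg.2 b hb y

theorem gS_of_pieces {M : Subgroup (GL (Ix τ k) F)} {i : τ} {f : Fin k → Fin k → F} (hfr : Fr J f)
    {S : Finset (Fin k)} {g : GL (Ix τ k) F} (hg : g ∈ cF M J i f)
    (h : ∀ b, b ∉ S → pieceM J i (f b) g.1 = 1) : g ∈ gS M J i f S :=
  ⟨hg, fun b hb y => by rw [pieceM_mulVec (hfr.ne b) ((mem_cF.1 hg).2 b), h b hb, Matrix.one_mulVec]⟩

/-- The group depends only on the lines in `S`. -/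
theorem gS_congr {M : Subgroup (GL (Ix τ k) F)} {i : τ} {f f' : Fin k → Fin k → F} (hfr : Fr J f) (hfr' : Fr J f')
    {S : Finset (Fin k)} (e : ∀ b ∈ S, ∃ s : F, s ≠ 0 ∧ f' b = s • f b) : gS M J i f S ≤ gS M J i f' S := by
  intro g hg
  have hfix : ∀ c, c ∉ S → ∀ y, g.1 *ᵥ iv i y (f' c) = iv i y (f' c) := by
    intro c hc y
    have hperp : ∀ b ∈ S, bf J (f b) (f' c) = 0 := fun b hb => by
      obtain ⟨s, hs, hsb⟩ := e b hb
      have h1 := hfr'.ob.orth b c (fun h => hc (h ▸ hb))
      rw [hsb, bf_smul_left] at h1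
      exact (mul_eq_zero.1 h1).resolve_left hs
    let L : (Fin k → F) →ₗ[F] (Ix τ k → F) :=
      { toFun := fun x => iv i y x
        map_add' := fun x x' => iv_add_right i y x x'
        map_smul' := fun s x => iv_smul_right i s y x }
    have hx : f' c = ∑ b, pr J (f b) *ᵥ f' c := by
      rw [← Matrix.sum_mulVec, hfr.ob.sum_pr, Matrix.one_mulVec]
    show g.1.mulVecLin (L (f' c)) = L (f' c)
    rw [hx, map_sum, map_sum]
    refine Finset.sum_congr rfl fun b _ => ?_
    by_cases hb : b ∈ S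
    · rw [pr_perp J (hperp b hb), map_zero, map_zero]
    · rw [pr_mulVec, map_smul, map_smul]
      exact congrArg _ (hg.2 b hb y)
  refine ⟨mem_cF.2 ⟨(mem_cF.1 hg.1).1, fun c => ?_⟩, hfix⟩
  by_cases hc : c ∈ S
  · obtain ⟨s, hs, hsb⟩ := e c hc
    have := (mem_cF.1 hg.1).2 c
    rw [mem_comG, hsb, pr_smul J hs] at *
    exact this
  · refine hfr'.ob.ext_iv i fun b y => ?_
    rw [← Matrix.mulVec_mulVec, ← Matrix.mulVec_mulVec, embM_mulVec_iv, hfr'.ob.pr_apply c b]
    split_ifs with h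
    · subst h
      rw [hfix c hc, embM_mulVec_iv, pr_self J (hfr'.ne c)]
    · rw [iv_zero_right, Matrix.mulVec_zero]
      by_cases hb : b ∈ S
      · obtain ⟨s, hs, hsb⟩ := e b hb
        rw [hsb, iv_smul_right, Matrix.mulVec_smul, pieceM_mulVec (hfr.ne b) ((mem_cF.1 hg.1).2 b), Matrix.mulVec_smul,
          embM_mulVec_iv]
        have h1 := hfr'.ob.orth c b h
        rw [hsb, bf_smul_right] at h1
        rw [pr_perp J ((mul_eq_zero.1 h1).resolve_left hs), iv_zero_right, smul_zero]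
      · rw [hfix b hb, embM_mulVec_iv, pr_perp J (hfr'.ob.orth c b h), iv_zero_right]

theorem embM_rest_iv [NeZero k] (i : τ) (o : Rest i) (X : Matrix (Fin k) (Fin k) F) (y : Ix (Rest i) k → F)
    (x : Fin k → F) : embM o.1 X *ᵥ iv i y x = iv i (embM o X *ᵥ y) x := by
  rw [← ins_embM i o X, ins_mulVec_iv, Matrix.one_mulVec]

/-- Commuting up to scalars with one factor's group means commuting with the factor. -/
theorem Fac.cen_of_commL (hf : Fac J) {σ : Type} [Fintype σ] [DecidableEq σ] {x : GL (Ix σ k) F} {j : σ}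
    (hx : ∀ l ∈ Lc J, ∃ c : F, x.1 * embM j l.1 = c • (embM j l.1 * x.1)) : Cen j x.1 := by
  haveI := hf.neZero
  have hperf : ⁅(Lc J).map (embG (τ := σ) j), (Lc J).map (embG j)⁆ = (Lc J).map (embG j) := by
    rw [← Subgroup.map_commutator, hf.core.perf]
  have h1 := comm_of_scalar hperf (u := x) (by rintro _ ⟨l, hl, rfl⟩; exact hx l hl)
  refine cen_of_comm (S := {b | ∃ l ∈ Lc J, l.1 = b}) (fun Y hY => hf.core.cent Y fun l hl => hY _ ⟨l, hl, rfl⟩)
    fun b ⟨l, hl, hb⟩ => ?_
  subst hb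
  exact congrArg Units.val (h1 _ ⟨l, hl, rfl⟩)

theorem scalar_of_not_nonScal {γ : Type} [Fintype γ] [DecidableEq γ] {X : Matrix γ γ F} (h : ¬ NonScal X) :
    ∃ c : F, X = c • 1 := by
  simpa [NonScal, not_forall] using h

theorem swap_of_comm {γ : Type} [Fintype γ] [DecidableEq γ] {u h : GL γ F} {c : F} (e : (⁅u, h⁆).1 = c • 1) :
    u.1 * h.1 = c • (h.1 * u.1) := by
  have e' : ⁅u, h⁆ * (h * u) = u * h := by rw [commutatorElement_def]; group
  rw [← Units.val_mul, ← e', Units.val_mul, e, Matrix.smul_mul, Matrix.one_mul, Units.val_mul]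

theorem comm_one_of_scalar {γ : Type} [Fintype γ] [DecidableEq γ] {u : GL γ F} {c : F} (h : u.1 = c • 1)
    (v : GL γ F) : ⁅u, v⁆ = 1 := by
  rw [commutatorElement_eq_one_iff_mul_comm]
  refine Units.ext ?_
  rw [Units.val_mul, Units.val_mul, h, smul_one_comm]

namespace Ctx

variable {M : Subgroup (GL (Ix τ k) F)} (H : Ctx J M)
include H

theorem piece_comm [NeZero k] {i : τ} {a : Fin k → F} (ha : bf J a a ≠ 0) {g h : GL (Ix τ k) F}
    (hg : g ∈ comG J i a) (hh : h ∈ comG J i a) :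
    pieceM J i a (⁅g, h⁆).1 = (⁅pieceG i a ha ⟨g, hg⟩, pieceG i a ha ⟨h, hh⟩⁆).1 := by
  rw [← map_commutatorElement, pieceG_val ha]
  have e : ((⁅(⟨g, hg⟩ : comG J i a), ⟨h, hh⟩⁆ : comG J i a) : GL (Ix τ k) F) = ⁅g, h⁆ := by
    simp only [commutatorElement_def, Subgroup.coe_mul, Subgroup.coe_inv]
  rw [e]

theorem gS_norm [NeZero k] {i : τ} {f : Fin k → Fin k → F} {S : Finset (Fin k)} {l : GL (Ix (Rest i) k) F}
    (hl : l ∈ dn J i M) {g : GL (Ix τ k) F} (hg : g ∈ gS M J i f S) :
    TensorWreath.lift i l * g * (TensorWreath.lift i l)⁻¹ ∈ gS M J i f S := by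
  refine ⟨(cF M J i f).mul_mem ((cF M J i f).mul_mem (lift_cF hl.1) hg.1) ((cF M J i f).inv_mem (lift_cF hl.1)),
    fun b hb y => ?_⟩
  rw [Units.val_mul, Units.val_mul, ← map_inv, lift_val, lift_val, ← Matrix.mulVec_mulVec, ← Matrix.mulVec_mulVec,
    ins_mulVec_iv, Matrix.one_mulVec, hg.2 b hb, ins_mulVec_iv, Matrix.one_mulVec, Matrix.mulVec_mulVec,
    l.mul_inv, Matrix.one_mulVec]

theorem lift_emb_dn [NeZero k] (i : τ) (j : Rest i) {l : GL (Fin k) F} (hl : l ∈ Om J) :
    embG j l ∈ dn J i M := (H.toHyp.down i).emb_om j hl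

/-- A conjugate by an isometry permuting the lines. -/
theorem gS_move {i : τ} {f : Fin k → Fin k → F} (hfr : Fr J f) {S : Finset (Fin k)} {R : GL (Fin k) F}
    (hR : R ∈ iso J) (hRM : embG i R ∈ M) (π : Equiv.Perm (Fin k)) (hRf : ∀ b, R.1 *ᵥ f b = f (π b))
    {g : GL (Ix τ k) F} (hg : g ∈ gS M J i f S) :
    embG i R * g * (embG i R)⁻¹ ∈ gS M J i f (S.image π) ∧
      ∀ b, pieceM J i (f (π b)) (embG i R * g * (embG i R)⁻¹).1 = pieceM J i (f b) g.1 := by
  have hinv : ∀ b, (R⁻¹).1 *ᵥ f (π b) = f b := fun b => by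
    rw [← hRf, Matrix.mulVec_mulVec, R.inv_mul, Matrix.one_mulVec]
  have hact : ∀ b y, (embG i R * g * (embG i R)⁻¹).1 *ᵥ iv i y (f (π b)) =
      iv i (pieceM J i (f b) g.1 *ᵥ y) (f (π b)) := by
    intro b y
    rw [Units.val_mul, Units.val_mul, ← map_inv, embG_val, embG_val, ← Matrix.mulVec_mulVec,
      ← Matrix.mulVec_mulVec, embM_mulVec_iv, hinv, pieceM_mulVec (hfr.ne b) ((mem_cF.1 hg.1).2 b),
      embM_mulVec_iv, hRf]
  have hcom : ∀ b, embG i R * g * (embG i R)⁻¹ ∈ comG J i (f (π b)) := by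
    intro b
    rw [mem_comG]
    refine hfr.ob.ext_iv i fun c y => ?_
    obtain ⟨c', rfl⟩ := π.surjective c
    rw [← Matrix.mulVec_mulVec, ← Matrix.mulVec_mulVec, embM_mulVec_iv, hact, embM_mulVec_iv,
      hfr.ob.pr_apply (π b) (π c')]
    split_ifs with h
    · rw [hact]
    · rw [iv_zero_right, iv_zero_right, Matrix.mulVec_zero]
  refine ⟨?_, fun b => pieceM_eq (hfr.ne _) (hcom b) (hact b)⟩
  refine gS_of_pieces hfr (mem_cF.2 ⟨M.mul_mem (M.mul_mem hRM (mem_cF.1 hg.1).1) (M.inv_mem hRM), fun c => ?_⟩)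
    fun c hc => ?_
  · obtain ⟨b, rfl⟩ := π.surjective c
    exact hcom b
  · obtain ⟨b, rfl⟩ := π.surjective c
    have hb : b ∉ S := fun h => hc (Finset.mem_image_of_mem π h)
    rw [pieceM_eq (hfr.ne _) (hcom b) (hact b), gS_piece hfr hg hb]

set_option maxHeartbeats 3000000 in
/-- One scalar piece makes all pieces scalar. -/
theorem piece_scalar [NeZero k] {i : τ} {f : Fin k → Fin k → F} (hfr : Fr J f) {g : GL (Ix τ k) F}
    (hg : g ∈ cF M J i f) {a : Fin k} (ha : ∃ c : F, pieceM J i (f a) g.1 = c • 1) (b : Fin k) :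
    ∃ c : F, pieceM J i (f b) g.1 = c • 1 := by
  classical
  have hf := H.fac
  have h := hf.frm
  have hk3 := hf.three
  haveI := H.rest_nonempty i
  by_contra hb
  push Not at hb
  let P : ℕ → Prop := fun n => ∃ (f : Fin k → Fin k → F) (S : Finset (Fin k)), Fr J f ∧ S.card = n ∧ n < k ∧
    ∃ g ∈ gS M J i f S, ∃ b ∈ S, NonScal (pieceM J i (f b) g.1)
  -- commutators with the other factors
  have hcom : ∀ (f' : Fin k → Fin k → F), Fr J f' → ∀ g ∈ cF M J i f', ∀ b,
      NonScal (pieceM J i (f' b) g.1) → ∃ j : Rest i, ∃ l ∈ Lc J,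
        NonScal (pieceM J i (f' b) (⁅g, TensorWreath.lift i (embG j l)⁆).1) ∧
          ⁅g, TensorWreath.lift i (embG j l)⁆ ∈ cF M J i f' := by
    intro f' hf' g hg b hgb
    by_contra hcon
    push Not at hcon
    have hmem : ∀ j : Rest i, ∀ l ∈ Lc J, ⁅g, TensorWreath.lift i (embG j l)⁆ ∈ cF M J i f' := fun j l hl => by
      rw [commutatorElement_def]
      exact (cF M J i f').mul_mem ((cF M J i f').mul_mem ((cF M J i f').mul_mem hg
        (lift_cF (H.lift_emb_dn i j (lc_le _ hl)).1)) ((cF M J i f').inv_mem hg))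
        ((cF M J i f').inv_mem (lift_cF (H.lift_emb_dn i j (lc_le _ hl)).1))
    obtain ⟨c, hc⟩ := hf.scalar_of_commL (x := pieceG i (f' b) (hf'.ne b) ⟨g, (mem_cF.1 hg).2 b⟩) fun j l hl => by
      have h1 : ¬ NonScal (pieceM J i (f' b) (⁅g, TensorWreath.lift i (embG j l)⁆).1) := fun hn =>
        hcon j l hl hn (hmem j l hl)
      rw [H.piece_comm (hf'.ne b) ((mem_cF.1 hg).2 b) (lift_comG i _ _), pieceG_lift] at h1
      obtain ⟨c, hc⟩ := scalar_of_not_nonScal h1
      exact ⟨c, swap_of_comm hc⟩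
    exact hgb c hc
  have hstart : ∃ n, P n := by
    obtain ⟨c₀, hc₀⟩ := ha
    have hba : b ≠ a := fun e => hb c₀ (by rw [e]; exact hc₀)
    obtain ⟨j, l, hl, hns, hmem⟩ := hcom f hfr g hg b (fun c => hb c)
    refine ⟨_, f, Finset.univ.erase a, hfr, rfl, ?_, _, gS_of_pieces hfr hmem fun d hd => ?_, b,
      Finset.mem_erase.2 ⟨hba, Finset.mem_univ _⟩, hns⟩
    · rw [Finset.card_erase_of_mem (Finset.mem_univ _), Finset.card_univ, Fintype.card_fin]; omega
    · have hda : d = a := by simpa using hd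
      subst hda
      rw [H.piece_comm (hfr.ne d) ((mem_cF.1 hg).2 d) (lift_comG i _ _),
        comm_one_of_scalar (c := c₀) hc₀, Units.val_one]
  clear hb hg
  obtain ⟨n, hn, hmin⟩ : ∃ n, P n ∧ ∀ m, m < n → ¬ P m :=
    ⟨Nat.find hstart, Nat.find_spec hstart, fun m hm => Nat.find_min hstart hm⟩
  obtain ⟨f, S, hfr, hSn, hnk, g, hg, b, hbS, hgb⟩ := hn
  have hn0 : 1 ≤ n := by rw [← hSn]; exact Finset.card_pos.2 ⟨b, hbS⟩
  -- the groups of smallest support
  have hle : ∀ (f : Fin k → Fin k → F) (S : Finset (Fin k)), gS M J i f S ≤ M := fun f S g hg => (mem_cF.1 hg.1).1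
  have line : ∀ (f : Fin k → Fin k → F) (S : Finset (Fin k)), Fr J f → ∀ b,
      (∃ g ∈ gS M J i f S, NonScal (pieceM J i (f b) g.1)) →
      ∃ j : Rest i, ∀ l ∈ Lc J, ∃ g ∈ gS M J i f S, pieceM J i (f b) g.1 = embM j l.1 := fun f S hf' b hne =>
    H.line_group (hf'.ne b) (fun g hg => (mem_cF.1 hg.1).2 b) (hle f S) (fun l hl g hg => H.gS_norm hl hg) hne
  obtain ⟨j, hj⟩ := line f S hfr b ⟨g, hg, hgb⟩
  obtain ⟨l₀, hl₀, hl₀s⟩ := hf.exists_nonscal
  obtain ⟨m₀, hm₀, hlm⟩ := hf.exists_move (om_le _ (lc_le _ hl₀)) hl₀s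
  -- two elements on a common line give a smaller support
  have meet : ∀ (f : Fin k → Fin k → F) (S T : Finset (Fin k)) (d : Fin k) (j : Rest i), Fr J f →
      (S ∩ T).card < n → d ∈ S ∩ T → (∀ l ∈ Lc J, ∃ g ∈ gS M J i f S, pieceM J i (f d) g.1 = embM j l.1) →
      (∀ l ∈ Lc J, ∃ g ∈ gS M J i f T, pieceM J i (f d) g.1 = embM j l.1) → False := by
    intro f S T d j hf' hcard hd hA hB
    obtain ⟨gA, hgA, eA⟩ := hA l₀ hl₀
    obtain ⟨gB, hgB, eB⟩ := hB m₀ hm₀
    refine hmin _ hcard ⟨f, S ∩ T, hf', rfl, by omega, ⁅gA, gB⁆, gS_of_pieces hf' ?_ fun c hc => ?_, d, hd, ?_⟩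
    · rw [commutatorElement_def]
      exact (cF M J i f).mul_mem ((cF M J i f).mul_mem ((cF M J i f).mul_mem hgA.1 hgB.1)
        ((cF M J i f).inv_mem hgA.1)) ((cF M J i f).inv_mem hgB.1)
    · rw [H.piece_comm (hf'.ne c) ((mem_cF.1 hgA.1).2 c) ((mem_cF.1 hgB.1).2 c)]
      rw [Finset.mem_inter, not_and_or] at hc
      rcases hc with hc | hc
      · rw [comm_one_of_scalar (c := (1 : F)) (by rw [one_smul]; exact gS_piece hf' hgA hc), Units.val_one]
      · rw [← commutatorElement_inv, comm_one_of_scalar (c := (1 : F)) (by rw [one_smul]; exact gS_piece hf' hgB hc),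
          inv_one, Units.val_one]
    · rw [H.piece_comm (hf'.ne d) ((mem_cF.1 hgA.1).2 d) ((mem_cF.1 hgB.1).2 d),
        show pieceG i (f d) (hf'.ne d) ⟨gA, (mem_cF.1 hgA.1).2 d⟩ = embG j l₀ from Units.ext eA,
        show pieceG i (f d) (hf'.ne d) ⟨gB, (mem_cF.1 hgB.1).2 d⟩ = embG j m₀ from Units.ext eB,
        ← map_commutatorElement]
      exact fun c e => hlm c (hf.scalar_emb e)
  rcases (show Fintype.card τ = 2 ∨ 3 ≤ Fintype.card τ by have := H.two_le; omega) with h2 | h3
  · -- two factors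
    have hone : Fintype.card (Rest i) = 1 := by rw [Fintype.card_subtype_compl, Fintype.card_subtype_eq, h2]
    obtain ⟨j₁, hj₁⟩ := Fintype.card_eq_one_iff.1 hone
    haveI : Unique (Rest i) := ⟨⟨j⟩, fun x => (hj₁ x).trans (hj₁ j).symm⟩
    have line' : ∀ (f : Fin k → Fin k → F) (S : Finset (Fin k)), Fr J f → ∀ b,
        (∃ g ∈ gS M J i f S, NonScal (pieceM J i (f b) g.1)) →
        ∀ l ∈ Lc J, ∃ g ∈ gS M J i f S, pieceM J i (f b) g.1 = embM j l.1 := by
      intro f S hf' b hne
      obtain ⟨j', hj'⟩ := line f S hf' b hne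
      rwa [show j' = j from (hj₁ j').trans (hj₁ j).symm] at hj'
    rcases (show n = 1 ∨ (2 ≤ n ∧ n + 1 = k) ∨ (2 ≤ n ∧ n + 2 ≤ k) by omega) with h1 | ⟨hn2, hnk1⟩ | ⟨hn2, hnk2⟩
    · -- one line: everything
      subst h1
      obtain ⟨s, rfl⟩ := Finset.card_eq_one.1 hSn
      rw [Finset.mem_singleton] at hbS
      subst hbS
      refine H.nfull (hf.full_of_lines i (hfr.good b) fun a' ha' T hT => ?_)
      obtain ⟨R, hR, hRa⟩ := hf.exists_om_move (hfr.ne b) ha'
      obtain ⟨l, hl, rfl⟩ := hf.exists_emb_of_one (σ := Rest i) hT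
      obtain ⟨g', hg', e'⟩ := line' f {b} hfr b ⟨g, hg, hgb⟩ l hl
      have he : g' = eHom (J := J) i (f b) (hfr.ne b) (embG (default : Rest i) l) := by
        refine Units.ext (hfr.ob.ext_iv i fun c y => ?_)
        rw [pieceM_mulVec (hfr.ne c) ((mem_cF.1 hg'.1).2 c), eHom_val, Ea_mulVec, embG_val,
          Unique.default_eq j]
        by_cases hc : c = b
        · subst hc
          rw [e', inv_mul_cancel₀ (hfr.ne c), one_smul, ← iv_add_left, add_sub_cancel]
        · rw [gS_piece hfr hg' (by simpa using hc), Matrix.one_mulVec, hfr.ob.orth b c (Ne.symm hc), mul_zero,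
            zero_smul, add_zero]
      have hconj := embG_conj_eHom hf.frm i (hfr.ne b) (om_le _ hR) (by rw [hRa, ha']; exact hfr.ne b)
        (embG (default : Rest i) l)
      have hmem := M.mul_mem (M.mul_mem (H.toHyp.emb_om i hR) (hle _ _ hg')) (M.inv_mem (H.toHyp.emb_om i hR))
      rw [he, hconj] at hmem
      convert hmem using 3
      exact hRa.symm
    · -- all lines but one
      obtain ⟨c, hc⟩ : ∃ c, c ∉ S := by
        by_contra hcon
        push Not at hcon
        rw [Finset.eq_univ_of_forall hcon, Finset.card_univ, Fintype.card_fin] at hSn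
        omega
      have hSe : S = Finset.univ.erase c := by
        refine Finset.eq_of_subset_of_card_le (fun x hx => Finset.mem_erase.2 ⟨fun e => hc (e ▸ hx), Finset.mem_univ _⟩) ?_
        rw [Finset.card_erase_of_mem (Finset.mem_univ _), Finset.card_univ, Fintype.card_fin]; omega
      obtain ⟨gA, hgA, eA⟩ := line' f S hfr b ⟨g, hg, hgb⟩ l₀ hl₀
      have hlift : TensorWreath.lift i (embG j l₀) ∈ M := (H.lift_emb_dn i j (lc_le _ hl₀)).1
      have hliftm : TensorWreath.lift i (embG j m₀) ∈ M := (H.lift_emb_dn i j (lc_le _ hm₀)).1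
      obtain ⟨g', hg'⟩ : ∃ g', g' = gA * (TensorWreath.lift i (embG j l₀))⁻¹ := ⟨_, rfl⟩
      have hg'c : g' ∈ cF M J i f := hg' ▸ (cF M J i f).mul_mem hgA.1 ((cF M J i f).inv_mem (lift_cF hlift))
      obtain ⟨g₂, hg₂⟩ : ∃ g₂, g₂ = ⁅g', TensorWreath.lift i (embG j m₀)⁆ := ⟨_, rfl⟩
      have hg₂c : g₂ ∈ cF M J i f := by
        rw [hg₂, commutatorElement_def]
        exact (cF M J i f).mul_mem ((cF M J i f).mul_mem ((cF M J i f).mul_mem hg'c (lift_cF hliftm))
          ((cF M J i f).inv_mem hg'c)) ((cF M J i f).inv_mem (lift_cF hliftm))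
      have hp : ∀ d (x : GL (Ix (Rest i) k) F), pieceM J i (f d) gA.1 = x.1 →
          pieceM J i (f d) g₂.1 = (⁅x * (embG j l₀)⁻¹, embG j m₀⁆).1 := by
        intro d x hx
        rw [hg₂, H.piece_comm (hfr.ne d) ((mem_cF.1 hg'c).2 d) (lift_comG i _ _), pieceG_lift]
        have e2 : pieceG i (f d) (hfr.ne d) ⟨g', (mem_cF.1 hg'c).2 d⟩ = x * (embG j l₀)⁻¹ := by
          rw [show (⟨g', (mem_cF.1 hg'c).2 d⟩ : comG J i (f d)) = ⟨gA, (mem_cF.1 hgA.1).2 d⟩ *
            (⟨TensorWreath.lift i (embG j l₀), lift_comG i _ _⟩ : comG J i (f d))⁻¹ from Subtype.ext hg', map_mul,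
            map_inv, pieceG_lift, show pieceG i (f d) (hfr.ne d) ⟨gA, (mem_cF.1 hgA.1).2 d⟩ = x from Units.ext hx]
        rw [e2]
      have hpb : pieceM J i (f b) g₂.1 = 1 := by
        rw [hp b (embG j l₀) eA, mul_inv_cancel, commutatorElement_one_left, Units.val_one]
      have hpc : NonScal (pieceM J i (f c) g₂.1) := by
        rw [hp c 1 (gS_piece hfr hgA hc), one_mul, ← map_inv, ← map_commutatorElement]
        intro s e
        obtain ⟨s', hs'⟩ : ∃ s' : F, (⁅l₀⁻¹, m₀⁆).1 = s' • 1 := ⟨s, hf.scalar_emb e⟩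
        refine hlm s' ?_
        have hcen : l₀ * ⁅l₀⁻¹, m₀⁆⁻¹ * l₀⁻¹ = ⁅l₀, m₀⁆ := by simp only [commutatorElement_def]; group
        have hinv : (⁅l₀⁻¹, m₀⁆⁻¹).1 * l₀⁻¹.1 = l₀⁻¹.1 * (⁅l₀⁻¹, m₀⁆⁻¹).1 := by
          have h5 : ⁅l₀⁻¹, m₀⁆ * l₀⁻¹ = l₀⁻¹ * ⁅l₀⁻¹, m₀⁆ := Units.ext (by
            rw [Units.val_mul, Units.val_mul, hs', smul_one_comm])
          rw [← Units.val_mul, ← Units.val_mul]
          exact congrArg Units.val ((Commute.inv_left (show Commute ⁅l₀⁻¹, m₀⁆ l₀⁻¹ from h5)).eq)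
        have h6 : ⁅l₀, m₀⁆ = ⁅l₀⁻¹, m₀⁆⁻¹ := by
          rw [← hcen]
          refine Units.ext ?_
          rw [Units.val_mul, Units.val_mul, Matrix.mul_assoc, hinv, ← Matrix.mul_assoc, l₀.mul_inv, Matrix.one_mul]
        have h7 : s' * s' = 1 := by
          have hi : (⁅l₀⁻¹, m₀⁆) ∈ iso J := by
            rw [commutatorElement_def]
            exact (iso J).mul_mem ((iso J).mul_mem ((iso J).mul_mem ((iso J).inv_mem (om_le _ (lc_le _ hl₀)))
              (om_le _ (lc_le _ hm₀))) ((iso J).inv_mem ((iso J).inv_mem (om_le _ (lc_le _ hl₀)))))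
              ((iso J).inv_mem (om_le _ (lc_le _ hm₀)))
          rw [mem_iso, hs', Matrix.transpose_smul, Matrix.transpose_one, Matrix.smul_mul, Matrix.one_mul,
            Matrix.smul_mul, Matrix.mul_smul, Matrix.mul_one, smul_smul] at hi
          by_contra hne
          refine h.det ?_
          have h0 : (s' * s' - 1) • J = 0 := by rw [sub_smul, hi, one_smul, sub_self]
          have hJ : J = 0 := (smul_eq_zero.1 h0).resolve_left (sub_ne_zero.2 hne)
          haveI : Nonempty (Fin k) := ⟨⟨0, by omega⟩⟩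
          rw [hJ]; exact Matrix.det_zero
        rw [h6]
        refine Units.inv_eq_of_mul_eq_one_right ?_
        rw [hs', Matrix.smul_mul, Matrix.one_mul, smul_smul, h7, one_smul]
      -- support away from `b`
      have hg₂S : g₂ ∈ gS M J i f (Finset.univ.erase b) := gS_of_pieces hfr hg₂c fun d hd => by
        rw [show d = b by simpa using hd, hpb]
      by_cases hex : ∃ d, d ≠ b ∧ d ≠ c ∧ NonScal (pieceM J i (f d) g₂.1)
      · obtain ⟨d, hdb, hdc, hd⟩ := hex
        have hdS : d ∈ S := by rw [hSe]; simp [hdc]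
        refine meet f S (Finset.univ.erase b) d j hfr ?_ (by simp [hdS, hdb]) (line' f S hfr d ?_)
          (line' f _ hfr d ⟨g₂, hg₂S, hd⟩)
        · rw [← hSn]
          refine Finset.card_lt_card ((Finset.ssubset_iff_of_subset Finset.inter_subset_left).2 ⟨b, hbS, by simp⟩)
        · by_contra hcon
          push Not at hcon
          -- then the support of `g` shrinks
          obtain ⟨jg, lg, hlg, hns, hmem⟩ := hcom f hfr g hg.1 b hgb
          refine hmin _ (show (S.erase d).card < n by rw [Finset.card_erase_of_mem hdS]; omega)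
            ⟨f, S.erase d, hfr, rfl, by rw [Finset.card_erase_of_mem hdS]; omega, _, gS_of_pieces hfr hmem ?_, b,
              Finset.mem_erase.2 ⟨Ne.symm hdb, hbS⟩, hns⟩
          intro x hx
          have hx' : x = d ∨ x ∉ S := by
            simp only [Finset.mem_erase, not_and_or, not_not] at hx
            exact hx
          rw [H.piece_comm (hfr.ne x) ((mem_cF.1 hg.1).2 x) (lift_comG i _ _)]
          rcases hx' with rfl | hx'
          · obtain ⟨s, hs⟩ := scalar_of_not_nonScal (hcon g hg)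
            rw [comm_one_of_scalar (c := s) hs, Units.val_one]
          · rw [comm_one_of_scalar (c := (1 : F)) (by rw [one_smul]; exact gS_piece hfr hg hx'), Units.val_one]
      · push Not at hex
        obtain ⟨jg, lg, hlg, hns, hmem⟩ := hcom f hfr g₂ hg₂c c hpc
        refine hmin 1 (by omega) ⟨f, {c}, hfr, Finset.card_singleton c, by omega, _, gS_of_pieces hfr hmem ?_, c,
          Finset.mem_singleton_self c, hns⟩
        intro x hx
        rw [Finset.mem_singleton] at hx
        rw [H.piece_comm (hfr.ne x) ((mem_cF.1 hg₂c).2 x) (lift_comG i _ _)]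
        by_cases hxb : x = b
        · rw [comm_one_of_scalar (c := (1 : F)) (by rw [one_smul]; subst hxb; exact hpb), Units.val_one]
        · obtain ⟨s, hs⟩ := scalar_of_not_nonScal (fun hn => hex x hxb hx hn)
          rw [comm_one_of_scalar (c := s) hs, Units.val_one]
    · -- move one of the lines
      obtain ⟨a, haS, hab⟩ : ∃ a ∈ S, a ≠ b := Finset.exists_mem_ne (by omega) b
      obtain ⟨c, hc⟩ : ∃ c, c ∉ S := by
        by_contra hcon
        push Not at hcon
        rw [Finset.eq_univ_of_forall hcon, Finset.card_univ, Fintype.card_fin] at hSn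
        omega
      -- in odd dimension the two lines get one value
      obtain ⟨f₁, hfr₁, hf₁, hfv⟩ : ∃ f₁, Fr J f₁ ∧ (∀ x ∈ S, ∃ s : F, s ≠ 0 ∧ f₁ x = s • f x) ∧
          (Odd k → bf J (f₁ b) (f₁ b) = bf J (f₁ a) (f₁ a)) := by
        rcases Nat.even_or_odd k with he | ho
        · exact ⟨f, hfr, fun x _ => ⟨1, one_ne_zero, (one_smul F _).symm⟩,
            fun ho => absurd he (Nat.not_even_iff_odd.2 ho)⟩
        · obtain ⟨s, hs, hsv⟩ := h.exists_scale (hfr.good a) (hfr.good b) (by rwa [Fintype.card_fin])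
          refine ⟨fun x => (if x = b then s else 1) • f x, ⟨⟨fun x y hxy => by
            rw [bf_smul_left, bf_smul_right, hfr.ob.orth x y hxy, mul_zero, mul_zero], fun x => by
            rw [bf_smul_left, bf_smul_right]
            exact mul_ne_zero (by split_ifs; exacts [hs, one_ne_zero])
              (mul_ne_zero (by split_ifs; exacts [hs, one_ne_zero]) (hfr.ne x)), hfr.ob.card⟩, fun x =>
            (hfr.good x).smul (by split_ifs; exacts [hs, one_ne_zero])⟩,
            fun x _ => ⟨_, by split_ifs; exacts [hs, one_ne_zero], rfl⟩, fun _ => ?_⟩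
          show bf J ((if b = b then s else 1) • f b) ((if b = b then s else 1) • f b) =
            bf J ((if a = b then s else 1) • f a) ((if a = b then s else 1) • f a)
          rw [if_pos rfl, if_neg hab, one_smul]
          exact hsv
      obtain ⟨x, hx, hxx⟩ := h.exists_perp_value (κ := {z // z ∈ S}) (v := fun z => f₁ z.1)
        (fun p q hpq => hfr₁.ob.orth _ _ fun e => hpq (Subtype.ext e)) (fun p => hfr₁.ne _)
        (by rw [Fintype.card_coe, Fintype.card_fin]; omega) (bf J (f₁ a) (f₁ a))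
      obtain ⟨f₂, hfr₂, hf₂⟩ := hf.exists_frame_on (insert c S) (Function.update f₁ c x)
        (fun p hp q hq hpq => by
          rcases Finset.mem_insert.1 hp with rfl | hp' <;> rcases Finset.mem_insert.1 hq with rfl | hq'
          · exact absurd rfl hpq
          · rw [Function.update_self, Function.update_of_ne (fun e : q = p => hc (e ▸ hq')), h.bf_comm]
            exact hx ⟨q, hq'⟩
          · rw [Function.update_self, Function.update_of_ne (fun e : p = q => hc (e ▸ hp'))]
            exact hx ⟨p, hp'⟩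
          · rw [Function.update_of_ne (fun e : p = c => hc (e ▸ hp')),
              Function.update_of_ne (fun e : q = c => hc (e ▸ hq'))]
            exact hfr₁.ob.orth p q hpq)
        (fun p hp => by
          rcases Finset.mem_insert.1 hp with rfl | hp'
          · rw [Function.update_self]; exact (hfr₁.good a).of_eq hxx
          · rw [Function.update_of_ne (fun e : p = c => hc (e ▸ hp'))]; exact hfr₁.good p)
      have h2S : ∀ z ∈ S, f₂ z = f₁ z := fun z hz => by
        rw [hf₂ z (Finset.mem_insert_of_mem hz), Function.update_of_ne (fun e : z = c => hc (e ▸ hz))]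
      have h2c : f₂ c = x := by rw [hf₂ c (Finset.mem_insert_self _ _), Function.update_self]
      have hca : c ≠ a := fun e => hc (e ▸ haS)
      have hcb : c ≠ b := fun e => hc (e ▸ hbS)
      have hS2 : gS M J i f S ≤ gS M J i f₂ S := gS_congr hfr hfr₂ fun z hz => by
        rw [h2S z hz]; exact hf₁ z hz
      have hscale : ∀ z ∈ S, pieceM J i (f₂ z) g.1 = pieceM J i (f z) g.1 := by
        intro z hz
        refine pieceM_eq (hfr₂.ne z) ((mem_cF.1 (hS2 hg).1).2 z) fun y => ?_
        obtain ⟨s, -, e⟩ := hf₁ z hz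
        rw [h2S z hz, e, iv_smul_right, Matrix.mulVec_smul, pieceM_mulVec (hfr.ne z) ((mem_cF.1 hg.1).2 z),
          iv_smul_right]
      have hval : bf J (f₂ c) (f₂ c) = bf J (f₂ a) (f₂ a) := by rw [h2c, h2S a haS, hxx]
      -- every line of the support carries a nonscalar piece
      have hall : ∀ z ∈ S, ∃ g' ∈ gS M J i f₂ S, NonScal (pieceM J i (f₂ z) g'.1) := by
        intro z hz
        by_contra hcon
        push Not at hcon
        have hzb : z ≠ b := fun e => hcon g (hS2 hg) (by rw [hscale z hz, e]; exact hgb)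
        obtain ⟨jg, lg, hlg, hns, hmem⟩ := hcom f₂ hfr₂ g (hS2 hg).1 b (by rw [hscale b hbS]; exact hgb)
        refine hmin _ (show (S.erase z).card < n by rw [Finset.card_erase_of_mem hz]; omega)
          ⟨f₂, S.erase z, hfr₂, rfl, by rw [Finset.card_erase_of_mem hz]; omega, _, gS_of_pieces hfr₂ hmem ?_, b,
            Finset.mem_erase.2 ⟨Ne.symm hzb, hbS⟩, hns⟩
        intro w hw
        have hw' : w = z ∨ w ∉ S := by
          simp only [Finset.mem_erase, not_and_or, not_not] at hw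
          exact hw
        rw [H.piece_comm (hfr₂.ne w) ((mem_cF.1 (hS2 hg).1).2 w) (lift_comG i _ _)]
        rcases hw' with rfl | hw'
        · obtain ⟨s, hs⟩ := scalar_of_not_nonScal (hcon g (hS2 hg))
          rw [comm_one_of_scalar (c := s) hs, Units.val_one]
        · rw [comm_one_of_scalar (c := (1 : F)) (by rw [one_smul]; exact gS_piece hfr₂ (hS2 hg) hw'), Units.val_one]
      obtain ⟨R, hR, hRM, π, hπ, d, d', hd, hd', e', hmoved⟩ : ∃ R : GL (Fin k) F, R ∈ iso J ∧ embG i R ∈ M ∧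
          ∃ π : Equiv.Perm (Fin k), (∀ z, R.1 *ᵥ f₂ z = f₂ (π z)) ∧
            ∃ d d', d ∈ S ∧ d' ∈ S ∧ π d' = d ∧ ∃ z ∈ S, z ∉ S.image π := by
        rcases Nat.even_or_odd k with he | ho
        · obtain ⟨h1, h1a, h1c⟩ := h.rot_diff (hfr₂.ob.orth a c (Ne.symm hca)) hval (hfr₂.ne a)
          have h10 : bf J (f₂ a - f₂ c) (f₂ a - f₂ c) ≠ 0 := by rw [h1]; exact mul_ne_zero h.two (hfr₂.ne a)
          have hRi : (-rotG J (f₂ a - f₂ c) h10 : GL (Fin k) F) ∈ iso J := by
            rw [mem_iso, Units.val_neg, Matrix.transpose_neg, Matrix.neg_mul, Matrix.neg_mul, Matrix.mul_neg, neg_neg]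
            exact h.rot_mem h10
          refine ⟨_, hRi, H.even he i _ hRi, Equiv.swap a c, fun z => ?_, b, b, hbS, hbS,
            Equiv.swap_apply_of_ne_of_ne (Ne.symm hab) (Ne.symm hcb), a, haS, fun hcon => ?_⟩
          · rw [Units.val_neg, Matrix.neg_mulVec]
            show -(rot J (f₂ a - f₂ c) *ᵥ f₂ z) = _
            by_cases hza : z = a
            · subst hza; rw [Equiv.swap_apply_left, h1a, neg_neg]
            · by_cases hzc : z = c
              · subst hzc; rw [Equiv.swap_apply_right, h1c, neg_neg]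
              · rw [Equiv.swap_apply_of_ne_of_ne hza hzc, rot_perp J (c := f₂ a - f₂ c) (x := f₂ z)
                  (by rw [bf_sub_left, hfr₂.ob.orth a z (Ne.symm hza), hfr₂.ob.orth c z (Ne.symm hzc), sub_zero]),
                  neg_neg]
          · obtain ⟨z, hz, e⟩ := Finset.mem_image.1 hcon
            have : z = c := by
              have := congrArg (Equiv.swap a c) e
              rwa [Equiv.swap_apply_self, Equiv.swap_apply_left] at this
            exact hc (this ▸ hz)
        · have hv : bf J (f₂ b) (f₂ b) = bf J (f₂ a) (f₂ a) := by rw [h2S a haS, h2S b hbS, hfv ho]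
          obtain ⟨R, hR, r1, r2, r3, r4⟩ := hf.exists_cycle (hfr₂.ne a) hval hv
            (hfr₂.ob.orth a c (Ne.symm hca)) (hfr₂.ob.orth a b hab) (hfr₂.ob.orth c b hcb)
          refine ⟨R, om_le _ hR, H.toHyp.emb_om i hR, Equiv.swap a c * Equiv.swap c b, fun z => ?_, a, b, haS, hbS,
            ?_, b, hbS, fun hcon => ?_⟩
          · by_cases hza : z = a
            · subst hza
              rw [r1, Equiv.Perm.mul_apply, Equiv.swap_apply_of_ne_of_ne (Ne.symm hca) hab, Equiv.swap_apply_left]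
            · by_cases hzc : z = c
              · subst hzc
                rw [r2, Equiv.Perm.mul_apply, Equiv.swap_apply_left,
                  Equiv.swap_apply_of_ne_of_ne (Ne.symm hab) (Ne.symm hcb)]
              · by_cases hzb : z = b
                · subst hzb
                  rw [r3, Equiv.Perm.mul_apply, Equiv.swap_apply_right, Equiv.swap_apply_right]
                · rw [Equiv.Perm.mul_apply, Equiv.swap_apply_of_ne_of_ne hzc hzb, Equiv.swap_apply_of_ne_of_ne hza hzc,
                    r4 _ (hfr₂.ob.orth a z (Ne.symm hza)) (hfr₂.ob.orth c z (Ne.symm hzc))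
                      (hfr₂.ob.orth b z (Ne.symm hzb))]
          · rw [Equiv.Perm.mul_apply, Equiv.swap_apply_right, Equiv.swap_apply_right]
          · obtain ⟨z, hz, e⟩ := Finset.mem_image.1 hcon
            have : z = c := by
              rw [Equiv.Perm.mul_apply] at e
              have e1 := congrArg (Equiv.swap a c) e
              rw [Equiv.swap_apply_self, Equiv.swap_apply_of_ne_of_ne (Ne.symm hab) (Ne.symm hcb)] at e1
              have e2 := congrArg (Equiv.swap c b) e1
              rwa [Equiv.swap_apply_self, Equiv.swap_apply_right] at e2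
            exact hc (this ▸ hz)
      obtain ⟨z, hz, hzT⟩ := hmoved
      refine meet f₂ S (S.image π) d j hfr₂ ?_ ?_ (line' f₂ S hfr₂ d (hall d hd)) ?_
      · rw [← hSn]
        exact Finset.card_lt_card ((Finset.ssubset_iff_of_subset Finset.inter_subset_left).2
          ⟨z, hz, fun h' => hzT (Finset.mem_inter.1 h').2⟩)
      · exact Finset.mem_inter.2 ⟨hd, e' ▸ Finset.mem_image_of_mem π hd'⟩
      · intro l hl
        obtain ⟨g', hg', eg⟩ := line' f₂ S hfr₂ d' (hall d' hd') l hl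
        obtain ⟨h1, h2'⟩ := H.gS_move hfr₂ hR hRM π hπ hg'
        exact ⟨_, h1, by rw [← e', h2', eg]⟩
  · -- three or more factors
    obtain ⟨d, hd⟩ : ∃ d, d ∉ S := by
      by_contra hcon
      push Not at hcon
      rw [Finset.eq_univ_of_forall hcon, Finset.card_univ, Fintype.card_fin] at hSn
      omega
    obtain ⟨o, ho⟩ : ∃ o : Rest i, o ≠ j := Fintype.exists_ne_of_one_lt_card (by
      rw [Fintype.card_subtype_compl, Fintype.card_subtype_eq]; omega) j
    obtain ⟨gA, hgA, eA⟩ := hj l₀ hl₀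
    obtain ⟨gB, hgB, eB⟩ := hj m₀ hm₀
    have hcen : ∀ g' ∈ gS M J i f S, (∃ l, pieceM J i (f b) g'.1 = embM j l) → Cen o.1 g'.1 := by
      intro g' hg' ⟨l, hl⟩
      have hpc : ∀ x, Cen o (pieceM J i (f x) g'.1) := by
        intro x
        by_cases hxS : x ∈ S
        swap
        · rw [gS_piece hfr hg' hxS]; exact Cen.one o
        refine hf.cen_of_commL (x := pieceG i (f x) (hfr.ne x) ⟨g', (mem_cF.1 hg'.1).2 x⟩) fun m hm => ?_
        -- otherwise the support shrinks
        by_contra hcon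
        have hlift : TensorWreath.lift i (embG o m) ∈ M := (H.lift_emb_dn i o (lc_le _ hm)).1
        have hmem : ⁅g', TensorWreath.lift i (embG o m)⁆ ∈ cF M J i f := by
          rw [commutatorElement_def]
          exact (cF M J i f).mul_mem ((cF M J i f).mul_mem ((cF M J i f).mul_mem hg'.1 (lift_cF hlift))
            ((cF M J i f).inv_mem hg'.1)) ((cF M J i f).inv_mem (lift_cF hlift))
        have hxb : x ≠ b := by
          rintro rfl
          refine hcon ⟨1, ?_⟩
          rw [one_smul]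
          show pieceM J i (f x) g'.1 * embM o m.1 = embM o m.1 * pieceM J i (f x) g'.1
          rw [hl]
          exact (embM_comm ho.symm _ _)
        refine hmin _ (show (S.erase b).card < n by rw [Finset.card_erase_of_mem hbS]; omega)
          ⟨f, S.erase b, hfr, rfl, by rw [Finset.card_erase_of_mem hbS]; omega, _, gS_of_pieces hfr hmem ?_, x,
            Finset.mem_erase.2 ⟨hxb, hxS⟩, ?_⟩
        · intro z hz
          rw [H.piece_comm (hfr.ne z) ((mem_cF.1 hg'.1).2 z) (lift_comG i _ _), pieceG_lift]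
          have hz' : z = b ∨ z ∉ S := by
            simp only [Finset.mem_erase, not_and_or, not_not] at hz
            exact hz
          rcases hz' with rfl | hz'
          · rw [commutatorElement_eq_one_iff_mul_comm.2 (Units.ext ?_), Units.val_one]
            show pieceM J i (f z) g'.1 * embM o m.1 = embM o m.1 * pieceM J i (f z) g'.1
            rw [hl]
            exact embM_comm ho.symm _ _
          · rw [comm_one_of_scalar (c := (1 : F)) (by rw [one_smul]; exact gS_piece hfr hg' hz'), Units.val_one]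
        · rw [H.piece_comm (hfr.ne x) ((mem_cF.1 hg'.1).2 x) (lift_comG i _ _), pieceG_lift]
          exact fun s e => hcon ⟨s, swap_of_comm e⟩
      intro X
      refine hfr.ob.ext_iv i fun x y => ?_
      rw [← Matrix.mulVec_mulVec, ← Matrix.mulVec_mulVec, embM_rest_iv i o,
        pieceM_mulVec (hfr.ne x) ((mem_cF.1 hg'.1).2 x), pieceM_mulVec (hfr.ne x) ((mem_cF.1 hg'.1).2 x),
        embM_rest_iv i o, Matrix.mulVec_mulVec, Matrix.mulVec_mulVec, hpc x X]
    have hlift : ∀ g' ∈ gS M J i f S, Cen o.1 g'.1 →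
        ∃ u ∈ iso (JJ J (Rest o.1)), TensorWreath.lift o.1 u = g' := by
      intro g' hg' hc
      have e := hc.eq_ins
      have hd0 : (restM o.1 g'.1).det ≠ 0 := fun h0 => by
        have h2 := ((Matrix.isUnit_iff_isUnit_det _).1 g'.isUnit).ne_zero
        rw [e, det_ins, h0, zero_pow (NeZero.ne k), zero_mul] at h2
        exact h2 rfl
      obtain ⟨u, hu⟩ : ∃ u : GL (Ix (Rest o.1) k) F, u.1 = restM o.1 g'.1 :=
        ⟨Matrix.GeneralLinearGroup.mkOfDetNeZero _ hd0, rfl⟩
      have hlu : TensorWreath.lift o.1 u = g' := Units.ext (by rw [lift_val, hu, ← e])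
      exact ⟨u, (lift_mem_iso_iff h o.1 u).1 (hlu ▸ H.toHyp.iso_mem (hle f S hg')), hlu⟩
    obtain ⟨uA, huA, euA⟩ := hlift gA hgA (hcen gA hgA ⟨_, eA⟩)
    obtain ⟨uB, huB, euB⟩ := hlift gB hgB (hcen gB hgB ⟨_, eB⟩)
    have hu : ⁅uA, uB⁆ ∈ dn J o.1 M := by
      refine ⟨?_, om_le_amb (Subgroup.commutator_mem_commutator huA huB)⟩
      show TensorWreath.lift o.1 ⁅uA, uB⁆ ∈ M
      rw [map_commutatorElement, euA, euB, commutatorElement_def]
      exact M.mul_mem (M.mul_mem (M.mul_mem (hle f S hgA) (hle f S hgB)) (M.inv_mem (hle f S hgA)))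
        (M.inv_mem (hle f S hgB))
    have hmono : Mono (⁅gA, gB⁆).1 := by
      have h1 : TensorWreath.lift o.1 ⁅uA, uB⁆ = ⁅gA, gB⁆ := by rw [map_commutatorElement, euA, euB]
      rw [← h1, lift_val]
      exact mono_ins o.1 (H.down_mono o.1 _ hu)
    have hmem : ⁅gA, gB⁆ ∈ cF M J i f := by
      rw [commutatorElement_def]
      exact (cF M J i f).mul_mem ((cF M J i f).mul_mem ((cF M J i f).mul_mem hgA.1 hgB.1)
        ((cF M J i f).inv_mem hgA.1)) ((cF M J i f).inv_mem hgB.1)
    obtain ⟨A, cs, -, hA⟩ := pieces_prop_of_mono hf hfr.ob hfr.good (H.toHyp.iso_mem (mem_cF.1 hmem).1) hmono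
      (mem_cF.1 hmem).2
    have e1 : pieceM J i (f d) (⁅gA, gB⁆).1 = 1 := by
      rw [H.piece_comm (hfr.ne d) ((mem_cF.1 hgA.1).2 d) ((mem_cF.1 hgB.1).2 d),
        comm_one_of_scalar (c := (1 : F)) (by rw [one_smul]; exact gS_piece hfr hgA hd), Units.val_one]
    have e2 : pieceM J i (f b) (⁅gA, gB⁆).1 = embM j (⁅l₀, m₀⁆).1 := by
      rw [H.piece_comm (hfr.ne b) ((mem_cF.1 hgA.1).2 b) ((mem_cF.1 hgB.1).2 b),
        show pieceG i (f b) (hfr.ne b) ⟨gA, (mem_cF.1 hgA.1).2 b⟩ = embG j l₀ from Units.ext eA,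
        show pieceG i (f b) (hfr.ne b) ⟨gB, (mem_cF.1 hgB.1).2 b⟩ = embG j m₀ from Units.ext eB,
        ← map_commutatorElement]
      rfl
    obtain ⟨hcd, hd1⟩ := hA d
    obtain ⟨-, hb1⟩ := hA b
    rw [e1] at hd1
    rw [e2] at hb1
    refine hlm (cs b * (cs d)⁻¹) (hf.scalar_emb (j := j) ?_)
    rw [hb1, mul_smul]
    congr 1
    rw [hd1, smul_smul, inv_mul_cancel₀ hcd, one_smul]

end Ctx

end CfsgLib.Classical.TensorWreathOrth
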