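import Cfsg.Agent.Lib.Classical.TensorWreath.Basic
import Cfsg.Agent.Lib.Classical.TensorOrthNine.Dihedral

set_option autoImplicit false
set_option linter.unusedSectionVars false

/-!
The signature of an involution: the difference of the dimensions of its two eigenspaces, its behaviour under
tensor products, and what a central involution of a dihedral group says about it.
-/

namespace CfsgLib.Classical.TensorWreathOrth

open Matrix CfsgLib.Classical.TensorWreath
open CfsgLib.Classical.TensorOrthNine (eig mem_eig isCompl_eig finrank_eig_add dihedral_cases)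
open scoped MatrixGroups Kronecker

variable {F : Type*} [Field F] {γ δ : Type} [Fintype γ] [DecidableEq γ] [Fintype δ] [DecidableEq δ]

/-- The difference of the dimensions of the eigenspaces for `1` and `-1`. -/
noncomputable def sig (X : Matrix γ γ F) : ℤ :=
  (Module.finrank F (eig X 1) : ℤ) - Module.finrank F (eig X (-1))

theorem eig_conj_dim {P P' : Matrix γ γ F} (hP : P' * P = 1) (X : Matrix γ γ F) (s : F) :
    Module.finrank F (eig (P * X * P') s) = Module.finrank F (eig X s) := by
  have hP' : P * P' = 1 := mul_eq_one_comm.1 hP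
  let L : (γ → F) ≃ₗ[F] (γ → F) := LinearEquiv.ofLinear P.mulVecLin P'.mulVecLin
    (by rw [← Matrix.mulVecLin_mul, hP', Matrix.mulVecLin_one])
    (by rw [← Matrix.mulVecLin_mul, hP, Matrix.mulVecLin_one])
  have hL : ∀ x, L x = P *ᵥ x := fun _ => rfl
  have hmap : eig (P * X * P') s = (eig X s).map L.toLinearMap := by
    ext x
    rw [Submodule.mem_map, mem_eig]
    constructor
    · intro hx
      refine ⟨P' *ᵥ x, ?_, ?_⟩
      · rw [mem_eig, ← Matrix.mulVec_smul, ← hx]
        simp only [Matrix.mulVec_mulVec, ← Matrix.mul_assoc, hP, Matrix.one_mul]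
      · show P *ᵥ (P' *ᵥ x) = x
        rw [Matrix.mulVec_mulVec, hP', Matrix.one_mulVec]
    · rintro ⟨y, hy, rfl⟩
      rw [mem_eig] at hy
      show (P * X * P') *ᵥ (P *ᵥ y) = s • (P *ᵥ y)
      rw [Matrix.mulVec_mulVec, Matrix.mul_assoc, hP, Matrix.mul_one, ← Matrix.mulVec_mulVec, hy,
        Matrix.mulVec_smul]
  rw [hmap, LinearEquiv.finrank_map_eq]

theorem sig_conj {P P' : Matrix γ γ F} (hP : P' * P = 1) (X : Matrix γ γ F) : sig (P * X * P') = sig X := by
  rw [sig, sig, eig_conj_dim hP, eig_conj_dim hP]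

theorem eig_neg (X : Matrix γ γ F) (s : F) : eig (-X) s = eig X (-s) := by
  ext x
  rw [mem_eig, mem_eig, Matrix.neg_mulVec, neg_smul, neg_eq_iff_eq_neg]

theorem sig_neg (X : Matrix γ γ F) : sig (-X) = -sig X := by
  rw [sig, sig, eig_neg, eig_neg, neg_neg]; ring

/-- A diagonal matrix of signs. -/
def dg (F : Type*) [Field F] (d : γ → Bool) : Matrix γ γ F := Matrix.diagonal fun x => if d x then (-1 : F) else 1

/-- The signature of a diagonal matrix of signs. -/
theorem sig_dg (h2 : (2 : F) ≠ 0) (d : γ → Bool) : sig (dg F d) = ∑ x, if d x then (-1 : ℤ) else 1 := by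
  classical
  have key : ∀ b : Bool, Module.finrank F (eig (dg F d) (if b then (-1 : F) else 1)) =
      (Finset.univ.filter fun x => d x = b).card := by
    intro b
    let e : eig (dg F d) (if b then (-1 : F) else 1) ≃ₗ[F] ({x // d x = b} → F) :=
      { toFun := fun v x => v.1 x.1
        map_add' := fun _ _ => rfl
        map_smul' := fun _ _ => rfl
        invFun := fun f => ⟨fun x => if h : d x = b then f ⟨x, h⟩ else 0, by
          rw [mem_eig]
          ext x
          rw [dg, Matrix.mulVec_diagonal, Pi.smul_apply, smul_eq_mul]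
          by_cases h : d x = b
          · rw [dif_pos h, h]
          · rw [dif_neg h, mul_zero, mul_zero]⟩
        left_inv := fun v => Subtype.ext (funext fun x => by
          show dite _ _ _ = _
          by_cases h : d x = b
          · rw [dif_pos h]
          · rw [dif_neg h]
            have hv : (if d x then (-1 : F) else 1) * v.1 x = (if b then (-1 : F) else 1) * v.1 x := by
              have h' := congrFun (mem_eig.1 v.2) x
              simpa [dg, Matrix.mulVec_diagonal] using h'
            have : (2 : F) * v.1 x = 0 := by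
              rcases Bool.eq_false_or_eq_true (d x) with hd | hd <;>
                rcases Bool.eq_false_or_eq_true b with hb' | hb'
              · exact absurd (hd.trans hb'.symm) h
              · simp only [hd, hb', Bool.false_eq_true, if_true, if_false] at hv
                linear_combination -hv
              · simp only [hd, hb', Bool.false_eq_true, if_true, if_false] at hv
                linear_combination hv
              · exact absurd (hd.trans hb'.symm) h
            exact ((mul_eq_zero.1 this).resolve_left h2).symm)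
        right_inv := fun f => funext fun x => by
          show dite _ _ _ = _
          rw [dif_pos x.2] }
    rw [e.finrank_eq, Module.finrank_pi, Fintype.card_subtype]
  rw [sig, show (1 : F) = (if false then (-1 : F) else 1) from rfl, key false,
    show (-(if false then (-1 : F) else 1)) = (if true then (-1 : F) else 1) from rfl, key true,
    Finset.sum_ite, Finset.sum_const, Finset.sum_const]
  simp only [Bool.not_eq_true, nsmul_eq_mul, mul_one, mul_neg]
  ring

/-- An involution is conjugate to a diagonal matrix of signs. -/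
theorem exists_dg (h2 : (2 : F) ≠ 0) {X : Matrix γ γ F} (hX : X * X = 1) :
    ∃ (P P' : Matrix γ γ F) (d : γ → Bool), P' * P = 1 ∧ X = P * dg F d * P' := by
  classical
  have hc := isCompl_eig h2 hX
  let b1 := Module.finBasis F (eig X 1)
  let b2 := Module.finBasis F (eig X (-1))
  let b := (b1.prod b2).map (Submodule.prodEquivOfIsCompl _ _ hc)
  have hcard : Fintype.card γ =
      Fintype.card (Fin (Module.finrank F (eig X 1)) ⊕ Fin (Module.finrank F (eig X (-1)))) := by
    rw [← Module.finrank_eq_card_basis b, Module.finrank_pi]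
  let ε := Fintype.equivOfCardEq hcard
  let b' := b.reindex ε.symm
  have hb : ∀ y, X *ᵥ b' y = (if (ε y).isRight then (-1 : F) else 1) • b' y := by
    intro y
    rw [show b' y = b (ε y) from Module.Basis.reindex_apply b ε.symm y]
    rcases h : ε y with a | a
    · rw [Sum.isRight_inl, if_neg Bool.false_ne_true, show b (Sum.inl a) = ((b1 a : eig X 1) : γ → F) by
        simp [b, Submodule.coe_prodEquivOfIsCompl']]
      exact mem_eig.1 (b1 a).2
    · rw [Sum.isRight_inr, if_pos rfl, show b (Sum.inr a) = ((b2 a : eig X (-1)) : γ → F) by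
        simp [b, Submodule.coe_prodEquivOfIsCompl']]
      exact mem_eig.1 (b2 a).2
  refine ⟨(Pi.basisFun F γ).toMatrix b', b'.toMatrix (Pi.basisFun F γ), fun y => (ε y).isRight,
    b'.toMatrix_mul_toMatrix_flip _, ?_⟩
  have h1 : X * (Pi.basisFun F γ).toMatrix b' = (Pi.basisFun F γ).toMatrix b' * dg F fun y => (ε y).isRight := by
    ext x y
    rw [dg, Matrix.mul_diagonal, Module.Basis.toMatrix_apply, Pi.basisFun_repr, mul_comm]
    have := congrFun (hb y) x
    rw [Pi.smul_apply, smul_eq_mul] at this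
    rw [← this, Matrix.mul_apply]
    simp [Matrix.mulVec, dotProduct, Module.Basis.toMatrix_apply]
  rw [← h1, Matrix.mul_assoc, (Pi.basisFun F γ).toMatrix_mul_toMatrix_flip, Matrix.mul_one]

theorem sig_one (h2 : (2 : F) ≠ 0) : sig (1 : Matrix γ γ F) = Fintype.card γ := by
  have h : (1 : Matrix γ γ F) = dg F fun _ => false := by simp [dg, Matrix.diagonal_one]
  rw [h, sig_dg h2]
  simp

theorem sig_abs_le (h2 : (2 : F) ≠ 0) {X : Matrix γ γ F} (hX : X * X = 1) : |sig X| ≤ Fintype.card γ := by
  have := finrank_eig_add h2 hX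
  rw [abs_le, sig]
  omega

theorem sig_add_card (h2 : (2 : F) ≠ 0) {X : Matrix γ γ F} (hX : X * X = 1) :
    sig X + Fintype.card γ = 2 * Module.finrank F (eig X 1) := by
  have := finrank_eig_add h2 hX
  rw [sig]
  omega

theorem sig_kron (h2 : (2 : F) ≠ 0) {U : Matrix γ γ F} {R : Matrix δ δ F} (hU : U * U = 1) (hR : R * R = 1) :
    sig (U ⊗ₖ R) = sig U * sig R := by
  obtain ⟨P, P', d, hP, rfl⟩ := exists_dg h2 hU
  obtain ⟨S, S', e, hS, rfl⟩ := exists_dg h2 hR
  have hd : dg F d ⊗ₖ dg F e = dg F fun p : γ × δ => xor (d p.1) (e p.2) := by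
    rw [dg, dg, dg, Matrix.diagonal_kronecker_diagonal]
    congr 1
    funext p
    cases d p.1 <;> cases e p.2 <;> simp
  rw [Matrix.mul_kronecker_mul, Matrix.mul_kronecker_mul,
    sig_conj (by rw [← Matrix.mul_kronecker_mul, hP, hS, Matrix.one_kronecker_one]), sig_conj hP, sig_conj hS, hd,
    sig_dg h2, sig_dg h2, sig_dg h2, Fintype.sum_prod_type, Finset.sum_mul]
  refine Finset.sum_congr rfl fun x _ => ?_
  rw [Finset.mul_sum]
  refine Finset.sum_congr rfl fun y _ => ?_
  cases d x <;> cases e y <;> simp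

theorem sig_submatrix (ε : δ ≃ γ) (X : Matrix γ γ F) : sig (X.submatrix ε ε) = sig X := by
  have key : ∀ s : F, Module.finrank F (eig (X.submatrix ε ε) s) = Module.finrank F (eig X s) := by
    intro s
    let L : (γ → F) ≃ₗ[F] (δ → F) := LinearEquiv.funCongrLeft F F ε
    have hL : ∀ x, L x = x ∘ ε := fun _ => rfl
    have hmap : eig (X.submatrix ε ε) s = (eig X s).map L.toLinearMap := by
      ext x
      rw [Submodule.mem_map, mem_eig]
      constructor
      · intro hx
        refine ⟨x ∘ ε.symm, ?_, ?_⟩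
        · rw [mem_eig]
          funext p
          have := congrFun hx (ε.symm p)
          rw [Matrix.submatrix_mulVec_equiv, Function.comp_apply, ε.apply_symm_apply] at this
          exact this
        · show (x ∘ ε.symm) ∘ ε = x
          rw [Function.comp_assoc, ε.symm_comp_self, Function.comp_id]
      · rintro ⟨y, hy, rfl⟩
        rw [mem_eig] at hy
        show X.submatrix ε ε *ᵥ (y ∘ ε) = s • (y ∘ ε)
        rw [Matrix.submatrix_mulVec_equiv, Function.comp_assoc, ε.self_comp_symm, Function.comp_id, hy]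
        rfl
    rw [hmap, LinearEquiv.finrank_map_eq]
  rw [sig, sig, key, key]

theorem sig_ins (h2 : (2 : F) ≠ 0) {τ : Type} [Fintype τ] [DecidableEq τ] {m : ℕ} (i : τ)
    {U : Matrix (Ix (Rest i) m) (Ix (Rest i) m) F} {R : Matrix (Fin m) (Fin m) F} (hU : U * U = 1) (hR : R * R = 1) :
    sig (ins i U R) = sig U * sig R := by
  rw [ins, sig_submatrix, sig_kron h2 hU hR]

theorem sig_embM (h2 : (2 : F) ≠ 0) {τ : Type} [Fintype τ] [DecidableEq τ] {m : ℕ} [NeZero m] (i : τ)
    {R : Matrix (Fin m) (Fin m) F} (hR : R * R = 1) :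
    sig (embM i R) = (m : ℤ) ^ (Fintype.card τ - 1) * sig R := by
  rw [embM_eq_ins, sig_ins h2 i (one_mul 1) hR, sig_one h2, card_rest]
  push_cast
  ring

/-! ### Two involutions whose product has a central involution as a power -/

theorem finrank_split_mat (h2 : (2 : F) ≠ 0) {k : Matrix γ γ F} (hk : k * k = 1) (W : Submodule F (γ → F))
    (hW : ∀ x ∈ W, k *ᵥ x ∈ W) :
    Module.finrank F ↥(W ⊓ eig k 1) + Module.finrank F ↥(W ⊓ eig k (-1)) = Module.finrank F W := by
  have hd : (W ⊓ eig k 1) ⊓ (W ⊓ eig k (-1)) = ⊥ := (Submodule.eq_bot_iff _).2 fun x hx => by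
    have h1 : k *ᵥ x = (1 : F) • x := hx.1.2
    have h1' : k *ᵥ x = (-1 : F) • x := hx.2.2
    have h5 : (2 : F) • x = 0 := by linear_combination (norm := module) h1' - h1
    exact (smul_eq_zero.1 h5).resolve_left h2
  have hs : (W ⊓ eig k 1) ⊔ (W ⊓ eig k (-1)) = W := by
    refine le_antisymm (sup_le inf_le_left inf_le_left) fun x hx => Submodule.mem_sup.2
      ⟨(2 : F)⁻¹ • (x + k *ᵥ x), ⟨W.smul_mem _ (W.add_mem hx (hW x hx)), ?_⟩,
        (2 : F)⁻¹ • (x - k *ᵥ x), ⟨W.smul_mem _ (W.sub_mem hx (hW x hx)), ?_⟩, ?_⟩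
    · show k *ᵥ _ = _
      rw [Matrix.mulVec_smul, Matrix.mulVec_add, Matrix.mulVec_mulVec, hk, Matrix.one_mulVec]; module
    · show k *ᵥ _ = _
      rw [Matrix.mulVec_smul, Matrix.mulVec_sub, Matrix.mulVec_mulVec, hk, Matrix.one_mulVec]; module
    · match_scalars <;> field_simp <;> ring
  have := Submodule.finrank_sup_add_finrank_inf_eq (W ⊓ eig k 1) (W ⊓ eig k (-1))
  rw [hd, hs, finrank_bot] at this
  omega

theorem eig_stable {k e : Matrix γ γ F} (h : e * k = k * e) {s : F} : ∀ x ∈ eig k s, e *ᵥ x ∈ eig k s := by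
  intro x hx
  rw [mem_eig] at hx ⊢
  rw [Matrix.mulVec_mulVec, ← h, ← Matrix.mulVec_mulVec, hx, Matrix.mulVec_smul]

theorem pow_eigen_mat {e e' : Matrix γ γ F} {x : γ → F} {s s' : F} (h : e *ᵥ x = s • x) (h' : e' *ᵥ x = s' • x)
    (m : ℕ) : (e * e') ^ m *ᵥ x = (s' * s) ^ m • x := by
  induction m with
  | zero => simp
  | succ n ih =>
    rw [pow_succ, ← Matrix.mulVec_mulVec, ← Matrix.mulVec_mulVec x e, h', Matrix.mulVec_smul, h, smul_smul,
      Matrix.mulVec_smul, ih, smul_smul, ← pow_succ']

theorem finrank_disj_mat {e e' : Matrix γ γ F} {m : ℕ} {W : Submodule F (γ → F)} {z : F}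
    (hz : ∀ x ∈ W, (e * e') ^ m *ᵥ x = z • x) {s s' : F} (h : (s' * s) ^ m ≠ z) :
    Module.finrank F ↥(W ⊓ eig e s) + Module.finrank F ↥(W ⊓ eig e' s') ≤ Module.finrank F W := by
  have hd : (W ⊓ eig e s) ⊓ (W ⊓ eig e' s') = ⊥ := (Submodule.eq_bot_iff _).2 fun x hx => by
    have := pow_eigen_mat hx.1.2 hx.2.2 m
    rw [hz x hx.1.1, ← sub_eq_zero, ← sub_smul] at this
    exact (smul_eq_zero.1 this).resolve_left (sub_ne_zero.2 (Ne.symm h))
  have := Submodule.finrank_sup_add_finrank_inf_eq (W ⊓ eig e s) (W ⊓ eig e' s')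
  rw [hd, finrank_bot] at this
  have hle := Submodule.finrank_mono (sup_le (inf_le_left (b := eig e s))
    (inf_le_left (b := eig e' s')) : (W ⊓ eig e s) ⊔ (W ⊓ eig e' s') ≤ W)
  omega

/-- The signature of a product of commuting involutions, split along the eigenspaces of the second. -/
theorem finrank_eig_mul (h2 : (2 : F) ≠ 0) {e z : Matrix γ γ F} (hz : z * z = 1) (hc : e * z = z * e) (s : F) :
    Module.finrank F (eig (e * z) s) =
      Module.finrank F ↥(eig z 1 ⊓ eig e s) + Module.finrank F ↥(eig z (-1) ⊓ eig e (-s)) := by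
  have key : ∀ t : F, (t * t = 1) → eig (e * z) s ⊓ eig z t = eig z t ⊓ eig e (t * s) := by
    intro t ht
    ext x
    simp only [Submodule.mem_inf, mem_eig]
    constructor
    · rintro ⟨h1, h3⟩
      refine ⟨h3, ?_⟩
      rw [← Matrix.mulVec_mulVec, h3, Matrix.mulVec_smul] at h1
      calc e *ᵥ x = (t * t) • (e *ᵥ x) := by rw [ht, one_smul]
        _ = _ := by rw [mul_smul, h1, smul_smul]
    · rintro ⟨h3, h1⟩
      refine ⟨?_, h3⟩
      rw [← Matrix.mulVec_mulVec, h3, Matrix.mulVec_smul, h1, smul_smul, ← mul_assoc, ht, one_mul]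
  have := finrank_split_mat h2 hz (eig (e * z) s) (eig_stable (by
    rw [← Matrix.mul_assoc, ← hc]))
  rw [key 1 (one_mul 1), key (-1) (neg_mul_neg _ _ |>.trans (one_mul 1)), one_mul, neg_one_mul] at this
  exact this.symm

section dihedral

variable (h2 : (2 : F) ≠ 0) {e e' ζ : Matrix γ γ F} (he : e * e = 1) (he' : e' * e' = 1) (hζ : ζ * ζ = 1)
  (ce : e * ζ = ζ * e) (ce' : e' * ζ = ζ * e') {m : ℕ} (hm : (e * e') ^ m = ζ)
include h2 he he' hζ ce ce' hm

theorem dihedral_odd (ho : Odd m) : sig e' = sig (e * ζ) := by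
  have hne : (1 : F) ≠ -1 := fun h => h2 (by linear_combination h)
  have hp : ∀ x ∈ eig ζ (1 : F), (e * e') ^ m *ᵥ x = (1 : F) • x := fun x hx => hm ▸ mem_eig.1 hx
  have hn : ∀ x ∈ eig ζ (-1 : F), (e * e') ^ m *ᵥ x = (-1 : F) • x := fun x hx => hm ▸ mem_eig.1 hx
  have p1 := finrank_disj_mat hp (s := 1) (s' := -1) (by rw [mul_one, ho.neg_one_pow]; exact hne.symm)
  have p2 := finrank_disj_mat hp (s := -1) (s' := 1) (by rw [one_mul, ho.neg_one_pow]; exact hne.symm)
  have n1 := finrank_disj_mat hn (s := 1) (s' := 1) (by rw [one_mul, one_pow]; exact hne)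
  have n2 := finrank_disj_mat hn (s := -1) (s' := -1) (by rw [neg_mul_neg, one_mul, one_pow]; exact hne)
  have se := fun s => finrank_split_mat h2 he (eig ζ s) (eig_stable ce)
  have se' := fun s => finrank_split_mat h2 he' (eig ζ s) (eig_stable ce')
  have t1 := finrank_eig_mul h2 hζ (e := e) ce 1
  have t2 := finrank_eig_mul h2 hζ (e := e) ce (-1)
  rw [neg_neg] at t2
  have u1 := finrank_split_mat h2 hζ (eig e' 1) (eig_stable ce'.symm)
  have u2 := finrank_split_mat h2 hζ (eig e' (-1)) (eig_stable ce'.symm)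
  rw [inf_comm (eig e' 1), inf_comm (eig e' 1) (eig ζ (-1))] at u1
  rw [inf_comm (eig e' (-1)), inf_comm (eig e' (-1)) (eig ζ (-1))] at u2
  have a1 := se 1; have a2 := se (-1); have b1 := se' 1; have b2 := se' (-1)
  rw [sig, sig, t1, t2]
  omega

theorem dihedral_even (hev : Even m) : sig (e * ζ) = sig e ∧ sig (e' * ζ) = sig e' := by
  have hne : (1 : F) ≠ -1 := fun h => h2 (by linear_combination h)
  have hn : ∀ x ∈ eig ζ (-1 : F), (e * e') ^ m *ᵥ x = (-1 : F) • x := fun x hx => hm ▸ mem_eig.1 hx
  have n1 := finrank_disj_mat hn (s := 1) (s' := 1) (by rw [one_mul, one_pow]; exact hne)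
  have n2 := finrank_disj_mat hn (s := -1) (s' := -1) (by rw [neg_mul_neg, one_mul, one_pow]; exact hne)
  have n3 := finrank_disj_mat hn (s := 1) (s' := -1) (by rw [mul_one, hev.neg_one_pow]; exact hne)
  have n4 := finrank_disj_mat hn (s := -1) (s' := 1) (by rw [one_mul, hev.neg_one_pow]; exact hne)
  have a2 := finrank_split_mat h2 he (eig ζ (-1)) (eig_stable ce)
  have b2 := finrank_split_mat h2 he' (eig ζ (-1)) (eig_stable ce')
  have t1 := finrank_eig_mul h2 hζ (e := e) ce 1
  have t2 := finrank_eig_mul h2 hζ (e := e) ce (-1)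
  have t3 := finrank_eig_mul h2 hζ (e := e') ce' 1
  have t4 := finrank_eig_mul h2 hζ (e := e') ce' (-1)
  rw [neg_neg] at t2 t4
  have u1 := finrank_split_mat h2 hζ (eig e' 1) (eig_stable ce'.symm)
  have u2 := finrank_split_mat h2 hζ (eig e' (-1)) (eig_stable ce'.symm)
  have u3 := finrank_split_mat h2 hζ (eig e 1) (eig_stable ce.symm)
  have u4 := finrank_split_mat h2 hζ (eig e (-1)) (eig_stable ce.symm)
  rw [inf_comm (eig e' 1), inf_comm (eig e' 1) (eig ζ (-1))] at u1
  rw [inf_comm (eig e' (-1)), inf_comm (eig e' (-1)) (eig ζ (-1))] at u2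
  rw [inf_comm (eig e 1), inf_comm (eig e 1) (eig ζ (-1))] at u3
  rw [inf_comm (eig e (-1)), inf_comm (eig e (-1)) (eig ζ (-1))] at u4
  constructor <;> (rw [sig, sig]; omega)

end dihedral

end CfsgLib.Classical.TensorWreathOrth
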