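import Cfsg.Agent.Lib.Classical.TensorWreathOrth.Plane
import Cfsg.Agent.Lib.Classical.TensorWreathOrth.Sig

set_option autoImplicit false
set_option linter.unusedSectionVars false

/-!
The centraliser in the group of the rotation on a good line of a factor is monomial.
-/

namespace CfsgLib.Classical.TensorWreathOrth

open Matrix CfsgLib.Classical.TensorWreath
open CfsgLib.Classical.TensorOrthNine (eig mem_eig finrank_eig_add)
open scoped MatrixGroups commutatorElement

variable {F : Type*} [Field F] [Finite F]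

section

variable {γ : Type} [Fintype γ] [DecidableEq γ] {A : Matrix γ γ F}

/-- The fixed vectors of a rotation. -/
theorem eig_rot_one (h : Frm A) {c : γ → F} (hc : bf A c c ≠ 0) : eig (rot A c) 1 = Submodule.span F {c} := by
  ext x
  rw [mem_eig, one_smul, Submodule.mem_span_singleton]
  constructor
  · intro hx
    refine ⟨(bf A c c)⁻¹ * bf A c x, ?_⟩
    rw [← pr_mulVec]
    rw [rot, Matrix.sub_mulVec, Matrix.smul_mulVec, Matrix.one_mulVec, sub_eq_iff_eq_add, ← two_smul F x] at hx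
    exact smul_right_injective _ h.two hx
  · rintro ⟨s, rfl⟩
    rw [Matrix.mulVec_smul, rot_self A hc]

theorem finrank_eig_rot (h : Frm A) {c : γ → F} (hc : bf A c c ≠ 0) : Module.finrank F (eig (rot A c) 1) = 1 := by
  rw [eig_rot_one h hc]
  exact finrank_span_singleton fun e => hc (by rw [e, bf_zero_left])

theorem sig_rot (h : Frm A) {c : γ → F} (hc : bf A c c ≠ 0) : sig (rot A c) = 2 - Fintype.card γ := by
  have h1 := sig_add_card h.two (rot_mul_self A hc)
  rw [finrank_eig_rot h hc] at h1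
  omega

/-- An involution with all eigenvalues one. -/
theorem eq_one_of_eig (h2 : (2 : F) ≠ 0) {X : Matrix γ γ F} (hX : X * X = 1)
    (h : Module.finrank F (eig X (-1)) = 0) : X = 1 := by
  refine Matrix.ext_iff_mulVec.2 fun v => ?_
  have hm : X *ᵥ v - v ∈ eig X (-1) := by
    rw [mem_eig, Matrix.mulVec_sub, Matrix.mulVec_mulVec, hX, Matrix.one_mulVec, neg_one_smul, neg_sub]
  rw [Submodule.finrank_eq_zero.1 h, Submodule.mem_bot, sub_eq_zero] at hm
  rw [hm, Matrix.one_mulVec]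

/-- Two involutions have a central involution among the powers of their product. -/
theorem exists_dihedral {G : Type*} [Group G] [Finite G] {e e' : G} (he : e * e = 1) (he' : e' * e' = 1) :
    ∃ m, (e * e') ^ m * (e * e') ^ m = 1 ∧ e * (e * e') ^ m = (e * e') ^ m * e ∧
      e' * (e * e') ^ m = (e * e') ^ m * e' ∧ (Even m → (e * e') ^ m ≠ 1) := by
  have hei : e⁻¹ = e := inv_eq_of_mul_eq_one_right he
  have hei' : e'⁻¹ = e' := inv_eq_of_mul_eq_one_right he'
  have hNpos : 0 < orderOf (e * e') := orderOf_pos _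
  have hN := pow_orderOf_eq_one (e * e')
  obtain ⟨p, hp⟩ : ∃ p, p = e * e' := ⟨_, rfl⟩
  rw [← hp] at hN hNpos ⊢
  have key : ∀ m, p ^ m * p ^ m = 1 → e * p ^ m = p ^ m * e ∧ e' * p ^ m = p ^ m * e' := by
    intro m hm
    have hinv : (p ^ m)⁻¹ = p ^ m := inv_eq_of_mul_eq_one_right hm
    have h1 : e * p * e⁻¹ = p⁻¹ := by
      rw [hp, _root_.mul_inv_rev, hei, hei', ← mul_assoc, he, one_mul]
    have h2 : e' * p * e'⁻¹ = p⁻¹ := by
      rw [hp, _root_.mul_inv_rev, hei, hei', mul_assoc, mul_assoc, he', mul_one]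
    have h3 : e * p ^ m * e⁻¹ = p ^ m := by rw [← conj_pow, h1, inv_pow, hinv]
    have h4 : e' * p ^ m * e'⁻¹ = p ^ m := by rw [← conj_pow, h2, inv_pow, hinv]
    exact ⟨mul_inv_eq_iff_eq_mul.1 h3, mul_inv_eq_iff_eq_mul.1 h4⟩
  rcases Nat.even_or_odd (orderOf p) with ⟨m, hm⟩ | hodd
  · have hmm : p ^ m * p ^ m = 1 := by rw [← pow_add, ← hm, hN]
    refine ⟨m, hmm, (key m hmm).1, (key m hmm).2, fun _ e1 => ?_⟩
    have := Nat.le_of_dvd (by omega) (orderOf_dvd_of_pow_eq_one e1)
    omega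
  · refine ⟨orderOf p, by rw [hN, one_mul], by rw [hN, mul_one, one_mul], by rw [hN, mul_one, one_mul],
      fun he => absurd he (Nat.not_even_iff_odd.2 hodd)⟩

end

variable {τ : Type} [Fintype τ] [DecidableEq τ] {k : ℕ} {J : Matrix (Fin k) (Fin k) F}

theorem iv_right_injective (i : τ) {y : Ix (Rest i) k → F} (hy : y ≠ 0) {x x' : Fin k → F}
    (h : iv i y x = iv i y x') : x = x' := by
  obtain ⟨p, hp⟩ : ∃ p, y p ≠ 0 := by
    by_contra hc
    push Not at hc
    exact hy (funext hc)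
  funext c
  have := congrFun h ((spl i).symm (p, c))
  simp only [iv, Equiv.apply_symm_apply] at this
  exact mul_left_cancel₀ hp this

theorem ins_right_injective (i : τ) {A : Matrix (Ix (Rest i) k) (Ix (Rest i) k) F} (hA : A ≠ 0)
    {b b' : Matrix (Fin k) (Fin k) F} (h : ins i A b = ins i A b') : b = b' := by
  obtain ⟨p, q, hpq⟩ : ∃ p q, A p q ≠ 0 := by
    by_contra hc
    push Not at hc
    exact hA (Matrix.ext hc)
  ext r s
  have := congrFun₂ h ((spl i).symm (p, r)) ((spl i).symm (q, s))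
  simp only [ins, Matrix.submatrix_apply, Equiv.apply_symm_apply, Matrix.kronecker_apply] at this
  exact mul_left_cancel₀ hpq this

/-- A multiple of a monomial element. -/
theorem mono_smul [NeZero k] [Nonempty τ] {X : Matrix (Ix τ k) (Ix τ k) F} (hX : Mono X) (c : F) : Mono (c • X) := by
  obtain ⟨i⟩ := ‹Nonempty τ›
  rw [← Matrix.one_mul X, ← Matrix.smul_mul, ← embM_one i, ← embM_smul]
  exact (mono_pure _).mul hX

namespace Fac

variable (hf : Fac J)
include hf

theorem rot_not_scalar {c : Fin k → F} (hc : bf J c c ≠ 0) (s : F) : rot J c ≠ s • 1 := by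
  intro e
  obtain ⟨n, w, hw, a, ha⟩ := hf.frm.exists_ob_of hc
  obtain ⟨b, hb⟩ : ∃ b, b ≠ a := Fintype.exists_ne_of_one_lt_card (by
    have h1 := hw.card
    have h3 := hf.three
    simp only [Fintype.card_fin] at h1 ⊢
    omega) a
  have e1 := rot_self J hc
  have e2 := rot_perp J (c := c) (x := w b) (by rw [← ha]; exact hw.orth a b hb.symm)
  rw [e, Matrix.smul_mulVec, Matrix.one_mulVec] at e1 e2
  have f1 := congrArg (bf J c) e1
  have f2 := congrArg (bf J (w b)) e2
  rw [bf_smul_right] at f1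
  rw [bf_smul_right, ← neg_one_smul F (w b), bf_smul_right] at f2
  have s1 : s = 1 := mul_right_cancel₀ hc (f1.trans (one_mul _).symm)
  have s2 : s = -1 := mul_right_cancel₀ (hw.aniso b) f2
  exact hf.frm.two (by linear_combination s1.symm.trans s2)

/-- A monomial element keeping a line of a factor splits at it. -/
theorem split_line [NeZero k] (ht : 1 < Fintype.card τ) {i : τ} {a : Fin k → F} (ha : bf J a a ≠ 0) {g : GL (Ix τ k) F}
    (hg : g ∈ iso (JJ J τ)) (hm : Mono g.1) (hc : g ∈ comG J i a) :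
    ∃ R : Matrix (Fin k) (Fin k) F, g.1 = ins i (pieceM J i a g.1) R ∧ R *ᵥ a = a ∧
      Mono (pieceM J i a g.1) := by
  classical
  obtain ⟨gs, σ, e, -, hconj⟩ := mono_iso_data hf hm hg
  have hσ : σ i = i := by
    by_contra hne
    have h1 := hconj i (rot J a)
    rw [comG_rot hc, Matrix.mul_assoc, g.mul_inv, Matrix.mul_one] at h1
    obtain ⟨x, hx⟩ : ∃ x, x = (gs (σ i)).1 * rot J a * ((gs (σ i))⁻¹).1 := ⟨_, rfl⟩
    rw [← hx] at h1
    obtain ⟨s, hs⟩ : ∃ s : F, rot J a = s • 1 := hf.scalar_rot fun d _ => embM_injective i (by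
      rw [← embM_mul, ← embM_mul, h1, embM_comm hne])
    exact hf.rot_not_scalar ha s hs
  obtain ⟨σ', hσ'⟩ : ∃ σ' : Equiv.Perm (Rest i), Equiv.Perm.ofSubtype σ' = σ := by
    refine ⟨σ.subtypePerm (fun x => σ.injective.ne_iff' hσ), ?_⟩
    exact Equiv.Perm.ofSubtype_subtypePerm _ fun x hx e => hx (by rw [e, hσ])
  obtain ⟨A, hA⟩ : ∃ A, A = pureM (fun j : Rest i => (gs j).1) * permM F k σ' := ⟨_, rfl⟩
  have hAm : Mono A := hA ▸ (mono_pure _).mul (mono_perm _)
  have e2 : g.1 = ins i A (gs i).1 := by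
    rw [e, hA, ← Matrix.mul_one (gs i).1, ← ins_mul, ins_permM, hσ', ins_pureM]
    refine congrArg (· * permM F k σ) (congrArg pureM (funext fun j => ?_))
    by_cases hj : j = i
    · subst hj; rw [Function.update_self]
    · rw [Function.update_of_ne hj, extend, dif_neg hj]
  obtain ⟨c, hcd⟩ : ∃ c, c = (bf J a a)⁻¹ * bf J a ((gs i).1 *ᵥ a) := ⟨_, rfl⟩
  have hpc : pieceM J i a g.1 = c • A := by
    refine pieceM_eq ha hc fun y => ?_
    have h1 := congrArg (fun Z => Z *ᵥ iv i y a) (mem_comG.1 hc)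
    simp only [← Matrix.mulVec_mulVec, embM_mulVec_iv, pr_self J ha] at h1
    rw [h1, e2, ins_mulVec_iv, embM_mulVec_iv, pr_mulVec, iv_smul_right, Matrix.smul_mulVec, iv_smul_left, hcd]
  obtain ⟨p, hp⟩ : ∃ p : GL (Ix (Rest i) k) F, p.1 = pieceM J i a g.1 := ⟨pieceG i a ha ⟨g, hc⟩, rfl⟩
  have hc0 : c ≠ 0 := fun e0 => by
    have h1 := p.mul_inv
    rw [hp, hpc, e0, zero_smul, Matrix.zero_mul] at h1
    exact zero_ne_one h1
  have eg : g.1 = ins i (pieceM J i a g.1) (c⁻¹ • (gs i).1) := by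
    rw [hpc, ins_smul_left, ins_smul_right, smul_smul, mul_inv_cancel₀ hc0, one_smul, e2]
  refine ⟨c⁻¹ • (gs i).1, eg, ?_, hpc ▸ ?_⟩
  · obtain ⟨y, hy⟩ : ∃ y : Ix (Rest i) k → F, y = fun _ => 1 := ⟨_, rfl⟩
    refine iv_right_injective i (y := p.1 *ᵥ y) (fun e0 => ?_) ?_
    · have := congrArg ((p⁻¹).1 *ᵥ ·) e0
      simp only [Matrix.mulVec_mulVec, p.inv_mul, Matrix.one_mulVec, Matrix.mulVec_zero, hy] at this
      exact one_ne_zero (congrFun this fun _ => (0 : Fin k))
    · rw [hp, ← ins_mulVec_iv, ← eg]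
      exact pieceM_mulVec ha hc y
  · obtain ⟨y, hy⟩ : ∃ y, y ≠ i := Fintype.exists_ne_of_one_lt_card ht i
    haveI : Nonempty (Rest i) := ⟨⟨y, hy⟩⟩
    exact mono_smul hAm c

end Fac

/-- A line with a linked orthogonal plane beside the first lines. -/
def Adm (J : Matrix (Fin k) (Fin k) F) (f : Fin k → Fin k → F) (n : ℕ) (a : Fin k → F) : Prop :=
  Good J a ∧ (∀ b : Fin k, b.val < n → bf J (f b) a = 0) ∧
    (n + 1 + 2 = k → Even k → ∃ x y, Good J x ∧ Good J y ∧ (∀ b : Fin k, b.val < n → bf J (f b) x = 0) ∧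
      (∀ b : Fin k, b.val < n → bf J (f b) y = 0) ∧ bf J a x = 0 ∧ bf J a y = 0 ∧ bf J x y ≠ 0 ∧
      ∀ c : F, y ≠ c • x)

namespace Fac

variable (hf : Fac J)
include hf

/-- A frame extended by one line. -/
theorem exists_extend {f : Fin k → Fin k → F} (hfr : Fr J f) {p : Fin k} {a : Fin k → F} (ha : Good J a)
    (hao : ∀ b : Fin k, b.val < p.val → bf J (f b) a = 0) :
    ∃ f', Fr J f' ∧ (∀ b : Fin k, b.val < p.val → f' b = f b) ∧ f' p = a := by
  classical
  obtain ⟨f', hfr', hf'⟩ := hf.exists_frame_on (Finset.univ.filter fun x : Fin k => x.val ≤ p.val)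
    (Function.update f p a) (fun u hu v hv hne => by
      rw [Finset.mem_filter] at hu hv
      by_cases h1 : u = p
      · subst h1
        rw [Function.update_self, Function.update_of_ne (Ne.symm hne), hf.frm.bf_comm]
        exact hao v (lt_of_le_of_ne hv.2 fun e => hne (Fin.ext e.symm))
      · by_cases h2 : v = p
        · subst h2
          rw [Function.update_self, Function.update_of_ne h1]
          exact hao u (lt_of_le_of_ne hu.2 fun e => h1 (Fin.ext e))
        · rw [Function.update_of_ne h1, Function.update_of_ne h2]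
          exact hfr.ob.orth u v hne)
    (fun u _ => by
      by_cases h1 : u = p
      · subst h1; rw [Function.update_self]; exact ha
      · rw [Function.update_of_ne h1]; exact hfr.good u)
  refine ⟨f', hfr', fun b hb => ?_, ?_⟩
  · rw [hf' b (Finset.mem_filter.2 ⟨Finset.mem_univ _, hb.le⟩),
      Function.update_of_ne (fun e : b = p => by rw [e] at hb; omega)]
  · rw [hf' p (Finset.mem_filter.2 ⟨Finset.mem_univ _, le_rfl⟩), Function.update_self]

/-- Three admissible lines beside the first ones. -/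
theorem exists_adm {f : Fin k → Fin k → F} (hfr : Fr J f) {n : ℕ} {p q r : Fin k} (hp : p.val = n)
    (hq : q.val = n + 1) (hr : r.val = n + 2) :
    ∃ f', Fr J f' ∧ (∀ b : Fin k, b.val < n → f' b = f b) ∧ Adm J f n (f' p) ∧ Adm J f n (f' q) ∧
      Adm J f n (f' r) := by
  classical
  have h := hf.frm
  by_cases hkey : ¬ (n + 1 + 2 = k ∧ Even k)
  · refine ⟨f, hfr, fun b _ => rfl, ?_, ?_, ?_⟩ <;>
      exact ⟨hfr.good _, fun b hb => hfr.ob.orth _ _ fun e => by rw [e] at hb; omega,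
        fun h1 h2 => absurd ⟨h1, h2⟩ hkey⟩
  rw [not_not] at hkey
  obtain ⟨hk, hev⟩ := hkey
  obtain ⟨d, hd⟩ : ∃ d, d = bf J (f p) (f p) * bf J (f q) (f q) * bf J (f r) (f r) := ⟨_, rfl⟩
  have hd0 : d ≠ 0 := hd ▸ mul_ne_zero (mul_ne_zero (hfr.ne _) (hfr.ne _)) (hfr.ne _)
  have good : ∀ x, bf J x x ≠ 0 → Good J x := fun x hx => ⟨hx, Or.inl (by rwa [Fintype.card_fin])⟩
  obtain ⟨a, hao, haa⟩ := h.exists_perp_value (κ := Fin n) (v := fun b => f (Fin.castLE (by omega) b))
    (fun u v huv => hfr.ob.orth _ _ fun e => huv (Fin.castLE_injective _ e)) (fun u => hfr.ne _)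
    (by rw [Fintype.card_fin, Fintype.card_fin]; omega) d
  have hao' : ∀ b : Fin k, b.val < n → bf J (f b) a = 0 := fun b hb => hao ⟨b.val, hb⟩
  obtain ⟨f1, hfr1, h1, h1a⟩ := hf.exists_extend hfr (p := p) (good a (by rw [haa]; exact hd0))
    (fun b hb => hao' b (hp ▸ hb))
  obtain ⟨b', hbo, hbb⟩ := h.exists_perp_value (κ := Fin (n + 1)) (v := fun b => f1 (Fin.castLE (by omega) b))
    (fun u v huv => hfr1.ob.orth _ _ fun e => huv (Fin.castLE_injective _ e)) (fun u => hfr1.ne _)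
    (by rw [Fintype.card_fin, Fintype.card_fin]; omega) d
  obtain ⟨f2, hfr2, h2, h2b⟩ := hf.exists_extend hfr1 (p := q) (good b' (by rw [hbb]; exact hd0))
    (fun b hb => hbo ⟨b.val, hq ▸ hb⟩)
  have hS : ∀ b : Fin k, b.val < n → f2 b = f b := fun b hb => by rw [h2 b (by omega), h1 b (by omega)]
  have hva : bf J (f2 p) (f2 p) = d := by rw [h2 p (by omega), h1a, haa]
  have hvb : bf J (f2 q) (f2 q) = d := by rw [h2b, hbb]
  have hpq : p ≠ q := fun e => by rw [e] at hp; omega
  have hpr : p ≠ r := fun e => by rw [e] at hp; omega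
  have hqr : q ≠ r := fun e => by rw [e] at hq; omega
  obtain ⟨s, hs, hvc⟩ : ∃ s : F, s ≠ 0 ∧ bf J (f2 r) (f2 r) = d * (s * s) := by
    obtain ⟨e1, he1, p1⟩ := hfr.ob.exists_prod_eq
    obtain ⟨e2, he2, p2⟩ := hfr2.ob.exists_prod_eq
    have split : ∀ g : Fin k → Fin k → F, ∏ x, bf J (g x) (g x) =
        (∏ x ∈ Finset.univ.filter (fun x : Fin k => x.val < n), bf J (g x) (g x)) *
          (bf J (g p) (g p) * (bf J (g q) (g q) * bf J (g r) (g r))) := by
      intro g
      rw [← Finset.prod_filter_mul_prod_filter_not Finset.univ (fun x : Fin k => x.val < n)]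
      congr 1
      rw [show Finset.univ.filter (fun x : Fin k => ¬ x.val < n) = {p, q, r} from Finset.ext fun x => by
        simp only [Finset.mem_filter, Finset.mem_univ, true_and, Finset.mem_insert, Finset.mem_singleton, Fin.ext_iff,
          hp, hq, hr]
        have := x.isLt
        omega, Finset.prod_insert (by simp [hpq, hpr]), Finset.prod_insert (by simp [hqr]), Finset.prod_singleton]
    obtain ⟨PS, hPS⟩ : ∃ PS, PS = ∏ x ∈ Finset.univ.filter (fun x : Fin k => x.val < n), bf J (f x) (f x) := ⟨_, rfl⟩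
    have hPS' : ∏ x ∈ Finset.univ.filter (fun x : Fin k => x.val < n), bf J (f2 x) (f2 x) = PS := by
      rw [hPS]; exact Finset.prod_congr rfl fun x hx => by rw [hS x (Finset.mem_filter.1 hx).2]
    have hPS0 : PS ≠ 0 := hPS ▸ Finset.prod_ne_zero_iff.2 fun x _ => hfr.ne x
    rw [split, ← hPS, ← mul_assoc (bf J (f p) (f p)), ← hd] at p1
    rw [split, hPS', hva, hvb] at p2
    refine ⟨e2 * (d * e1)⁻¹, mul_ne_zero he2 (inv_ne_zero (mul_ne_zero hd0 he1)), ?_⟩
    have h5 : PS * (d * (d * bf J (f2 r) (f2 r))) * (e1 * e1) = PS * d * (e2 * e2) := by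
      rw [p1, p2]; ring
    have h6 : d * (d * bf J (f2 r) (f2 r)) * (e1 * e1) = d * (e2 * e2) :=
      mul_left_cancel₀ hPS0 (by linear_combination h5)
    have h7 : d * bf J (f2 r) (f2 r) * (e1 * e1) = e2 * e2 := mul_left_cancel₀ hd0 (by linear_combination h6)
    field_simp
    linear_combination h7
  have lnk : ∀ u v w : Fin k, u ≠ v → u ≠ w → v ≠ w → (u = p ∨ u = q ∨ u = r) → (v = p ∨ v = q ∨ v = r) →
      (w = p ∨ w = q ∨ w = r) → (∃ t : F, t ≠ 0 ∧ bf J (f2 w) (f2 w) = bf J (f2 v) (f2 v) * (t * t)) →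
      Adm J f n (f2 u) := by
    intro u v w huv huw hvw hu hv hw ⟨t, ht, hvw'⟩
    have hge : ∀ z : Fin k, (z = p ∨ z = q ∨ z = r) → n ≤ z.val := by
      rintro z (rfl | rfl | rfl) <;> omega
    have ho : ∀ z : Fin k, (z = p ∨ z = q ∨ z = r) → ∀ b : Fin k, b.val < n → bf J (f b) (f2 z) = 0 := fun z hz b hb => by
      rw [← hS b hb]; exact hfr2.ob.orth _ _ fun e => by rw [e] at hb; have := hge z hz; omega
    refine ⟨hfr2.good u, ho u hu, fun _ _ => ⟨f2 v, f2 v + t⁻¹ • f2 w, hfr2.good v, good _ ?_, ho v hv,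
      fun b hb => ?_, hfr2.ob.orth u v huv, ?_, ?_, fun c e => ?_⟩⟩
    · rw [bf_add_left, bf_add_right, bf_add_right, bf_smul_left, bf_smul_left, bf_smul_right, bf_smul_right,
        hfr2.ob.orth v w hvw, hfr2.ob.orth w v hvw.symm, hvw']
      have e5 : t⁻¹ * (t⁻¹ * (bf J (f2 v) (f2 v) * (t * t))) = bf J (f2 v) (f2 v) := by field_simp
      simp only [mul_zero, add_zero, zero_add, e5]
      rw [← two_mul]
      exact mul_ne_zero h.two (hfr2.ne v)
    · rw [bf_add_right, bf_smul_right, ho v hv b hb, ho w hw b hb, mul_zero, add_zero]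
    · rw [bf_add_right, bf_smul_right, hfr2.ob.orth u v huv, hfr2.ob.orth u w huw, mul_zero, add_zero]
    · rw [bf_add_right, bf_smul_right, hfr2.ob.orth v w hvw, mul_zero, add_zero]
      exact hfr2.ne v
    · have h5 := congrArg (bf J (f2 w)) e
      rw [bf_add_right, bf_smul_right, bf_smul_right, hfr2.ob.orth w v hvw.symm, mul_zero, zero_add] at h5
      exact mul_ne_zero (inv_ne_zero ht) (hfr2.ne w) h5
  refine ⟨f2, hfr2, hS, ?_, ?_, ?_⟩
  · exact lnk p q r hpq hpr hqr (Or.inl rfl) (Or.inr (Or.inl rfl)) (Or.inr (Or.inr rfl)) ⟨s, hs, by rw [hvc, hvb]⟩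
  · exact lnk q p r hpq.symm hqr hpr (Or.inr (Or.inl rfl)) (Or.inl rfl) (Or.inr (Or.inr rfl)) ⟨s, hs, by rw [hvc, hva]⟩
  · exact lnk r p q hpr.symm hqr.symm hpq (Or.inr (Or.inr rfl)) (Or.inl rfl) (Or.inr (Or.inl rfl))
      ⟨1, one_ne_zero, by rw [hva, hvb, one_mul, mul_one]⟩

end Fac

namespace Ctx

variable {M : Subgroup (GL (Ix τ k) F)} (H : Ctx J M)
include H

set_option maxHeartbeats 1600000 in
/-- A conjugate of a rotation of another factor by an element keeping some lines. -/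
theorem conj_other [NeZero k] {i : τ} {f : Fin k → Fin k → F} (hfr : Fr J f) {n : ℕ} (hn1 : 1 ≤ n) (hn2 : n + 2 ≤ k)
    (hlk : n + 2 = k → Even k → Linked J f n)
    (hup : ∀ a, Adm J f n a → ∀ g ∈ M, (∀ b : Fin k, b.val < n → g ∈ comG J i (f b)) → g ∈ comG J i a → Mono g.1)
    {g : GL (Ix τ k) F} (hg : g ∈ M) (hgS : ∀ b : Fin k, b.val < n → g ∈ comG J i (f b))
    {b₀ : Fin k} (hb₀ : b₀.val < n) (l : Rest i) {d : Fin k → F} (hd : Good J d)
    {U : GL (Ix (Rest i) k) F} (hU : U = pieceG i (f b₀) (hfr.ne b₀) ⟨g, hgS b₀ hb₀⟩) :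
    Mono (U * embG l (rotG J d hd.1) * U⁻¹).1 ∧
      g * TensorWreath.lift i (embG l (rotG J d hd.1)) * g⁻¹ =
        TensorWreath.lift i (U * embG l (rotG J d hd.1) * U⁻¹) := by
  classical
  have hf := H.fac
  have h := hf.frm
  have hk3 := hf.three
  have h2 := h.two
  haveI := H.rest_nonempty i
  haveI : Finite (GL (Ix τ k) F) := inferInstance
  obtain ⟨W, hW⟩ : ∃ W : GL (Ix (Rest i) k) F, W = embG l (rotG J d hd.1) := ⟨_, rfl⟩
  obtain ⟨W', hW'⟩ : ∃ W', W' = U * W * U⁻¹ := ⟨_, rfl⟩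
  obtain ⟨e', he'⟩ : ∃ e', e' = g * TensorWreath.lift i W * g⁻¹ := ⟨_, rfl⟩
  rw [← hW, ← hW', ← he']
  have hWW : W * W = 1 := by
    rw [hW, ← map_mul, show rotG J d hd.1 * rotG J d hd.1 = 1 from Units.ext (rot_mul_self J hd.1), map_one]
  have hW'W' : W' * W' = 1 := by
    rw [hW', show U * W * U⁻¹ * (U * W * U⁻¹) = U * (W * W) * U⁻¹ by group, hWW, mul_one, mul_inv_cancel]
  have hW'v : W'.1 * W'.1 = 1 := by rw [← Units.val_mul, hW'W', Units.val_one]
  have hlW : TensorWreath.lift i W = embG l.1 (rotG J d hd.1) :=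
    Units.ext (by rw [hW, lift_val, embG_val, embG_val, ins_embM])
  have hWM : TensorWreath.lift i W ∈ M := hlW ▸ H.toHyp.emb_rot l.1 hd
  have he'M : e' ∈ M := he' ▸ M.mul_mem (M.mul_mem hg hWM) (M.inv_mem hg)
  have he'S : ∀ b : Fin k, b.val < n → e' ∈ comG J i (f b) := fun b hb => he' ▸
    (comG J i (f b)).mul_mem ((comG J i (f b)).mul_mem (hgS b hb) (lift_comG i _ W)) ((comG J i (f b)).inv_mem (hgS b hb))
  have he'e' : e' * e' = 1 := by
    rw [he', show g * TensorWreath.lift i W * g⁻¹ * (g * TensorWreath.lift i W * g⁻¹) =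
      g * (TensorWreath.lift i W * TensorWreath.lift i W) * g⁻¹ by group, ← map_mul, hWW, map_one, mul_one,
      mul_inv_cancel]
  have he'v : e'.1 * e'.1 = 1 := by rw [← Units.val_mul, he'e', Units.val_one]
  have hp0 : pieceG i (f b₀) (hfr.ne b₀) ⟨e', he'S b₀ hb₀⟩ = W' := by
    rw [show (⟨e', he'S b₀ hb₀⟩ : comG J i (f b₀)) =
      ⟨g, hgS b₀ hb₀⟩ * ⟨_, lift_comG i _ W⟩ * ⟨g, hgS b₀ hb₀⟩⁻¹ from Subtype.ext he', map_mul, map_mul, map_inv,
      pieceG_lift, ← hU, hW']
  -- signatures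
  obtain ⟨A, hA⟩ : ∃ A : ℤ, A = (k : ℤ) ^ (Fintype.card (Rest i) - 1) := ⟨_, rfl⟩
  have hA0 : 0 < A := hA ▸ pow_pos (by omega) _
  have hct : Fintype.card (Rest i) + 1 = Fintype.card τ := by
    rw [Fintype.card_subtype_compl, Fintype.card_subtype_eq]; have := H.two_le; omega
  have hkA : (k : ℤ) ^ (Fintype.card τ - 1) = k * A := by
    rw [hA, ← pow_succ']; congr 1
    have := H.two_le
    omega
  have hdimR : (Fintype.card (Ix (Rest i) k) : ℤ) = k * A := by
    rw [hA, ← pow_succ', Fintype.card_fun, Fintype.card_fin, Nat.cast_pow]; congr 1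
    have := H.two_le
    omega
  have hdim : (Fintype.card (Ix τ k) : ℤ) = k * (k * A) := by
    rw [← hkA, ← pow_succ', Fintype.card_fun, Fintype.card_fin, Nat.cast_pow]; congr 1
    have := H.two_le
    omega
  have hsrot : ∀ c : Fin k → F, bf J c c ≠ 0 → sig (rot J c) = 2 - (k : ℤ) := fun c hc => by
    rw [sig_rot h hc, Fintype.card_fin]
  have hsW : sig W'.1 = A * (2 - (k : ℤ)) := by
    rw [hW', Units.val_mul, Units.val_mul, sig_conj U.inv_mul, hW, embG_val, rotG,
      sig_embM h2 l (rot_mul_self J hd.1), hsrot d hd.1, hA]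
  have hse' : sig e'.1 = k * A * (2 - (k : ℤ)) := by
    rw [he', Units.val_mul, Units.val_mul, sig_conj g.inv_mul, hlW, embG_val, rotG,
      sig_embM h2 l.1 (rot_mul_self J hd.1), hsrot d hd.1, hkA]
  have hs0 : A * (2 - (k : ℤ)) ≠ 0 := mul_ne_zero hA0.ne' (by omega)
  -- the involution on an admissible line
  have main : ∀ a, ∀ hadm : Adm J f n a,
      Mono W'.1 ∧ TensorWreath.lift i W' ∈ M ∧
        e' * (TensorWreath.lift i W' * embG i (rotG J a hadm.1.1)) =
          TensorWreath.lift i W' * embG i (rotG J a hadm.1.1) * e' ∧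
        ∀ b : Fin k, b.val < n → pieceM J i (f b) e'.1 = W'.1 := by
    intro a hadm
    obtain ⟨Y, hY⟩ : ∃ Y, Y = embG (τ := τ) i (rotG J a hadm.1.1) := ⟨_, rfl⟩
    have hYv : Y.1 = embM i (rot J a) := hY ▸ rfl
    have hYM : Y ∈ M := hY ▸ H.toHyp.emb_rot i hadm.1
    have hYY : Y * Y = 1 := Units.ext (by rw [Units.val_mul, hYv, embM_mul, rot_mul_self J hadm.1.1, embM_one, Units.val_one])
    have hba : ∀ b : Fin k, b.val < n → bf J a (f b) = 0 := fun b hb => by rw [h.bf_comm]; exact hadm.2.1 b hb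
    have hYS : ∀ b : Fin k, b.val < n → Y ∈ comG J i (f b) := fun b hb => by
      rw [mem_comG, hYv, embM_mul, embM_mul]
      congr 1
      rw [rot, Matrix.sub_mul, Matrix.mul_sub, Matrix.smul_mul, Matrix.mul_smul, Matrix.one_mul, Matrix.mul_one,
        pr_mul_perp J (hba b hb), pr_mul_perp J (hadm.2.1 b hb)]
    have hpY : ∀ b : Fin k, ∀ hb : b.val < n, pieceG i (f b) (hfr.ne b) ⟨Y, hYS b hb⟩ = -1 := fun b hb => by
      refine Units.ext (pieceM_eq (hfr.ne b) (hYS b hb) fun y => ?_)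
      rw [hYv, embM_mulVec_iv, rot_perp J (hba b hb), Units.val_neg, Units.val_one, Matrix.neg_mulVec, Matrix.one_mulVec,
        ← neg_one_smul F (f b), iv_smul_right, ← neg_one_smul F y, iv_smul_left]
    obtain ⟨m, hz1, hz2, hz3, hz4⟩ := exists_dihedral hYY he'e'
    obtain ⟨ζ, hζ⟩ : ∃ ζ, ζ = (Y * e') ^ m := ⟨_, rfl⟩
    rw [← hζ] at hz1 hz2 hz3 hz4
    have hζM : ζ ∈ M := hζ ▸ M.pow_mem (M.mul_mem hYM he'M) m
    have hζS : ∀ b : Fin k, b.val < n → ζ ∈ comG J i (f b) := fun b hb =>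
      hζ ▸ (comG J i (f b)).pow_mem ((comG J i (f b)).mul_mem (hYS b hb) (he'S b hb)) m
    have hζa : ζ ∈ comG J i a := mem_comG_of_rot h (by rw [← hYv, ← Units.val_mul, ← Units.val_mul, hz2])
    have hζm := hup a hadm ζ hζM hζS hζa
    have hpζ : ∀ b : Fin k, ∀ hb : b.val < n, pieceG i (f b) (hfr.ne b) ⟨ζ, hζS b hb⟩ =
        (-pieceG i (f b) (hfr.ne b) ⟨e', he'S b hb⟩) ^ m := fun b hb => by
      rw [show (⟨ζ, hζS b hb⟩ : comG J i (f b)) = (⟨Y, hYS b hb⟩ * ⟨e', he'S b hb⟩) ^ m from Subtype.ext hζ,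
        map_pow, map_mul, hpY b hb, neg_one_mul]
    obtain ⟨R, eζ, hR0, hPm⟩ := hf.split_line H.two_le (hfr.ne b₀) (H.toHyp.iso_mem hζM) hζm (hζS b₀ hb₀)
    have hP : pieceM J i (f b₀) ζ.1 = ((-W') ^ m).1 := by
      rw [← pieceG_val (hfr.ne b₀) ⟨ζ, hζS b₀ hb₀⟩, hpζ b₀ hb₀, hp0]
    rw [hP] at eζ hPm
    have hPne : ((-W') ^ m).1 ≠ 0 := fun e0 => by
      have h1 := ((-W') ^ m).mul_inv
      rw [e0, Matrix.zero_mul] at h1
      exact zero_ne_one h1
    have hnW : (-W') * (-W') = 1 := by rw [neg_mul_neg, hW'W']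
    have hPP : ((-W') ^ m).1 * ((-W') ^ m).1 = 1 := by
      rw [← Units.val_mul, ← (Commute.refl (-W')).mul_pow, hnW, one_pow, Units.val_one]
    have hζv : ζ.1 * ζ.1 = 1 := by rw [← Units.val_mul, hz1, Units.val_one]
    have hRR : R * R = 1 := ins_right_injective i (one_ne_zero : (1 : Matrix (Ix (Rest i) k) (Ix (Rest i) k) F) ≠ 0) (by
      rw [ins_one_one, ← hζv, eζ, ins_mul, hPP])
    have hYeq : Y.1 = ins i 1 (rot J a) := by rw [hYv, embM_eq_ins]
    have hcR : rot J a * R = R * rot J a := ins_right_injective i hPne (by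
      have h5 := congrArg Units.val hz2
      rw [Units.val_mul, Units.val_mul, eζ, hYeq, ins_mul, ins_mul, Matrix.one_mul, Matrix.mul_one] at h5
      exact h5)
    have hrr : rot J a * R * (rot J a * R) = 1 := by
      rw [Matrix.mul_assoc, ← Matrix.mul_assoc R, ← hcR, Matrix.mul_assoc (rot J a) R R, hRR, Matrix.mul_one,
        rot_mul_self J hadm.1.1]
    rcases Nat.even_or_odd m with hev | hodd
    · -- impossible
      exfalso
      obtain ⟨m', hm'⟩ := hev
      have hP1 : (-W') ^ m = 1 := by rw [hm', pow_add, ← (Commute.refl (-W')).mul_pow, hnW, one_pow]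
      rw [hP1, Units.val_one] at eζ
      have hRne : R ≠ 1 := fun e => hz4 ⟨m', hm'⟩ (Units.ext (by rw [eζ, e, ins_one_one, Units.val_one]))
      obtain ⟨hd1, hd2⟩ := dihedral_even h2 (e := Y.1) (e' := e'.1) (ζ := ζ.1) (m := m)
        (by rw [← Units.val_mul, hYY, Units.val_one]) he'v hζv
        (by rw [← Units.val_mul, hz2, Units.val_mul]) (by rw [← Units.val_mul, hz3, Units.val_mul])
        (by rw [hζ, Units.val_pow_eq_pow_val, Units.val_mul]) ⟨m', hm'⟩
      rw [eζ, hYeq, ins_mul, Matrix.one_mul, sig_ins h2 i (one_mul 1) hrr,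
        sig_ins h2 i (one_mul 1) (rot_mul_self J hadm.1.1), sig_one h2, hdimR, hsrot a hadm.1.1] at hd1
      have hkA0 : (k : ℤ) * A ≠ 0 := mul_ne_zero (by omega) hA0.ne'
      have hsR := mul_left_cancel₀ hkA0 hd1
      -- dimensions on the line
      have hrR : Module.finrank F (eig (R * rot J a) 1) = 1 := by
        have := sig_add_card h2 hrr
        rw [hsR, Fintype.card_fin] at this
        rw [← hcR]
        omega
      have t1 := finrank_eig_mul h2 (rot_mul_self J hadm.1.1) hcR.symm (1 : F)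
      rw [hrR] at t1
      have t2 := finrank_split_mat h2 (rot_mul_self J hadm.1.1) (eig R (-1)) (eig_stable hcR)
      have t3 := finrank_split_mat h2 hRR (eig (rot J a) 1) (eig_stable hcR.symm)
      rw [finrank_eig_rot h hadm.1.1] at t3
      rw [inf_comm (eig (rot J a) 1) (eig R 1), inf_comm (eig (rot J a) 1) (eig R (-1))] at t3
      rw [inf_comm (eig (rot J a) 1) (eig R 1), inf_comm (eig (rot J a) (-1)) (eig R (-1))] at t1
      have hR2 : Module.finrank F (eig R (-1)) = 2 := by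
        by_contra hne
        apply hRne
        refine eq_one_of_eig h2 hRR ?_
        omega
      have hsigR : sig R = (k : ℤ) - 4 := by
        have := finrank_eig_add h2 hRR
        rw [Fintype.card_fin] at this
        rw [sig, hR2]
        omega
      have hsζ : sig ζ.1 = k * A * ((k : ℤ) - 4) := by
        rw [eζ, sig_ins h2 i (one_mul 1) hRR, sig_one h2, hdimR, hsigR]
      have hcez : e'.1 * ζ.1 = ζ.1 * e'.1 := by rw [← Units.val_mul, hz3, Units.val_mul]
      have u1 := finrank_eig_mul h2 hζv hcez (1 : F)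
      have u2 := finrank_eig_mul h2 hζv hcez (-1 : F)
      rw [neg_neg] at u2
      have u3 := finrank_split_mat h2 hζv (eig e'.1 1) (eig_stable hcez.symm)
      have u4 := finrank_split_mat h2 hζv (eig e'.1 (-1)) (eig_stable hcez.symm)
      have u5 := finrank_split_mat h2 he'v (eig ζ.1 (-1)) (eig_stable hcez)
      rw [inf_comm (eig e'.1 1), inf_comm (eig e'.1 1) (eig ζ.1 (-1))] at u3
      rw [inf_comm (eig e'.1 (-1)), inf_comm (eig e'.1 (-1)) (eig ζ.1 (-1))] at u4
      have u6 := finrank_eig_add h2 hζv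
      have u7 := sig_add_card h2 he'v
      rw [sig] at hd2 hsζ
      rw [hse', hdim] at u7
      have u6' : (Module.finrank F (eig ζ.1 1) : ℤ) + Module.finrank F (eig ζ.1 (-1)) = k * (k * A) := by
        rw [← hdim]; exact_mod_cast u6
      have hzero : Module.finrank F ↥(eig ζ.1 1 ⊓ eig e'.1 1) = 0 := by
        rw [sig, u1, u2, ← u3, ← u4] at hd2
        have hh : (k : ℤ) * A * ((k : ℤ) - 4) = (k : ℤ) * (k * A) - 4 * (k * A) := by ring
        have hh' : (k : ℤ) * A * (2 - k) = 2 * (k * A) - k * (k * A) := by ring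
        rw [hh] at hsζ
        rw [hh'] at u7
        generalize (k : ℤ) * (k * A) = D at hsζ u7 u6'
        generalize (k : ℤ) * A = B at hsζ u7
        omega
      obtain ⟨y, hy, hy0⟩ : ∃ y ∈ eig W'.1 1, y ≠ 0 := by
        refine Submodule.exists_mem_ne_zero_of_ne_bot fun e => ?_
        have h5 := sig_add_card h2 hW'v
        rw [e, finrank_bot, hsW, hdimR] at h5
        have : (2 : ℤ) * A = 0 := by
          push_cast at h5
          linear_combination h5
        omega
      have hmem : iv i y (f b₀) ∈ eig ζ.1 1 ⊓ eig e'.1 1 := by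
        refine ⟨?_, ?_⟩
        · rw [SetLike.mem_coe, mem_eig, eζ, ins_mulVec_iv, Matrix.one_mulVec, hR0, one_smul]
        · rw [SetLike.mem_coe, mem_eig, pieceM_mulVec (hfr.ne b₀) (he'S b₀ hb₀),
            ← pieceG_val (hfr.ne b₀) ⟨e', he'S b₀ hb₀⟩, hp0, mem_eig.1 hy, one_smul, one_smul]
      rw [Submodule.finrank_eq_zero.1 hzero, Submodule.mem_bot] at hmem
      exact hy0 (iv_left_injective i (hfr.ne b₀) (hmem.trans (iv_zero_left i _).symm))
    · -- the odd case
      obtain ⟨m', hm'⟩ := hodd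
      have hP1 : (-W') ^ m = -W' := by
        rw [hm', pow_succ, two_mul, pow_add, ← (Commute.refl (-W')).mul_pow, hnW, one_pow, one_mul]
      rw [hP1] at eζ hPm
      have hd1 := dihedral_odd h2 (e := Y.1) (e' := e'.1) (ζ := ζ.1) (m := m)
        (by rw [← Units.val_mul, hYY, Units.val_one]) he'v hζv
        (by rw [← Units.val_mul, hz2, Units.val_mul]) (by rw [← Units.val_mul, hz3, Units.val_mul])
        (by rw [hζ, Units.val_pow_eq_pow_val, Units.val_mul]) ⟨m', hm'⟩
      rw [hse', eζ, hYeq, ins_mul, Matrix.one_mul, sig_ins h2 i (by rw [← Units.val_mul, hnW, Units.val_one]) hrr,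
        Units.val_neg, sig_neg, hsW] at hd1
      have hsR : sig (rot J a * R) = -(k : ℤ) := mul_left_cancel₀ hs0 (by linear_combination hd1)
      have hneg : rot J a * R = -1 := by
        have h5 := sig_add_card h2 hrr
        rw [hsR, Fintype.card_fin] at h5
        have h6 : -(rot J a * R) = 1 := eq_one_of_eig h2 (by rw [neg_mul_neg, hrr]) (by
          rw [eig_neg, neg_neg]
          omega)
        rw [← h6, neg_neg]
      have eR : R = -rot J a := by
        rw [← Matrix.one_mul R, ← rot_mul_self J hadm.1.1, Matrix.mul_assoc, hneg, Matrix.mul_neg, Matrix.mul_one]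
      have eζ' : ζ = TensorWreath.lift i W' * Y := Units.ext (by
        rw [eζ, eR, Units.val_mul, lift_val, hYeq, ins_mul, Matrix.mul_one, Matrix.one_mul, Units.val_neg,
          ← neg_one_smul F W'.1, ← neg_one_smul F (rot J a), ins_smul_left, ins_smul_right, smul_smul, neg_mul_neg,
          one_mul, one_smul])
      refine ⟨?_, ?_, ?_, fun b hb => ?_⟩
      · rw [← neg_neg W'.1, ← Units.val_neg, ← neg_one_smul F ((-W').1)]
        exact mono_smul hPm (-1)
      · rw [show TensorWreath.lift i W' = ζ * Y by rw [eζ', mul_assoc, hYY, mul_one]]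
        exact M.mul_mem hζM hYM
      · rw [← hY, ← eζ']; exact hz3
      · have h5 : pieceM J i (f b) ζ.1 = -W'.1 := pieceM_eq (hfr.ne b) (hζS b hb) fun y => by
          rw [eζ, ins_mulVec_iv, eR, Matrix.neg_mulVec, rot_perp J (hba b hb), neg_neg, Units.val_neg]
        have h6 := hpζ b hb
        rw [hm', pow_succ, two_mul, pow_add,
          ← (Commute.refl (-pieceG i (f b) (hfr.ne b) ⟨e', he'S b hb⟩)).mul_pow] at h6
        have h7 : (-pieceG i (f b) (hfr.ne b) ⟨e', he'S b hb⟩) * (-pieceG i (f b) (hfr.ne b) ⟨e', he'S b hb⟩) = 1 := by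
          rw [neg_mul_neg, ← map_mul,
            show (⟨e', he'S b hb⟩ * ⟨e', he'S b hb⟩ : comG J i (f b)) = 1 from Subtype.ext he'e', map_one]
        rw [h7, one_pow, one_mul] at h6
        have h8 := congrArg Units.val h6
        rw [pieceG_val, h5, Units.val_neg, pieceG_val, neg_inj] at h8
        exact h8.symm
  -- the conjugate
  obtain ⟨pn, hpn⟩ : ∃ p : Fin k, p.val = n := ⟨⟨n, by omega⟩, rfl⟩
  have fin : ∀ R : Matrix (Fin k) (Fin k) F, e'.1 = ins i W'.1 R → R *ᵥ f b₀ = f b₀ →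
      e' = TensorWreath.lift i W' := by
    intro R eR _
    have hRR : R * R = 1 := ins_right_injective i (one_ne_zero : (1 : Matrix (Ix (Rest i) k) (Ix (Rest i) k) F) ≠ 0) (by
      rw [ins_one_one, ← he'v, eR, ins_mul, hW'v])
    have h5 := hse'
    rw [eR, sig_ins h2 i hW'v hRR, hsW] at h5
    have hs : sig R = k := mul_left_cancel₀ hs0 (by linear_combination h5)
    have h6 := finrank_eig_add h2 hRR
    rw [sig] at hs
    rw [Fintype.card_fin] at h6
    have : R = 1 := eq_one_of_eig h2 hRR (by omega)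
    exact Units.ext (by rw [eR, this, lift_val])
  rcases (show n + 2 = k ∨ n + 3 ≤ k by omega) with hnk | hnk
  · -- a plane is left
    have hadm : ∀ a, Good J a → (∀ b : Fin k, b.val < n → bf J (f b) a = 0) → Adm J f n a :=
      fun a ha hao => ⟨ha, hao, fun e => absurd e (by omega)⟩
    have ho : ∀ b : Fin k, b.val < n → bf J (f b) (f pn) = 0 := fun b hb =>
      hfr.ob.orth _ _ fun e => by rw [e] at hb; omega
    obtain ⟨hWm, hWmem, -, hpc⟩ := main (f pn) (hadm _ (hfr.good pn) ho)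
    refine ⟨hWm, ?_⟩
    obtain ⟨q, hq⟩ : ∃ q, q = e' * TensorWreath.lift i W' := ⟨_, rfl⟩
    obtain ⟨R, hR⟩ := H.plane_eq hfr hnk hn1 (hfr.good pn) ho (hlk hnk)
      (fun g' h1 h2 h3 => hup _ (hadm _ (hfr.good pn) ho) g' h1 h2 h3) (q := q) (hq ▸ M.mul_mem he'M hWmem)
      (fun b hb => by
        have h5 := piece_mul_pr (hfr.ne b) (he'S b hb)
        rw [hpc b hb] at h5
        have h6 := mem_comG.1 (lift_comG (J := J) i (f b) W')
        rw [lift_val] at h6
        constructor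
        · rw [hq, Units.val_mul, Matrix.mul_assoc, lift_val, h6, ← Matrix.mul_assoc, h5, Matrix.mul_assoc, ← h6,
            ← Matrix.mul_assoc, ins_mul, hW'v, Matrix.one_mul, ins_one_one, Matrix.one_mul]
        · rw [hq, Units.val_mul, ← Matrix.mul_assoc, ← mem_comG.1 (he'S b hb), h5, lift_val, Matrix.mul_assoc, ← h6,
            ← Matrix.mul_assoc, ins_mul, hW'v, Matrix.one_mul, ins_one_one, Matrix.one_mul])
      (fun x y hx hy hxo hyo => by
        obtain ⟨-, -, cx, -⟩ := main x (hadm x hx hxo)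
        obtain ⟨-, -, cy, -⟩ := main y (hadm y hy hyo)
        have hc : ∀ c : GL (Fin k) F, TensorWreath.lift i W' * embG i c = embG i c * TensorWreath.lift i W' := fun c =>
          Units.ext (by rw [Units.val_mul, Units.val_mul, lift_val, embG_val, cen_ins_one i W'.1 c.1])
        obtain ⟨L, hL⟩ : ∃ L, L = TensorWreath.lift i W' := ⟨_, rfl⟩
        have hLL : L * L = 1 := by rw [hL, ← map_mul, hW'W', map_one]
        rw [← hL] at cx cy hc hq
        have e1 : L * embG i (rotG J x hx.1) * (L * embG i (rotG J y hy.1)) =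
            embG i (rotG J x hx.1 * rotG J y hy.1) := by
          rw [← mul_assoc, mul_assoc L (embG i (rotG J x hx.1)) L, ← hc (rotG J x hx.1), ← mul_assoc, hLL, one_mul, map_mul]
        have e2 : e' * embG i (rotG J x hx.1 * rotG J y hy.1) = embG i (rotG J x hx.1 * rotG J y hy.1) * e' := by
          rw [← e1, ← mul_assoc, cx, mul_assoc, cy, ← mul_assoc]
        have e3 : q * embG i (rotG J x hx.1 * rotG J y hy.1) = embG i (rotG J x hx.1 * rotG J y hy.1) * q := by
          rw [hq, mul_assoc, hc, ← mul_assoc, e2, mul_assoc]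
        exact congrArg Units.val e3)
    have eR : e'.1 = ins i W'.1 R := by
      rw [show e' = q * TensorWreath.lift i W' by rw [hq, mul_assoc, ← map_mul, hW'W', map_one, mul_one],
        Units.val_mul, hR, lift_val, embM_eq_ins, ins_mul, Matrix.one_mul, Matrix.mul_one]
    refine fin R eR (iv_right_injective i (y := fun _ => (1 : F))
      (fun e0 => one_ne_zero (congrFun e0 fun _ => (0 : Fin k))) ?_)
    have h5 := piece_mul_pr (hfr.ne b₀) (he'S b₀ hb₀)
    rw [hpc b₀ hb₀] at h5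
    have h7 := congrArg (· *ᵥ iv i ((W'⁻¹).1 *ᵥ fun _ => (1 : F)) (f b₀)) h5
    simp only [eR, ← Matrix.mulVec_mulVec, embM_mulVec_iv, pr_self J (hfr.ne b₀), ins_mulVec_iv] at h7
    simp only [Matrix.mulVec_mulVec, W'.mul_inv, Matrix.one_mulVec] at h7
    exact h7
  · -- three lines are left
    obtain ⟨q₁, hq₁⟩ : ∃ p : Fin k, p.val = n + 1 := ⟨⟨n + 1, by omega⟩, rfl⟩
    obtain ⟨q₂, hq₂⟩ : ∃ p : Fin k, p.val = n + 2 := ⟨⟨n + 2, by omega⟩, rfl⟩
    obtain ⟨f', hfr', hf', a1, a2, a3⟩ := hf.exists_adm hfr hpn hq₁ hq₂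
    obtain ⟨hWm, -, c1, -⟩ := main _ a1
    obtain ⟨-, -, c2, -⟩ := main _ a2
    obtain ⟨-, -, c3, -⟩ := main _ a3
    refine ⟨hWm, ?_⟩
    have comb : ∀ x y (hx : bf J x x ≠ 0) (hy : bf J y y ≠ 0),
        e' * (TensorWreath.lift i W' * embG i (rotG J x hx)) = TensorWreath.lift i W' * embG i (rotG J x hx) * e' →
        e' * (TensorWreath.lift i W' * embG i (rotG J y hy)) = TensorWreath.lift i W' * embG i (rotG J y hy) * e' →
        e'.1 * embM i (rot J x * rot J y) = embM i (rot J x * rot J y) * e'.1 := by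
      intro x y hx hy cx cy
      have hc : ∀ c : GL (Fin k) F, TensorWreath.lift i W' * embG i c = embG i c * TensorWreath.lift i W' := fun c =>
        Units.ext (by rw [Units.val_mul, Units.val_mul, lift_val, embG_val, cen_ins_one i W'.1 c.1])
      obtain ⟨L, hL⟩ : ∃ L, L = TensorWreath.lift i W' := ⟨_, rfl⟩
      have hLL : L * L = 1 := by rw [hL, ← map_mul, hW'W', map_one]
      rw [← hL] at cx cy hc
      have e1 : L * embG i (rotG J x hx) * (L * embG i (rotG J y hy)) = embG i (rotG J x hx * rotG J y hy) := by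
        rw [← mul_assoc, mul_assoc L (embG i (rotG J x hx)) L, ← hc (rotG J x hx), ← mul_assoc, hLL, one_mul, map_mul]
      have e2 : e' * embG i (rotG J x hx * rotG J y hy) = embG i (rotG J x hx * rotG J y hy) * e' := by
        rw [← e1, ← mul_assoc, cx, mul_assoc, cy, ← mul_assoc]
      exact congrArg Units.val e2
    have d12 := comb _ _ _ _ c1 c2
    have d13 := comb _ _ _ _ c1 c3
    have hpr : (4 : F) • pr J (f' pn) = (1 - rot J (f' pn) * rot J (f' q₁)) * (1 - rot J (f' pn) * rot J (f' q₂)) := by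
      have n1 : pn ≠ q₁ := fun e => by rw [e] at hpn; omega
      have n2 : pn ≠ q₂ := fun e => by rw [e] at hpn; omega
      have n3 : q₁ ≠ q₂ := fun e => by rw [e] at hq₁; omega
      have sgn : ∀ p r, p ≠ r → ∀ c, (rot J (f' p) * rot J (f' r)) *ᵥ f' c =
          if c = p ∨ c = r then -f' c else f' c := by
        intro p r hpr c
        rw [← Matrix.mulVec_mulVec, hfr'.ob.rot_apply]
        by_cases hcr : r = c
        · subst hcr
          rw [if_pos rfl, hfr'.ob.rot_apply, if_neg hpr, if_pos (Or.inr rfl)]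
        · rw [if_neg hcr, Matrix.mulVec_neg, hfr'.ob.rot_apply]
          by_cases hcp : p = c
          · subst hcp; rw [if_pos rfl, if_pos (Or.inl rfl)]
          · rw [if_neg hcp, neg_neg, if_neg (by rintro (e | e); exacts [hcp e.symm, hcr e.symm])]
      refine hfr'.ob.ext fun c => ?_
      rw [Matrix.smul_mulVec, hfr'.ob.pr_apply, ← Matrix.mulVec_mulVec, Matrix.sub_mulVec 1 (rot J _ * rot J (f' q₂)),
        Matrix.one_mulVec, sgn _ _ n2 c]
      by_cases h1 : c = pn
      · subst h1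
        rw [if_pos rfl, if_pos (Or.inl rfl), sub_neg_eq_add, Matrix.mulVec_add, Matrix.sub_mulVec, Matrix.one_mulVec,
          sgn _ _ n1, if_pos (Or.inl rfl), sub_neg_eq_add]
        module
      · rw [if_neg (Ne.symm h1), smul_zero]
        by_cases h3 : c = q₂
        · subst h3
          rw [if_pos (Or.inr rfl), sub_neg_eq_add, Matrix.mulVec_add, Matrix.sub_mulVec, Matrix.one_mulVec,
            sgn _ _ n1, if_neg (by rintro (e | e); exacts [h1 e, n3 e.symm]), sub_self, add_zero]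
        · rw [if_neg (by rintro (e | e); exacts [h1 e, h3 e]), sub_self, Matrix.mulVec_zero]
    have hcp : e' ∈ comG J i (f' pn) := by
      have h4 : (4 : F) ≠ 0 := by rw [show (4 : F) = 2 * 2 by norm_num]; exact mul_ne_zero h2 h2
      rw [mem_comG]
      refine smul_right_injective _ h4 ?_
      dsimp only
      rw [← Matrix.mul_smul, ← Matrix.smul_mul, ← embM_smul, hpr, ← embM_mul, embM_sub, embM_sub, embM_one]
      exact (((Commute.one_right e'.1).sub_right d12).mul_right ((Commute.one_right e'.1).sub_right d13)).eq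
    have hm := hup _ a1 e' he'M he'S hcp
    obtain ⟨R, eR, hR0, -⟩ := hf.split_line H.two_le (hfr.ne b₀) (H.toHyp.iso_mem he'M) hm (he'S b₀ hb₀)
    rw [← pieceG_val (hfr.ne b₀) ⟨e', he'S b₀ hb₀⟩, hp0] at eR
    exact fin R eR hR0

set_option maxHeartbeats 800000 in
/-- One step of the descent. -/
theorem descent_step [NeZero k] {i : τ} {f : Fin k → Fin k → F} (hfr : Fr J f) {n : ℕ} (hn1 : 1 ≤ n) (hn2 : n + 2 ≤ k)
    (hlk : n + 2 = k → Even k → Linked J f n)
    (hup : ∀ a, Adm J f n a → ∀ g ∈ M, (∀ b : Fin k, b.val < n → g ∈ comG J i (f b)) → g ∈ comG J i a → Mono g.1)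
    {g : GL (Ix τ k) F} (hg : g ∈ M) (hgS : ∀ b : Fin k, b.val < n → g ∈ comG J i (f b)) : Mono g.1 := by
  classical
  have hf := H.fac
  have h := hf.frm
  have hk3 := hf.three
  haveI := H.rest_nonempty i
  obtain ⟨b₀, hb₀⟩ : ∃ b : Fin k, b.val < n := ⟨⟨0, by omega⟩, hn1⟩
  obtain ⟨CS, hCS⟩ : ∃ CS : Subgroup (GL (Ix τ k) F), ∀ x, x ∈ CS ↔ x ∈ M ∧ ∀ b : Fin k, b.val < n → x ∈ comG J i (f b) :=
    ⟨M ⊓ ⨅ b : Fin k, ⨅ _ : b.val < n, comG J i (f b), fun x => by simp only [Subgroup.mem_inf, Subgroup.mem_iInf]⟩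
  have hsub : CS ≤ comG J i (f b₀) := fun x hx => ((hCS x).1 hx).2 b₀ hb₀
  obtain ⟨pc, hpc⟩ : ∃ pc : CS →* GL (Ix (Rest i) k) F,
      pc = (pieceG i (f b₀) (hfr.ne b₀)).comp (Subgroup.inclusion hsub) := ⟨_, rfl⟩
  have conj : ∀ (x : CS) (l : Rest i) (d : Fin k → F) (hd : Good J d),
      Mono (pc x * embG l (rotG J d hd.1) * (pc x)⁻¹).1 ∧
        x.1 * TensorWreath.lift i (embG l (rotG J d hd.1)) * x.1⁻¹ =
          TensorWreath.lift i (pc x * embG l (rotG J d hd.1) * (pc x)⁻¹) := fun x l d hd =>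
    H.conj_other hfr hn1 hn2 hlk hup ((hCS x.1).1 x.2).1 ((hCS x.1).1 x.2).2 hb₀ l hd (by rw [hpc]; rfl)
  obtain ⟨x₀, hx₀⟩ : ∃ x : CS, x.1 = g := ⟨⟨g, (hCS g).2 ⟨hg, hgS⟩⟩, rfl⟩
  have hu : pc x₀ ∈ iso (JJ J (Rest i)) := by
    rw [hpc]; exact pieceG_iso h (hfr.ne b₀) (H.toHyp.iso_mem ((hCS x₀.1).1 x₀.2).1)
  -- the piece is monomial
  have hum : Mono (pc x₀).1 := by
    rcases (show Fintype.card τ = 2 ∨ 3 ≤ Fintype.card τ by have := H.two_le; omega) with h2 | h3
    · exact mono_of_card_one (by rw [Fintype.card_subtype_compl, Fintype.card_subtype_eq, h2]) _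
    have hlift : ∀ x, TensorWreath.lift i x ∈ M → ∃ y : CS, pc y = x := fun x hx =>
      ⟨⟨_, (hCS _).2 ⟨hx, fun b _ => lift_comG i _ x⟩⟩, by rw [hpc]; exact pieceG_lift i (hfr.ne b₀) x⟩
    obtain ⟨K, hK⟩ : ∃ K, K = pc.range ⊓ amb J (Rest i) := ⟨_, rfl⟩
    have HK : Hyp J K := ⟨hf, hK ▸ inf_le_right, fun x hx hm => by
        rw [hK]; exact ⟨hlift x (H.toHyp.lift_mem i hx hm), om_le_amb hx⟩,
      fun hk j R hR => by
        rw [hK]
        have hd := (H.toHyp.down i).even hk j R hR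
        exact ⟨hlift _ hd.1, hd.2⟩⟩
    rcases H.low i K HK with hm | hfull
    · refine hf.mono_of_normalise hu fun x hx hxm => hm _ ?_
      rw [hK]
      obtain ⟨y, hy⟩ := hlift x (H.toHyp.lift_mem i hx hxm)
      exact ⟨⟨x₀ * y * x₀⁻¹, by rw [map_mul, map_mul, map_inv, hy]⟩, om_le_amb ((conj_om (iso_conj hu)).1 x hx)⟩
    exfalso
    obtain ⟨j⟩ := H.rest_nonempty i
    obtain ⟨o', ho'⟩ : ∃ o' : Rest i, o' ≠ j := Fintype.exists_ne_of_one_lt_card (by
      rw [Fintype.card_subtype_compl, Fintype.card_subtype_eq]; omega) j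
    obtain ⟨o, -⟩ : ∃ o : Rest j, o.1 = o' := ⟨⟨o', ho'⟩, rfl⟩
    haveI : Nonempty (Rest j) := ⟨o⟩
    obtain ⟨d, hd⟩ := h.exists_good (A := J) (by rw [Fintype.card_fin]; omega)
    obtain ⟨Γ, memΓ⟩ : ∃ Γ : Subgroup (GL (Ix (Rest i) k) F), ∀ w, w ∈ Γ ↔
        w ∈ iso (JJ J (Rest i)) ∧ ∀ x ∈ Om (JJ J (Rest i)), Mono (x * w * x⁻¹).1 :=
      ⟨iso (JJ J (Rest i)) ⊓ ⨅ x : Om (JJ J (Rest i)), (monoGroup F (Rest i) k).comap (MulAut.conj x.1).toMonoidHom,
        fun w => by
          rw [Subgroup.mem_inf, Subgroup.mem_iInf]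
          exact and_congr_right fun _ => ⟨fun hw x hx => hw ⟨x, hx⟩, fun hw x => hw x.1 x.2⟩⟩
    have hle : Lc (JJ J (Rest i)) ≤ Γ := by
      refine hf.core_pow.simp Γ (fun w hw => ((memΓ w).1 hw).1) (fun z hz w hw => ?_)
        ⟨embG j (rotG J d hd.1), (memΓ _).2 ⟨embG_iso h j (h.rotG_mem hd.1), fun x hx => ?_⟩,
          fun c e => hf.rot_not_scalar hd.1 c (hf.scalar_emb e)⟩
      · obtain ⟨hw1, hw2⟩ := (memΓ w).1 hw
        have hzi := om_le _ (lc_le _ hz)
        refine (memΓ _).2 ⟨iso_conj hzi w hw1, fun x hx => ?_⟩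
        rw [show x * (z * w * z⁻¹) * x⁻¹ = (x * z) * w * (x * z)⁻¹ by group]
        exact hw2 _ ((Om _).mul_mem hx (lc_le _ hz))
      · have := hfull hx
        rw [hK] at this
        obtain ⟨⟨y, rfl⟩, -⟩ := this
        exact (conj y j d hd).1
    obtain ⟨c₀, hc₀⟩ := h.exists_good (A := J) (by rw [Fintype.card_fin]; omega)
    obtain ⟨w, hw, hwg, -, -⟩ := h.exists_frame_eq hc₀ (Fintype.card_fin k) (by omega)
    obtain ⟨p, hp⟩ : ∃ p : Fin k, p.val = 0 := ⟨⟨0, by omega⟩, rfl⟩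
    obtain ⟨p', hp'⟩ : ∃ p : Fin k, p.val = 1 := ⟨⟨1, by omega⟩, rfl⟩
    have hpp : p' ≠ p := fun e => by rw [e] at hp'; omega
    obtain ⟨m, hm, hms⟩ := hf.exists_nonscal
    obtain ⟨T, hT⟩ : ∃ T, T = eHom (J := J) j (w p) (hw.aniso p) (embG o m) := ⟨_, rfl⟩
    have hTL : T ∈ Lc (JJ J (Rest i)) := by
      have h1 : (Om (JJ J (Rest j))).map (eHom (J := J) j (w p) (hw.aniso p)) ≤ Om (JJ J (Rest i)) := by
        rintro _ ⟨z, hz, rfl⟩
        exact eHom_om h j (hw.aniso p) hz
      have h2 := Subgroup.mem_map_of_mem (eHom (J := J) j (w p) (hw.aniso p)) (hf.embG_lc o hm)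
      rw [Lc, Subgroup.map_commutator] at h2
      exact hT ▸ Subgroup.commutator_mono h1 h1 h2
    have hTm : Mono T.1 := by
      have h5 := ((memΓ T).1 (hle hTL)).2 1 (Subgroup.one_mem _)
      simpa using h5
    have hTc : ∀ r, T ∈ comG J j (w r) := by
      intro r
      rw [mem_comG, hT, eHom_val, Ea, embM_eq_ins, Matrix.add_mul, Matrix.mul_add, ins_mul, ins_mul, ins_mul,
        ins_mul, Matrix.sub_mul, Matrix.mul_sub, Matrix.one_mul, Matrix.mul_one]
      rcases eq_or_ne p r with rfl | hne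
      · simp only [Matrix.one_mul, Matrix.mul_one]
      · rw [pr_mul_perp J (hw.orth p r hne), pr_mul_perp J (hw.orth r p hne.symm)]
        simp only [Matrix.one_mul, Matrix.mul_one]
    obtain ⟨A, cs, -, hA⟩ := pieces_prop_of_mono hf hw hwg (om_le _ (lc_le _ hTL)) hTm hTc
    have e0 : pieceM J j (w p) T.1 = embM o m.1 := pieceM_eq (hw.aniso p) (hTc p) fun y => by
      rw [hT, eHom_val, Ea_mulVec, embG_val, inv_mul_cancel₀ (hw.aniso p), one_smul, ← iv_add_left, add_sub_cancel]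
    have e1 : pieceM J j (w p') T.1 = 1 := pieceM_eq (hw.aniso p') (hTc p') fun y => by
      rw [hT, eHom_val, Ea_mulVec, hw.orth p p' hpp.symm, mul_zero, zero_smul, add_zero, Matrix.one_mulVec]
    obtain ⟨-, f0⟩ := hA p
    obtain ⟨hc1, f1⟩ := hA p'
    rw [e0] at f0
    rw [e1] at f1
    refine hms (cs p * (cs p')⁻¹) (hf.scalar_emb (j := o) ?_)
    rw [f0, mul_smul]
    congr 1
    rw [f1, smul_smul, inv_mul_cancel₀ hc1, one_smul]
  -- the rest is in the factor
  obtain ⟨X, hX⟩ : ∃ X, X = (TensorWreath.lift i (pc x₀))⁻¹ * g := ⟨_, rfl⟩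
  have hcen : ∀ l : τ, l ≠ i → Cen l X.1 := by
    intro l hl
    refine cen_of_comm (S := {b | ∃ d, Good J d ∧ b = rot J d}) (fun Y hY => hf.scalar_rot fun d hd => hY _ ⟨d, hd, rfl⟩)
      ?_
    rintro _ ⟨d, hd, rfl⟩
    have hc := (conj x₀ ⟨l, hl⟩ d hd).2
    rw [hx₀, map_mul, map_mul, map_inv] at hc
    have hlW : TensorWreath.lift i (embG (⟨l, hl⟩ : Rest i) (rotG J d hd.1)) = embG l (rotG J d hd.1) :=
      Units.ext (by rw [lift_val, embG_val, embG_val, ins_embM])
    rw [hlW] at hc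
    have e : X * embG l (rotG J d hd.1) = embG l (rotG J d hd.1) * X := by
      rw [hX]
      calc (TensorWreath.lift i (pc x₀))⁻¹ * g * embG l (rotG J d hd.1)
          = (TensorWreath.lift i (pc x₀))⁻¹ * (g * embG l (rotG J d hd.1) * g⁻¹) * g := by group
        _ = _ := by rw [hc]; group
    exact congrArg Units.val e
  obtain ⟨R, hR⟩ := eq_embM_of_cen i hcen
  have eg : g.1 = ins i (pc x₀).1 R := by
    rw [show g = TensorWreath.lift i (pc x₀) * X by rw [hX, mul_inv_cancel_left], Units.val_mul, hR, lift_val,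
      embM_eq_ins, ins_mul, Matrix.one_mul, Matrix.mul_one]
  rw [eg]
  exact mono_ins_pure hum R

/-- The elements commuting with the rotation on a good line are monomial. -/
theorem cent_mono [NeZero k] {i : τ} {c : Fin k → F} (hc : Good J c) {g : GL (Ix τ k) F} (hg : g ∈ M)
    (hgc : g ∈ comG J i c) : Mono g.1 := by
  classical
  have hf := H.fac
  have hk3 := hf.three
  have key : ∀ j n, n + j = k → 1 ≤ n → ∀ f, Fr J f → (n + 2 = k → Even k → Linked J f n) →
      ∀ g ∈ M, (∀ b : Fin k, b.val < n → g ∈ comG J i (f b)) → Mono g.1 := by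
    intro j
    induction j with
    | zero =>
      intro n hn _ f hfr _ g hg hgS
      exact H.frame_mono (i := i) hfr (mem_cF.2 ⟨hg, fun b => hgS b (by have := b.isLt; omega)⟩)
    | succ j ih =>
      intro n hn hn1 f hfr hlk g hg hgS
      rcases Nat.eq_zero_or_pos j with rfl | hj
      · -- the last line
        refine H.frame_mono (i := i) hfr (mem_cF.2 ⟨hg, fun b => ?_⟩)
        by_cases hb : b.val < n
        · exact hgS b hb
        have e : pr J (f b) = 1 - ∑ c ∈ Finset.univ.erase b, pr J (f c) := by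
          rw [← hfr.ob.sum_pr, ← Finset.add_sum_erase _ _ (Finset.mem_univ b), add_sub_cancel_right]
        rw [mem_comG, e, embM_sub, embM_one, embM_sum, Matrix.mul_sub, Matrix.sub_mul, Matrix.mul_one, Matrix.one_mul,
          Finset.mul_sum, Finset.sum_mul]
        congr 1
        refine Finset.sum_congr rfl fun c hc => ?_
        have hcb : c.val ≠ b.val := fun e => Finset.ne_of_mem_erase hc (Fin.ext e)
        exact hgS c (by have := c.isLt; have := b.isLt; omega)
      refine H.descent_step hfr hn1 (by omega) hlk (fun a ha g' hg' hg'S hg'a => ?_) hg hgS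
      obtain ⟨p, hp⟩ : ∃ p : Fin k, p.val = n := ⟨⟨n, by omega⟩, rfl⟩
      obtain ⟨f', hfr', hf', hfa⟩ := hf.exists_extend hfr (p := p) ha.1 (fun b hb => ha.2.1 b (hp ▸ hb))
      refine ih (n + 1) (by omega) (by omega) f' hfr' (fun h1 h2 => ?_) g' hg' (fun b hb => ?_)
      · obtain ⟨x, y, hx, hy, hxo, hyo, hax, hay, hxy, hne⟩ := ha.2.2 h1 h2
        refine ⟨x, y, hx, hy, fun b hb => ?_, fun b hb => ?_, hxy, hne⟩
        · rcases (show b.val < n ∨ b = p by rcases Nat.lt_or_ge b.val n with h' | h'; exacts [Or.inl h', Or.inr (Fin.ext (by omega))]) with h' | rfl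
          · rw [hf' b (by omega)]; exact hxo b h'
          · rw [hfa]; exact hax
        · rcases (show b.val < n ∨ b = p by rcases Nat.lt_or_ge b.val n with h' | h'; exacts [Or.inl h', Or.inr (Fin.ext (by omega))]) with h' | rfl
          · rw [hf' b (by omega)]; exact hyo b h'
          · rw [hfa]; exact hay
      · rcases (show b.val < n ∨ b = p by rcases Nat.lt_or_ge b.val n with h' | h'; exacts [Or.inl h', Or.inr (Fin.ext (by omega))]) with h' | rfl
        · rw [hf' b (by omega)]; exact hg'S b h'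
        · rw [hfa]; exact hg'a
  obtain ⟨p, hp⟩ : ∃ p : Fin k, p.val = 0 := ⟨⟨0, by omega⟩, rfl⟩
  obtain ⟨f, hfr, hf'⟩ := hf.exists_frame_on {p} (fun _ => c)
    (fun u hu v hv hne => absurd ((Finset.mem_singleton.1 hu).trans (Finset.mem_singleton.1 hv).symm) hne)
    (fun _ _ => hc)
  refine key (k - 1) 1 (by omega) le_rfl f hfr (fun h1 h2 => ?_) g hg (fun b hb => ?_)
  · exfalso; rcases h2 with ⟨t, ht⟩; omega
  · rw [show b = p from Fin.ext (by omega), hf' p (Finset.mem_singleton_self p)]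
    exact hgc

end Ctx

end CfsgLib.Classical.TensorWreathOrth
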