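import Cfsg.Agent.Lib.Classical.TensorWreathOrth.Proj
import Cfsg.Agent.Lib.Classical.OrthSpinor
import Cfsg.Agent.Lib.Classical.TensorOrth.Main

set_option autoImplicit false
set_option linter.unusedSectionVars false

/-!
Which isometries diagonal in an orthogonal basis lie in the commutator group of the isometry group, and the
consequences for rotations and reflections at one factor of a tensor power.
-/

namespace CfsgLib.Classical.TensorWreathOrth

open Matrix CfsgLib.Classical.TensorWreath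
open CfsgLib.Orth (IsRefl)
open CfsgLib.Classical.TensorOrth (Gram exists_form)
open scoped MatrixGroups

variable {F : Type*} [Field F] [Finite F] {γ : Type} [Fintype γ] [DecidableEq γ]

omit [Finite F] in
theorem isSquare_mul_sq {x d : F} (hd : d ≠ 0) : IsSquare (x * (d * d)) ↔ IsSquare x := by
  constructor
  · rintro ⟨y, hy⟩
    exact ⟨y * d⁻¹, by field_simp; linear_combination hy⟩
  · rintro ⟨y, hy⟩
    exact ⟨y * d, by rw [hy]; ring⟩

omit [Finite F] in
theorem isSquare_pow_odd {x : F} (hx : x ≠ 0) {n : ℕ} (hn : Odd n) : IsSquare (x ^ n) ↔ IsSquare x := by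
  obtain ⟨r, rfl⟩ := hn
  rw [pow_succ, pow_mul, mul_comm, show (x ^ 2) ^ r = x ^ r * x ^ r by ring, isSquare_mul_sq (pow_ne_zero _ hx)]

theorem mem_Om_iff_omega {Q : QuadraticForm F (γ → F)} {A : Matrix γ γ F} (g : Gram Q A)
    (x : CfsgLib.Orth.Grp Q) : (x : GL γ F) ∈ Om A ↔ x ∈ Cfsg.Omega F ⇑Q := by
  rw [← omegaGL_eq g, Cfsg.Geo.omegaGL]
  exact Subgroup.mem_map_iff_mem (Subgroup.subtype_injective _)

theorem grp_mem {Q : QuadraticForm F (γ → F)} {A : Matrix γ γ F} (g : Gram Q A) (x : CfsgLib.Orth.Grp Q) :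
    (x : GL γ F) ∈ iso A := g.sp_grp x

theorem exists_gram {A : Matrix γ γ F} (h : Frm A) :
    ∃ Q : QuadraticForm F (γ → F), Gram Q A ∧ ∀ x, 2 * Q x = bf A x x := by
  obtain ⟨Q, hQ, -⟩ := exists_form h.two h.symm h.det
  exact ⟨Q, hQ, fun x => (hQ.self x).symm⟩

omit [Finite F] in
theorem refl_val {Q : QuadraticForm F (γ → F)} {A : Matrix γ γ F} (g : Gram Q A) {u : γ → F}
    {r : CfsgLib.Orth.Grp Q} (hr : IsRefl u r) : (r : GL γ F).1 = -rot A u := by
  refine Matrix.ext_iff_mulVec.2 fun x => ?_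
  show CfsgLib.Orth.ap r x = _
  rw [hr.2, rot, neg_sub, Matrix.sub_mulVec, Matrix.one_mulVec, Matrix.smul_mulVec, pr_mulVec, ← g.dot_polar,
    bf, bf, g.self, smul_smul]
  congr 2
  have := hr.1
  have := g.two
  field_simp

omit [Finite F] in
theorem q_ne {Q : QuadraticForm F (γ → F)} {A : Matrix γ γ F} (g : Gram Q A) {u : γ → F} (hu : bf A u u ≠ 0) :
    Q u ≠ 0 := fun e => hu (by rw [bf, g.self, e, mul_zero])

/-- The sign matrices of an orthogonal basis in the commutator group. -/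
theorem mem_Om_iff_of_signs {A : Matrix γ γ F} (h : Frm A) (hn : 2 ≤ Fintype.card γ) {κ : Type} [Fintype κ]
    [DecidableEq κ] {v : κ → γ → F} (hv : OB A v) (s : κ → Bool) {g : GL γ F}
    (hg : ∀ a, g.1 *ᵥ v a = (if s a then (-1 : F) else 1) • v a) :
    g ∈ Om A ↔ Even (Finset.univ.filter fun a => s a).card ∧
      IsSquare (∏ a ∈ Finset.univ.filter (fun a => s a), bf A (v a) (v a)) := by
  obtain ⟨Q, hQ, hQ2⟩ := exists_gram h
  have hB := hQ.nd
  have hd : 2 ≤ Module.finrank F (γ → F) := by rw [Module.finrank_fintype_fun_eq_card]; exact hn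
  obtain ⟨hker, -, hsp⟩ := CfsgLib.Orth.omega_eq_ker_psi hB h.two hd (one_ne_zero (α := F))
  choose r hr using fun a => CfsgLib.Orth.exists_refl hB (q_ne hQ (hv.aniso a))
  have hne : Nonempty κ := Fintype.card_pos_iff.1 (by rw [hv.card]; omega)
  obtain ⟨a₀⟩ := hne
  classical
  -- the product of reflections
  have key : ∀ S : Finset κ, ∃ p : CfsgLib.Orth.Grp Q,
      (∀ a, (p : GL γ F).1 *ᵥ v a = (if a ∈ S then (-1 : F) else 1) • v a) ∧
      CfsgLib.Orth.psi hB 1 p = ((-1) ^ S.card, CfsgLib.Orth.spinor Q 1 (r a₀) ^ S.card *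
        if IsSquare (Q (v a₀) ^ S.card * ∏ a ∈ S, Q (v a)) then 1 else -1) := by
    intro S
    induction S using Finset.induction_on with
    | empty => exact ⟨1, fun a => by simp, by rw [map_one]; exact Prod.ext (by simp) (by simp)⟩
    | insert b S hb ih =>
      obtain ⟨p, hp, hpsi⟩ := ih
      refine ⟨r b * p, fun a => ?_, ?_⟩
      · show ((r b : GL γ F).1 * (p : GL γ F).1) *ᵥ v a = _
        rw [← Matrix.mulVec_mulVec, hp, Matrix.mulVec_smul, refl_val hQ (hr b), Matrix.neg_mulVec, hv.rot_apply b a]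
        by_cases hab : a = b
        · subst hab
          rw [if_pos rfl, if_neg hb, if_pos (Finset.mem_insert_self _ _), one_smul, neg_one_smul]
        · rw [if_neg (Ne.symm hab), neg_neg]
          simp only [Finset.mem_insert, hab, false_or]
      · have e1 : CfsgLib.Orth.psi hB 1 (r b) = (-1, CfsgLib.Orth.spinor Q 1 (r a₀) *
            if IsSquare (Q (v a₀) * Q (v b)) then 1 else -1) := by
          refine Prod.ext (CfsgLib.Orth.dickson_refl hB (hr b)) ?_
          show CfsgLib.Orth.spinor Q 1 (r b) = _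
          have := hsp _ _ _ _ (hr a₀) (hr b)
          split_ifs with hsq
          · rw [mul_one]; exact (this.2 hsq).symm
          · have hne' : CfsgLib.Orth.spinor Q 1 (r b) ≠ CfsgLib.Orth.spinor Q 1 (r a₀) := fun e =>
              hsq (this.1 e.symm)
            rw [mul_neg, mul_one]
            exact Int.units_ne_iff_eq_neg.1 hne'
        rw [map_mul, hpsi, e1, Finset.card_insert_of_notMem hb, Finset.prod_insert hb, Prod.mk_mul_mk,
          pow_succ' (-1 : ℤˣ), pow_succ' (CfsgLib.Orth.spinor Q 1 (r a₀)), pow_succ']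
        refine Prod.ext rfl ?_
        show _ * _ * (_ * _) = _ * _ * _
        rw [mul_mul_mul_comm]
        congr 1
        have hx : Q (v a₀) * Q (v b) ≠ 0 := mul_ne_zero (hr a₀).1 (hr b).1
        have hy : Q (v a₀) ^ S.card * ∏ a ∈ S, Q (v a) ≠ 0 :=
          mul_ne_zero (pow_ne_zero _ (hr a₀).1) (Finset.prod_ne_zero_iff.2 fun a _ => (hr a).1)
        have := CfsgLib.Orth.isSquare_mul_iff (b := Q (v a₀) ^ S.card * ∏ a ∈ S, Q (v a)) hx
        rw [show Q (v a₀) * Q (v a₀) ^ S.card * (Q (v b) * ∏ a ∈ S, Q (v a)) =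
          Q (v a₀) * Q (v b) * (Q (v a₀) ^ S.card * ∏ a ∈ S, Q (v a)) by ring]
        simp only [hy, false_or] at this
        split_ifs <;> simp_all
  obtain ⟨p, hp, hpsi⟩ := key (Finset.univ.filter fun a => s a)
  have hgp : g = (p : GL γ F) := Units.ext (hv.ext fun a => by
    rw [hg, hp]
    cases hs : s a <;> simp [hs])
  rw [hgp, mem_Om_iff_omega hQ, hker, MonoidHom.mem_ker, hpsi, Prod.mk_eq_one]
  set S := Finset.univ.filter fun a => s a
  have hE : (-1 : ℤˣ) ^ S.card = 1 ↔ Even S.card := neg_one_pow_eq_one_iff_even (by decide)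
  rw [hE]
  refine and_congr_right fun hev => ?_
  obtain ⟨l, hl⟩ := hev
  have h2l : (2 : F) ^ l ≠ 0 := pow_ne_zero _ h.two
  have hprod : ∏ a ∈ S, bf A (v a) (v a) = (∏ a ∈ S, Q (v a)) * ((2 : F) ^ l * 2 ^ l) := by
    rw [show (∏ a ∈ S, bf A (v a) (v a)) = ∏ a ∈ S, 2 * Q (v a) from
      Finset.prod_congr rfl fun a _ => (hQ2 _).symm, Finset.prod_mul_distrib, Finset.prod_const, hl, pow_add]
    ring
  have hq : Q (v a₀) ^ S.card = Q (v a₀) ^ l * Q (v a₀) ^ l := by rw [hl, pow_add]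
  have hu : CfsgLib.Orth.spinor Q 1 (r a₀) ^ S.card = 1 := by
    rw [hl, pow_add, Int.units_mul_self]
  rw [hu, one_mul, hprod, isSquare_mul_sq h2l, mul_comm (Q (v a₀) ^ S.card), hq,
    isSquare_mul_sq (pow_ne_zero _ (hr a₀).1)]
  split_ifs with hsq
  · exact iff_of_true rfl hsq
  · exact iff_of_false (by decide) hsq

/-- Two rotations about lines of the same square class. -/
theorem rot_pair_mem_Om {A : Matrix γ γ F} (h : Frm A) {u w : γ → F} (hu : bf A u u ≠ 0) (hw : bf A w w ≠ 0)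
    (hsq : IsSquare (bf A u u * bf A w w)) : rotG A u hu * rotG A w hw ∈ Om A := by
  obtain ⟨Q, hQ, hQ2⟩ := exists_gram h
  obtain ⟨r, hr⟩ := CfsgLib.Orth.exists_refl hQ.nd (q_ne hQ hu)
  obtain ⟨r', hr'⟩ := CfsgLib.Orth.exists_refl hQ.nd (q_ne hQ hw)
  rw [← hQ2, ← hQ2, show 2 * Q u * (2 * Q w) = Q u * Q w * (2 * 2) by ring, isSquare_mul_sq h.two] at hsq
  have h1 := QuotientGroup.eq.1 (CfsgLib.Orth.mk_refl_of_square hQ.nd h.two hr hr' hsq)
  rw [CfsgLib.Orth.refl_inv hr, ← mem_Om_iff_omega hQ] at h1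
  have e : rotG A u hu * rotG A w hw = ((r * r' : CfsgLib.Orth.Grp Q) : GL γ F) := by
    refine Units.ext ?_
    show rot A u * rot A w = (r : GL γ F).1 * (r' : GL γ F).1
    rw [refl_val hQ hr, refl_val hQ hr', neg_mul_neg]
  rw [e]
  exact h1

/-- The isometry group is generated by reflections. -/
theorem iso_le_of_refl {A : Matrix γ γ F} (h : Frm A) {U : Subgroup (GL γ F)}
    (hU : ∀ (u : γ → F) (hu : bf A u u ≠ 0), -rotG A u hu ∈ U) : iso A ≤ U := by
  obtain ⟨Q, hQ, hQ2⟩ := exists_gram h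
  have hch : Nat.card F ≠ 2 := fun e => h.two (by
    cases nonempty_fintype F
    rw [Nat.card_eq_fintype_card] at e
    have := FiniteField.cast_card_eq_zero F
    rwa [e, Nat.cast_ofNat] at this)
  intro g hg
  have hg' : g ∈ Cfsg.isometryGroup F ⇑Q := (iso_eq_isometryGroup hQ).symm ▸ hg
  have hmem : (⟨g, hg'⟩ : CfsgLib.Orth.Grp Q) ∈ CfsgLib.Orth.Refl Q := by
    rw [CfsgLib.Orth.refl_eq_top hQ.nd fun _ => hch]; trivial
  suffices hle : CfsgLib.Orth.Refl Q ≤ U.comap (Cfsg.isometryGroup F ⇑Q).subtype from hle hmem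
  refine (Subgroup.closure_le _).2 ?_
  rintro x ⟨u, hx⟩
  have hu : bf A u u ≠ 0 := by rw [← hQ2]; exact mul_ne_zero h.two hx.1
  have e : (x : GL γ F) = -rotG A u hu := Units.ext (refl_val hQ hx)
  show (x : GL γ F) ∈ U
  rw [e]
  exact hU u hu

/-- Rotations in odd dimension. -/
theorem rot_mem_Om_iff {A : Matrix γ γ F} (h : Frm A) (hn : 2 ≤ Fintype.card γ) (hodd : Odd (Fintype.card γ))
    {c : γ → F} (hc : bf A c c ≠ 0) : rotG A c hc ∈ Om A ↔ IsSquare (bf A c c * A.det) := by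
  obtain ⟨n, w, hw, a₀, ha₀⟩ := h.exists_ob_of hc
  have hg : ∀ a, (rotG A c hc).1 *ᵥ w a = (if decide (a ≠ a₀) then (-1 : F) else 1) • w a := by
    intro a
    show rot A c *ᵥ w a = _
    rw [← ha₀, hw.rot_apply a₀ a]
    by_cases e : a₀ = a
    · subst e; simp
    · simp [e, Ne.symm e]
  rw [mem_Om_iff_of_signs h hn hw _ hg]
  have hS : (Finset.univ.filter fun a => decide (a ≠ a₀) = true) = Finset.univ.erase a₀ := by
    ext a; simp
  rw [hS, Finset.card_erase_of_mem (Finset.mem_univ _), Finset.card_univ, hw.card,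
    ← hw.isSquare_prod_iff (bf A c c), ← Finset.mul_prod_erase _ _ (Finset.mem_univ a₀), ha₀, ← mul_assoc,
    mul_comm (bf A c c * bf A c c), isSquare_mul_sq hc]
  exact and_iff_right (Nat.Odd.sub_odd hodd odd_one)

/-! ### One factor of a tensor power -/

section tensor

variable {τ : Type} [Fintype τ] [DecidableEq τ] {k : ℕ} {J : Matrix (Fin k) (Fin k) F}

omit [Finite F] in
theorem prod_rest_eq (i : τ) (val : Fin k → F) :
    ∏ p : Ix (Rest i) k, ∏ j, val (p j) = (∏ a, val a) ^ ((Fintype.card τ - 1) * k ^ (Fintype.card τ - 1 - 1)) := by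
  have hc : Fintype.card (Rest i) = Fintype.card τ - 1 := by
    rw [Fintype.card_subtype_compl, Fintype.card_subtype_eq]
  have hj : ∀ j : Rest i, ∏ p : Ix (Rest i) k, val (p j) = (∏ a, val a) ^ k ^ (Fintype.card τ - 1 - 1) := by
    intro j
    rw [← (Equiv.funSplitAt j (Fin k)).symm.prod_comp fun p => val (p j), Fintype.prod_prod_type]
    simp only [Equiv.funSplitAt_symm_apply, Equiv.piSplitAt_symm_apply, dite_true, Finset.prod_const, Finset.card_univ,
      Fintype.card_fun, Fintype.card_fin, Fintype.card_subtype_compl, Fintype.card_subtype_eq]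
    rw [Finset.prod_pow]
  rw [Finset.prod_comm, Finset.prod_congr rfl fun j _ => hj j, Finset.prod_const, Finset.card_univ, hc, ← pow_mul,
    mul_comm (k ^ _)]

/-- Sign matrices at one factor. -/
theorem embM_signs_mem_iff (h : Frm J) (hn : 2 ≤ Fintype.card (Ix τ k)) (i : τ) {v : Fin k → Fin k → F}
    (hv : OB J v) (s : Fin k → Bool) {b : Matrix (Fin k) (Fin k) F}
    (hb : ∀ a, b *ᵥ v a = (if s a then (-1 : F) else 1) • v a) {g : GL (Ix τ k) F} (hg : g.1 = embM i b) :
    g ∈ Om (JJ J τ) ↔ Even (k ^ (Fintype.card τ - 1) * (Finset.univ.filter fun a => s a).card) ∧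
      IsSquare ((∏ a ∈ Finset.univ.filter (fun a => s a), bf J (v a) (v a)) ^ k ^ (Fintype.card τ - 1) *
        ((∏ a, bf J (v a) (v a)) ^ ((Fintype.card τ - 1) * k ^ (Fintype.card τ - 1 - 1))) ^
          (Finset.univ.filter fun a => s a).card) := by
  have hg' : ∀ r : τ → Fin k, g.1 *ᵥ pv (fun j => v (r j)) =
      (if s (r i) then (-1 : F) else 1) • pv fun j => v (r j) := by
    intro r
    rw [hg, embM_mulVec_pv, hb, pv_update_smul]
  rw [mem_Om_iff_of_signs (h.pow τ) hn (OB.pure fun _ => hv) (fun r => s (r i)) hg']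
  set S := Finset.univ.filter fun a => s a
  have hmap : (Finset.univ.filter fun r : τ → Fin k => s (r i)) =
      ((Finset.univ : Finset (Ix (Rest i) k)) ×ˢ S).map (spl i).symm.toEmbedding := by
    ext r
    rw [Finset.mem_map_equiv, Equiv.symm_symm, Finset.mem_product, spl_apply]
    simp [S]
  have hval : ∀ (p : Ix (Rest i) k) (a : Fin k),
      bf (JJ J τ) (pv fun j => v ((spl i).symm (p, a) j)) (pv fun j => v ((spl i).symm (p, a) j)) =
        bf J (v a) (v a) * ∏ j, bf J (v (p j)) (v (p j)) := by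
    intro p a
    have e := (spl i).apply_symm_apply (p, a)
    rw [spl_apply, Prod.mk.injEq] at e
    rw [bf_pv, ← Finset.mul_prod_erase _ _ (Finset.mem_univ i), e.2,
      Finset.prod_subtype (Finset.univ.erase i) (p := fun j => j ≠ i) (fun j => by simp)]
    congr 1
    exact Finset.prod_congr rfl fun j _ => by rw [← congrFun e.1 j]
  rw [hmap, Finset.card_map, Finset.card_product, Finset.card_univ, Fintype.card_fun, Fintype.card_fin,
    Fintype.card_subtype_compl, Fintype.card_subtype_eq, Finset.prod_map, Finset.prod_product_right]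
  simp only [Equiv.coe_toEmbedding, hval]
  simp only [Finset.prod_mul_distrib, Finset.prod_const, Finset.card_univ, prod_rest_eq i fun a => bf J (v a) (v a),
    Fintype.card_fun, Fintype.card_fin, Fintype.card_subtype_compl, Fintype.card_subtype_eq, Finset.prod_pow]

/-- Reflections at a factor, in even dimension. -/
theorem embM_refl_mem (h : Frm J) (hk : Even k) (hk0 : 2 ≤ k) (ht : 2 ≤ Fintype.card τ)
    (hD : 3 ≤ Fintype.card τ ∨ IsSquare J.det) (i : τ) {u : Fin k → F} (hu : bf J u u ≠ 0)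
    {g : GL (Ix τ k) F} (hg : g.1 = embM i (-rot J u)) : g ∈ Om (JJ J τ) := by
  obtain ⟨w, hw, hw0⟩ := h.exists_ob_extend (Fintype.card_fin k) (by omega : 1 ≤ k) (fun _ : Fin 1 => u)
    (fun a b hab => absurd (Subsingleton.elim a b) hab) (fun _ => hu)
  obtain ⟨a₀, ha₀⟩ : ∃ a₀, w a₀ = u := ⟨_, hw0 0⟩
  have hn : 2 ≤ Fintype.card (Ix τ k) := by
    rw [Fintype.card_fun, Fintype.card_fin]
    exact hk0.trans (Nat.le_self_pow (by omega) k)
  have hb : ∀ a, (-rot J u) *ᵥ w a = (if decide (a = a₀) then (-1 : F) else 1) • w a := by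
    intro a
    rw [← ha₀, Matrix.neg_mulVec, hw.rot_apply a₀ a]
    by_cases e : a₀ = a
    · subst e; simp
    · simp [e, Ne.symm e]
  rw [embM_signs_mem_iff h hn i hw _ hb hg]
  have hS : (Finset.univ.filter fun a => decide (a = a₀) = true) = {a₀} := by ext a; simp
  rw [hS, Finset.card_singleton, mul_one, Finset.prod_singleton, pow_one]
  have hev : ∀ e, 1 ≤ e → Even (k ^ e) := fun e he => Even.pow_of_ne_zero hk (by omega)
  refine ⟨hev _ (by omega), ?_⟩
  obtain ⟨l, hl⟩ := hev (Fintype.card τ - 1) (by omega)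
  rw [hl, pow_add, mul_comm, isSquare_mul_sq (pow_ne_zero _ (hw.aniso _))]
  obtain ⟨d, hd, e⟩ := hw.exists_prod_eq
  rcases hD with hD | hD
  · obtain ⟨l', hl'⟩ := hev (Fintype.card τ - 1 - 1) (by omega)
    exact ⟨(∏ a, bf J (w a) (w a)) ^ ((Fintype.card τ - 1) * l'), by rw [← pow_add, ← mul_add, ← hl']⟩
  · obtain ⟨y, hy⟩ := hD
    rw [e, hy]
    exact ⟨(y * d) ^ ((Fintype.card τ - 1) * k ^ (Fintype.card τ - 1 - 1)), by rw [← mul_pow]; congr 1; ring⟩

/-- Rotations at a factor, in odd dimension. -/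
theorem embM_rot_mem_iff (h : Frm J) (hk : Odd k) (hk0 : 2 ≤ k) (i : τ) {c : Fin k → F} (hc : bf J c c ≠ 0)
    {g : GL (Ix τ k) F} (hg : g.1 = embM i (rot J c)) : g ∈ Om (JJ J τ) ↔ IsSquare (bf J c c * J.det) := by
  obtain ⟨w, hw, hw0⟩ := h.exists_ob_extend (Fintype.card_fin k) (by omega : 1 ≤ k) (fun _ : Fin 1 => c)
    (fun a b hab => absurd (Subsingleton.elim a b) hab) (fun _ => hc)
  obtain ⟨a₀, ha₀⟩ : ∃ a₀, w a₀ = c := ⟨_, hw0 0⟩
  have hn : 2 ≤ Fintype.card (Ix τ k) := by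
    rw [Fintype.card_fun, Fintype.card_fin]
    exact hk0.trans (Nat.le_self_pow (Fintype.card_pos_iff.2 ⟨i⟩).ne' k)
  have hb : ∀ a, rot J c *ᵥ w a = (if decide (a ≠ a₀) then (-1 : F) else 1) • w a := by
    intro a
    rw [← ha₀, hw.rot_apply a₀ a]
    by_cases e : a₀ = a
    · subst e; simp
    · simp [e, Ne.symm e]
  rw [embM_signs_mem_iff h hn i hw _ hb hg]
  have hS : (Finset.univ.filter fun a => decide (a ≠ a₀) = true) = Finset.univ.erase a₀ := by ext a; simp
  rw [hS, Finset.card_erase_of_mem (Finset.mem_univ _), Finset.card_univ, Fintype.card_fin]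
  have hev : Even (k - 1) := Nat.Odd.sub_odd hk odd_one
  obtain ⟨l, hl⟩ := hev
  have hall : (∏ a, bf J (w a) (w a)) ≠ 0 := Finset.prod_ne_zero_iff.2 fun a _ => hw.aniso a
  have hrest : (∏ a ∈ Finset.univ.erase a₀, bf J (w a) (w a)) ≠ 0 :=
    Finset.prod_ne_zero_iff.2 fun a _ => hw.aniso a
  rw [hl, pow_add, isSquare_mul_sq (pow_ne_zero _ (pow_ne_zero _ hall)), isSquare_pow_odd hrest (hk.pow),
    ← hw.isSquare_prod_iff (bf J c c), ← Finset.mul_prod_erase _ _ (Finset.mem_univ a₀), ha₀, ← mul_assoc,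
    mul_comm (bf J c c * bf J c c), isSquare_mul_sq hc]
  exact and_iff_right (Even.mul_left ⟨l, rfl⟩ _)

end tensor

end CfsgLib.Classical.TensorWreathOrth
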