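import Cfsg.Agent.Lib.Classical.TensorWreathOrth.Proj
import Cfsg.Agent.Lib.Classical.TensorWreath.Descend

set_option autoImplicit false
set_option linter.unusedSectionVars false

/-!
A tensor power seen as the product of the other factors with one of them: vectors, forms, commutants, and the
isometries acting as a given one on one line of the factor and trivially on the orthogonal lines.
-/

namespace CfsgLib.Classical.TensorWreathOrth

open Matrix CfsgLib.Classical.TensorWreath
open scoped MatrixGroups Kronecker commutatorElement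

variable {F : Type*} [Field F] {τ : Type} [Fintype τ] [DecidableEq τ] {k : ℕ} {J : Matrix (Fin k) (Fin k) F}

/-- A vector of the other factors times a vector of the factor `i`. -/
def iv (i : τ) (y : Ix (Rest i) k → F) (x : Fin k → F) : Ix τ k → F :=
  fun p => y (spl i p).1 * x (spl i p).2

theorem ins_mulVec_iv (i : τ) (A : Matrix (Ix (Rest i) k) (Ix (Rest i) k) F) (b : Matrix (Fin k) (Fin k) F)
    (y : Ix (Rest i) k → F) (x : Fin k → F) : ins i A b *ᵥ iv i y x = iv i (A *ᵥ y) (b *ᵥ x) := by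
  funext p
  simp only [Matrix.mulVec, dotProduct, ins, Matrix.submatrix_apply, iv]
  rw [(spl i).sum_comp fun q => (A ⊗ₖ b) (spl i p) q * (y q.1 * x q.2), Fintype.sum_prod_type, Finset.sum_mul_sum]
  exact Finset.sum_congr rfl fun a _ => Finset.sum_congr rfl fun c _ => by rw [Matrix.kronecker_apply]; ring

theorem embM_mulVec_iv (i : τ) (b : Matrix (Fin k) (Fin k) F) (y : Ix (Rest i) k → F) (x : Fin k → F) :
    embM i b *ᵥ iv i y x = iv i y (b *ᵥ x) := by
  rw [embM_eq_ins, ins_mulVec_iv, Matrix.one_mulVec]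

theorem iv_add_left (i : τ) (y y' : Ix (Rest i) k → F) (x : Fin k → F) : iv i (y + y') x = iv i y x + iv i y' x := by
  funext p; simp [iv, add_mul]
theorem iv_add_right (i : τ) (y : Ix (Rest i) k → F) (x x' : Fin k → F) : iv i y (x + x') = iv i y x + iv i y x' := by
  funext p; simp [iv, mul_add]
theorem iv_sub_left (i : τ) (y y' : Ix (Rest i) k → F) (x : Fin k → F) : iv i (y - y') x = iv i y x - iv i y' x := by
  funext p; simp [iv, sub_mul]
theorem iv_sub_right (i : τ) (y : Ix (Rest i) k → F) (x x' : Fin k → F) : iv i y (x - x') = iv i y x - iv i y x' := by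
  funext p; simp [iv, mul_sub]
theorem iv_smul_left (i : τ) (c : F) (y : Ix (Rest i) k → F) (x : Fin k → F) : iv i (c • y) x = c • iv i y x := by
  funext p; simp [iv, mul_assoc]
theorem iv_smul_right (i : τ) (c : F) (y : Ix (Rest i) k → F) (x : Fin k → F) : iv i y (c • x) = c • iv i y x := by
  funext p; simp [iv]; ring
theorem iv_zero_left (i : τ) (x : Fin k → F) : iv i (0 : Ix (Rest i) k → F) x = 0 := by funext p; simp [iv]
theorem iv_zero_right (i : τ) (y : Ix (Rest i) k → F) : iv i y (0 : Fin k → F) = 0 := by funext p; simp [iv]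

theorem single_eq_iv (i : τ) (p : Ix τ k) :
    (Pi.single p (1 : F) : Ix τ k → F) = iv i (Pi.single (spl i p).1 1) (Pi.single (spl i p).2 1) := by
  funext q
  simp only [iv, Pi.single_apply]
  by_cases h : q = p
  · subst h; simp
  · rw [if_neg h]
    by_cases h1 : (spl i q).1 = (spl i p).1
    · rw [if_pos h1, if_neg (fun h2 => h ((spl i).injective (Prod.ext h1 h2))), mul_zero]
    · rw [if_neg h1, zero_mul]

/-- Two maps agreeing on the products agree. -/
theorem ext_iv (i : τ) {M N : Matrix (Ix τ k) (Ix τ k) F} (h : ∀ y x, M *ᵥ iv i y x = N *ᵥ iv i y x) : M = N :=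
  Matrix.ext_of_mulVec_single fun p => by rw [single_eq_iv i p, h]

theorem ins_transpose (i : τ) (A : Matrix (Ix (Rest i) k) (Ix (Rest i) k) F) (b : Matrix (Fin k) (Fin k) F) :
    (ins i A b)ᵀ = ins i Aᵀ bᵀ := by
  ext x y
  rfl

theorem JJ_ins (J : Matrix (Fin k) (Fin k) F) (i : τ) : JJ J τ = ins i (JJ J (Rest i)) J := by
  rw [JJ, JJ, ins_pureM]
  refine congrArg pureM (funext fun j => ?_)
  by_cases hj : j = i
  · subst hj; rw [Function.update_self]
  · rw [Function.update_of_ne hj, extend, dif_neg hj]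

theorem bf_iv (i : τ) (y y' : Ix (Rest i) k → F) (x x' : Fin k → F) :
    bf (JJ J τ) (iv i y x) (iv i y' x') = bf (JJ J (Rest i)) y y' * bf J x x' := by
  rw [bf, JJ_ins J i, ins_mulVec_iv, bf, bf]
  simp only [dotProduct, iv]
  rw [(spl i).sum_comp fun q => (JJ J (Rest i) *ᵥ y) q.1 * (J *ᵥ x) q.2 * (y' q.1 * x' q.2), Fintype.sum_prod_type,
    Finset.sum_mul_sum]
  exact Finset.sum_congr rfl fun a _ => Finset.sum_congr rfl fun c _ => by ring

/-- The component at a vector of the factor `i`. -/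
def ctr (J : Matrix (Fin k) (Fin k) F) (i : τ) (a : Fin k → F) (x : Ix τ k → F) : Ix (Rest i) k → F :=
  fun r => ∑ c, (J *ᵥ a) c * x ((spl i).symm (r, c))

theorem ctr_iv (i : τ) (a : Fin k → F) (y : Ix (Rest i) k → F) (x : Fin k → F) :
    ctr J i a (iv i y x) = bf J a x • y := by
  funext r
  simp only [ctr, iv, Equiv.apply_symm_apply, Pi.smul_apply, smul_eq_mul, bf, dotProduct, Finset.sum_mul]
  exact Finset.sum_congr rfl fun c _ => by ring

theorem bf_iv_ctr (h : Frm J) (i : τ) (y : Ix (Rest i) k → F) (a : Fin k → F) (x : Ix τ k → F) :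
    bf (JJ J τ) (iv i y a) x = bf (JJ J (Rest i)) y (ctr J i a x) := by
  rw [bf, bf, JJ_ins J i, ins_mulVec_iv]
  simp only [dotProduct, iv, ctr, Finset.mul_sum]
  rw [← (spl i).symm.sum_comp, Fintype.sum_prod_type]
  exact Finset.sum_congr rfl fun r _ => Finset.sum_congr rfl fun c _ => by rw [Equiv.apply_symm_apply]; ring

theorem ins_pr_mulVec (i : τ) (a : Fin k → F) (x : Ix τ k → F) :
    embM i (pr J a) *ᵥ x = iv i ((bf J a a)⁻¹ • ctr J i a x) a := by
  have hlin : ∀ p, embM i (pr J a) *ᵥ Pi.single p 1 = iv i ((bf J a a)⁻¹ • ctr J i a (Pi.single p (1 : F))) a := by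
    intro p
    rw [single_eq_iv i p, embM_mulVec_iv, pr_mulVec, ctr_iv, iv_smul_right, smul_smul, iv_smul_left]
  funext q
  have e : ∀ p, (embM i (pr J a)) q p = ((bf J a a)⁻¹ * ctr J i a (Pi.single p (1 : F)) (spl i q).1) * a (spl i q).2 := by
    intro p
    have := congrFun (hlin p) q
    rw [Matrix.mulVec_single_one] at this
    simpa [iv] using this
  rw [show (embM i (pr J a) *ᵥ x) q = ∑ p, embM i (pr J a) q p * x p from rfl]
  simp only [e, iv, Pi.smul_apply, smul_eq_mul, ctr, Finset.mul_sum, Finset.sum_mul, Pi.single_apply]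
  rw [Finset.sum_comm]
  refine Finset.sum_congr rfl fun c _ => ?_
  rw [Finset.sum_eq_single ((spl i).symm ((spl i q).1, c))]
  · rw [if_pos rfl]; ring
  · intro p _ hp
    rw [if_neg (Ne.symm hp)]; simp
  · exact fun hp => absurd (Finset.mem_univ _) hp

/-- The decomposition along an orthogonal basis of the factor `i`. -/
theorem OB.sum_iv {v : Fin k → Fin k → F} (hv : OB J v) (i : τ) (x : Ix τ k → F) :
    ∑ a, iv i ((bf J (v a) (v a))⁻¹ • ctr J i (v a) x) (v a) = x := by
  rw [Finset.sum_congr rfl fun a _ => (ins_pr_mulVec i (v a) x).symm, ← Matrix.sum_mulVec, ← embM_sum, hv.sum_pr,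
    embM_one, Matrix.one_mulVec]

theorem ins_left_injective [NeZero k] (i : τ) {A A' : Matrix (Ix (Rest i) k) (Ix (Rest i) k) F}
    {b : Matrix (Fin k) (Fin k) F} (hb : b ≠ 0) (h : ins i A b = ins i A' b) : A = A' := by
  obtain ⟨p, q, hpq⟩ : ∃ p q, b p q ≠ 0 := by
    by_contra hc
    push Not at hc
    exact hb (Matrix.ext hc)
  ext r s
  have := congrFun₂ h ((spl i).symm (r, p)) ((spl i).symm (s, q))
  simp only [ins, Matrix.submatrix_apply, Equiv.apply_symm_apply, Matrix.kronecker_apply] at this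
  exact mul_right_cancel₀ hpq this

theorem lift_mem_iso_iff [NeZero k] (h : Frm J) (i : τ) (g : GL (Ix (Rest i) k) F) :
    lift i g ∈ iso (JJ J τ) ↔ g ∈ iso (JJ J (Rest i)) := by
  rw [mem_iso, mem_iso, lift_val, JJ_ins J i, ins_transpose, ins_mul, ins_mul, Matrix.transpose_one, Matrix.one_mul,
    Matrix.mul_one]
  refine ⟨fun e => ins_left_injective i (fun e0 => h.det ?_) e, fun e => by rw [e]⟩
  rw [e0]; exact Matrix.det_zero

theorem lift_om [NeZero k] (h : Frm J) (i : τ) {g : GL (Ix (Rest i) k) F} (hg : g ∈ Om (JJ J (Rest i))) :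
    lift i g ∈ Om (JJ J τ) := by
  have h1 : (iso (JJ J (Rest i))).map (lift i) ≤ iso (JJ J τ) := by
    rintro _ ⟨g, hg, rfl⟩
    exact (lift_mem_iso_iff h i g).2 hg
  have h2 := Subgroup.mem_map_of_mem (lift i) hg
  rw [Om, Subgroup.map_commutator] at h2
  exact Subgroup.commutator_mono h1 h1 h2

/-- A factor as a group homomorphism. -/
def embG (i : τ) : GL (Fin k) F →* GL (Ix τ k) F :=
  Units.map
    { toFun := fun b => embM i b
      map_one' := embM_one i
      map_mul' := fun a b => (embM_mul i a b).symm }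

theorem embG_val (i : τ) (b : GL (Fin k) F) : (embG i b).1 = embM i b.1 := rfl

theorem embG_iso (h : Frm J) (i : τ) {g : GL (Fin k) F} (hg : g ∈ iso J) : embG i g ∈ iso (JJ J τ) := by
  rw [mem_iso, embG_val, embM_eq_ins, JJ_ins J i, ins_transpose, ins_mul, ins_mul, Matrix.transpose_one,
    Matrix.one_mul, Matrix.mul_one, mem_iso.1 hg]

theorem embG_om (h : Frm J) (i : τ) {g : GL (Fin k) F} (hg : g ∈ Om J) : embG i g ∈ Om (JJ J τ) := by
  have h1 : (iso J).map (embG (τ := τ) i) ≤ iso (JJ J τ) := by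
    rintro _ ⟨g, hg, rfl⟩
    exact embG_iso h i hg
  have h2 := Subgroup.mem_map_of_mem (embG (τ := τ) i) hg
  rw [Om, Subgroup.map_commutator] at h2
  exact Subgroup.commutator_mono h1 h1 h2

/-- `T` on one line of the factor `i`, the identity on the orthogonal lines. -/
def Ea (J : Matrix (Fin k) (Fin k) F) (i : τ) (a : Fin k → F) (T : Matrix (Ix (Rest i) k) (Ix (Rest i) k) F) :
    Matrix (Ix τ k) (Ix τ k) F :=
  ins i T (pr J a) + ins i 1 (1 - pr J a)

theorem Ea_mul (i : τ) {a : Fin k → F} (ha : bf J a a ≠ 0) (T T' : Matrix (Ix (Rest i) k) (Ix (Rest i) k) F) :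
    Ea J i a T * Ea J i a T' = Ea J i a (T * T') := by
  have e1 : pr J a * (1 - pr J a) = 0 := by rw [Matrix.mul_sub, Matrix.mul_one, pr_mul_self J ha, sub_self]
  have e2 : (1 - pr J a) * pr J a = 0 := by rw [Matrix.sub_mul, Matrix.one_mul, pr_mul_self J ha, sub_self]
  have e3 : (1 - pr J a) * (1 - pr J a) = 1 - pr J a := by
    rw [Matrix.sub_mul, Matrix.one_mul, e1, sub_zero]
  have z : ∀ X : Matrix (Ix (Rest i) k) (Ix (Rest i) k) F, ins i X (0 : Matrix (Fin k) (Fin k) F) = 0 := fun X => by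
    rw [← zero_smul F (0 : Matrix (Fin k) (Fin k) F), ins_smul_right, zero_smul]
  rw [Ea, Ea, Ea, Matrix.add_mul, Matrix.mul_add, Matrix.mul_add, ins_mul, ins_mul, ins_mul, ins_mul, e1, e2, e3,
    pr_mul_self J ha, z, z, Matrix.one_mul, add_zero, zero_add]

theorem Ea_one (i : τ) (a : Fin k → F) : Ea J i a 1 = 1 := by
  rw [Ea, ← ins_add_right, add_sub_cancel, ins_one_one]

theorem Ea_mulVec (i : τ) (a : Fin k → F) (T : Matrix (Ix (Rest i) k) (Ix (Rest i) k) F)
    (y : Ix (Rest i) k → F) (x : Fin k → F) :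
    Ea J i a T *ᵥ iv i y x = iv i y x + ((bf J a a)⁻¹ * bf J a x) • iv i (T *ᵥ y - y) a := by
  rw [Ea, Matrix.add_mulVec, ins_mulVec_iv, ins_mulVec_iv, Matrix.one_mulVec, pr_mulVec, Matrix.sub_mulVec,
    Matrix.one_mulVec, pr_mulVec, iv_sub_right, iv_smul_right, iv_smul_right, iv_sub_left, smul_sub]
  abel

/-- The homomorphism of a line. -/
def eHom (i : τ) (a : Fin k → F) (ha : bf J a a ≠ 0) : GL (Ix (Rest i) k) F →* GL (Ix τ k) F :=
  Units.map
    { toFun := fun T => Ea J i a T
      map_one' := Ea_one i a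
      map_mul' := fun T T' => (Ea_mul i ha T T').symm }

theorem eHom_val (i : τ) (a : Fin k → F) (ha : bf J a a ≠ 0) (T : GL (Ix (Rest i) k) F) :
    (eHom (J := J) i a ha T).1 = Ea J i a T.1 := rfl

theorem eHom_iso (h : Frm J) (i : τ) {a : Fin k → F} (ha : bf J a a ≠ 0) {T : GL (Ix (Rest i) k) F}
    (hT : T ∈ iso (JJ J (Rest i))) : eHom (J := J) i a ha T ∈ iso (JJ J τ) := by
  have e : (pr J a)ᵀ * J * pr J a = J * pr J a := by rw [h.pr_symm, Matrix.mul_assoc, pr_mul_self J ha]
  have e1 : (pr J a)ᵀ * J * (1 - pr J a) = 0 := by rw [Matrix.mul_sub, Matrix.mul_one, e, h.pr_symm, sub_self]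
  have e1' : (1 - (pr J a)ᵀ) * J * pr J a = 0 := by
    rw [Matrix.sub_mul, Matrix.one_mul, Matrix.sub_mul, e, sub_self]
  have e2 : (1 - (pr J a)ᵀ) * J * (1 - pr J a) = J - J * pr J a := by
    rw [Matrix.mul_sub, Matrix.mul_one, e1', sub_zero, Matrix.sub_mul, Matrix.one_mul, h.pr_symm]
  have z : ∀ X : Matrix (Ix (Rest i) k) (Ix (Rest i) k) F, ins i X (0 : Matrix (Fin k) (Fin k) F) = 0 := fun X => by
    rw [← zero_smul F (0 : Matrix (Fin k) (Fin k) F), ins_smul_right, zero_smul]
  rw [mem_iso, eHom_val, Ea, JJ_ins J i, Matrix.transpose_add, ins_transpose, ins_transpose, Matrix.transpose_one,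
    Matrix.transpose_sub, Matrix.transpose_one, Matrix.add_mul, ins_mul, ins_mul, Matrix.add_mul, Matrix.mul_add,
    Matrix.mul_add, ins_mul, ins_mul, ins_mul, ins_mul, e, e1, e1', e2, z, z, add_zero, zero_add,
    mem_iso.1 hT, Matrix.one_mul, Matrix.mul_one, ← ins_add_right, add_sub_cancel]

theorem eHom_om (h : Frm J) (i : τ) {a : Fin k → F} (ha : bf J a a ≠ 0) {T : GL (Ix (Rest i) k) F}
    (hT : T ∈ Om (JJ J (Rest i))) : eHom (J := J) i a ha T ∈ Om (JJ J τ) := by
  have h1 : (iso (JJ J (Rest i))).map (eHom (J := J) i a ha) ≤ iso (JJ J τ) := by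
    rintro _ ⟨g, hg, rfl⟩
    exact eHom_iso h i ha hg
  have h2 := Subgroup.mem_map_of_mem (eHom (J := J) i a ha) hT
  rw [Om, Subgroup.map_commutator] at h2
  exact Subgroup.commutator_mono h1 h1 h2

theorem embG_conj_eHom (h : Frm J) (i : τ) {a : Fin k → F} (ha : bf J a a ≠ 0) {g : GL (Fin k) F} (hg : g ∈ iso J)
    (hga : bf J (g.1 *ᵥ a) (g.1 *ᵥ a) ≠ 0) (T : GL (Ix (Rest i) k) F) :
    embG i g * eHom (J := J) i a ha T * (embG i g)⁻¹ = eHom (J := J) i (g.1 *ᵥ a) hga T := by
  refine Units.ext ?_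
  rw [Units.val_mul, Units.val_mul, ← map_inv, embG_val, embG_val, eHom_val, eHom_val, Ea, Ea, embM_eq_ins,
    embM_eq_ins, Matrix.mul_add, Matrix.add_mul, ins_mul, ins_mul, ins_mul, ins_mul, Matrix.one_mul, Matrix.mul_one,
    Matrix.mul_one, Matrix.mul_sub, Matrix.sub_mul, h.conj_pr hg]
  simp only [mul_one, Matrix.mul_one, Units.mul_inv]

/-! ### Commutants -/

/-- Commuting with a set of scalar commutant at one factor. -/
theorem cen_of_comm {S : Set (Matrix (Fin k) (Fin k) F)}
    (hS : ∀ X : Matrix (Fin k) (Fin k) F, (∀ b ∈ S, X * b = b * X) → ∃ s : F, X = s • 1) [NeZero k]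
    {j : τ} {X : Matrix (Ix τ k) (Ix τ k) F} (hX : ∀ b ∈ S, X * embM j b = embM j b * X) : Cen j X := by
  have blocks : ∀ r r' : Ix (Rest j) k, ∃ s : F,
      (Matrix.of fun a c => X ((spl j).symm (r, a)) ((spl j).symm (r', c))) = s • (1 : Matrix (Fin k) (Fin k) F) := by
    intro r r'
    refine hS _ fun b hb => ?_
    ext a c
    have := congrFun₂ (hX b hb) ((spl j).symm (r, a)) ((spl j).symm (r', c))
    rw [Matrix.mul_apply, Matrix.mul_apply, ← (spl j).symm.sum_comp, ← (spl j).symm.sum_comp,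
      Fintype.sum_prod_type, Fintype.sum_prod_type, Finset.sum_eq_single r', Finset.sum_eq_single r] at this
    · simp only [Matrix.mul_apply, Matrix.of_apply]
      simpa only [embM_eq_ins, ins, Matrix.submatrix_apply, Equiv.apply_symm_apply, Matrix.kronecker_apply,
        Matrix.one_apply_eq, one_mul] using this
    · intro u _ hu
      simp [embM_eq_ins, ins, Matrix.kronecker_apply, Matrix.one_apply_ne (Ne.symm hu)]
    · exact fun hu => absurd (Finset.mem_univ _) hu
    · intro u _ hu
      simp [embM_eq_ins, ins, Matrix.kronecker_apply, Matrix.one_apply_ne hu]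
    · exact fun hu => absurd (Finset.mem_univ _) hu
  choose s hs using blocks
  have e : X = ins j (Matrix.of s) 1 := by
    ext x y
    have := congrFun₂ (hs (spl j x).1 (spl j y).1) (spl j x).2 (spl j y).2
    simp only [Matrix.of_apply, Prod.mk.eta, Equiv.symm_apply_apply, Matrix.smul_apply, smul_eq_mul] at this
    rw [this]
    rfl
  rw [e]
  exact cen_ins_one j _

/-- Commuting with a set of scalar commutant on the other factors. -/
theorem eq_embM_of_comm (i : τ) [NeZero k] {S : Set (Matrix (Ix (Rest i) k) (Ix (Rest i) k) F)}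
    (hS : ∀ X : Matrix (Ix (Rest i) k) (Ix (Rest i) k) F, (∀ b ∈ S, X * b = b * X) → ∃ s : F, X = s • 1)
    {X : Matrix (Ix τ k) (Ix τ k) F} (hX : ∀ b ∈ S, X * ins i b 1 = ins i b 1 * X) :
    ∃ R : Matrix (Fin k) (Fin k) F, X = embM i R := by
  have blocks : ∀ a c : Fin k, ∃ s : F,
      (Matrix.of fun r r' => X ((spl i).symm (r, a)) ((spl i).symm (r', c))) =
        s • (1 : Matrix (Ix (Rest i) k) (Ix (Rest i) k) F) := by
    intro a c
    refine hS _ fun b hb => ?_
    ext r r'
    have := congrFun₂ (hX b hb) ((spl i).symm (r, a)) ((spl i).symm (r', c))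
    rw [Matrix.mul_apply, Matrix.mul_apply, ← (spl i).symm.sum_comp, ← (spl i).symm.sum_comp,
      Fintype.sum_prod_type_right, Fintype.sum_prod_type_right, Finset.sum_eq_single c,
      Finset.sum_eq_single a] at this
    · simp only [Matrix.mul_apply, Matrix.of_apply]
      simpa only [ins, Matrix.submatrix_apply, Equiv.apply_symm_apply, Matrix.kronecker_apply,
        Matrix.one_apply_eq, mul_one] using this
    · intro u _ hu
      simp [ins, Matrix.kronecker_apply, Matrix.one_apply_ne (Ne.symm hu)]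
    · exact fun hu => absurd (Finset.mem_univ _) hu
    · intro u _ hu
      simp [ins, Matrix.kronecker_apply, Matrix.one_apply_ne hu]
    · exact fun hu => absurd (Finset.mem_univ _) hu
  choose s hs using blocks
  refine ⟨Matrix.of s, ?_⟩
  ext x y
  have := congrFun₂ (hs (spl i x).2 (spl i y).2) (spl i x).1 (spl i y).1
  simp only [Matrix.of_apply, Prod.mk.eta, Equiv.symm_apply_apply, Matrix.smul_apply, smul_eq_mul] at this
  rw [this, embM_eq_ins]
  simp only [ins, Matrix.submatrix_apply, Matrix.kronecker, Matrix.kroneckerMap_apply, Matrix.of_apply]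
  ring

/-- Commuting with every factor but one. -/
theorem eq_embM_of_cen [NeZero k] (i : τ) {X : Matrix (Ix τ k) (Ix τ k) F} (hX : ∀ j, j ≠ i → Cen j X) :
    ∃ R : Matrix (Fin k) (Fin k) F, X = embM i R := by
  refine ⟨Matrix.of fun a c => X (Function.update 0 i a) (Function.update 0 i c), ?_⟩
  ext x y
  rw [embM_apply]
  split_ifs with h
  · have key : ∀ s : Finset τ, i ∉ s → X x y =
        X (fun j => if j ∈ s then 0 else x j) (fun j => if j ∈ s then 0 else y j) := by
      intro s
      induction s using Finset.induction_on with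
      | empty => intro _; simp
      | insert a s has ih =>
        intro hi
        rw [Finset.mem_insert, not_or] at hi
        rw [ih hi.2, ← (hX a (Ne.symm hi.1)).apply_update (x := fun j => if j ∈ s then 0 else x j)
          (y := fun j => if j ∈ s then 0 else y j) (by simp [has, h a (Ne.symm hi.1)]) 0]
        congr 1 <;> funext j <;> by_cases hj : j = a <;> simp [hj, has]
    rw [key (Finset.univ.erase i) (by simp), Matrix.of_apply]
    congr 1 <;> funext j <;> by_cases hj : j = i <;> simp [hj]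
  · push Not at h
    obtain ⟨j, hj, hne⟩ := h
    exact (hX j hj).apply_eq_zero hne

end CfsgLib.Classical.TensorWreathOrth
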