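import Cfsg.Agent.Lib.Classical.TensorWreathOrth.Core
import Cfsg.Agent.Lib.Classical.TensorWreathOrth.Tens

set_option autoImplicit false
set_option linter.unusedSectionVars false

/-!
The standing hypotheses on one factor; irreducibility of the second commutator group and the Siegel
transformations in it.
-/

namespace CfsgLib.Classical.TensorWreathOrth

open Matrix CfsgLib.Classical.TensorWreath
open CfsgLib.Classical.TensorOrth (Gram)
open CfsgLib.Orth (IsSiegel)
open scoped MatrixGroups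

variable {F : Type*} [Field F] [Finite F]

/-- The hypotheses on a factor. -/
structure Fac {k : ℕ} (J : Matrix (Fin k) (Fin k) F) : Prop where
  frm : Frm J
  three : 3 ≤ k
  big : k = 3 → 5 ≤ Nat.card F
  four : k = 4 → NoPair J

variable {γ : Type} [Fintype γ] [DecidableEq γ] {A : Matrix γ γ F}

/-- The second commutator group is irreducible. -/
theorem Frm.irred (h : Frm A) (hn : 3 ≤ Fintype.card γ) (hbig : Fintype.card γ = 3 → 5 ≤ Nat.card F) (C : Core A)
    {S : Submodule F (γ → F)} (hS : ∀ g ∈ Lc A, ∀ y ∈ S, g.1 *ᵥ y ∈ S) (hne : ∃ y ∈ S, y ≠ 0) : S = ⊤ := by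
  have hSo : ∀ g ∈ Om A, ∀ y ∈ S, g.1 *ᵥ y ∈ S := by
    intro g hg y hy
    obtain ⟨l, hl, c, e⟩ := C.omL g hg
    rw [e, Matrix.smul_mulVec]
    exact S.smul_mem _ (hS l hl y hy)
  -- projections on good lines
  have proj : ∀ b, Good A b → ∀ y ∈ S, bf A b y ≠ 0 → b ∈ S := by
    intro b hb y hy hby
    obtain ⟨c, d, hbc, hbd, hcd, hcc, hdd⟩ := h.exists_three hb hn
    have hc : bf A c c ≠ 0 := by rw [hcc]; exact hb.1
    have hd : bf A d d ≠ 0 := by rw [hdd]; exact hb.1
    have pair : ∀ u w (hu : bf A u u ≠ 0) (hw : bf A w w ≠ 0), bf A u u = bf A b b → bf A w w = bf A b b →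
        bf A u w = 0 → pr A u *ᵥ y + pr A w *ᵥ y ∈ S := by
      intro u w hu hw eu ew huw
      have h1 := S.sub_mem hy (hSo _ (rot_pair_mem_Om h hu hw ⟨bf A b b, by rw [eu, ew]⟩) y hy)
      rw [Units.val_mul, show (rotG A u hu).1 = rot A u from rfl, show (rotG A w hw).1 = rot A w from rfl,
        h.rot_mul_eq huw, Matrix.sub_mulVec, Matrix.one_mulVec, sub_sub_cancel, Matrix.smul_mulVec,
        Matrix.add_mulVec] at h1
      exact (S.smul_mem_iff h.two).1 h1
    have e := S.sub_mem (S.add_mem (pair b c hb.1 hc rfl hcc hbc) (pair b d hb.1 hd rfl hdd hbd))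
      (pair c d hc hd hcc hdd hcd)
    rw [show pr A b *ᵥ y + pr A c *ᵥ y + (pr A b *ᵥ y + pr A d *ᵥ y) - (pr A c *ᵥ y + pr A d *ᵥ y) =
      (2 : F) • (pr A b *ᵥ y) by rw [two_smul]; abel, S.smul_mem_iff h.two, pr_mulVec] at e
    exact (S.smul_mem_iff (mul_ne_zero (inv_ne_zero hb.1) hby)).1 e
  obtain ⟨y, hy, hy0⟩ := hne
  obtain ⟨c, hc⟩ := h.exists_good (A := A) (by omega)
  obtain ⟨w, hw, hwg, -, -⟩ := h.exists_frame_eq hc rfl (by omega)
  obtain ⟨a, ha⟩ : ∃ a, bf A (w a) y ≠ 0 := by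
    by_contra hcon
    push Not at hcon
    refine hy0 ?_
    rw [← Matrix.one_mulVec y, ← hw.sum_pr, Matrix.sum_mulVec]
    exact Finset.sum_eq_zero fun a _ => pr_perp A (hcon a)
  have haS := proj _ (hwg a) y hy ha
  have hall : ∀ b, w b ∈ S := by
    intro b
    by_cases hab : a = b
    · exact hab ▸ haS
    · obtain ⟨x, hx, hax, hbx⟩ := h.exists_link hn hbig (hwg a) (hwg b) (hw.orth a b hab)
      refine proj _ (hwg b) x (proj x hx (w a) haS ?_) hbx
      rw [h.bf_comm]; exact hax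
  rw [eq_top_iff, ← hw.span_eq]
  exact Submodule.span_le.2 fun x ⟨b, hb⟩ => hb ▸ hall b

/-- Squares of isometries lie in the commutator group. -/
theorem Frm.sq_mem_Om (h : Frm A) (hn : 2 ≤ Fintype.card γ) {Q : QuadraticForm F (γ → F)} (hQ : Gram Q A)
    (g : CfsgLib.Orth.Grp Q) : ((g * g : CfsgLib.Orth.Grp Q) : GL γ F) ∈ Om A := by
  obtain ⟨hker, -, -⟩ := CfsgLib.Orth.omega_eq_ker_psi hQ.nd h.two
    (by rw [Module.finrank_fintype_fun_eq_card]; exact hn) (one_ne_zero (α := F))
  rw [mem_Om_iff_omega hQ, hker, MonoidHom.mem_ker, map_mul]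
  exact Prod.ext (Int.units_mul_self _) (Int.units_mul_self _)

/-- Siegel transformations lie in the second commutator group. -/
theorem Core.siegel_mem (C : Core A) (h : Frm A) (hn : 2 ≤ Fintype.card γ) {Q : QuadraticForm F (γ → F)}
    (hQ : Gram Q A) {u v : γ → F} {g : CfsgLib.Orth.Grp Q} (hg : IsSiegel u v g) : (g : GL γ F) ∈ Lc A := by
  obtain ⟨s, hs⟩ := CfsgLib.Orth.exists_siegel hQ.nd hg.1 (v := (2 : F)⁻¹ • v)
    (by rw [CfsgLib.Orth.b_smul_right, hg.2.1, mul_zero])
  have hss : s * s = g := by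
    have h1 := CfsgLib.Orth.siegel_mul hs hs
    rw [← add_smul, ← two_mul, mul_inv_cancel₀ h.two, one_smul] at h1
    exact CfsgLib.Orth.siegel_unique h1 hg
  have hgO : (g : GL γ F) ∈ Om A := hss ▸ h.sq_mem_Om hn hQ s
  obtain ⟨l, hl, c, e⟩ := C.omL _ hgO
  -- the scalar is a sign
  have hcc : c * c = 1 := by
    have h1 : (g : GL γ F).1ᵀ * A * (g : GL γ F).1 = A := om_le A hgO
    have h2 : l.1ᵀ * A * l.1 = A := om_le A (lc_le A hl)
    rw [e, Matrix.transpose_smul, Matrix.smul_mul, Matrix.smul_mul, Matrix.mul_smul, smul_smul, h2] at h1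
    by_contra hne
    refine h.det ?_
    have h0 : (c * c - 1) • A = 0 := by rw [sub_smul, h1, one_smul, sub_self]
    have hA : A = 0 := (smul_eq_zero.1 h0).resolve_left (sub_ne_zero.2 hne)
    have : Nonempty γ := Fintype.card_pos_iff.1 (by omega)
    rw [hA]; exact Matrix.det_zero
  rcases mul_self_eq_one_iff.1 hcc with rfl | rfl
  · rw [one_smul] at e
    rwa [Units.ext e]
  · -- the square of the half is minus an element
    obtain ⟨p, hp⟩ := CharP.exists F
    haveI := Fact.mk (CharP.char_is_prime F p)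
    have hpow : ∀ n : ℕ, ∀ r : CfsgLib.Orth.Grp Q, IsSiegel u ((n : F) • v) r → r = g ^ n := by
      intro n
      induction n with
      | zero =>
        intro r hr
        rw [Nat.cast_zero, zero_smul] at hr
        rw [pow_zero]
        exact CfsgLib.Orth.siegel_unique hr (CfsgLib.Orth.siegel_one hg.1)
      | succ n ih =>
        intro r hr
        obtain ⟨r', hr'⟩ := CfsgLib.Orth.exists_siegel hQ.nd hg.1 (v := (n : F) • v)
          (by rw [CfsgLib.Orth.b_smul_right, hg.2.1, mul_zero])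
        have h1 := CfsgLib.Orth.siegel_mul hr' hg
        have h2 : (n : F) • v + v = ((n + 1 : ℕ) : F) • v := by rw [Nat.cast_succ, add_smul, one_smul]
        rw [h2] at h1
        rw [CfsgLib.Orth.siegel_unique hr h1, ih r' hr', pow_succ]
    have hgp : g ^ p = 1 := by
      have := hpow p 1 (by rw [CharP.cast_eq_zero, zero_smul]; exact CfsgLib.Orth.siegel_one hg.1)
      exact this.symm
    have hodd : Odd p := (CharP.char_is_prime F p).odd_of_ne_two fun e2 => h.two (by
      have := CharP.cast_eq_zero F p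
      rwa [e2, Nat.cast_ofNat] at this)
    have hgl : (g : GL γ F) = l * l ^ p := by
      have hl' : l = -(g : GL γ F) := Units.ext (by rw [Units.val_neg, e, neg_smul, one_smul, neg_neg])
      have : ((g : GL γ F)) ^ p = 1 := by rw [← SubgroupClass.coe_pow, hgp]; rfl
      rw [hl', hodd.neg_pow, this, neg_mul_neg, mul_one]
    rw [hgl]
    exact (Lc A).mul_mem hl ((Lc A).pow_mem hl p)

namespace Fac

variable {k : ℕ} {J : Matrix (Fin k) (Fin k) F} (hf : Fac J) {τ : Type} [Fintype τ] [DecidableEq τ]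
include hf

theorem neZero : NeZero k := ⟨by have := hf.three; omega⟩

theorem card_pow [Nonempty τ] : 3 ≤ Fintype.card (Ix τ k) ∧ (2 ≤ Fintype.card τ → 9 ≤ Fintype.card (Ix τ k)) := by
  have := hf.three
  rw [Fintype.card_fun, Fintype.card_fin]
  refine ⟨?_, fun h => ?_⟩
  · calc 3 ≤ k ^ 1 := by rwa [pow_one]
      _ ≤ k ^ Fintype.card τ := Nat.pow_le_pow_right (by omega) Fintype.card_pos
  · calc 9 ≤ k ^ 2 := by nlinarith
      _ ≤ k ^ Fintype.card τ := Nat.pow_le_pow_right (by omega) h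

theorem big_pow [Nonempty τ] : Fintype.card (Ix τ k) = 3 → 5 ≤ Nat.card F := by
  intro h3
  have h1 : Fintype.card τ = 1 := by
    by_contra hne
    have := (hf.card_pow (τ := τ)).2 (by have := Fintype.card_pos (α := τ); omega)
    omega
  rw [Fintype.card_fun, Fintype.card_fin, h1, pow_one] at h3
  exact hf.big h3

theorem core_pow [Nonempty τ] : Core (JJ J τ) := by
  refine (hf.frm.pow τ).core hf.card_pow.1 hf.big_pow fun h4 => ?_
  have h1 : Fintype.card τ = 1 := by
    by_contra hne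
    have := (hf.card_pow (τ := τ)).2 (by have := Fintype.card_pos (α := τ); omega)
    omega
  have hk : k = 4 := by rwa [Fintype.card_fun, Fintype.card_fin, h1, pow_one] at h4
  obtain ⟨i, hi⟩ := Fintype.card_eq_one_iff.1 h1
  haveI : IsEmpty (Rest i) := ⟨fun j => j.2 (hi j)⟩
  obtain ⟨d, hd⟩ : ∃ d : (Ix τ k → F) → (Fin k → F), d = fun x c => x ((spl i).symm (isEmptyElim, c)) := ⟨_, rfl⟩
  have hiv : ∀ x, x = iv i (fun _ => 1) (d x) := fun x => by
    funext p
    rw [hd, iv, one_mul]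
    have e : ((isEmptyElim : Ix (Rest i) k), (spl i p).2) = spl i p := Prod.ext (Subsingleton.elim _ _) rfl
    exact congrArg x (((spl i).symm_apply_eq).2 e).symm
  have hbf : ∀ x y, bf (JJ J τ) x y = bf J (d x) (d y) := fun x y => by
    conv_lhs => rw [hiv x, hiv y]
    rw [bf_iv, show bf (JJ J (Rest i)) (fun _ => 1) (fun _ => 1) = (1 : F) from ?_, one_mul]
    simp [bf, Matrix.mulVec, dotProduct, pureM_apply]
  intro u w hu hw huw hu0
  obtain ⟨c, hc⟩ := hf.four hk (d u) (d w) (by rw [← hbf]; exact hu) (by rw [← hbf]; exact hw)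
    (by rw [← hbf]; exact huw) (fun e => hu0 (by rw [hiv u, e, iv_zero_right]))
  exact ⟨c, by rw [hiv w, hc, iv_smul_right, ← hiv u]⟩

theorem scalar_om [Nonempty τ] {X : Matrix (Ix τ k) (Ix τ k) F} (hX : ∀ g ∈ Om (JJ J τ), X * g.1 = g.1 * X) :
    ∃ s : F, X = s • 1 := (hf.frm.pow τ).scalar_of_om hf.card_pow.1 hf.big_pow hX

theorem irred [Nonempty τ] {S : Submodule F (Ix τ k → F)} (hS : ∀ g ∈ Lc (JJ J τ), ∀ y ∈ S, g.1 *ᵥ y ∈ S)
    (hne : ∃ y ∈ S, y ≠ 0) : S = ⊤ := (hf.frm.pow τ).irred hf.card_pow.1 hf.big_pow hf.core_pow hS hne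

theorem core : Core J := hf.frm.core (by rw [Fintype.card_fin]; exact hf.three)
  (fun e => hf.big (by rwa [Fintype.card_fin] at e)) (fun e => hf.four (by rwa [Fintype.card_fin] at e))

theorem scalar_rot {X : Matrix (Fin k) (Fin k) F} (hX : ∀ c, Good J c → X * rot J c = rot J c * X) :
    ∃ s : F, X = s • 1 := hf.frm.scalar_of_rot (by rw [Fintype.card_fin]; exact hf.three)
  (fun e => hf.big (by rwa [Fintype.card_fin] at e)) hX

theorem exists_link {a b : Fin k → F} (ha : Good J a) (hb : Good J b) (hab : bf J a b = 0) :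
    ∃ x, Good J x ∧ bf J a x ≠ 0 ∧ bf J b x ≠ 0 := hf.frm.exists_link (by rw [Fintype.card_fin]; exact hf.three)
  (fun e => hf.big (by rwa [Fintype.card_fin] at e)) ha hb hab

end Fac

end CfsgLib.Classical.TensorWreathOrth
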