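import Cfsg.Agent.Lib.Classical.TensorWreathOrth.Top
import Cfsg.Agent.Lib.Classical.OrthExtField.Zero

set_option autoImplicit false
set_option linter.unusedSectionVars false

/-!
Two factors of dimension four: an involution exchanging them is excluded by a singular line of the Klein quadric.
-/

namespace CfsgLib.Classical.TensorWreathOrth

open Matrix CfsgLib.Classical.TensorWreath
open CfsgLib.Classical.TensorOrthNine (eig mem_eig finrank_eig_add)
open scoped MatrixGroups

variable {F : Type*} [Field F] [Finite F] {τ : Type} [Fintype τ] [DecidableEq τ] {k : ℕ}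
  {J : Matrix (Fin k) (Fin k) F}

/-- An alternating matrix of size four with vanishing Pfaffian has rank two. -/
theorem alt_rank_two (h2 : (2 : F) ≠ 0) {A : Matrix (Fin 4) (Fin 4) F} (hA : ∀ r s, A r s = -A s r)
    (hP : A 0 1 * A 2 3 - A 0 2 * A 1 3 + A 0 3 * A 1 2 = 0) (p q r s : Fin 4) :
    A r s * A p q = A r q * A p s - A r p * A q s := by
  have hd : ∀ r, A r r = 0 := fun r => by
    have h5 : (2 : F) * A r r = 0 := by rw [two_mul]; nth_rw 1 [hA r r]; exact neg_add_cancel _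
    exact (mul_eq_zero.1 h5).resolve_left h2
  have e0 := hd 0
  have e1 := hd 1
  have e2 := hd 2
  have e3 := hd 3
  have f1 := hA 1 0
  have f2 := hA 2 0
  have f3 := hA 3 0
  have f4 := hA 2 1
  have f5 := hA 3 1
  have f6 := hA 3 2
  fin_cases p <;> fin_cases q <;> fin_cases r <;> fin_cases s <;>
    simp only [Fin.zero_eta, Fin.mk_one, Fin.reduceFinMk, e0, e1, e2, e3, f1, f2, f3, f4, f5, f6] <;>
    first | ring1 | linear_combination hP | linear_combination -hP

/-- A plane of two vectors contains an anisotropic line. -/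
theorem Fac.plane_split (hf : Fac J) (hk : k = 4) {x y : Fin k → F}
    (hne : Matrix.vecMulVec x y - Matrix.vecMulVec y x ≠ 0) :
    ∃ v b, bf J v v ≠ 0 ∧ bf J v b = 0 ∧
      Matrix.vecMulVec x y - Matrix.vecMulVec y x = Matrix.vecMulVec v b - Matrix.vecMulVec b v := by
  have h := hf.frm
  have mk : ∀ v w : Fin k → F, bf J v v ≠ 0 →
      ∃ b, bf J v b = 0 ∧ Matrix.vecMulVec v w - Matrix.vecMulVec w v = Matrix.vecMulVec v b - Matrix.vecMulVec b v := by
    intro v w hv
    refine ⟨w - ((bf J v v)⁻¹ * bf J v w) • v, ?_, ?_⟩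
    · rw [bf_sub_right, bf_smul_right]; field_simp; ring
    · ext r s
      simp only [Matrix.sub_apply, Matrix.vecMulVec_apply, Pi.sub_apply, Pi.smul_apply, smul_eq_mul]
      ring
  by_cases hx : bf J x x = 0
  swap
  · obtain ⟨b, hb1, hb2⟩ := mk x y hx
    exact ⟨x, b, hx, hb1, hb2⟩
  by_cases hy : bf J y y = 0
  swap
  · obtain ⟨b, hb1, hb2⟩ := mk y (-x) hy
    refine ⟨y, b, hy, hb1, ?_⟩
    rw [← hb2]
    ext r s
    simp only [Matrix.sub_apply, Matrix.vecMulVec_apply, Pi.neg_apply]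
    ring
  by_cases hxy : bf J x y = 0
  · exfalso
    refine hne ?_
    by_cases hx0 : x = 0
    · subst hx0; simp
    obtain ⟨c, hc⟩ := hf.four hk x y hx hy hxy hx0
    subst hc
    ext r s
    simp only [Matrix.sub_apply, Matrix.vecMulVec_apply, Pi.smul_apply, smul_eq_mul, Matrix.zero_apply]
    ring
  have hv : bf J (x + y) (x + y) ≠ 0 := by
    rw [bf_add_left, bf_add_right, bf_add_right, hx, hy, h.bf_comm y x, zero_add, add_zero, ← two_mul]
    exact mul_ne_zero h.two hxy
  obtain ⟨b, hb1, hb2⟩ := mk (x + y) y hv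
  refine ⟨x + y, b, hv, hb1, ?_⟩
  rw [← hb2]
  ext r s
  simp only [Matrix.sub_apply, Matrix.vecMulVec_apply, Pi.add_apply]
  ring

section phi

variable (i l : τ)

/-- The point of two factors with given coordinates. -/
def idx (α β : Fin k) : Ix τ k := fun j => if j = i then α else β

/-- A vector of two factors as a matrix. -/
def phi : (Ix τ k → F) →ₗ[F] Matrix (Fin k) (Fin k) F where
  toFun v := Matrix.of fun α β => v (idx i α β)
  map_add' _ _ := rfl
  map_smul' _ _ := rfl

theorem phi_apply (v : Ix τ k → F) (α β : Fin k) : phi i v α β = v (idx i α β) := rfl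

variable {i l}
variable (hil : i ≠ l) (two : ∀ q : τ, q = i ∨ q = l)
include hil two

theorem idx_eq (x : Ix τ k) : idx i (x i) (x l) = x := by
  funext j
  rcases two j with rfl | rfl
  · rw [idx, if_pos rfl]
  · rw [idx, if_neg hil.symm]

theorem phi_injective : Function.Injective (phi (F := F) (k := k) i) := fun v w h => by
  funext x
  have := congrFun₂ h (x i) (x l)
  rwa [phi_apply, phi_apply, idx_eq hil two] at this

theorem univ_pair : (Finset.univ : Finset τ) = {i, l} := by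
  ext q
  simp only [Finset.mem_univ, Finset.mem_insert, Finset.mem_singleton, true_iff]
  exact two q

theorem sum_idx (f : Ix τ k → F) : ∑ x, f x = ∑ α, ∑ β, f (idx i α β) := by
  rw [← Fintype.sum_prod_type']
  refine (Fintype.sum_bijective (fun p : Fin k × Fin k => idx i p.1 p.2) ⟨fun p p' e => ?_, fun x =>
    ⟨(x i, x l), idx_eq hil two x⟩⟩ _ _ fun _ => rfl).symm
  have e1 := congrFun e i
  have e2 := congrFun e l
  simp only [idx, if_pos, if_neg hil.symm] at e1 e2
  exact Prod.ext e1 e2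

theorem phi_swap (g : τ → Matrix (Fin k) (Fin k) F) (v : Ix τ k → F) :
    phi i ((pureM g * permM F k (Equiv.swap i l)) *ᵥ v) = g i * (phi i v)ᵀ * (g l)ᵀ := by
  ext α β
  rw [phi_apply]
  show ∑ x, (pureM g * permM F k (Equiv.swap i l)) (idx i α β) x * v x = _
  rw [sum_idx hil two, Matrix.mul_apply]
  refine Finset.sum_congr rfl fun α' _ => ?_
  rw [Matrix.mul_apply, Finset.sum_mul]
  refine Finset.sum_congr rfl fun β' _ => ?_
  rw [mul_permM_entry, univ_pair hil two, Finset.prod_pair hil, Equiv.symm_swap, Equiv.swap_apply_left,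
    Equiv.swap_apply_right, Matrix.transpose_apply, Matrix.transpose_apply, phi_apply]
  simp only [idx, if_pos, if_neg hil.symm]
  ring

theorem phi_pure (R S : Matrix (Fin k) (Fin k) F) (v : Ix τ k → F) :
    phi i ((embM i R * embM l S) *ᵥ v) = R * phi i v * Sᵀ := by
  ext α β
  rw [phi_apply]
  show ∑ x, (embM i R * embM l S) (idx i α β) x * v x = _
  rw [sum_idx hil two, Finset.sum_comm, Matrix.mul_apply]
  refine Finset.sum_congr rfl fun β' _ => ?_
  rw [Matrix.mul_apply, Finset.sum_mul]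
  refine Finset.sum_congr rfl fun α' _ => ?_
  rw [embM, embM, pureM_mul, pureM_apply, univ_pair hil two, Finset.prod_pair hil, Pi.mul_apply, Pi.mul_apply,
    Function.update_self, Function.update_self, Function.update_of_ne hil, Function.update_of_ne hil.symm,
    Matrix.transpose_apply, phi_apply, Pi.one_apply, Pi.one_apply, Matrix.mul_one, Matrix.one_mul]
  simp only [idx, if_pos, if_neg hil.symm]
  ring

end phi

namespace Ctx

variable {M : Subgroup (GL (Ix τ k) F)} (H : Ctx J M)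
include H

set_option maxHeartbeats 800000 in
/-- A product of two rotations: done, or its involution exchanges the factors. -/
theorem four_step [NeZero k] (ht : Fintype.card τ = 2) (hk : k = 4) {e : GL (Ix τ k) F} (he : Cls J M e)
    {i l : τ} (hil : i ≠ l) (two : ∀ q : τ, q = i ∨ q = l) {c d : Fin k → F} (hc : Good J c) (hd : Good J d)
    {Z : GL (Ix τ k) F} (eZ : Z = embG i (rotG J c hc.1) * embG l (rotG J d hd.1)) :
    Mono e.1 ∨ ∃ ζ ∈ M, Mono ζ.1 ∧ ζ ≠ 1 ∧ ζ * ζ = 1 ∧ e * ζ = ζ * e ∧ Cls J M (e * ζ) ∧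
      (∃ m, Even m ∧ (Z * e) ^ m = ζ) ∧ ζ * embG i (rotG J c hc.1) * ζ⁻¹ = embG l (rotG J d hd.1) ∧
      (∀ z, Z * z = z * Z → e * z = z * e → z * ζ = ζ * z) ∧
      ∀ z, Z * z = z * Z → e * z = z * e → z * z = 1 → ∃ h ∈ M, h * (e * z) * h⁻¹ = e * z * ζ := by
  have hf := H.fac
  have h := hf.frm
  have h2 := h.two
  have h3 : k = 3 → 3 ≤ Fintype.card τ := fun e => by omega
  obtain ⟨xc, hxc⟩ : ∃ x, x = embG i (rotG J c hc.1) := ⟨_, rfl⟩
  obtain ⟨xd, hxd⟩ : ∃ x, x = embG l (rotG J d hd.1) := ⟨_, rfl⟩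
  rw [← hxc, ← hxd] at eZ ⊢
  have ec : xc.1 = embM i (rot J c) := by rw [hxc]; rfl
  have ed : xd.1 = embM l (rot J d) := by rw [hxd]; rfl
  have dc : IsDl J xc := hxc ▸ isDl_embG i hc
  have dd : IsDl J xd := hxd ▸ isDl_embG l hd
  have eZv : Z.1 = embM i (rot J c) * embM l (rot J d) := by rw [eZ, Units.val_mul, ec, ed]
  have sqc := rot_mul_self J hc.1
  have sqd := rot_mul_self J hd.1
  have hZ2 : Z * Z = 1 := Units.ext (by rw [Units.val_mul, eZv, two_sq hil sqc sqd, Units.val_one])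
  have st : ∀ {R S : Matrix (Fin k) (Fin k) F}, R * R = 1 → S * S = 1 →
      sig (embM i R * embM l S) = sig R * sig S := fun hR hS => by
    rw [sig_two h2 hil hR hS, show Fintype.card τ - 2 = 0 by omega, pow_zero, one_mul]
  have hkz : (k : ℤ) = 4 := by rw [hk]; norm_num
  have rk : ∀ {v : Fin k → F}, bf J v v ≠ 0 → sig (rot J v) = -2 := fun hv => by rw [hf.rk hv, hkz]; norm_num
  have hX : xsig τ k = -8 := by rw [xsig, ht, hkz]; norm_num
  have hZs : sig Z.1 = 4 := by rw [eZv, st sqc sqd, rk hc.1, rk hd.1]; norm_num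
  obtain ⟨ζ, hζM, hζ1, hζ, cf, ce, cz, hcase⟩ := H.dihedral_f he (f := Z)
    (eZ ▸ M.mul_mem (H.dl_mem dc) (H.dl_mem dd)) hZ2 (by rw [hZs, hX]; norm_num)
  obtain ⟨b, hb, hcb⟩ := hf.second hc
  have hbc : bf J b c = 0 := by rw [h.bf_comm]; exact hcb
  obtain ⟨xb, hxb⟩ : ∃ x, x = embG i (rotG J b hb.1) := ⟨_, rfl⟩
  have eb : xb.1 = embM i (rot J b) := by rw [hxb]; rfl
  have ccd : xc * xd = xd * xc := Units.ext (by rw [Units.val_mul, Units.val_mul, ec, ed, embM_comm hil])
  have ccZ : xc * Z = Z * xc := by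
    rw [eZ]; exact ((Commute.refl xc).mul_right (show Commute xc xd from ccd)).eq
  have cbZ : xb * Z = Z * xb := by
    rw [eZ]
    refine ((show Commute xb xc from Units.ext ?_).mul_right (show Commute xb xd from Units.ext ?_)).eq
    · rw [Units.val_mul, Units.val_mul, eb, ec, embM_mul, embM_mul, rot_comm_orth h hbc]
    · rw [Units.val_mul, Units.val_mul, eb, ed, embM_comm hil]
  have scz : sig (xc * Z).1 = -8 := by
    rw [Units.val_mul, ec, eZv, ← Matrix.mul_assoc, embM_sq i sqc, Matrix.one_mul, sig_embM h2 l sqd, ht, rk hd.1,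
      hkz]
    norm_num
  obtain ⟨hζm, hwd⟩ := H.cent_f h3 hZ2 dc (hxb ▸ isDl_embG i hb : IsDl J xb) ccZ cbZ (by
    rw [scz, Units.val_mul, eb, eZv, ← Matrix.mul_assoc, embM_mul, st (rot_two_sq h hb.1 hc.1 hbc) sqd,
      hf.rk2 hb.1 hc.1 hbc, hkz]
    norm_num) hζM cf.symm
  have hζi : ζ⁻¹ = ζ := inv_eq_of_mul_eq_one_right hζ
  -- a rotation commuting with the product
  have at_i : ∀ {v : Fin k → F} {w : GL (Ix τ k) F}, w.1 = embM i (rot J v) → w * Z = Z * w →
      rot J c * rot J v = rot J v * rot J c := by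
    intro v w ew hw
    have h1 := congrArg Units.val hw
    rw [Units.val_mul, Units.val_mul, ew, eZv] at h1
    exact (hf.cancel_two hil sqd h1).symm
  have at_l : ∀ {v : Fin k → F} {w : GL (Ix τ k) F}, w.1 = embM l (rot J v) → w * Z = Z * w →
      rot J d * rot J v = rot J v * rot J d := by
    intro v w ew hw
    have h1 := congrArg Units.val hw
    rw [Units.val_mul, Units.val_mul, ew, eZv, embM_comm hil] at h1
    exact (hf.cancel_two hil.symm sqc h1).symm
  rcases hcase with ⟨hE, hm, hz⟩ | ⟨hu, hEs⟩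
  · -- the image of the first rotation
    obtain ⟨w, hw⟩ : ∃ w, w = ζ * xc * ζ⁻¹ := ⟨_, rfl⟩
    rw [← hw] at hwd
    have hwf : w * Z = ζ * (xc * Z) * ζ⁻¹ := by
      rw [hw, hζi, mul_assoc _ ζ Z, ← cf, ← mul_assoc, mul_assoc ζ xc Z]
    have hwc : w * Z = Z * w := by
      rw [hwf, ccZ, hw]
      calc ζ * (Z * xc) * ζ⁻¹ = ζ * Z * xc * ζ⁻¹ := by rw [mul_assoc ζ Z xc]
        _ = _ := by rw [← cf]; group
    have hws : sig (w * Z).1 = -8 := by rw [sig_conj_gl hwf.symm, scz]
    obtain ⟨q, v, hv, ew⟩ := hwd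
    rcases two q with rfl | rfl
    · left
      rcases hf.rot_commute hc.1 hv.1 (at_i ew hwc) with h0 | h0
      · exfalso
        have hvc : bf J v c = 0 := by rw [h.bf_comm]; exact h0
        rw [Units.val_mul, ew, eZv, ← Matrix.mul_assoc, embM_mul, st (rot_two_sq h hv.1 hc.1 hvc) sqd,
          hf.rk2 hv.1 hc.1 hvc, hkz] at hws
        norm_num at hws
      · have hwx : ζ * xc * ζ⁻¹ = xc := hw ▸ Units.ext (by rw [ew, ec, h0])
        have hcx : xc * ζ = ζ * xc := by
          conv_lhs => rw [← hwx]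
          rw [inv_mul_cancel_right]
        exact H.even_finish h3 he dc hζM hζ1 hζ hcx ce hE
    · right
      rcases hf.rot_commute hd.1 hv.1 (at_l ew hwc) with h0 | h0
      · exfalso
        rw [hwc, Units.val_mul, ew, eZv, Matrix.mul_assoc, embM_mul, st sqc (rot_two_sq h hd.1 hv.1 h0),
          hf.rk2 hd.1 hv.1 h0, hkz] at hws
        norm_num at hws
      · exact ⟨ζ, hζM, hζm, hζ1, hζ, ce, hE, hm, hw ▸ Units.ext (by rw [ew, ed, h0]), cz, hz⟩
  · left
    obtain ⟨u, hud⟩ : ∃ u, u = Z * ζ := ⟨_, rfl⟩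
    have hum : IsDl J u := hud ▸ H.cls_mono h3 hu ((monoGroup F τ k).mul_mem
      (show Mono Z.1 by rw [eZv]; exact (mono_pure _).mul (mono_pure _)) hζm)
    have eζ : Z * u = ζ := by rw [hud, ← mul_assoc, hZ2, one_mul]
    have hZu : u * Z = Z * u := by
      rw [eζ, hud, mul_assoc, ← cf, ← mul_assoc, hZ2, one_mul]
    obtain ⟨q, v, hv, eu⟩ := hum
    rcases two q with rfl | rfl
    · rcases hf.rot_commute hc.1 hv.1 (at_i eu hZu) with h0 | h0
      · obtain ⟨a, ha, hac, hav⟩ := hf.third hc hv h0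
        obtain ⟨hR, hRs⟩ := hf.rk3 ha.1 hc.1 hv.1 h0 hac hav
        obtain ⟨xa, hxa⟩ : ∃ x, x = embG q (rotG J a ha.1) := ⟨_, rfl⟩
        have ea : xa.1 = embM q (rot J a) := by rw [hxa]; rfl
        have cva : rot J a * (rot J c * rot J v) = rot J c * rot J v * rot J a := by
          rw [← mul_assoc, rot_comm_orth h hac, mul_assoc, rot_comm_orth h hav, ← mul_assoc]
        have eζv : ζ.1 = embM q (rot J c * rot J v) * embM l (rot J d) := by
          rw [← eζ, Units.val_mul, eZv, eu, Matrix.mul_assoc, embM_comm hil.symm, ← Matrix.mul_assoc, embM_mul]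
        refine H.key h3 he (hxa ▸ isDl_embG q ha : IsDl J xa) hζ (Units.ext ?_) ce ?_
        · rw [Units.val_mul, Units.val_mul, ea, eζv, ← Matrix.mul_assoc, embM_mul, cva,
            Matrix.mul_assoc (embM q (rot J c * rot J v)), embM_comm hil.symm, ← Matrix.mul_assoc, embM_mul]
        · rw [hEs, hZs, Units.val_mul, ea, eζv, ← Matrix.mul_assoc, embM_mul, cva, st hR sqd, hRs, rk hd.1, hkz]
          norm_num
      · refine H.dl_cent dd (H.cls_props he).1 ?_
        have e1 : ζ = xd := by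
          rw [← eζ, show u = xc from Units.ext (by rw [eu, ec, h0]), ← ccZ, eZ, ← mul_assoc,
            (H.dl_props dc).1, one_mul]
        rw [← e1]; exact ce
    · rcases hf.rot_commute hd.1 hv.1 (at_l eu hZu) with h0 | h0
      · obtain ⟨a, ha, had, hav⟩ := hf.third hd hv h0
        obtain ⟨hR, hRs⟩ := hf.rk3 ha.1 hd.1 hv.1 h0 had hav
        obtain ⟨xa, hxa⟩ : ∃ x, x = embG q (rotG J a ha.1) := ⟨_, rfl⟩
        have ea : xa.1 = embM q (rot J a) := by rw [hxa]; rfl
        have cva : rot J a * (rot J d * rot J v) = rot J d * rot J v * rot J a := by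
          rw [← mul_assoc, rot_comm_orth h had, mul_assoc, rot_comm_orth h hav, ← mul_assoc]
        have eζv : ζ.1 = embM i (rot J c) * embM q (rot J d * rot J v) := by
          rw [← eζ, Units.val_mul, eZv, eu, Matrix.mul_assoc, embM_mul]
        refine H.key h3 he (hxa ▸ isDl_embG q ha : IsDl J xa) hζ (Units.ext ?_) ce ?_
        · rw [Units.val_mul, Units.val_mul, ea, eζv, ← Matrix.mul_assoc, embM_comm hil.symm,
            Matrix.mul_assoc (embM i (rot J c)), embM_mul, cva, ← embM_mul, ← Matrix.mul_assoc]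
        · rw [hEs, hZs, Units.val_mul, ea, eζv, ← Matrix.mul_assoc, embM_comm hil.symm,
            Matrix.mul_assoc (embM i (rot J c)), embM_mul, cva, st sqc hR, hRs, rk hc.1, hkz]
          norm_num
      · refine H.dl_cent dc (H.cls_props he).1 ?_
        have e1 : ζ = xc := by
          rw [← eζ, show u = xd from Units.ext (by rw [eu, ed, h0]), eZ, mul_assoc, (H.dl_props dd).1, mul_one]
        rw [← e1]; exact ce

set_option maxHeartbeats 1600000 in
/-- The elements of the class, two factors of dimension four. -/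
theorem top_four [NeZero k] (ht : Fintype.card τ = 2) (hk : k = 4) {e : GL (Ix τ k) F} (he : Cls J M e) :
    Mono e.1 := by
  classical
  have hf := H.fac
  have h := hf.frm
  have h2 := h.two
  have h3 : k = 3 → 3 ≤ Fintype.card τ := fun e => by omega
  obtain ⟨i, l, hil⟩ := Fintype.exists_pair_of_one_lt_card (α := τ) (by omega)
  have two : ∀ q : τ, q = i ∨ q = l := fun q => by
    by_contra hc
    rw [not_or] at hc
    have : ({q, i, l} : Finset τ).card ≤ Fintype.card τ := Finset.card_le_univ _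
    rw [Finset.card_insert_of_notMem (by simp [hc.1, hc.2]), Finset.card_pair hil, ht] at this
    omega
  haveI : Nonempty τ := ⟨i⟩
  obtain ⟨c, hc⟩ := h.exists_good (A := J) (by rw [Fintype.card_fin]; omega)
  rcases H.four_step ht hk he hil two hc hc rfl with hm | ⟨ζ, hζM, hζm, hζ1, hζ, ce, hE, -, hswap, -, -⟩
  · exact hm
  by_contra hne
  have hζi : ζ⁻¹ = ζ := inv_eq_of_mul_eq_one_right hζ
  -- the involution exchanges the factors
  obtain ⟨g, σ, eg⟩ := id hζm
  have hg := hf.det_pureM_ne eg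
  have mapsto : ∀ {p q : τ} {u v : Fin k → F} (hu : bf J u u ≠ 0) (hv : bf J v v ≠ 0),
      ζ.1 * embM p (rot J u) = embM q (rot J v) * ζ.1 →
      σ p = q ∧ g q * rot J u * (g q)⁻¹ = rot J v := by
    intro p q u v hu hv e1
    have h1 := mono_mul_embM (g := g) (g' := fun j => (g j)⁻¹) σ p (nonsing_inv_of_pureM hg _) (rot J u)
    rw [← eg, e1] at h1
    have h2' := ζ.isUnit.mul_right_cancel h1
    have hpq : σ p = q := by
      by_contra hpq
      exact hf.embM_rot_ne (Ne.symm hpq) hv _ h2'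
    subst hpq
    exact ⟨rfl, (embM_injective _ h2').symm⟩
  have hσi : σ i = l := by
    refine (mapsto hc.1 hc.1 ?_).1
    have h1 : ζ * embG i (rotG J c hc.1) = embG l (rotG J c hc.1) * ζ := by
      conv_rhs => rw [← hswap, inv_mul_cancel_right]
    exact congrArg Units.val h1
  have hσ : σ = Equiv.swap i l := by
    have hσl : σ l = i := by
      refine (two (σ l)).resolve_right fun e1 => hil (σ.injective (hσi.trans e1.symm))
    refine Equiv.ext fun q => ?_
    rcases two q with rfl | rfl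
    · rw [hσi, Equiv.swap_apply_left]
    · rw [hσl, Equiv.swap_apply_right]
  subst hσ
  -- its relation to the products of rotations
  have pairs : ∀ {v : Fin k → F} (hv : Good J v), ∃ a, ∃ ha : Good J a,
      g i * rot J v * (g i)⁻¹ = rot J a ∧
        ∃ m, Even m ∧ ((embG i (rotG J a ha.1) * embG l (rotG J v hv.1)) * e) ^ m = ζ := by
    intro v hv
    obtain ⟨q, a, ha, ew⟩ := H.conj_dl hζM hζm (isDl_embG l hv)
    have h1 : ζ.1 * embM l (rot J v) = embM q (rot J a) * ζ.1 := by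
      rw [← ew, show ζ.1 * embM l (rot J v) = (ζ * embG l (rotG J v hv.1)).1 from rfl, ← Units.val_mul,
        inv_mul_cancel_right]
    obtain ⟨hq, hga⟩ := mapsto hv.1 ha.1 h1
    rw [Equiv.swap_apply_right] at hq
    subst hq
    refine ⟨a, ha, hga, ?_⟩
    obtain ⟨xa, hxa⟩ : ∃ x, x = embG i (rotG J a ha.1) := ⟨_, rfl⟩
    obtain ⟨xv, hxv⟩ : ∃ x, x = embG l (rotG J v hv.1) := ⟨_, rfl⟩
    have ea : xa.1 = embM i (rot J a) := by rw [hxa]; rfl
    have hav : ζ * xv * ζ⁻¹ = xa := hxv ▸ Units.ext (by rw [ew, ea])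
    have hva : ζ * xa * ζ⁻¹ = xv := by
      rw [← hav, hζi, ← mul_assoc, ← mul_assoc, hζ, one_mul, mul_assoc, hζ, mul_one]
    have cav : xa * xv = xv * xa := Units.ext (by
      rw [hxv, Units.val_mul, Units.val_mul, ea, embG_val]; exact embM_comm hil _ _)
    have cZ : xa * xv * ζ = ζ * (xa * xv) := by
      have h1 : ζ * (xa * xv) * ζ⁻¹ = xa * xv := by
        rw [show ζ * (xa * xv) * ζ⁻¹ = ζ * xa * ζ⁻¹ * (ζ * xv * ζ⁻¹) by group, hva, hav, cav]
      conv_lhs => rw [← h1]
      rw [inv_mul_cancel_right]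
    rw [← hxa, ← hxv]
    rcases H.four_step ht hk he hil two ha hv (Z := xa * xv) (by rw [hxa, hxv]) with hm |
      ⟨ζ', hζ'M, -, -, hζ', ce', -, hm, hsw', hcz, hz⟩
    · exact absurd hm hne
    rw [← hxa, ← hxv] at hsw'
    obtain ⟨m, hm1, hm2⟩ := hm
    refine ⟨m, hm1, ?_⟩
    rw [hm2]
    by_contra hneq
    have hcc : ζ * ζ' = ζ' * ζ := hcz ζ cZ ce
    have hN2 : ζ * ζ' * (ζ * ζ') = 1 := by
      rw [mul_assoc, ← mul_assoc ζ', ← hcc, mul_assoc ζ ζ', hζ', mul_one, hζ]
    have hN1 : ζ * ζ' ≠ 1 := fun e1 => hneq (by rw [← inv_eq_of_mul_eq_one_right e1, hζi])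
    obtain ⟨hh, hhM, hconj⟩ := hz ζ cZ ce hζ
    have cxN : xa * (ζ * ζ') = ζ * ζ' * xa := by
      have h5 : ζ * ζ' * xa * (ζ * ζ')⁻¹ = xa := by
        rw [show ζ * ζ' * xa * (ζ * ζ')⁻¹ = ζ * (ζ' * xa * ζ'⁻¹) * ζ⁻¹ by group, hsw', hav]
      conv_lhs => rw [← h5]
      rw [inv_mul_cancel_right]
    exact hne (H.even_finish h3 he (hxa ▸ isDl_embG i ha : IsDl J xa) (M.mul_mem hζM hζ'M) hN1 hN2 cxN
      (by rw [← mul_assoc, ce, mul_assoc, ce', ← mul_assoc])
      (by rw [← mul_assoc]; exact hconj ▸ H.cls_conj hhM hE))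
  clear hswap
  -- the coordinates
  obtain ⟨-, hee, hes⟩ := H.cls_props he
  obtain ⟨-, -, hEs⟩ := H.cls_props hE
  have hX : xsig τ k = -8 := by rw [xsig, ht, hk]; norm_num
  have hD : Fintype.card (Ix τ k) = 16 := by rw [Fintype.card_fun, Fintype.card_fin, ht, hk]; rfl
  have heq : e.1 * e.1 = 1 := congrArg Units.val hee
  have hzq : ζ.1 * ζ.1 = 1 := congrArg Units.val hζ
  have hcq := congrArg Units.val ce
  rw [Units.val_mul, Units.val_mul] at hcq
  rw [Units.val_mul] at hEs
  obtain ⟨A1, A2⟩ := sig_add_mul h2 heq hzq hcq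
  obtain ⟨B1, B2⟩ := sig_add_mul h2 heq (z := -ζ.1) (by rw [neg_mul_neg]; exact hzq)
    (by rw [Matrix.mul_neg, Matrix.neg_mul, hcq])
  rw [hes, hEs, hX] at A1
  rw [Matrix.mul_neg, sig_neg, hes, hEs, hX] at B1
  rw [eig_neg] at B1 B2
  have hplus : 8 ≤ Module.finrank F (eig ζ.1 1) := by omega
  have hbound := sig_le_of_pairs h2 hf.three (g := g) (σ := Equiv.swap i l) (by rw [← eg]; exact hzq) (s := 1)
    ![i, l] (by intro a b; fin_cases a <;> fin_cases b <;> simp [hil, hil.symm])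
    (fun u => by fin_cases u; exact Equiv.swap_apply_left i l)
  have hL := lex_one_card (m := k) (by omega)
  generalize (Finset.univ.filter fun v : Fin (2 * 1) → Fin k => Lex (TensorWreath.pr v)).card = L at hbound hL
  rw [← eg, hD, sig] at hbound
  have hdim := finrank_eig_add h2 hzq
  rw [hD] at hdim
  subst hk
  push_cast at hbound
  zify at hL hdim hplus
  have hminus : 3 ≤ Module.finrank F ↥(eig ζ.1 (-1) ⊓ eig e.1 1) := by
    have h5 : (Module.finrank F (eig ζ.1 1) : ℤ) - Module.finrank F (eig ζ.1 (-1)) ≤ 6 := by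
      nlinarith [abs_nonneg ((Module.finrank F (eig ζ.1 1) : ℤ) - Module.finrank F (eig ζ.1 (-1))),
        le_abs_self ((Module.finrank F (eig ζ.1 1) : ℤ) - Module.finrank F (eig ζ.1 (-1)))]
    omega
  -- the two components
  obtain ⟨s, hs⟩ : ∃ s : F, g l * g i = s • 1 := by
    have h5 := hzq
    rw [eg, mono_mul_self] at h5
    obtain ⟨s, hs⟩ := (eq_one_of_pure_perm hf.three h5).2 l
    refine ⟨s, ?_⟩
    rwa [Pi.mul_apply, Equiv.symm_swap, Equiv.swap_apply_right] at hs
  have dl : (g l).det ≠ 0 := det_ne_zero_of_pureM hg l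
  have di : (g i).det ≠ 0 := det_ne_zero_of_pureM hg i
  have hs0 : s ≠ 0 := fun e0 => by
    rw [e0, zero_smul] at hs
    have h5 := congrArg Matrix.det hs
    rw [Matrix.det_mul, Matrix.det_zero] at h5
    exact mul_ne_zero dl di h5
  obtain ⟨LA, hLA⟩ : ∃ LA : (Ix τ 4 → F) →ₗ[F] Matrix (Fin 4) (Fin 4) F, ∀ v, LA v = g l * phi i v :=
    ⟨{ toFun := fun v => g l * phi i v
       map_add' := fun v w => by rw [map_add, Matrix.mul_add]
       map_smul' := fun a v => by rw [map_smul, Matrix.mul_smul, RingHom.id_apply] }, fun _ => rfl⟩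
  have hLinj : Function.Injective LA := fun v w e1 => by
    rw [hLA, hLA] at e1
    exact phi_injective hil two (((Matrix.isUnit_iff_isUnit_det _).2 dl.isUnit).mul_left_cancel e1)
  have hact : ∀ v, LA (ζ.1 *ᵥ v) = s • (LA v)ᵀ := fun v => by
    rw [hLA, hLA, eg, phi_swap hil two, Matrix.transpose_mul, ← Matrix.mul_assoc, ← Matrix.mul_assoc, hs,
      Matrix.smul_mul, Matrix.one_mul, Matrix.smul_mul]
  obtain ⟨v0, hv0, hv0n⟩ : ∃ v ∈ eig ζ.1 1, v ≠ 0 := by
    refine Submodule.exists_mem_ne_zero_of_ne_bot fun e0 => ?_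
    rw [e0, finrank_bot] at hplus
    norm_num at hplus
  have hfix : ∀ v ∈ eig ζ.1 1, LA v = s • (LA v)ᵀ := fun v hv => by
    rw [mem_eig, one_smul] at hv
    conv_lhs => rw [← hv]
    exact hact v
  have hss : s * s = 1 := by
    have h5 := hfix v0 hv0
    have h6 : LA v0 = (s * s) • LA v0 := by
      calc LA v0 = s • (LA v0)ᵀ := h5
        _ = s • (s • (LA v0)ᵀ)ᵀ := congrArg (fun X => s • Xᵀ) h5
        _ = _ := by rw [Matrix.transpose_smul, Matrix.transpose_transpose, smul_smul]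
    have h7 : LA v0 ≠ 0 := fun e0 => hv0n (hLinj (e0.trans (map_zero LA).symm))
    exact smul_left_injective F h7 (h6.symm.trans (one_smul F _).symm)
  have hdiag : ∀ A : Matrix (Fin 4) (Fin 4) F, A = -Aᵀ → ∀ r, A r r = 0 := fun A hA r => by
    have h5 := congrFun₂ hA r r
    rw [Matrix.neg_apply, Matrix.transpose_apply] at h5
    exact (mul_eq_zero.1 (show (2 : F) * A r r = 0 by linear_combination h5)).resolve_left h2
  have hs1 : s = 1 := by
    rcases mul_self_eq_one_iff.1 hss with h5 | h5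
    · exact h5
    exfalso
    subst h5
    obtain ⟨T, hT⟩ : ∃ T : (eig ζ.1 1) →ₗ[F] (Fin 6 → F), ∀ v, T v =
        ![LA v.1 0 1, LA v.1 0 2, LA v.1 0 3, LA v.1 1 2, LA v.1 1 3, LA v.1 2 3] :=
      ⟨{ toFun := fun v => ![LA v.1 0 1, LA v.1 0 2, LA v.1 0 3, LA v.1 1 2, LA v.1 1 3, LA v.1 2 3]
         map_add' := fun v w => by
           funext j; fin_cases j <;> simp [map_add]
         map_smul' := fun a v => by
           funext j; fin_cases j <;> simp [map_smul] }, fun _ => rfl⟩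
    have hinj : Function.Injective T := by
      refine (injective_iff_map_eq_zero T).2 fun v hv => Subtype.ext (hLinj ?_)
      show LA v.1 = LA 0
      rw [map_zero]
      have hA : LA v.1 = -(LA v.1)ᵀ := (hfix v.1 v.2).trans (neg_one_smul F _)
      rw [hT] at hv
      have a0 := congrFun hv 0
      have a1 := congrFun hv 1
      have a2 := congrFun hv 2
      have a3 := congrFun hv 3
      have a4 := congrFun hv 4
      have a5 := congrFun hv 5
      simp at a0 a1 a2 a3 a4 a5
      ext r t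
      have hd0 := hdiag _ hA
      have hsk : ∀ r t, LA v.1 r t = -LA v.1 t r := fun r t => congrFun₂ hA r t
      fin_cases r <;> fin_cases t <;> simp [hd0, a0, a1, a2, a3, a4, a5, hsk 1 0, hsk 2 0, hsk 3 0, hsk 2 1,
        hsk 3 1, hsk 3 2]
    have h6 := LinearMap.finrank_le_finrank_of_injective hinj
    rw [Module.finrank_fin_fun] at h6
    omega
  subst hs1
  -- a singular line of the quadric
  obtain ⟨U, hU⟩ : ∃ U, U = eig ζ.1 (-1) ⊓ eig e.1 1 := ⟨_, rfl⟩
  rw [← hU] at hminus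
  obtain ⟨q, hq⟩ : ∃ q : U →ₗ[F] U →ₗ[F] F, ∀ v w, q v w =
      LA v.1 0 1 * LA w.1 2 3 - LA v.1 0 2 * LA w.1 1 3 + LA v.1 0 3 * LA w.1 1 2 :=
    ⟨LinearMap.mk₂ F (fun v w => LA v.1 0 1 * LA w.1 2 3 - LA v.1 0 2 * LA w.1 1 3 + LA v.1 0 3 * LA w.1 1 2)
      (fun a b c => by simp [map_add]; ring) (fun a b c => by simp [map_smul]; ring)
      (fun a b c => by simp [map_add]; ring) (fun a b c => by simp [map_smul]; ring), fun _ _ => rfl⟩
  obtain ⟨⟨ω, hωU⟩, hω0, hωq⟩ := CfsgLib.OrthExt.exists_isotropic q hminus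
  rw [hq] at hωq
  rw [hU, Submodule.mem_inf, mem_eig, mem_eig, one_smul] at hωU
  obtain ⟨hζω, heω⟩ := hωU
  have hωn : ω ≠ 0 := fun e0 => hω0 (Subtype.ext e0)
  obtain ⟨A, hA⟩ : ∃ A, A = LA ω := ⟨_, rfl⟩
  have hAalt : A = -Aᵀ := by
    have h5 := hact ω
    rw [hζω, map_smul, one_smul, neg_one_smul, ← hA] at h5
    exact neg_eq_iff_eq_neg.1 h5
  have hsk : ∀ r t, A r t = -A t r := fun r t => congrFun₂ hAalt r t
  have hA0 : A ≠ 0 := fun e0 => hωn (hLinj (by rw [← hA, e0, map_zero]))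
  obtain ⟨p, p', hpp⟩ : ∃ p p', A p p' ≠ 0 := by
    by_contra hcon
    push Not at hcon
    exact hA0 (Matrix.ext hcon)
  obtain ⟨x, hx⟩ : ∃ x : Fin 4 → F, x = fun r => A r p' := ⟨_, rfl⟩
  obtain ⟨y, hy⟩ : ∃ y : Fin 4 → F, y = fun r => A r p := ⟨_, rfl⟩
  have eA : A = (A p p')⁻¹ • (Matrix.vecMulVec y x - Matrix.vecMulVec x y) := by
    ext r t
    have h5 := alt_rank_two h2 hsk (by rw [hA]; simpa only using hωq) p p' r t
    rw [Matrix.smul_apply, Matrix.sub_apply, Matrix.vecMulVec_apply, Matrix.vecMulVec_apply, smul_eq_mul,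
      inv_mul_eq_div, eq_div_iff hpp, h5, hx, hy, hsk p t, hsk p' t]
    ring
  obtain ⟨v, b, hv, hvb, evb⟩ := hf.plane_split rfl (x := y) (y := x) (fun e0 => hA0 (by rw [eA, e0, smul_zero]))
  rw [evb] at eA
  have hvg : Good J v := ⟨hv, Or.inl (by rw [Fintype.card_fin]; exact ⟨2, rfl⟩)⟩
  obtain ⟨a, ha, hga, m, hm, hpow⟩ := pairs hvg
  -- the product inverts the vector
  have hgi : (g i)⁻¹ * g i = 1 := Matrix.nonsing_inv_mul _ di.isUnit
  have hRG : rot J a * g i = g i * rot J v := by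
    rw [← hga, Matrix.mul_assoc _ (g i)⁻¹, hgi, Matrix.mul_one]
  have hGH : g i * g l = 1 := mul_eq_one_comm.1 (by rw [hs, one_smul])
  have hphi : phi i ω = g i * A := by rw [hA, hLA, ← Matrix.mul_assoc, hGH, Matrix.one_mul]
  have hSA : rot J v * A * (rot J v)ᵀ = -A := by
    rw [eA, Matrix.mul_smul, Matrix.smul_mul, ← smul_neg]
    congr 1
    rw [Matrix.mul_sub, Matrix.sub_mul, Matrix.mul_vecMulVec, Matrix.mul_vecMulVec, Matrix.vecMulVec_mul,
      Matrix.vecMulVec_mul, Matrix.vecMul_transpose, Matrix.vecMul_transpose, rot_self J hv, rot_perp J hvb]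
    ext r t
    simp only [Matrix.sub_apply, Matrix.neg_apply, Matrix.vecMulVec_apply, Pi.neg_apply]
    ring
  have hZω : (embM i (rot J a) * embM l (rot J v)) *ᵥ ω = (-1 : F) • ω := by
    refine phi_injective hil two ?_
    rw [phi_pure hil two, hphi, map_smul, hphi, ← Matrix.mul_assoc, hRG, Matrix.mul_assoc (g i),
      Matrix.mul_assoc (g i), hSA, Matrix.mul_neg, neg_one_smul]
  have h9 := pow_eigen_mat (e' := e.1) hZω (by rw [one_smul]; exact heω) m
  rw [one_mul, hm.neg_one_pow, one_smul] at h9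
  have h10 := congrArg Units.val hpow
  rw [Units.val_pow_eq_pow_val, Units.val_mul, Units.val_mul, embG_val, embG_val] at h10
  rw [show (rotG J a ha.1).1 = rot J a from rfl, show (rotG J v hvg.1).1 = rot J v from rfl] at h10
  rw [h10, hζω, neg_one_smul, neg_eq_iff_add_eq_zero, ← two_smul F ω] at h9
  exact hωn ((smul_eq_zero.1 h9).resolve_left h2)

end Ctx

end CfsgLib.Classical.TensorWreathOrth
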