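import Cfsg.Agent.Lib.Classical.TensorWreathOrth.DZero

set_option autoImplicit false
set_option linter.unusedSectionVars false

/-!
An element keeping the lines of a frame at one factor is monomial.
-/

namespace CfsgLib.Classical.TensorWreathOrth

open Matrix CfsgLib.Classical.TensorWreath
open scoped MatrixGroups commutatorElement

variable {F : Type*} [Field F] [Finite F] {τ : Type} [Fintype τ] [DecidableEq τ] {k : ℕ}
  {J : Matrix (Fin k) (Fin k) F}

theorem piece_mul_pr {i : τ} {a : Fin k → F} (ha : bf J a a ≠ 0) {g : GL (Ix τ k) F} (hg : g ∈ comG J i a) :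
    g.1 * embM i (pr J a) = ins i (pieceM J i a g.1) 1 * embM i (pr J a) := by
  refine ext_iv i fun y x => ?_
  rw [← Matrix.mulVec_mulVec, ← Matrix.mulVec_mulVec, embM_mulVec_iv, pr_mulVec, iv_smul_right, Matrix.mulVec_smul,
    Matrix.mulVec_smul, pieceM_mulVec ha hg, ins_mulVec_iv, Matrix.one_mulVec]

theorem OB.eq_of_mul_pr {v : Fin k → Fin k → F} (hv : OB J v) (i : τ) {A B : Matrix (Ix τ k) (Ix τ k) F}
    (h : ∀ r, A * embM i (pr J (v r)) = B * embM i (pr J (v r))) : A = B := by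
  rw [← Matrix.mul_one A, ← Matrix.mul_one B, ← embM_one i, ← hv.sum_pr, embM_sum, Finset.mul_sum, Finset.mul_sum]
  exact Finset.sum_congr rfl fun r _ => h r

theorem Ea_emb [NeZero k] (i : τ) (a : Fin k → F) (o : Rest i) (X : Matrix (Fin k) (Fin k) F) :
    Ea J i a (embM o X) = embM o.1 X * embM i (pr J a) + embM i (1 - pr J a) := by
  rw [Ea, ← ins_embM i o X, embM_eq_ins i (pr J a), embM_eq_ins i (1 - pr J a), ins_mul, Matrix.mul_one,
    Matrix.one_mul]

theorem Ea_mul_pr [NeZero k] (i : τ) {v : Fin k → Fin k → F} (hv : OB J v) (o : Rest i)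
    (X : Matrix (Fin k) (Fin k) F) (p r : Fin k) :
    Ea J i (v p) (embM o X) * embM i (pr J (v r)) = (if r = p then embM o.1 X else 1) * embM i (pr J (v r)) := by
  rw [Ea_emb, Matrix.add_mul, Matrix.mul_assoc, embM_mul, embM_mul]
  split_ifs with h
  · subst h
    rw [Matrix.sub_mul, Matrix.one_mul, pr_mul_self J (hv.aniso r), sub_self, embM_zero, add_zero]
  · rw [pr_mul_perp J (hv.orth p r (Ne.symm h)), embM_zero, Matrix.mul_zero, zero_add, Matrix.sub_mul,
      Matrix.one_mul, pr_mul_perp J (hv.orth p r (Ne.symm h)), sub_zero, Matrix.one_mul]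

theorem Frm.iso_of_emb [NeZero k] {j : τ} (h : Frm J) {R : GL (Fin k) F} (hR : embG j R ∈ iso (JJ J τ)) : R ∈ iso J := by
  refine mem_iso.2 (h.iso_of_bf fun x x' => ?_)
  obtain ⟨y, y', hy⟩ : ∃ y y', bf (JJ J (Rest j)) y y' ≠ 0 := by
    by_contra hcon
    push Not at hcon
    refine (h.pow (Rest j)).det ?_
    have hz : JJ J (Rest j) = 0 := Matrix.ext fun p q => by
      have := hcon (Pi.single q 1) (Pi.single p 1)
      simpa [bf, dotProduct, Pi.single_apply] using this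
    rw [hz]; exact Matrix.det_zero
  have := (h.pow τ).bf_iso hR (iv j y x) (iv j y' x')
  rw [embG_val, embM_mulVec_iv, embM_mulVec_iv, bf_iv, bf_iv] at this
  exact mul_left_cancel₀ hy this

theorem pieceM_comm {i : τ} {a : Fin k → F} (ha : bf J a a ≠ 0) {g h : GL (Ix τ k) F}
    (hg : g ∈ comG J i a) (hh : h ∈ comG J i a) :
    pieceM J i a (⁅g, h⁆).1 = (⁅pieceG i a ha ⟨g, hg⟩, pieceG i a ha ⟨h, hh⟩⁆).1 := by
  rw [← map_commutatorElement, pieceG_val ha]
  have e : ((⁅(⟨g, hg⟩ : comG J i a), ⟨h, hh⟩⁆ : comG J i a) : GL (Ix τ k) F) = ⁅g, h⁆ := by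
    simp only [commutatorElement_def, Subgroup.coe_mul, Subgroup.coe_inv]
  rw [e]

theorem sign_swap {K : Type*} [Ring K] (A B C D : Prop) [Decidable A] [Decidable B] [Decidable C] [Decidable D]
    (hAB : ¬(A ∧ B)) (hCD : ¬(C ∧ D)) :
    ((if A then (if C ∨ D then (-1 : K) else 1) else 1) * (if B then (if C ∨ D then -1 else 1) else 1)) =
      (if C then (if A ∨ B then -1 else 1) else 1) * (if D then (if A ∨ B then -1 else 1) else 1) := by
  by_cases A <;> by_cases B <;> by_cases C <;> by_cases D <;> simp_all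

theorem eHom_injective (i : τ) {a : Fin k → F} (ha : bf J a a ≠ 0) :
    Function.Injective (eHom (J := J) i a ha) := by
  intro T T' e
  refine Units.ext (Matrix.ext_iff_mulVec.2 fun y => iv_left_injective i ha ?_)
  have := congrArg (fun Z : GL (Ix τ k) F => Z.1 *ᵥ iv i y a) e
  simp only [eHom_val, Ea_mulVec, inv_mul_cancel₀ ha, one_smul, ← iv_add_left, add_sub_cancel] at this
  exact this

/-- Commuting up to scalars with two elements means commuting with their commutator. -/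
theorem commute_commutator {γ : Type} [Fintype γ] [DecidableEq γ] {x a b : GL γ F}
    (ha : ∃ c : F, (⁅x, a⁆).1 = c • 1) (hb : ∃ c : F, (⁅x, b⁆).1 = c • 1) :
    x * ⁅a, b⁆ = ⁅a, b⁆ * x := by
  obtain ⟨ca, ha⟩ := ha
  obtain ⟨cb, hb⟩ := hb
  have za : ∀ y, ⁅x, a⁆ * y = y * ⁅x, a⁆ := fun y => Units.ext (by rw [Units.val_mul, Units.val_mul, ha, smul_one_comm])
  have zb : ∀ y, ⁅x, b⁆ * y = y * ⁅x, b⁆ := fun y => Units.ext (by rw [Units.val_mul, Units.val_mul, hb, smul_one_comm])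
  calc x * ⁅a, b⁆ = ⁅⁅x, a⁆ * a, ⁅x, b⁆ * b⁆ * x := by simp only [commutatorElement_def]; group
    _ = _ := by rw [commutator_central za zb]

namespace Fac

variable (hf : Fac J)
include hf

/-- The rotation on two of three lines of one value is in the second commutator group. -/
theorem pair_mem_Lc {u v w : Fin k → F} (hu : bf J u u ≠ 0) (hw : bf J w w ≠ 0) (ev : bf J v v = bf J u u)
    (ew : bf J w w = bf J u u) (huv : bf J u v = 0) (huw : bf J u w = 0) (hvw : bf J v w = 0) :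
    rotG J u hu * rotG J w hw ∈ Lc J := by
  have h := hf.frm
  have hv : bf J v v ≠ 0 := by rw [ev]; exact hu
  obtain ⟨R, hR, r1, r2, -, -⟩ := hf.exists_cycle hu ev ew huv huw hvw
  obtain ⟨l, hl, c, hc⟩ := hf.core.omL _ (rot_pair_mem_Om h hu hv ⟨bf J u u, by rw [ev]⟩)
  have hc2 : c * c = 1 := by
    have h1 := h.bf_iso ((iso J).mul_mem (h.rotG_mem hu) (h.rotG_mem hv)) u u
    rw [hc, Matrix.smul_mulVec, bf_smul_left, bf_smul_right, h.bf_iso (om_le _ (lc_le _ hl)) u u, ← mul_assoc] at h1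
    exact mul_right_cancel₀ hu (h1.trans (one_mul _).symm)
  have hm := (Lc J).mul_mem hl ((conj_om (iso_conj (om_le _ hR))).2 l hl)
  rw [show rotG J u hu * rotG J w hw = l * (R * l * R⁻¹) from Units.ext ?_]
  · exact hm
  have hl' : l.1 = c • (rot J u * rot J v) := by
    rw [show rot J u * rot J v = (rotG J u hu * rotG J v hv).1 from rfl, hc, smul_smul, hc2, one_smul]
  have e1 : R.1 * (rot J u * rot J v) * (R⁻¹).1 = rot J v * rot J w :=
    calc R.1 * (rot J u * rot J v) * (R⁻¹).1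
        = (R.1 * rot J u * (R⁻¹).1) * (R.1 * rot J v * (R⁻¹).1) := by
          simp only [Matrix.mul_assoc]
          rw [← Matrix.mul_assoc (R⁻¹).1 R.1, R.inv_mul, Matrix.one_mul]
      _ = _ := by rw [h.conj_rot (om_le _ hR), h.conj_rot (om_le _ hR), r1, r2]
  show rot J u * rot J w = _
  rw [Units.val_mul, Units.val_mul, Units.val_mul, hl', Matrix.mul_smul, Matrix.smul_mul, Matrix.smul_mul,
    Matrix.mul_smul, e1, smul_smul, hc2, one_smul, Matrix.mul_assoc, ← Matrix.mul_assoc (rot J v),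
    rot_mul_self J hv, Matrix.one_mul]

end Fac

namespace Ctx

variable {M : Subgroup (GL (Ix τ k) F)} (H : Ctx J M)
include H

set_option maxHeartbeats 1600000 in
/-- The image of one line's elements on another line of the frame. -/
theorem line_image [NeZero k] {i : τ} {f : Fin k → Fin k → F} (hfr : Fr J f) {a : Fin k}
    (hfull : ∀ x ∈ Om (JJ J (Rest i)), ∃ g ∈ cF M J i f, pieceM J i (f a) g.1 = x.1) (b : Fin k)
    (j : Rest i) (o : Rest j) {w : Fin k → Fin k → F} (hw : Fr J w) (p : Fin k) :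
    ∃ S : Finset (Fin k), S.Nonempty ∧ ∀ l ∈ Lc J, ∃ g ∈ cF M J i f,
      (∀ r, pieceM J i (f a) g.1 * embM j (pr J (w r)) =
        (if r = p then embM o.1 l.1 else 1) * embM j (pr J (w r))) ∧
      ∀ r, pieceM J i (f b) g.1 * embM j (pr J (w r)) =
        (if r ∈ S then embM o.1 l.1 else 1) * embM j (pr J (w r)) := by
  classical
  have hf := H.fac
  have h := hf.frm
  obtain ⟨ι, hι⟩ : ∃ ι, ι = (eHom (J := J) j (w p) (hw.ne p)).comp (embG o) := ⟨_, rfl⟩
  have hιv : ∀ l, (ι l).1 = Ea J j (w p) (embM o l.1) := fun l => by rw [hι]; rfl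
  have hιinj : Function.Injective ι := by
    rw [hι]; exact (eHom_injective j (hw.ne p)).comp (hf.embG_inj o)
  have hsub : ∀ x, cF M J i f ≤ comG J i (f x) := fun x g hg => (mem_cF.1 hg).2 x
  let pc : Fin k → ((cF M J i f) →* GL (Ix (Rest i) k) F) := fun x =>
    (pieceG i (f x) (hfr.ne x)).comp (Subgroup.inclusion (hsub x))
  have pcv : ∀ x (g : cF M J i f), (pc x g).1 = pieceM J i (f x) g.1.1 := fun _ _ => rfl
  have pcl : ∀ x (X : GL (Ix (Rest i) k) F) (hX : TensorWreath.lift i X ∈ M),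
      pc x ⟨_, lift_cF hX⟩ = X := fun x X _ => pieceG_lift i (hfr.ne x) X
  have scal : ∀ g, pc a g = 1 → ∃ c : F, (pc b g).1 = c • 1 := fun g hg =>
    H.piece_scalar hfr g.2 (a := a) ⟨1, by rw [one_smul, ← pcv, hg, Units.val_one]⟩ b
  obtain ⟨G0, hG0⟩ : ∃ G0, G0 = ((Lc J).map ι).comap (pc a) := ⟨_, rfl⟩
  have memG0 : ∀ g, g ∈ G0 ↔ ∃ l ∈ Lc J, ι l = pc a g := fun g => by
    rw [hG0, Subgroup.mem_comap, Subgroup.mem_map]
  obtain ⟨G1, hG1⟩ : ∃ G1, G1 = ⁅G0, G0⁆ := ⟨_, rfl⟩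
  have hG10 : G1 ≤ G0 := hG1 ▸ commutator_le_self _
  -- every element comes from the second derived group
  have himg : ∀ l ∈ Lc J, ∃ g ∈ ⁅G1, G1⁆, pc a g = ι l := by
    intro l hl
    have h0 : G0.map (pc a) = (Lc J).map ι := by
      rw [hG0]
      refine Subgroup.map_comap_eq_self ?_
      rintro _ ⟨m, hm, rfl⟩
      obtain ⟨g, hg, e⟩ := hfull (ι m) (by
        rw [hι]; exact eHom_om h j (hw.ne p) (embG_om h o (lc_le _ hm)))
      exact ⟨⟨g, hg⟩, Units.ext e⟩
    have h1 : G1.map (pc a) = (Lc J).map ι := by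
      rw [hG1, Subgroup.map_commutator, h0, ← Subgroup.map_commutator, hf.core.perf]
    have h2 : ι l ∈ (⁅G1, G1⁆).map (pc a) := by
      rw [Subgroup.map_commutator, h1, ← Subgroup.map_commutator, hf.core.perf]
      exact ⟨l, hl, rfl⟩
    obtain ⟨g, hg, e⟩ := h2
    exact ⟨g, hg, e⟩
  -- commuting on one line means commuting on the other
  have exact1 : ∀ X, TensorWreath.lift i X ∈ M → (∀ l ∈ Lc J, X * ι l = ι l * X) →
      ∀ g ∈ G1, X * pc b g = pc b g * X := by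
    intro X hX hc
    have hs : ∀ g ∈ G0, ∃ c : F, (⁅X, pc b g⁆).1 = c • 1 := by
      intro g hg
      obtain ⟨l, hl, e⟩ := (memG0 g).1 hg
      obtain ⟨c, hc'⟩ := scal ⁅(⟨_, lift_cF hX⟩ : cF M J i f), g⁆ (by
        rw [map_commutatorElement, pcl _ X hX, ← e, commutatorElement_eq_one_iff_mul_comm.2 (hc l hl)])
      exact ⟨c, by rw [← hc', map_commutatorElement, pcl _ X hX]⟩
    rw [hG1]
    have hle : ⁅G0, G0⁆ ≤ (Subgroup.centralizer {X}).comap (pc b) := Subgroup.commutator_le.2 fun u hu v hv => by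
      rw [Subgroup.mem_comap, Subgroup.mem_centralizer_singleton_iff, map_commutatorElement]
      exact (commute_commutator (hs u hu) (hs v hv)).symm
    intro g hg
    exact (Subgroup.mem_centralizer_singleton_iff.1 (hle hg)).symm
  have memrot : ∀ r, TensorWreath.lift i (embG j (rotG J (w r) (hw.ne r))) ∈ M := fun r => by
    rw [show TensorWreath.lift i (embG j (rotG J (w r) (hw.ne r))) = embG j.1 (rotG J (w r) (hw.ne r)) from
      Units.ext (by rw [lift_val, embG_val, ins_embM, embG_val])]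
    exact H.toHyp.emb_rot j.1 (hw.good r)
  have hin : ∀ r, ∀ g ∈ G1, pc b g ∈ comG J j (w r) := by
    intro r g hg
    have hcp : rot J (w r) * pr J (w p) = pr J (w p) * rot J (w r) := by
      rw [rot, Matrix.sub_mul, Matrix.mul_sub, Matrix.smul_mul, Matrix.mul_smul, Matrix.one_mul, Matrix.mul_one]
      by_cases hrp : r = p
      · rw [hrp]
      · rw [pr_mul_perp J (hw.ob.orth r p hrp), pr_mul_perp J (hw.ob.orth p r (Ne.symm hrp))]
    refine mem_comG_of_rot h (congrArg Units.val (exact1 _ (memrot r) (fun l hl => Units.ext ?_) g hg)).symm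
    rw [Units.val_mul, Units.val_mul, hιv, Ea, embG_val, embM_eq_ins j]
    show ins j 1 (rot J (w r)) * _ = _ * ins j 1 (rot J (w r))
    rw [Matrix.mul_add, Matrix.add_mul, ins_mul, ins_mul, ins_mul, ins_mul, Matrix.mul_sub, Matrix.sub_mul, hcp]
    simp only [Matrix.one_mul, Matrix.mul_one]
  -- the pieces on the lines
  let Ψ : Fin k → (G1 →* GL (Ix (Rest j) k) F) := fun r =>
    (pieceG j (w r) (hw.ne r)).comp (((pc b).comp G1.subtype).codRestrict _ fun g => hin r g.1 g.2)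
  have Ψv : ∀ r (g : G1), (Ψ r g).1 = pieceM J j (w r) (pc b g.1).1 := fun _ _ => rfl
  have hone : ∀ r (g : G1), ∃ R ∈ iso J, Ψ r g = embG o R := by
    intro r g
    have hcen : ∀ o' : Rest j, o' ≠ o → Cen o' (Ψ r g).1 := by
      intro o' ho'
      refine cen_of_comm (S := {x | ∃ l ∈ Lc J, l.1 = x}) (fun Y hY => hf.core.cent Y fun l hl => hY _ ⟨l, hl, rfl⟩)
        fun x ⟨m, hm, hx⟩ => ?_
      subst hx
      have hlift : TensorWreath.lift j (embG o' m) = embG o'.1 m :=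
        Units.ext (by rw [lift_val, embG_val, ins_embM, embG_val])
      have hc := exact1 _ (H.lift_emb_dn i o'.1 (lc_le _ hm)).1 (fun l _ => Units.ext (by
        rw [Units.val_mul, Units.val_mul, hιv, ← hlift, lift_val, Ea, Matrix.mul_add, Matrix.add_mul, ins_mul,
          ins_mul, ins_mul, ins_mul, embG_val, embM_comm ho']
        simp only [Matrix.one_mul, Matrix.mul_one])) g.1 g.2
      rw [← hlift] at hc
      have h1 : pieceG j (w r) (hw.ne r) (⟨_, lift_comG j _ (embG o' m)⟩ * ⟨pc b g.1, hin r g.1 g.2⟩) =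
          pieceG j (w r) (hw.ne r) (⟨pc b g.1, hin r g.1 g.2⟩ * ⟨_, lift_comG j _ (embG o' m)⟩) :=
        congrArg _ (Subtype.ext hc)
      rw [map_mul, map_mul, pieceG_lift] at h1
      exact (congrArg Units.val h1).symm
    obtain ⟨R, hR⟩ := eq_embM_of_cen o hcen
    have hd : R.det ≠ 0 := fun h0 => by
      have h2 := ((Matrix.isUnit_iff_isUnit_det _).1 (Ψ r g).isUnit).ne_zero
      rw [hR, det_embM, h0] at h2
      exact h2 (zero_pow Fintype.card_ne_zero)
    obtain ⟨u, hu⟩ : ∃ u : GL (Fin k) F, u.1 = R := ⟨Matrix.GeneralLinearGroup.mkOfDetNeZero _ hd, rfl⟩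
    have e : Ψ r g = embG o u := Units.ext (by rw [embG_val, hu, hR])
    refine ⟨u, h.iso_of_emb (j := o) ?_, e⟩
    rw [← e]
    exact pieceG_iso h (hw.ne r) (g := ⟨pc b g.1, hin r g.1 g.2⟩)
      (pieceG_iso h (hfr.ne b) (H.toHyp.iso_mem (mem_cF.1 g.1.2).1))
  have hscalΨ : ∀ r (g : G1), pc a g.1 = 1 → ∃ c : F, (Ψ r g).1 = c • 1 := by
    intro r g hg
    obtain ⟨c, hc⟩ := scal g.1 hg
    refine ⟨c, pieceM_eq (hw.ne r) (hin r g.1 g.2) fun y => ?_⟩
    rw [hc, Matrix.smul_mulVec, Matrix.smul_mulVec, Matrix.one_mulVec, Matrix.one_mulVec, iv_smul_left]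
  -- the other factor's group normalises
  have hY : ∀ m ∈ Om J, ∃ Y : cF M J i f, (∀ x, pc x Y = embG o.1 m) ∧ (∀ g ∈ G1, Y * g * Y⁻¹ ∈ G1) ∧
      ∀ l, pc a Y * ι l * (pc a Y)⁻¹ = ι (m * l * m⁻¹) := by
    intro m hm
    refine ⟨⟨_, lift_cF (H.lift_emb_dn i o.1 hm).1⟩, fun x => pcl x _ (H.lift_emb_dn i o.1 hm).1, ?_, ?_⟩
    rotate_left
    · intro l
      rw [pcl a _ (H.lift_emb_dn i o.1 hm).1]
      refine Units.ext ?_
      rw [Units.val_mul, Units.val_mul, ← map_inv, hιv, hιv,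
        show (embG o.1 m).1 = ins j (embM o m.1) 1 from (ins_embM j o _).symm,
        show (embG o.1 m⁻¹).1 = ins j (embM o (m⁻¹).1) 1 from (ins_embM j o _).symm, Ea, Ea, Matrix.mul_add,
        Matrix.add_mul, ins_mul, ins_mul, ins_mul, ins_mul]
      simp only [Matrix.one_mul, Matrix.mul_one, embM_mul, Units.val_mul, Units.mul_inv, embM_one]
    · obtain ⟨Y, hYd⟩ : ∃ Y : cF M J i f, Y = ⟨_, lift_cF (H.lift_emb_dn i o.1 hm).1⟩ := ⟨_, rfl⟩
      rw [← hYd]
      have h0 : G0.map (MulAut.conj Y).toMonoidHom ≤ G0 := by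
        rintro _ ⟨g, hg, rfl⟩
        obtain ⟨l, hl, e⟩ := (memG0 g).1 hg
        refine (memG0 _).2 ⟨m * l * m⁻¹, (conj_om (iso_conj (om_le _ hm))).2 l hl, ?_⟩
        show _ = pc a (Y * g * Y⁻¹)
        rw [map_mul (pc a), map_mul (pc a), map_inv (pc a), ← e, hYd, pcl a _ (H.lift_emb_dn i o.1 hm).1]
        symm
        refine Units.ext ?_
        rw [Units.val_mul, Units.val_mul, ← map_inv, hιv, hιv,
          show (embG o.1 m).1 = ins j (embM o m.1) 1 from (ins_embM j o _).symm,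
          show (embG o.1 m⁻¹).1 = ins j (embM o (m⁻¹).1) 1 from (ins_embM j o _).symm, Ea, Ea, Matrix.mul_add,
          Matrix.add_mul, ins_mul, ins_mul, ins_mul, ins_mul]
        simp only [Matrix.one_mul, Matrix.mul_one, embM_mul, Units.val_mul, Units.mul_inv, embM_one]
      intro g hg
      have h1 : G1.map (MulAut.conj Y).toMonoidHom ≤ G1 := by
        rw [hG1, Subgroup.map_commutator]
        exact Subgroup.commutator_mono h0 h0
      exact h1 ⟨g, hg, rfl⟩
  -- each piece is trivial or the same element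
  have dich : ∀ r, (∀ g, ∀ hg : g ∈ G1, g ∈ ⁅G1, G1⁆ → Ψ r ⟨g, hg⟩ = 1) ∨
      ∀ g, ∀ hg : g ∈ G1, g ∈ ⁅G1, G1⁆ → ∀ l, ι l = pc a g → Ψ r ⟨g, hg⟩ = embG o l := by
    intro r
    have hpush : ∀ g, ∀ hg : g ∈ G1, g ∈ ⁅G1, G1⁆ →
        (⟨g, hg⟩ : G1) ∈ ⁅(⊤ : Subgroup G1), (⊤ : Subgroup G1)⁆ := by
      intro g hg hg2
      have e : (⁅(⊤ : Subgroup G1), (⊤ : Subgroup G1)⁆).map G1.subtype = ⁅G1, G1⁆ := by
        rw [Subgroup.map_commutator, ← MonoidHom.range_eq_map, Subgroup.range_subtype]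
      rw [← e] at hg2
      obtain ⟨⟨g', _⟩, hg', rfl⟩ := hg2
      exact hg'
    by_cases hall : ∀ g : G1, ∃ c : F, (Ψ r g).1 = c • 1
    · left
      intro g hg hg2
      have hle : ⁅(⊤ : Subgroup G1), (⊤ : Subgroup G1)⁆ ≤ (Ψ r).ker := Subgroup.commutator_le.2 fun u _ v _ => by
        obtain ⟨c, hc⟩ := hall u
        rw [MonoidHom.mem_ker, map_commutatorElement]
        exact comm_one_of_scalar hc _
      exact hle (hpush g hg hg2)
    right
    push Not at hall
    obtain ⟨g₀, hg₀⟩ := hall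
    obtain ⟨R₀, hR₀, e₀⟩ := hone r g₀
    obtain ⟨V, hV⟩ : ∃ V, V = (Ψ r).range.comap (embG o) ⊓ iso J := ⟨_, rfl⟩
    have hle : Lc J ≤ V := by
      refine hf.core.simp V (hV ▸ inf_le_right) (fun m hm u hu => ?_) ⟨R₀, hV ▸ ⟨⟨g₀, e₀⟩, hR₀⟩, fun c hc => hg₀ c ?_⟩
      · rw [hV] at hu ⊢
        obtain ⟨⟨g', eg⟩, hui⟩ := hu
        obtain ⟨Y, hYp, hYn, -⟩ := hY m (lc_le _ hm)
        refine ⟨⟨⟨_, hYn g'.1 g'.2⟩, ?_⟩,
          (iso J).mul_mem ((iso J).mul_mem (om_le _ (lc_le _ hm)) hui) ((iso J).inv_mem (om_le _ (lc_le _ hm)))⟩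
        have hlift : TensorWreath.lift j (embG o m) = embG o.1 m :=
          Units.ext (by rw [lift_val, embG_val, ins_embM, embG_val])
        have h1 : (⟨pc b (Y * g'.1 * Y⁻¹), hin r _ (hYn g'.1 g'.2)⟩ : comG J j (w r)) =
            ⟨_, lift_comG j _ (embG o m)⟩ * ⟨pc b g'.1, hin r g'.1 g'.2⟩ * ⟨_, lift_comG j _ (embG o m)⟩⁻¹ := by
          refine Subtype.ext ?_
          simp only [map_mul, map_inv, hYp, Subgroup.coe_mul, Subgroup.coe_inv, hlift]
        show pieceG j (w r) (hw.ne r) ⟨pc b (Y * g'.1 * Y⁻¹), _⟩ = embG o (m * u * m⁻¹)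
        rw [h1, map_mul, map_mul, map_inv, pieceG_lift, map_mul, map_mul, map_inv, ← eg]
        rfl
      · rw [e₀, embG_val, hc, embM_smul, embM_one]
    have hid : ∀ (g : G1) (l : GL (Fin k) F), l ∈ Lc J → ι l = pc a g.1 →
        ∃ z, (∀ y, z * y = y * z) ∧ Ψ r g = z * embG o l := by
      intro g l hl el
      obtain ⟨R, hR, eR⟩ := hone r g
      obtain ⟨c, hc⟩ : ∃ c : F, (l⁻¹ * R).1 = c • 1 := by
        refine hf.core.cent _ fun v hv => congrArg Units.val (comm_of_scalar hf.core.perf (u := l⁻¹ * R) ?_ v hv)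
        intro v hv
        have hv' := hle hv
        rw [hV] at hv'
        obtain ⟨⟨g', eg⟩, -⟩ := hv'
        obtain ⟨m, hm, em⟩ := (memG0 g'.1).1 (hG10 g'.2)
        obtain ⟨Y, hYp, hYn, hYc⟩ := hY l (lc_le _ hl)
        obtain ⟨z, hz⟩ : ∃ z : G1, z = ⟨_, hYn g'.1 g'.2⟩⁻¹ * (g * g' * g⁻¹) := ⟨_, rfl⟩
        have hz1 : pc a z.1 = 1 := by
          rw [hz]
          simp only [Subgroup.coe_mul, Subgroup.coe_inv, map_mul, map_inv, ← em, ← el]
          rw [hYc, map_mul, map_mul, map_inv, inv_mul_cancel]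
        obtain ⟨c, hc⟩ := hscalΨ r z hz1
        have hΨY : Ψ r ⟨_, hYn g'.1 g'.2⟩ = embG o (l * v * l⁻¹) := by
          have hlift : TensorWreath.lift j (embG o l) = embG o.1 l :=
            Units.ext (by rw [lift_val, embG_val, ins_embM, embG_val])
          have h1 : (⟨pc b (Y * g'.1 * Y⁻¹), hin r _ (hYn g'.1 g'.2)⟩ : comG J j (w r)) =
              ⟨_, lift_comG j _ (embG o l)⟩ * ⟨pc b g'.1, hin r g'.1 g'.2⟩ * ⟨_, lift_comG j _ (embG o l)⟩⁻¹ := by
            refine Subtype.ext ?_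
            simp only [map_mul, map_inv, hYp, Subgroup.coe_mul, Subgroup.coe_inv, hlift]
          show pieceG j (w r) (hw.ne r) ⟨pc b (Y * g'.1 * Y⁻¹), _⟩ = embG o (l * v * l⁻¹)
          rw [h1, map_mul, map_mul, map_inv, pieceG_lift, map_mul, map_mul, map_inv, ← eg]
          rfl
        rw [hz, map_mul, map_inv, map_mul, map_mul, map_inv, hΨY, eR, eg, ← map_inv, ← map_inv, ← map_mul,
          ← map_mul, ← map_mul] at hc
        refine ⟨c, ?_⟩
        have h2 : ((l * v * l⁻¹)⁻¹ * (R * v * R⁻¹)).1 = c • 1 := hf.scalar_emb (j := o) hc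
        have h3 : l⁻¹ * R * v = v * (l⁻¹ * R) * (R⁻¹ * ((l * v * l⁻¹)⁻¹ * (R * v * R⁻¹)) * R) := by
          group
        have h4 : (R⁻¹ * ((l * v * l⁻¹)⁻¹ * (R * v * R⁻¹)) * R).1 = c • 1 := by
          rw [Units.val_mul, Units.val_mul R⁻¹, h2, ← smul_one_comm, Matrix.mul_assoc, Units.inv_mul,
            Matrix.mul_one]
        rw [← Units.val_mul, h3, Units.val_mul, h4, Matrix.mul_smul, Matrix.mul_one, Units.val_mul]
      refine ⟨embG o (l⁻¹ * R), fun y => Units.ext ?_, ?_⟩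
      · rw [Units.val_mul, Units.val_mul, embG_val, hc, embM_smul, embM_one, smul_one_comm]
      · rw [eR, ← map_mul, show l⁻¹ * R * l = R from Units.ext ?_]
        rw [Units.val_mul, hc, smul_one_comm, ← hc, ← Units.val_mul, show l * (l⁻¹ * R) = R by group]
    intro g hg hg2 l el
    have hle2 : ⁅(⊤ : Subgroup G1), (⊤ : Subgroup G1)⁆ ≤
        MonoidHom.eqLocus ((eHom (J := J) j (w p) (hw.ne p)).comp (Ψ r)) ((pc a).comp G1.subtype) := by
      refine Subgroup.commutator_le.2 fun u _ v _ => ?_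
      obtain ⟨lu, hlu, eu⟩ := (memG0 u.1).1 (hG10 u.2)
      obtain ⟨lv, hlv, ev⟩ := (memG0 v.1).1 (hG10 v.2)
      obtain ⟨zu, hzu, fu⟩ := hid u lu hlu eu
      obtain ⟨zv, hzv, fv⟩ := hid v lv hlv ev
      show (eHom (J := J) j (w p) (hw.ne p)) (Ψ r ⁅u, v⁆) = pc a (G1.subtype ⁅u, v⁆)
      rw [map_commutatorElement (Ψ r), fu, fv, commutator_central hzu hzv, map_commutatorElement,
        map_commutatorElement, map_commutatorElement]
      show _ = ⁅pc a u.1, pc a v.1⁆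
      rw [← eu, ← ev, hι]
      rfl
    refine eHom_injective (J := J) j (hw.ne p) ?_
    have h2 : eHom (J := J) j (w p) (hw.ne p) (Ψ r ⟨g, hg⟩) = pc a g := hle2 (hpush g hg hg2)
    rw [h2, ← el, hι]
    rfl
  obtain ⟨S, hS⟩ : ∃ S : Finset (Fin k), ∀ r, r ∈ S ↔ ¬ ∀ g, ∀ hg : g ∈ G1, g ∈ ⁅G1, G1⁆ → Ψ r ⟨g, hg⟩ = 1 :=
    ⟨Finset.univ.filter fun r => ¬ ∀ g, ∀ hg : g ∈ G1, g ∈ ⁅G1, G1⁆ → Ψ r ⟨g, hg⟩ = 1, fun r => by simp⟩
  have key : ∀ (g : cF M J i f) (l : GL (Fin k) F), g ∈ ⁅G1, G1⁆ → pc a g = ι l →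
      (∀ r, pieceM J i (f a) g.1.1 * embM j (pr J (w r)) =
        (if r = p then embM o.1 l.1 else 1) * embM j (pr J (w r))) ∧
      ∀ r, pieceM J i (f b) g.1.1 * embM j (pr J (w r)) =
        (if r ∈ S then embM o.1 l.1 else 1) * embM j (pr J (w r)) := by
    intro g l hg el
    refine ⟨fun r => by rw [← pcv a g, el, hιv, Ea_mul_pr j hw.ob], fun r => ?_⟩
    have hg1 : g ∈ G1 := commutator_le_self _ hg
    rw [← pcv b g, piece_mul_pr (hw.ne r) (hin r g hg1), ← Ψv r ⟨g, hg1⟩]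
    split_ifs with hr
    · rw [((dich r).resolve_left ((hS r).1 hr)) g hg1 hg l el.symm, embG_val, ins_embM]
    · rw [(Classical.not_not.1 fun hn => hr ((hS r).2 hn)) g hg1 hg, Units.val_one, ins_one_one]
  refine ⟨S, Finset.nonempty_iff_ne_empty.2 fun hS0 => ?_, fun l hl => ?_⟩
  · obtain ⟨l, hl, hls⟩ := hf.exists_nonscal
    obtain ⟨g, hg, el⟩ := himg l hl
    have hb : pieceM J i (f b) g.1.1 = 1 := hw.ob.eq_of_mul_pr j fun r => by
      rw [(key g l hg el).2 r, if_neg (by simp [hS0])]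
    obtain ⟨c, hc⟩ := H.piece_scalar hfr g.2 (a := b) ⟨1, by rw [one_smul, hb]⟩ a
    obtain ⟨r, hr⟩ : ∃ r : Fin k, r ≠ p := by
      have := hf.three
      exact Fintype.exists_ne_of_one_lt_card (by rw [Fintype.card_fin]; omega) p
    have e1 := (key g l hg el).1 r
    rw [hc, if_neg hr, Matrix.smul_mul, Matrix.one_mul] at e1
    have hne : embM (τ := Rest i) j (pr J (w r)) ≠ 0 := fun e0 => by
      have := congrArg (fun Z => Z *ᵥ w r) (embM_injective j (e0.trans (embM_zero j).symm))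
      simp only [pr_self J (hw.ne r), Matrix.zero_mulVec] at this
      exact hw.ne r (by rw [this, bf_zero_left])
    have hc1 : c = 1 := smul_left_injective F hne (by simpa using e1)
    refine hls 1 ?_
    rw [one_smul]
    have h2 : ι l = 1 := Units.ext (by rw [← el, pcv, hc, hc1, one_smul, Units.val_one])
    exact congrArg Units.val (hιinj (h2.trans (map_one ι).symm))
  · obtain ⟨g, hg, el⟩ := himg l hl
    exact ⟨g.1, g.2, key g l hg el⟩

omit H in
theorem piece_mul [NeZero k] {i : τ} {f : Fin k → Fin k → F} (hfr : Fr J f) (x : Fin k) {u v : GL (Ix τ k) F}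
    (hu : u ∈ cF M J i f) (hv : v ∈ cF M J i f) :
    pieceM J i (f x) (u * v).1 = pieceM J i (f x) u.1 * pieceM J i (f x) v.1 :=
  congrArg Units.val ((pieceG i (f x) (hfr.ne x)).map_mul ⟨u, (mem_cF.1 hu).2 x⟩ ⟨v, (mem_cF.1 hv).2 x⟩)

/-- Elements with one piece in common have proportional pieces. -/
theorem piece_ratio [NeZero k] {i : τ} {f : Fin k → Fin k → F} (hfr : Fr J f) {u v : GL (Ix τ k) F}
    (hu : u ∈ cF M J i f) (hv : v ∈ cF M J i f) {a : Fin k} (e : pieceM J i (f a) u.1 = pieceM J i (f a) v.1)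
    (b : Fin k) : ∃ c : F, pieceM J i (f b) u.1 = c • pieceM J i (f b) v.1 := by
  have hvv : u * v⁻¹ ∈ cF M J i f := (cF M J i f).mul_mem hu ((cF M J i f).inv_mem hv)
  have hm : ∀ x, pieceM J i (f x) u.1 = pieceM J i (f x) (u * v⁻¹).1 * pieceM J i (f x) v.1 := fun x => by
    rw [← piece_mul hfr x hvv hv, inv_mul_cancel_right]
  obtain ⟨c, hc⟩ := H.piece_scalar hfr hvv (a := a) ⟨1, by
    have h5 := hm a
    rw [e] at h5
    have hunit : IsUnit (pieceM J i (f a) v.1) := by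
      rw [← pieceG_val (hfr.ne a) ⟨v, (mem_cF.1 hv).2 a⟩]; exact Units.isUnit _
    rw [one_smul]
    exact hunit.mul_eq_right.1 h5.symm⟩ b
  exact ⟨c, by rw [hm b, hc, Matrix.smul_mul, Matrix.one_mul]⟩

omit H in
theorem pr_pair_ne_zero [NeZero k] {σ : Type} [Fintype σ] [DecidableEq σ] (j : σ) (o : Rest j) {x y : Fin k → F}
    (hx : bf J x x ≠ 0) (hy : bf J y y ≠ 0) : embM j (pr J x) * embM o.1 (pr J y) ≠ 0 := by
  intro e
  have h1 := congrArg (fun Z => Z *ᵥ iv j (iv o (fun _ => (1 : F)) y) x) e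
  simp only [← Matrix.mulVec_mulVec, embM_rest_iv j o, embM_mulVec_iv, pr_self J hx, pr_self J hy,
    Matrix.zero_mulVec] at h1
  have h2 := iv_left_injective j hx (h1.trans (iv_zero_left j x).symm)
  have h3 := iv_left_injective o hy (h2.trans (iv_zero_left o y).symm)
  exact one_ne_zero (congrFun h3 fun _ => (0 : Fin k))

/-- Different lines have disjoint supports. -/
theorem supports_disjoint [NeZero k] {i : τ} {f : Fin k → Fin k → F} (hfr : Fr J f) {a b : Fin k} (j : Rest i)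
    (o : Rest j) {w : Fin k → Fin k → F} (hw : Fr J w) {p q : Fin k} (hpq : p ≠ q) {S T : Finset (Fin k)}
    (hS : ∀ l ∈ Lc J, ∃ g ∈ cF M J i f,
      (∀ r, pieceM J i (f a) g.1 * embM j (pr J (w r)) =
        (if r = p then embM o.1 l.1 else 1) * embM j (pr J (w r))) ∧
      ∀ r, pieceM J i (f b) g.1 * embM j (pr J (w r)) =
        (if r ∈ S then embM o.1 l.1 else 1) * embM j (pr J (w r)))
    (hT : ∀ l ∈ Lc J, ∃ g ∈ cF M J i f,
      (∀ r, pieceM J i (f a) g.1 * embM j (pr J (w r)) =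
        (if r = q then embM o.1 l.1 else 1) * embM j (pr J (w r))) ∧
      ∀ r, pieceM J i (f b) g.1 * embM j (pr J (w r)) =
        (if r ∈ T then embM o.1 l.1 else 1) * embM j (pr J (w r)))
    {r : Fin k} (hp : r ∈ S) (hq : r ∈ T) : False := by
  classical
  have hf := H.fac
  obtain ⟨l, hl, hls⟩ := hf.exists_nonscal
  obtain ⟨m, hm, hlm⟩ := hf.exists_move (om_le _ (lc_le _ hl)) hls
  obtain ⟨g, hg, ga, gb⟩ := hS l hl
  obtain ⟨g', hg', ga', gb'⟩ := hT m hm
  have hjo : j ≠ o.1 := fun e => o.2 e.symm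
  have key : ∀ (X Y : Matrix (Ix (Rest i) k) (Ix (Rest i) k) F) (A B P : Matrix (Fin k) (Fin k) F),
      X * embM j P = embM o.1 A * embM j P → Y * embM j P = embM o.1 B * embM j P →
      X * Y * embM j P = embM o.1 (A * B) * embM j P := by
    intro X Y A B P hX hY
    rw [Matrix.mul_assoc, hY, ← embM_comm hjo, ← Matrix.mul_assoc, hX, Matrix.mul_assoc,
      embM_comm hjo, ← Matrix.mul_assoc, embM_mul]
  have hcom : pieceM J i (f a) (g * g').1 = pieceM J i (f a) (g' * g).1 := hw.ob.eq_of_mul_pr j fun s => by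
    have hA : pieceM J i (f a) g.1 * embM j (pr J (w s)) =
        embM o.1 (if s = p then l.1 else 1) * embM j (pr J (w s)) := by
      rw [ga s]; split_ifs <;> simp [embM_one]
    have hB : pieceM J i (f a) g'.1 * embM j (pr J (w s)) =
        embM o.1 (if s = q then m.1 else 1) * embM j (pr J (w s)) := by
      rw [ga' s]; split_ifs <;> simp [embM_one]
    rw [piece_mul hfr a hg hg', piece_mul hfr a hg' hg, key _ _ _ _ _ hA hB, key _ _ _ _ _ hB hA]
    by_cases hsp : s = p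
    · rw [if_neg (fun e : s = q => hpq (hsp.symm.trans e)), Matrix.mul_one, Matrix.one_mul]
    · rw [if_neg hsp, Matrix.mul_one, Matrix.one_mul]
  obtain ⟨c, hc⟩ := H.piece_ratio hfr ((cF M J i f).mul_mem hg hg') ((cF M J i f).mul_mem hg' hg) hcom b
  rw [piece_mul hfr b hg hg', piece_mul hfr b hg' hg] at hc
  have e1 := congrArg (· * embM j (pr J (w r))) hc
  simp only [Matrix.smul_mul] at e1
  rw [key _ _ _ _ _ (by rw [gb r, if_pos hp]) (by rw [gb' r, if_pos hq]),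
    key _ _ _ _ _ (by rw [gb' r, if_pos hq]) (by rw [gb r, if_pos hp]), ← Matrix.smul_mul, ← embM_smul] at e1
  have e3 : ∀ Z, embM (τ := Rest i) o.1 Z * embM j (pr J (w r)) = ins j (embM o Z) (pr J (w r)) := fun Z => by
    rw [← ins_embM j o Z, embM_eq_ins j, ins_mul, Matrix.mul_one, Matrix.one_mul]
  rw [e3, e3] at e1
  have e2 : l.1 * m.1 = c • (m.1 * l.1) := by
    refine embM_injective o (ins_left_injective j (fun e0 => ?_) e1)
    have := congrArg (fun Z => Z *ᵥ w r) e0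
    simp only [pr_self J (hw.ne r), Matrix.zero_mulVec] at this
    exact hw.ne r (by rw [this, bf_zero_left])
  refine hlm c ?_
  rw [commutatorElement_def, Units.val_mul, Units.val_mul, Units.val_mul, e2, Matrix.smul_mul, Matrix.smul_mul]
  congr 1
  rw [← Units.val_mul, ← Units.val_mul, ← Units.val_mul, show m * l * l⁻¹ * m⁻¹ = 1 by group, Units.val_one]

set_option maxHeartbeats 1000000 in
/-- A line keeps to itself: two lines against two lines of another factor. -/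
theorem support_pair [NeZero k] {i : τ} {f : Fin k → Fin k → F} (hfr : Fr J f) {a b : Fin k} (j : Rest i)
    (o : Rest j) (o' : Rest o.1) (ho' : o'.1 = j) {w : Fin k → Fin k → F} (hw : Fr J w) {p q : Fin k} (hpq : p ≠ q) {l : GL (Fin k) F}
    (hls : ∀ s, l.1 * pr J (w s) = (if s = p ∨ s = q then (-1 : F) else 1) • pr J (w s))
    {S₁ S₂ S₃ S₄ : Finset (Fin k)} {g1 g2 g3 g4 : GL (Ix τ k) F} (hg1 : g1 ∈ cF M J i f) (hg2 : g2 ∈ cF M J i f)
    (hg3 : g3 ∈ cF M J i f) (hg4 : g4 ∈ cF M J i f)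
    (a1 : ∀ r, pieceM J i (f a) g1.1 * embM j (pr J (w r)) = (if r = p then embM o.1 l.1 else 1) * embM j (pr J (w r)))
    (a2 : ∀ r, pieceM J i (f a) g2.1 * embM j (pr J (w r)) = (if r = q then embM o.1 l.1 else 1) * embM j (pr J (w r)))
    (a3 : ∀ r, pieceM J i (f a) g3.1 * embM o.1 (pr J (w r)) =
      (if r = p then embM o'.1 l.1 else 1) * embM o.1 (pr J (w r)))
    (a4 : ∀ r, pieceM J i (f a) g4.1 * embM o.1 (pr J (w r)) =
      (if r = q then embM o'.1 l.1 else 1) * embM o.1 (pr J (w r)))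
    (b1 : ∀ r, pieceM J i (f b) g1.1 * embM j (pr J (w r)) = (if r ∈ S₁ then embM o.1 l.1 else 1) * embM j (pr J (w r)))
    (b2 : ∀ r, pieceM J i (f b) g2.1 * embM j (pr J (w r)) = (if r ∈ S₂ then embM o.1 l.1 else 1) * embM j (pr J (w r)))
    (b3 : ∀ r, pieceM J i (f b) g3.1 * embM o.1 (pr J (w r)) =
      (if r ∈ S₃ then embM o'.1 l.1 else 1) * embM o.1 (pr J (w r)))
    (b4 : ∀ r, pieceM J i (f b) g4.1 * embM o.1 (pr J (w r)) =
      (if r ∈ S₄ then embM o'.1 l.1 else 1) * embM o.1 (pr J (w r)))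
    {r : Fin k} (hr : r ∈ S₁) (hr2 : r ∉ S₂) : r = p ∨ r = q := by
  classical
  have h := H.fac.frm
  have hjo : j ≠ o.1 := fun e => o.2 e.symm
  obtain ⟨σ, hσ⟩ : ∃ σ : Fin k → F, σ = fun s => if s = p ∨ s = q then -1 else 1 := ⟨_, rfl⟩
  have sgn : ∀ (x : Rest i) (P : Prop) [Decidable P] (s : Fin k),
      (if P then embM x l.1 else 1) * embM x (pr J (w s)) = (if P then σ s else 1) • embM x (pr J (w s)) := by
    intro x P _ s
    split_ifs
    · rw [embM_mul, hls s, embM_smul, hσ]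
    · rw [Matrix.one_mul, one_smul]
  have act : ∀ (X : Matrix (Ix (Rest i) k) (Ix (Rest i) k) F) (P : Fin k → Prop) [DecidablePred P],
      (∀ r, X * embM j (pr J (w r)) = (if P r then embM o.1 l.1 else 1) * embM j (pr J (w r))) → ∀ r s,
      X * (embM j (pr J (w r)) * embM o.1 (pr J (w s))) =
        (if P r then σ s else 1) • (embM j (pr J (w r)) * embM o.1 (pr J (w s))) := by
    intro X P _ hX r s
    rw [← Matrix.mul_assoc, hX, Matrix.mul_assoc, embM_comm hjo, ← Matrix.mul_assoc, sgn, Matrix.smul_mul]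
  have act' : ∀ (X : Matrix (Ix (Rest i) k) (Ix (Rest i) k) F) (P : Fin k → Prop) [DecidablePred P],
      (∀ r, X * embM o.1 (pr J (w r)) = (if P r then embM o'.1 l.1 else 1) * embM o.1 (pr J (w r))) → ∀ r s,
      X * (embM j (pr J (w r)) * embM o.1 (pr J (w s))) =
        (if P s then σ r else 1) • (embM j (pr J (w r)) * embM o.1 (pr J (w s))) := by
    intro X P _ hX r s
    rw [embM_comm hjo, ← Matrix.mul_assoc, hX, ho', Matrix.mul_assoc, ← embM_comm hjo, ← Matrix.mul_assoc,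
      sgn, Matrix.smul_mul]
  have hab : ∀ x r s (P Q : Fin k → Prop) [DecidablePred P] [DecidablePred Q],
      (∀ r, pieceM J i (f x) g1.1 * embM j (pr J (w r)) = (if P r then embM o.1 l.1 else 1) * embM j (pr J (w r))) →
      (∀ r, pieceM J i (f x) g2.1 * embM j (pr J (w r)) = (if Q r then embM o.1 l.1 else 1) * embM j (pr J (w r))) →
      pieceM J i (f x) (g1 * g2).1 * (embM j (pr J (w r)) * embM o.1 (pr J (w s))) =
        ((if P r then σ s else 1) * (if Q r then σ s else 1)) •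
          (embM j (pr J (w r)) * embM o.1 (pr J (w s))) := by
    intro x r s P Q _ _ h1 h2
    rw [piece_mul hfr x hg1 hg2, Matrix.mul_assoc, act _ Q h2, Matrix.mul_smul, act _ P h1, smul_smul, mul_comm]
  have hab' : ∀ x r s (P Q : Fin k → Prop) [DecidablePred P] [DecidablePred Q],
      (∀ r, pieceM J i (f x) g3.1 * embM o.1 (pr J (w r)) = (if P r then embM o'.1 l.1 else 1) * embM o.1 (pr J (w r))) →
      (∀ r, pieceM J i (f x) g4.1 * embM o.1 (pr J (w r)) = (if Q r then embM o'.1 l.1 else 1) * embM o.1 (pr J (w r))) →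
      pieceM J i (f x) (g3 * g4).1 * (embM j (pr J (w r)) * embM o.1 (pr J (w s))) =
        ((if P s then σ r else 1) * (if Q s then σ r else 1)) •
          (embM j (pr J (w r)) * embM o.1 (pr J (w s))) := by
    intro x r s P Q _ _ h1 h2
    rw [piece_mul hfr x hg3 hg4, Matrix.mul_assoc, act' _ Q h2, Matrix.mul_smul, act' _ P h1, smul_smul, mul_comm]
  have h12 := (cF M J i f).mul_mem hg1 hg2
  have h34 := (cF M J i f).mul_mem hg3 hg4
  have e0 : pieceM J i (f a) (g1 * g2).1 = pieceM J i (f a) (g3 * g4).1 := hw.ob.eq_of_mul_pr j fun r => by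
    refine hw.ob.eq_of_mul_pr o.1 fun s => ?_
    rw [Matrix.mul_assoc, Matrix.mul_assoc, hab a r s (· = p) (· = q) a1 a2, hab' a r s (· = p) (· = q) a3 a4]
    congr 1
    rw [hσ]
    exact sign_swap (r = p) (r = q) (s = p) (s = q) (fun e => hpq (e.1.symm.trans e.2))
      fun e => hpq (e.1.symm.trans e.2)
  obtain ⟨c, hc⟩ := H.piece_ratio hfr h12 h34 e0 b
  -- compare on a line outside
  by_contra hrq
  rw [not_or] at hrq
  have val : ∀ s, σ s = c := by
    intro s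
    have e1 := congrArg (· * (embM j (pr J (w r)) * embM o.1 (pr J (w s)))) hc
    simp only [Matrix.smul_mul] at e1
    rw [hab b r s (· ∈ S₁) (· ∈ S₂) b1 b2, hab' b r s (· ∈ S₃) (· ∈ S₄) b3 b4, smul_smul, if_pos hr, if_neg hr2,
      mul_one, show σ r = 1 by rw [hσ]; simp [hrq.1, hrq.2], ite_self, ite_self, mul_one, mul_one] at e1
    exact smul_left_injective F (pr_pair_ne_zero j o (hw.ne r) (hw.ne s)) e1
  have e2 := (val p).trans (val r).symm
  rw [hσ] at e2
  simp [hrq.1, hrq.2] at e2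
  exact h.two (by linear_combination -e2)

/-- The elements keeping a frame do not restrict onto the whole commutator group. -/
theorem not_full_piece [NeZero k] (ht : 3 ≤ Fintype.card τ) {i : τ} {f : Fin k → Fin k → F} (hfr : Fr J f)
    {a : Fin k} (hfull : ∀ x ∈ Om (JJ J (Rest i)), ∃ g ∈ cF M J i f, pieceM J i (f a) g.1 = x.1) : False := by
  classical
  have hf := H.fac
  have h := hf.frm
  have h3 := hf.three
  haveI := H.rest_nonempty i
  obtain ⟨j⟩ := H.rest_nonempty i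
  obtain ⟨j', hj'⟩ : ∃ j' : Rest i, j' ≠ j := Fintype.exists_ne_of_one_lt_card (by
    rw [Fintype.card_subtype_compl, Fintype.card_subtype_eq]; omega) j
  obtain ⟨o, ho⟩ : ∃ o : Rest j, o.1 = j' := ⟨⟨j', hj'⟩, rfl⟩
  obtain ⟨o', ho'⟩ : ∃ o' : Rest o.1, o'.1 = j := ⟨⟨j, fun e => hj' (ho.symm.trans e.symm)⟩, rfl⟩
  -- a frame with three lines of one value
  obtain ⟨c₀, hc₀⟩ := h.exists_good (A := J) (by rw [Fintype.card_fin]; omega)
  obtain ⟨w, hwo, hwg, -, hwv⟩ := h.exists_frame_eq hc₀ (Fintype.card_fin k) (by omega)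
  have hw : Fr J w := ⟨hwo, hwg⟩
  obtain ⟨p₀, hp₀⟩ : ∃ p : Fin k, p.val = 0 := ⟨⟨0, by omega⟩, rfl⟩
  obtain ⟨p₁, hp₁⟩ : ∃ p : Fin k, p.val = 1 := ⟨⟨1, by omega⟩, rfl⟩
  obtain ⟨p₂, hp₂⟩ : ∃ p : Fin k, p.val = 2 := ⟨⟨2, by omega⟩, rfl⟩
  have n1 : p₁ ≠ p₀ := fun e => by rw [Fin.ext_iff] at e; omega
  have n2 : p₂ ≠ p₀ := fun e => by rw [Fin.ext_iff] at e; omega
  have n12 : p₁ ≠ p₂ := fun e => by rw [Fin.ext_iff] at e; omega
  have hval : ∀ p : Fin k, p.val ≤ 2 → bf J (w p) (w p) = bf J c₀ c₀ := fun p hp => hwv p (by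
    rcases Nat.lt_or_ge 3 k with h4 | h4
    · exact Or.inl (by omega)
    · exact Or.inr ⟨1, by omega⟩)
  have hsig : ∀ r x : Fin k, r ≠ p₀ → x ≠ p₀ → x ≠ r → r.val ≤ 2 → x.val ≤ 2 → ∃ l ∈ Lc J, ∀ s,
      l.1 * pr J (w s) = (if s = p₀ ∨ s = r then (-1 : F) else 1) • pr J (w s) := by
    intro r x hr0 hx0 hxr hr hx
    refine ⟨_, hf.pair_mem_Lc (v := w x) (hw.ne p₀) (hw.ne r) (by rw [hval x hx, hval p₀ (by omega)])
      (by rw [hval r hr, hval p₀ (by omega)]) (hwo.orth p₀ x (Ne.symm hx0)) (hwo.orth p₀ r (Ne.symm hr0))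
      (hwo.orth x r hxr), fun s => ?_⟩
    refine hwo.ext fun t => ?_
    rw [← Matrix.mulVec_mulVec, Matrix.smul_mulVec, hwo.pr_apply]
    show (rot J (w p₀) * rot J (w r)) *ᵥ _ = _
    by_cases hst : s = t
    · subst hst
      rw [if_pos rfl, ← Matrix.mulVec_mulVec, hwo.rot_apply r s]
      by_cases h1 : s = p₀
      · subst h1
        rw [if_neg hr0, Matrix.mulVec_neg, hwo.rot_apply, if_pos rfl, if_pos (Or.inl rfl), neg_smul, one_smul]
      · by_cases h2 : s = r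
        · subst h2
          rw [if_pos rfl, hwo.rot_apply, if_neg (Ne.symm h1), if_pos (Or.inr rfl), neg_smul, one_smul]
        · rw [if_neg (Ne.symm h2), Matrix.mulVec_neg, hwo.rot_apply, if_neg (Ne.symm h1), neg_neg,
            if_neg (by tauto), one_smul]
    · rw [if_neg hst, Matrix.mulVec_zero, smul_zero]
  -- the same element on every line
  obtain ⟨l, hl, hls⟩ := hf.exists_nonscal
  obtain ⟨T, hT⟩ : ∃ T, T = eHom (J := J) j (w p₀) (hw.ne p₀) (embG o l) := ⟨_, rfl⟩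
  have hTO : T ∈ Om (JJ J (Rest i)) := hT ▸ eHom_om h j (hw.ne p₀) (embG_om h o (lc_le _ hl))
  have hTr : ∀ r, T.1 * embM j (pr J (w r)) = (if r = p₀ then embM o.1 l.1 else 1) * embM j (pr J (w r)) :=
    fun r => by rw [hT, eHom_val, embG_val, Ea_mul_pr j hwo]
  obtain ⟨g, hg, hga⟩ := hfull T hTO
  have hsc : ∀ b, ∃ c : F, pieceM J i (f b) g.1 = c • T.1 := by
    intro b
    choose S hSne hS using fun p => H.line_image hfr hfull b j o hw p
    choose S' hSne' hS' using fun p => H.line_image hfr hfull b o.1 o' hw p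
    have hdis : ∀ p q, p ≠ q → ∀ r, r ∈ S p → r ∉ S q := fun p q hpq r hp hq =>
      H.supports_disjoint hfr j o hw hpq (hS p) (hS q) hp hq
    obtain ⟨x, hx⟩ : ∃ x, S p₀ = {x} := by
      choose π hπ using hSne
      have hinj : Function.Injective π := fun p q e => by
        by_contra hpq
        exact hdis p q hpq (π p) (hπ p) (e ▸ hπ q)
      refine ⟨π p₀, Finset.eq_singleton_iff_unique_mem.2 ⟨hπ p₀, fun r hr => ?_⟩⟩
      obtain ⟨p', rfl⟩ := (Finite.injective_iff_surjective.1 hinj) r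
      by_contra hne
      exact hdis p₀ p' (fun e => hne (by rw [e])) (π p') hr (hπ p')
    have pairs : ∀ q y, q ≠ p₀ → y ≠ p₀ → y ≠ q → q.val ≤ 2 → y.val ≤ 2 → x = p₀ ∨ x = q := by
      intro q y hq0 hy0 hyq hq hy
      obtain ⟨l', hl', hls'⟩ := hsig q y hq0 hy0 hyq hq hy
      obtain ⟨g1, hg1, a1, b1⟩ := hS p₀ l' hl'
      obtain ⟨g2, hg2, a2, b2⟩ := hS q l' hl'
      obtain ⟨g3, hg3, a3, b3⟩ := hS' p₀ l' hl'
      obtain ⟨g4, hg4, a4, b4⟩ := hS' q l' hl'
      have hxS : x ∈ S p₀ := hx ▸ Finset.mem_singleton_self x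
      exact H.support_pair hfr j o o' ho' hw (Ne.symm hq0) hls' hg1 hg2 hg3 hg4 a1 a2 a3 a4 b1 b2 b3 b4 hxS
        (hdis p₀ q (Ne.symm hq0) x hxS)
    have hxp : x = p₀ := by
      rcases pairs p₁ p₂ n1 n2 n12.symm (by omega) (by omega) with e | e
      · exact e
      · rcases pairs p₂ p₁ n2 n1 n12 (by omega) (by omega) with e' | e'
        · exact e'
        · exact absurd (e.symm.trans e') n12
    obtain ⟨g', hg', ea, eb⟩ := hS p₀ l hl
    have hb' : pieceM J i (f b) g'.1 = T.1 := hwo.eq_of_mul_pr j fun r => by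
      rw [eb r, hTr, hx, hxp]; simp only [Finset.mem_singleton]
    have ha' : pieceM J i (f a) g'.1 = T.1 := hwo.eq_of_mul_pr j fun r => by rw [ea r, hTr]
    obtain ⟨c, hc⟩ := H.piece_ratio hfr hg hg' (hga.trans ha'.symm) b
    exact ⟨c, by rw [hc, hb']⟩
  choose c hc using hsc
  obtain ⟨C, hC⟩ : ∃ C, C = ∑ b, c b • pr J (f b) := ⟨_, rfl⟩
  have eg : g.1 = ins i T.1 C := hC ▸ eq_ins_of_pieces hfr.ob (fun b => (mem_cF.1 hg).2 b) hc
  -- a commutator with a factor lies below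
  obtain ⟨m, hm, hlm⟩ := hf.exists_move (om_le _ (lc_le _ hl)) hls
  have hlift := (H.lift_emb_dn i o.1 (lc_le _ hm)).1
  have hX : ⁅T, embG o.1 m⁆ ∈ dn J i M := by
    refine ⟨?_, om_le_amb (Subgroup.commutator_mem_commutator (om_le _ hTO) (embG_iso h o.1 (om_le _ (lc_le _ hm))))⟩
    show TensorWreath.lift i ⁅T, embG o.1 m⁆ ∈ M
    rw [show TensorWreath.lift i ⁅T, embG o.1 m⁆ = g * TensorWreath.lift i (embG o.1 m) * g⁻¹ *
      (TensorWreath.lift i (embG o.1 m))⁻¹ from ?_]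
    · exact M.mul_mem (M.mul_mem (M.mul_mem (mem_cF.1 hg).1 hlift) (M.inv_mem (mem_cF.1 hg).1)) (M.inv_mem hlift)
    obtain ⟨u, hu⟩ : ∃ u, u = (TensorWreath.lift i T)⁻¹ * g := ⟨_, rfl⟩
    have hu' : u.1 = embM i C := by
      rw [hu, Units.val_mul, ← map_inv, lift_val, eg, ins_mul, T.inv_mul, Matrix.one_mul, embM_eq_ins]
    have hcomm : u * TensorWreath.lift i (embG o.1 m) = TensorWreath.lift i (embG o.1 m) * u := by
      refine Units.ext ?_
      rw [Units.val_mul, Units.val_mul, hu', lift_val, embM_eq_ins, ins_mul, ins_mul]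
      simp only [Matrix.one_mul, Matrix.mul_one]
    rw [show g = TensorWreath.lift i T * u by rw [hu, mul_inv_cancel_left], map_commutatorElement,
      commutatorElement_def]
    generalize TensorWreath.lift i (embG o.1 m) = Y at hcomm ⊢
    rw [mul_assoc (TensorWreath.lift i T) u Y, hcomm]
    group
  have hlo : TensorWreath.lift j (embG o m) = embG o.1 m :=
    Units.ext (by rw [lift_val, embG_val, embG_val, ins_embM])
  have hmc : ∀ r, embG o.1 m ∈ comG J j (w r) := fun r => hlo ▸ lift_comG j (w r) (embG o m)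
  have hcT : ∀ r, T ∈ comG J j (w r) := by
    intro r
    rw [mem_comG, hT, eHom_val, Ea, embM_eq_ins, Matrix.add_mul, Matrix.mul_add, ins_mul, ins_mul, ins_mul,
      ins_mul, Matrix.sub_mul, Matrix.mul_sub, Matrix.one_mul, Matrix.mul_one]
    rcases eq_or_ne p₀ r with rfl | hne
    · simp only [Matrix.one_mul, Matrix.mul_one]
    · rw [pr_mul_perp J (hwo.orth p₀ r hne), pr_mul_perp J (hwo.orth r p₀ hne.symm)]
      simp only [Matrix.one_mul, Matrix.mul_one]
  obtain ⟨A, cs, -, hA⟩ := pieces_prop_of_mono hf hwo hwg (amb_le_iso hX.2) (H.down_mono i _ hX) (i := j) fun r => by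
    rw [commutatorElement_def]
    exact (comG J j (w r)).mul_mem ((comG J j (w r)).mul_mem ((comG J j (w r)).mul_mem (hcT r) (hmc r))
      ((comG J j (w r)).inv_mem (hcT r))) ((comG J j (w r)).inv_mem (hmc r))
  have hpT : ∀ r, pieceG j (w r) (hw.ne r) ⟨T, hcT r⟩ = if r = p₀ then embG o l else 1 := by
    intro r
    refine Units.ext (pieceM_eq (hw.ne r) (hcT r) fun y => ?_)
    rw [hT, eHom_val, Ea_mulVec, embG_val]
    split_ifs with hr
    · subst hr
      rw [embG_val, inv_mul_cancel₀ (hw.ne r), one_smul, ← iv_add_left, add_sub_cancel]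
    · rw [hwo.orth p₀ r (Ne.symm hr), mul_zero, zero_smul, add_zero, Units.val_one, Matrix.one_mulVec]
  have hX' : ∀ r, pieceM J j (w r) (⁅T, embG o.1 m⁆).1 =
      (⁅if r = p₀ then embG o l else 1, embG o m⁆).1 := by
    intro r
    rw [pieceM_comm (hw.ne r) (hcT r) (hmc r), hpT,
      show (⟨embG o.1 m, hmc r⟩ : comG J j (w r)) = ⟨_, lift_comG j _ (embG o m)⟩ from Subtype.ext hlo.symm,
      pieceG_lift]
  obtain ⟨hc0, h0⟩ := hA p₀
  obtain ⟨hc1, h1⟩ := hA p₁
  rw [hX', if_pos rfl, ← map_commutatorElement, embG_val] at h0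
  rw [hX', if_neg n1, commutatorElement_one_left, Units.val_one] at h1
  refine hlm (cs p₀ * (cs p₁)⁻¹) (hf.scalar_emb (j := o) ?_)
  rw [h0, mul_smul]
  congr 1
  rw [h1, smul_smul, inv_mul_cancel₀ hc1, one_smul]

/-- An element keeping the lines of a frame with one monomial piece is monomial. -/
theorem piece_mono [NeZero k] {i : τ} {f : Fin k → Fin k → F} (hfr : Fr J f) {g : GL (Ix τ k) F}
    (hg : g ∈ cF M J i f) {a : Fin k} (ha : Mono (pieceM J i (f a) g.1)) : Mono g.1 := by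
  classical
  have hf := H.fac
  have h := hf.frm
  haveI := H.rest_nonempty i
  have hgc := fun b => (mem_cF.1 hg).2 b
  let u : Fin k → GL (Ix (Rest i) k) F := fun b => pieceG i (f b) (hfr.ne b) ⟨g, hgc b⟩
  have hu : ∀ b, u b ∈ iso (JJ J (Rest i)) := fun b => pieceG_iso h (hfr.ne b) (H.toHyp.iso_mem (mem_cF.1 hg).1)
  have key : ∀ b, ∃ c : F, ((u a)⁻¹ * u b).1 = c • 1 := by
    intro b
    refine hf.scalar_of_commL fun j l hl => ?_
    have hx : u a * embG j l * (u a)⁻¹ ∈ Om (JJ J (Rest i)) :=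
      (conj_om (iso_conj (hu a))).1 _ (embG_om h j (lc_le _ hl))
    have hxm : Mono (u a * embG j l * (u a)⁻¹).1 := by
      rw [Units.val_mul, Units.val_mul]
      exact ((show Mono (u a).1 from ha).mul (mono_pure _)).mul (mono_inv ha)
    obtain ⟨Y, hY⟩ : ∃ Y : cF M J i f, Y.1 = TensorWreath.lift i (embG j l) :=
      ⟨⟨_, lift_cF (H.lift_emb_dn i j (lc_le _ hl)).1⟩, rfl⟩
    obtain ⟨Z, hZ⟩ : ∃ Z : cF M J i f, Z.1 = TensorWreath.lift i (u a * embG j l * (u a)⁻¹) :=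
      ⟨⟨_, lift_cF (H.toHyp.lift_mem i hx hxm)⟩, rfl⟩
    obtain ⟨x, hxd⟩ : ∃ x : cF M J i f, x = ⟨g, hg⟩ * Y * ⟨g, hg⟩⁻¹ * Z⁻¹ := ⟨_, rfl⟩
    have hp : ∀ d, pieceG i (f d) (hfr.ne d) ⟨x.1, (mem_cF.1 x.2).2 d⟩ =
        u d * embG j l * (u d)⁻¹ * (u a * embG j l * (u a)⁻¹)⁻¹ := by
      intro d
      have e : (⟨x.1, (mem_cF.1 x.2).2 d⟩ : comG J i (f d)) = ⟨g, hgc d⟩ * ⟨_, lift_comG i _ (embG j l)⟩ *
          ⟨g, hgc d⟩⁻¹ * ⟨_, lift_comG i _ (u a * embG j l * (u a)⁻¹)⟩⁻¹ :=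
        Subtype.ext (by rw [hxd]; simp only [Subgroup.coe_mul, Subgroup.coe_inv, hY, hZ])
      rw [e, map_mul, map_mul, map_mul, map_inv, map_inv, pieceG_lift, pieceG_lift]
    obtain ⟨c, hc⟩ := H.piece_scalar hfr x.2 (a := a) ⟨1, by
      rw [one_smul, ← pieceG_val (hfr.ne a) ⟨x.1, (mem_cF.1 x.2).2 a⟩, hp, mul_inv_cancel, Units.val_one]⟩ b
    rw [← pieceG_val (hfr.ne b) ⟨x.1, (mem_cF.1 x.2).2 b⟩, hp] at hc
    refine ⟨c, ?_⟩
    have e : (u a)⁻¹ * u b * embG j l =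
        (u a)⁻¹ * (u b * embG j l * (u b)⁻¹ * (u a * embG j l * (u a)⁻¹)⁻¹) * u a * (embG j l * ((u a)⁻¹ * u b)) := by
      group
    rw [← embG_val, ← Units.val_mul, e, Units.val_mul, Units.val_mul ((u a)⁻¹ * _), Units.val_mul (u a)⁻¹, hc,
      ← smul_one_comm, Matrix.mul_assoc (c • (1 : Matrix _ _ F)), Units.inv_mul, Matrix.mul_one, Matrix.smul_mul,
      Matrix.one_mul, Units.val_mul]
  choose c hc using key
  rw [eq_ins_of_pieces hfr.ob hgc (A := (u a).1) (c := c) fun b => by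
    show (u b).1 = _
    rw [show u b = u a * ((u a)⁻¹ * u b) by rw [mul_inv_cancel_left], Units.val_mul, hc, Matrix.mul_smul,
      Matrix.mul_one]]
  exact mono_ins_pure ha _

/-- An element keeping the lines of a frame is monomial. -/
theorem frame_mono [NeZero k] {i : τ} {f : Fin k → Fin k → F} (hfr : Fr J f) {g : GL (Ix τ k) F}
    (hg : g ∈ cF M J i f) : Mono g.1 := by
  classical
  have hf := H.fac
  have h := hf.frm
  obtain ⟨a⟩ : Nonempty (Fin k) := ⟨⟨0, Nat.pos_of_ne_zero (NeZero.ne k)⟩⟩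
  refine H.piece_mono hfr hg (a := a) ?_
  rcases (show Fintype.card τ = 2 ∨ 3 ≤ Fintype.card τ by have := H.two_le; omega) with h2 | h3
  · exact mono_of_card_one (by rw [Fintype.card_subtype_compl, Fintype.card_subtype_eq, h2]) _
  have hsub : cF M J i f ≤ comG J i (f a) := fun g hg => (mem_cF.1 hg).2 a
  obtain ⟨pc, hpc⟩ : ∃ pc, pc = (pieceG i (f a) (hfr.ne a)).comp (Subgroup.inclusion hsub) := ⟨_, rfl⟩
  have pcl : ∀ (x : GL (Ix (Rest i) k) F) (hx : TensorWreath.lift i x ∈ M), pc ⟨_, lift_cF hx⟩ = x := fun x _ => by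
    rw [hpc]; exact pieceG_lift i (hfr.ne a) x
  obtain ⟨K, hK⟩ : ∃ K, K = pc.range ⊓ amb J (Rest i) := ⟨_, rfl⟩
  have HK : Hyp J K :=
    ⟨hf, hK ▸ inf_le_right, fun x hx hm => by
      rw [hK]; exact ⟨⟨_, pcl x (H.toHyp.lift_mem i hx hm)⟩, om_le_amb hx⟩, fun hk j R hR => by
      rw [hK]
      have hd := (H.toHyp.down i).even hk j R hR
      exact ⟨⟨_, pcl _ hd.1⟩, hd.2⟩⟩
  haveI := H.rest_nonempty i
  rcases H.low i K HK with hm | hfull
  · have hu : pc ⟨g, hg⟩ ∈ iso (JJ J (Rest i)) := by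
      rw [hpc]; exact pieceG_iso h (hfr.ne a) (H.toHyp.iso_mem (mem_cF.1 hg).1)
    have := hf.mono_of_normalise hu fun x hx hxm => hm _ (by
      rw [hK]
      refine ⟨⟨⟨g, hg⟩ * ⟨_, lift_cF (H.toHyp.lift_mem i hx hxm)⟩ * ⟨g, hg⟩⁻¹, ?_⟩,
        om_le_amb ((conj_om (iso_conj hu)).1 x hx)⟩
      rw [map_mul, map_mul, map_inv, pcl x (H.toHyp.lift_mem i hx hxm)])
    rw [hpc] at this
    exact this
  · exfalso
    refine H.not_full_piece (i := i) h3 hfr (a := a) fun x hx => ?_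
    have := hfull hx
    rw [hK] at this
    obtain ⟨⟨g', e⟩, -⟩ := this
    rw [hpc] at e
    exact ⟨g'.1, g'.2, congrArg Units.val e⟩

end Ctx

end CfsgLib.Classical.TensorWreathOrth
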