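import Cfsg.Agent.Lib.Classical.TensorWreathOrth.Fac
import Cfsg.Agent.Lib.Classical.OrthOverfieldU

set_option autoImplicit false
set_option linter.unusedSectionVars false

/-!
A group containing the second commutator group of the other factors on every line of one value in one factor
contains the commutator group of the isometry group of the whole space.
-/

namespace CfsgLib.Classical.TensorWreathOrth

open Matrix CfsgLib.Classical.TensorWreath
open CfsgLib.Classical.TensorOrth (Gram)
open CfsgLib.Orth CfsgLib.Orth.Overfield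
open scoped MatrixGroups

variable {F : Type*} [Field F] [Finite F] {k : ℕ} {J : Matrix (Fin k) (Fin k) F}

namespace Fac

variable (hf : Fac J)
include hf

/-- Vectors of one value orthogonal to a line span its orthogonal. -/
theorem mem_span_value {a x : Fin k → F} (ha : Good J a) (hx : bf J a x = 0) :
    x ∈ Submodule.span F {b | bf J b b = bf J a a ∧ bf J a b = 0} := by
  have h3 := hf.three
  obtain ⟨w, hw, -, hw0, hv⟩ := hf.frm.exists_frame_eq ha (Fintype.card_fin k) (by omega)
  set S := Submodule.span F {b | bf J b b = bf J a a ∧ bf J a b = 0}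
  have hperp : ∀ b, b ≠ ⟨0, by omega⟩ → bf J a (w b) = 0 := fun b hb => by
    rw [← hw0]; exact hw.orth _ _ (Ne.symm hb)
  have hfst : ∀ b : Fin k, b ≠ ⟨0, by omega⟩ → (b.val + 1 < k ∨ Odd k) → w b ∈ S := fun b hb hb' =>
    Submodule.subset_span ⟨hv b hb', hperp b hb⟩
  have hall : ∀ b : Fin k, b ≠ ⟨0, by omega⟩ → w b ∈ S := by
    intro b hb
    by_cases hb' : b.val + 1 < k ∨ Odd k
    · exact hfst b hb hb'
    push Not at hb'
    have hev : Even k := Nat.not_odd_iff_even.1 hb'.2
    obtain ⟨y, hy, hyy⟩ := hf.frm.exists_perp_value (κ := Fin 2) (v := ![a, w b])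
      (by
        intro i j hij
        fin_cases i <;> fin_cases j <;> first | exact absurd rfl hij | skip
        · exact hperp b hb
        · show bf J (w b) a = 0
          rw [hf.frm.bf_comm]; exact hperp b hb)
      (by intro i; fin_cases i; exacts [ha.1, hw.aniso b])
      (by rw [Fintype.card_fin, Fintype.card_fin]; obtain ⟨l, hl⟩ := hev; omega)
      (bf J a a - bf J (w b) (w b))
    have hya : bf J a y = 0 := hy 0
    have hyb : bf J (w b) y = 0 := hy 1
    have hyS : y ∈ S := by
      rw [← Matrix.one_mulVec y, ← hw.sum_pr, Matrix.sum_mulVec]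
      refine S.sum_mem fun c _ => ?_
      by_cases hc0 : c = ⟨0, by omega⟩
      · rw [hc0, hw0, pr_perp J hya]; exact S.zero_mem
      · by_cases hcb : c = b
        · rw [hcb, pr_perp J hyb]; exact S.zero_mem
        · rw [pr_mulVec]
          refine S.smul_mem _ (hfst c hc0 (Or.inl ?_))
          have h1 : c.val ≠ b.val := fun e => hcb (Fin.ext e)
          have h2 := c.isLt
          have := hb'.1
          omega
    have hsum : y + w b ∈ S := by
      refine Submodule.subset_span ⟨?_, ?_⟩
      · rw [bf_add_left, bf_add_right, bf_add_right, hyy, hf.frm.bf_comm y (w b), hyb]; ring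
      · rw [bf_add_right, hya, hperp b hb, add_zero]
    simpa using S.sub_mem hsum hyS
  rw [← Matrix.one_mulVec x, ← hw.sum_pr, Matrix.sum_mulVec]
  refine S.sum_mem fun c _ => ?_
  by_cases hc0 : c = ⟨0, by omega⟩
  · rw [hc0, hw0, pr_perp J hx]; exact S.zero_mem
  · rw [pr_mulVec]; exact S.smul_mem _ (hall c hc0)

/-- Orthogonal lines of one value are linked by a third of that value. -/
theorem exists_link_value {a b : Fin k → F} (ha : Good J a) (hb : bf J b b = bf J a a) (hab : bf J a b = 0) :
    ∃ x, bf J x x = bf J a a ∧ bf J a x ≠ 0 ∧ bf J b x ≠ 0 := by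
  have h3 := hf.three
  have hba : bf J b a = 0 := by rw [hf.frm.bf_comm, hab]
  rcases Nat.lt_or_ge 3 k with h4 | h4
  · obtain ⟨z, hz, hzz⟩ := hf.frm.exists_perp_value (κ := Fin 2) (v := ![a, b])
      (by intro i j hij; fin_cases i <;> fin_cases j <;> simp_all)
      (by intro i; fin_cases i <;> simp [hb, ha.1])
      (by rw [Fintype.card_fin, Fintype.card_fin]; omega) (-bf J a a)
    have za : bf J a z = 0 := hz 0
    have zb : bf J b z = 0 := hz 1
    have za' : bf J z a = 0 := by rw [hf.frm.bf_comm, za]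
    have zb' : bf J z b = 0 := by rw [hf.frm.bf_comm, zb]
    refine ⟨a + b + z, ?_, ?_, ?_⟩ <;>
      simp only [bf_add_left, bf_add_right, hab, hba, za, zb, za', zb', hb, hzz, add_zero, zero_add]
    · ring
    · exact ha.1
    · exact ha.1
  · obtain ⟨x, hx, hax, hbx⟩ := hf.exists_link ha (ha.of_eq hb) hab
    have hk3 : k = 3 := by omega
    obtain ⟨s, hs, hsx⟩ := hf.frm.exists_scale ha hx (by rw [Fintype.card_fin, hk3]; exact ⟨1, rfl⟩)
    exact ⟨s • x, hsx, by rw [bf_smul_right]; exact mul_ne_zero hs hax,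
      by rw [bf_smul_right]; exact mul_ne_zero hs hbx⟩

/-- The isometries acting on the lines of one value by the others' second commutator group generate. -/
theorem full_of_lines {τ : Type} [Fintype τ] [DecidableEq τ] {M : Subgroup (GL (Ix τ k) F)} (i : τ)
    [Nonempty (Rest i)] {a₀ : Fin k → F} (ha₀ : Good J a₀)
    (hM : ∀ (a : Fin k → F) (ha : bf J a a = bf J a₀ a₀), ∀ T ∈ Lc (JJ J (Rest i)),
      eHom (J := J) i a (by rw [ha]; exact ha₀.1) T ∈ M) : Om (JJ J τ) ≤ M := by
  classical
  haveI := hf.neZero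
  have h := hf.frm
  have hB := hf.frm.pow (Rest i)
  haveI : Nonempty τ := ⟨i⟩
  obtain ⟨Q, hQ, hQ2⟩ := exists_gram (hf.frm.pow τ)
  obtain ⟨QB, hQB, hQB2⟩ := exists_gram hB
  have pb : ∀ x y, QuadraticMap.polar (⇑Q) x y = bf (JJ J τ) x y := fun x y => (hQ.dot_polar x y).symm
  have pB : ∀ x y, QuadraticMap.polar (⇑QB) x y = bf (JJ J (Rest i)) x y := fun x y => (hQB.dot_polar x y).symm
  obtain ⟨κ, hκ⟩ : ∃ κ, κ = bf J a₀ a₀ := ⟨_, rfl⟩
  have hκ0 : κ ≠ 0 := hκ ▸ ha₀.1
  obtain ⟨M', hM'⟩ : ∃ M' : Subgroup (Grp Q), M' = M.comap (Cfsg.isometryGroup F ⇑Q).subtype := ⟨_, rfl⟩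
  -- the lines as isometries
  have line : ∀ a (ha : bf J a a = κ), ∀ T ∈ Lc (JJ J (Rest i)), ∃ e ∈ M', ∀ y x,
      ap e (iv i y x) = iv i y x + (κ⁻¹ * bf J a x) • iv i (T.1 *ᵥ y - y) a := by
    intro a ha T hT
    have ha0 : bf J a a ≠ 0 := ha ▸ hκ0
    have hiso : eHom (J := J) i a ha0 T ∈ Cfsg.isometryGroup F ⇑Q := by
      rw [iso_eq_isometryGroup hQ]
      exact eHom_iso h i ha0 (om_le _ (lc_le _ hT))
    refine ⟨⟨_, hiso⟩, ?_, fun y x => ?_⟩
    · rw [hM']
      exact hM a (ha.trans hκ) T hT
    · show (eHom (J := J) i a ha0 T).1 *ᵥ iv i y x = _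
      rw [eHom_val, Ea_mulVec, ha]
  have qiv : ∀ y x, 2 * Q (iv i y x) = bf (JJ J (Rest i)) y y * bf J x x := fun y x => by rw [hQ2, bf_iv]
  have sing : ∀ w, QB w = 0 → ∀ a, Q (iv i w a) = 0 := fun w hw a => by
    refine mul_left_cancel₀ h.two ?_
    rw [qiv, ← hQB2, hw, mul_zero, zero_mul]
  -- a singular vector times a line sees the same line
  have same : ∀ (a : Fin k → F), bf J a a = κ → ∀ w v, QB w = 0 → bf (JJ J (Rest i)) w v = 0 →
      GoodAt Q M' (iv i w a) (iv i v a) := by
    intro a ha w v hw hwv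
    refine ⟨by rw [pb, bf_iv, hwv, zero_mul], fun c g hg => ?_⟩
    obtain ⟨s, hs⟩ := exists_siegel hQB.nd hw (v := (κ * c) • v)
      (by rw [b_smul_right, pB, hwv, mul_zero])
    obtain ⟨e, he, heap⟩ := line a ha _ (hf.core_pow.siegel_mem hB (by have := (hf.card_pow (τ := Rest i)).1; omega) hQB hs)
    have hge : g = e := by
      refine ext_ap fun z => ?_
      have key : ∀ y x, ap g (iv i y x) = ap e (iv i y x) := by
        intro y x
        rw [heap, show (s : GL (Ix (Rest i) k) F).1 *ᵥ y = ap s y from rfl, hs.2.2, hg.2.2, q_smul, q_smul,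
          b_smul_right, b_smul_right, pb, pb, bf_iv, bf_iv, pB, pB, h.bf_comm x a]
        have e1 : Q (iv i v a) = κ * QB v := by
          refine mul_left_cancel₀ h.two ?_
          rw [qiv, ← hQB2, ha]; ring
        rw [e1]
        simp only [iv_sub_left, iv_add_left, iv_smul_left]
        match_scalars <;> field_simp <;> ring
      exact congrFun (congrArg (fun X : Matrix (Ix τ k) (Ix τ k) F => fun z => X *ᵥ z)
        (ext_iv i (M := (g : GL (Ix τ k) F).1) (N := (e : GL (Ix τ k) F).1) key)) z
    rw [hge]; exact he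
  -- the orthogonal of a product
  have perp : ∀ (a : Fin k → F), bf J a a = κ → ∀ w, QB w = 0 → w ≠ 0 → ∀ X,
      bf (JJ J τ) (iv i w a) X = 0 → GoodAt Q M' (iv i w a) X := by
    intro a ha w hw hw0 X hX
    have hag : Good J a := ha₀.of_eq (ha.trans hκ)
    have hu : Q (iv i w a) = 0 := sing w hw a
    obtain ⟨v, hwv, hvv⟩ : ∃ v, bf (JJ J (Rest i)) w v = 0 ∧ bf (JJ J (Rest i)) v v ≠ 0 := by
      obtain ⟨f, hf0, hwf⟩ := exists_partner hQB.nd hw hw0
      rw [pB] at hwf
      have hww : bf (JJ J (Rest i)) w w = 0 := by rw [← hQB2, hw, mul_zero]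
      have hff : bf (JJ J (Rest i)) f f = 0 := by rw [← hQB2, hf0, mul_zero]
      have hfw : bf (JJ J (Rest i)) f w = 1 := by rw [hB.bf_comm, hwf]
      obtain ⟨v, hv, hvv⟩ := hB.exists_perp_aniso (κ := Fin 2) (v := ![w + f, w - f])
        (by
          intro p q hpq
          fin_cases p <;> fin_cases q <;> first | exact absurd rfl hpq |
            (simp [bf_add_left, bf_add_right, bf_sub_left, bf_sub_right, hww, hff, hwf, hfw]))
        (by
          intro p
          fin_cases p <;> simp [bf_add_left, bf_add_right, bf_sub_left, bf_sub_right, hww, hff, hwf, hfw] <;>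
          · intro e
            refine h.two ?_
            first | linear_combination e | linear_combination -e)
        (by rw [Fintype.card_fin]; have := (hf.card_pow (τ := Rest i)).1; omega)
      refine ⟨v, ?_, hvv⟩
      have e1 : bf (JJ J (Rest i)) (w + f) v = 0 := hv 0
      have e2 : bf (JJ J (Rest i)) (w - f) v = 0 := hv 1
      rw [bf_add_left] at e1
      rw [bf_sub_left] at e2
      exact (mul_eq_zero.1 (show (2 : F) * bf (JJ J (Rest i)) w v = 0 by linear_combination e1 + e2)).resolve_left h.two
    -- other lines with the same vector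
    have cross : ∀ a', bf J a' a' = κ → bf J a a' ≠ 0 → GoodAt Q M' (iv i w a) (iv i w a') := by
      intro a' ha' haa'
      obtain ⟨g, hg⟩ := exists_siegel hQ.nd (sing w hw a') (v := iv i v a') (by rw [pb, bf_iv, hwv, zero_mul])
      have hgM : g ∈ M' := (same a' ha' w v hw hwv).2 1 g (by rw [one_smul]; exact hg)
      have hww : bf (JJ J (Rest i)) w w = 0 := by rw [← hQB2, hw, mul_zero]
      have fix : ap g (iv i w a) = iv i w a := by
        rw [hg.2.2]; simp [pb, bf_iv, hww, hwv]
      have h1 := goodAt_conj hgM (same a ha w v hw hwv)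
      rw [fix] at h1
      have h2 := goodAt_sub hQ.nd hu (same a ha w v hw hwv) h1
      have mov : iv i v a - ap g (iv i v a) = (bf (JJ J (Rest i)) v v * bf J a a') • iv i w a' := by
        rw [hg.2.2, pb, pb, bf_iv, bf_iv, hB.bf_comm v w, hwv]
        simp
      rw [mov] at h2
      have h3 := goodAt_smul h2 (bf (JJ J (Rest i)) v v * bf J a a')⁻¹
      rwa [smul_smul, inv_mul_cancel₀ (mul_ne_zero hvv haa'), one_smul] at h3
    -- the lines orthogonal to `a`
    have orth : ∀ b, bf J b b = κ → bf J a b = 0 → ∀ y, GoodAt Q M' (iv i w a) (iv i y b) := by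
      intro b hb hab
      let S : Submodule F (Ix (Rest i) k → F) :=
        { carrier := {y | GoodAt Q M' (iv i w a) (iv i y b)}
          add_mem' := fun {p q} hp hq => by
            show GoodAt Q M' _ (iv i (p + q) b)
            rw [iv_add_left]; exact goodAt_add hQ.nd hu hp hq
          zero_mem' := by
            show GoodAt Q M' _ (iv i 0 b)
            rw [iv_zero_left]; exact goodAt_zero hu
          smul_mem' := fun c p hp => by
            show GoodAt Q M' _ (iv i (c • p) b)
            rw [iv_smul_left]; exact goodAt_smul hp c }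
      have hba : bf J b a = 0 := by rw [h.bf_comm, hab]
      have move : ∀ T ∈ Lc (JJ J (Rest i)), ∀ y x, GoodAt Q M' (iv i w a) (iv i y x) → bf J b x ≠ 0 →
          T.1 *ᵥ y - y ∈ S := by
        intro T hT y x hyx hbx
        obtain ⟨e, he, heap⟩ := line b hb T hT
        have fix : ap e (iv i w a) = iv i w a := by rw [heap, hba, mul_zero, zero_smul, add_zero]
        have h1 := goodAt_conj he hyx
        rw [fix, heap] at h1
        have h2 := goodAt_sub hQ.nd hu h1 hyx
        rw [add_sub_cancel_left] at h2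
        have h3 := goodAt_smul h2 (κ⁻¹ * bf J b x)⁻¹
        rwa [smul_smul, inv_mul_cancel₀ (mul_ne_zero (inv_ne_zero hκ0) hbx), one_smul] at h3
      have hinv : ∀ T ∈ Lc (JJ J (Rest i)), ∀ y ∈ S, T.1 *ᵥ y ∈ S := fun T hT y hy => by
        have := S.add_mem (move T hT y b hy (hb ▸ hκ0)) hy
        rwa [sub_add_cancel] at this
      obtain ⟨x, hxx, hax, hbx⟩ := hf.exists_link_value hag (hb.trans ha.symm) hab
      have hxw := cross x (hxx.trans ha) hax
      have hne : ∃ y ∈ S, y ≠ 0 := by
        by_contra hcon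
        push Not at hcon
        have hfix : ∀ T ∈ Lc (JJ J (Rest i)), T.1 *ᵥ w = w := fun T hT =>
          sub_eq_zero.1 (hcon _ (move T hT w x hxw hbx))
        have htop := hf.irred (S := Submodule.span F {w}) (fun T hT y hy => by
          obtain ⟨c, rfl⟩ := Submodule.mem_span_singleton.1 hy
          rw [Matrix.mulVec_smul, hfix T hT]
          exact Submodule.smul_mem _ _ (Submodule.mem_span_singleton_self w))
          ⟨w, Submodule.mem_span_singleton_self w, hw0⟩
        have h1 := congrArg (fun P : Submodule F (Ix (Rest i) k → F) => Module.finrank F P) htop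
        simp only [finrank_top, finrank_span_singleton hw0, Module.finrank_fintype_fun_eq_card] at h1
        have := (hf.card_pow (τ := Rest i)).1
        omega
      intro y
      have htop := hf.irred hinv hne
      have : y ∈ S := htop ▸ Submodule.mem_top
      exact this
    -- decompose
    have h3 := hf.three
    obtain ⟨fr, hfr, -, hfr0, -⟩ := h.exists_frame_eq hag (Fintype.card_fin k) (by omega)
    rw [← hfr.sum_iv i X]
    refine goodAt_span hQ.nd hu (S := Set.range fun c => iv i ((bf J (fr c) (fr c))⁻¹ • ctr J i (fr c) X) (fr c))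
      ?_ (Submodule.sum_mem _ fun c _ => Submodule.subset_span ⟨c, rfl⟩)
    rintro _ ⟨c, rfl⟩
    by_cases hc0 : c = ⟨0, by omega⟩
    · dsimp only
      rw [hc0, hfr0]
      refine same a ha w _ hw ?_
      rw [bf_smul_right, ← bf_iv_ctr h, hX, mul_zero]
    · have hperp : bf J a (fr c) = 0 := by rw [← hfr0]; exact hfr.orth _ _ (Ne.symm hc0)
      have hspan := hf.mem_span_value hag hperp
      let T : Submodule F (Fin k → F) :=
        { carrier := {b | ∀ y, GoodAt Q M' (iv i w a) (iv i y b)}
          add_mem' := fun {p q} hp hq y => by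
            rw [iv_add_right]; exact goodAt_add hQ.nd hu (hp y) (hq y)
          zero_mem' := fun y => by rw [iv_zero_right]; exact goodAt_zero hu
          smul_mem' := fun d p hp y => by rw [iv_smul_right]; exact goodAt_smul (hp y) d }
      have hle : Submodule.span F {b | bf J b b = bf J a a ∧ bf J a b = 0} ≤ T :=
        Submodule.span_le.2 fun b hb => orth b (hb.1.trans ha) hb.2
      exact hle hspan _
  -- all Siegel transformations
  have hd : 5 ≤ Module.finrank F (Ix τ k → F) := by
    rw [Module.finrank_fintype_fun_eq_card]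
    have h2 : 2 ≤ Fintype.card τ := by
      obtain ⟨j⟩ := ‹Nonempty (Rest i)›
      exact Fintype.one_lt_card_iff.2 ⟨_, _, j.2⟩
    have := hf.card_pow.2 h2
    omega
  have hEl : El Q ≤ M' := by
    refine (Subgroup.closure_le _).2 fun g hg => ?_
    obtain ⟨U, V, hUV⟩ := hg
    by_cases hU : U = 0
    · have : g = 1 := ext_ap fun x => by
        rw [hUV.2.2, ap_one, hU, b_zero_right, mul_zero, zero_smul, zero_smul, smul_zero, add_zero, sub_zero,
          sub_zero]
      rw [this]
      exact one_mem _
    obtain ⟨a, w, ha, hw, hw0, hne⟩ : ∃ a w, bf J a a = κ ∧ QB w = 0 ∧ w ≠ 0 ∧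
        bf (JJ J τ) (iv i w a) U ≠ 0 := by
      by_contra hcon
      push Not at hcon
      have hctr : ∀ a, bf J a a = κ → ctr J i a U = 0 := by
        intro a ha
        let S : Submodule F (Ix (Rest i) k → F) := Submodule.span F {w | QB w = 0}
        have hS : S = ⊤ := by
          obtain ⟨w, -, hw0, hw⟩ := exists_singular (Q := QB) (U := ⊤) (by
            rw [finrank_top, Module.finrank_fintype_fun_eq_card]; exact hf.card_pow.1)
          refine hf.irred (fun T hT y hy => ?_) ⟨w, Submodule.subset_span hw, hw0⟩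
          have hTi : T ∈ Cfsg.isometryGroup F ⇑QB := (iso_eq_isometryGroup hQB).symm ▸ om_le _ (lc_le _ hT)
          have := Submodule.apply_mem_span_image_of_mem_span T.1.mulVecLin hy
          refine Submodule.span_mono ?_ this
          rintro _ ⟨z, hz, rfl⟩
          show QB (T.1 *ᵥ z) = 0
          exact (hTi z z).trans hz
        refine hB.nondeg fun y => ?_
        have hy : y ∈ S := hS ▸ Submodule.mem_top
        rw [hB.bf_comm]
        induction hy using Submodule.span_induction with
        | mem s hs =>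
          by_cases hs0 : s = 0
          · rw [hs0, bf_zero_left]
          · rw [← bf_iv_ctr h]; exact hcon a s ha hs hs0
        | zero => rw [bf_zero_left]
        | add p q _ _ hp hq => rw [bf_add_left, hp, hq, add_zero]
        | smul c p _ hp => rw [bf_smul_left, hp, mul_zero]
      have h3 := hf.three
      obtain ⟨fr, hfr, -, hfr0, hfrv⟩ := h.exists_frame_eq ha₀ (Fintype.card_fin k) (by omega)
      refine hU ?_
      rw [← hfr.sum_iv i U]
      refine Finset.sum_eq_zero fun c _ => ?_
      by_cases hc0 : c = ⟨0, by omega⟩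
      · rw [hc0, hfr0, hctr a₀ hκ.symm, smul_zero, iv_zero_left]
      · have hperp : bf J a₀ (fr c) = 0 := by rw [← hfr0]; exact hfr.orth _ _ (Ne.symm hc0)
        have hspan := hf.mem_span_value ha₀ hperp
        have hz : ctr J i (fr c) U = 0 := by
          revert hspan
          generalize fr c = b
          intro hspan
          induction hspan using Submodule.span_induction with
          | mem s hs => exact hctr s (hs.1.trans hκ.symm)
          | zero => funext r; simp [ctr]
          | add p q _ _ hp hq =>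
            funext r
            have e1 := congrFun hp r
            have e2 := congrFun hq r
            simp only [ctr, Matrix.mulVec_add, Pi.add_apply, add_mul, Finset.sum_add_distrib, Pi.zero_apply] at e1 e2 ⊢
            rw [e1, e2, add_zero]
          | smul d p _ hp =>
            funext r
            have e1 := congrFun hp r
            simp only [ctr, Matrix.mulVec_smul, Pi.smul_apply, smul_eq_mul, Pi.zero_apply, mul_assoc] at e1 ⊢
            rw [← Finset.mul_sum, e1, mul_zero]
        rw [hz, smul_zero, iv_zero_left]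
    obtain ⟨f', hf', hwf⟩ := exists_partner hQB.nd hw hw0
    obtain ⟨p, hp⟩ : ∃ p, p = iv i w a := ⟨_, rfl⟩
    obtain ⟨f, hff⟩ : ∃ f, f = iv i (κ⁻¹ • f') a := ⟨_, rfl⟩
    have hQf' : QB (κ⁻¹ • f') = 0 := by rw [q_smul, hf', mul_zero]
    have hpq : Q p = 0 := hp ▸ sing w hw a
    have hfq : Q f = 0 := hff ▸ sing _ hQf' a
    have hpf : QuadraticMap.polar (⇑Q) p f = 1 := by
      rw [hp, hff, pb, bf_iv, bf_smul_right, ← pB, hwf, mul_one, ha, inv_mul_cancel₀ hκ0]
    have hne' : QuadraticMap.polar (⇑Q) p U ≠ 0 := by rw [hp, pb]; exact hne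
    obtain ⟨t, ht⟩ : ∃ t, t = (QuadraticMap.polar (⇑Q) p U)⁻¹ := ⟨_, rfl⟩
    have ht0 : t ≠ 0 := ht ▸ inv_ne_zero hne'
    have hpU : QuadraticMap.polar (⇑Q) p (t • U) = 1 := by rw [b_smul_right, ht, inv_mul_cancel₀ hne']
    obtain ⟨e, he, hef⟩ := exists_move_partner hQ.nd hpq (f := f) (f' := t • U) hfq
      (by rw [q_smul, hUV.1, mul_zero]) (hpf.trans hpU.symm) hpf
    have hpgood : GoodAt Q M' p (t • U - f) := by
      rw [hp]
      refine perp a ha w hw hw0 _ ?_
      rw [← hp, ← pb, b_sub_right, hpf, hpU, sub_self]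
    have heM : e ∈ M' := hpgood.2 1 e (by rwa [one_smul])
    obtain ⟨s, hs⟩ := exists_siegel hQ.nd (u := t • U) (v := t⁻¹ • V) (by rw [q_smul, hUV.1, mul_zero])
      (by rw [b_smul_left, b_smul_right, hUV.2.1, mul_zero, mul_zero])
    have hgs : g = s := by
      obtain ⟨g₀, hg₀⟩ := exists_siegel hQ.nd hUV.1 (v := t⁻¹ • V) (by rw [b_smul_right, hUV.2.1, mul_zero])
      have h2 := siegel_smul hg₀ t hs
      rw [smul_smul, mul_inv_cancel₀ ht0, one_smul] at h2
      exact siegel_unique hUV h2
    have hfgood : GoodAt Q M' f (ap e⁻¹ (t⁻¹ • V)) := by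
      rw [hff]
      refine perp a ha _ hQf' (smul_ne_zero (inv_ne_zero hκ0) fun e0 => ?_) _ ?_
      · rw [e0, b_zero_right] at hwf; exact zero_ne_one hwf
      · rw [← hff, ← pb, ← ap_b e, hef, ap_ap_inv, b_smul_left, b_smul_right, hUV.2.1, mul_zero, mul_zero]
    have h3 := goodAt_conj heM hfgood
    rw [hef, ap_ap_inv] at h3
    rw [hgs]
    exact h3.2 1 s (by rwa [one_smul])
  intro x hx
  rw [← omegaGL_eq hQ] at hx
  obtain ⟨g, hg, rfl⟩ := hx
  have : g ∈ M' := hEl (by rw [← omega_eq_El hQ.nd hd]; exact hg)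
  rw [hM'] at this
  exact this

end Fac

end CfsgLib.Classical.TensorWreathOrth
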