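import Cfsg.Agent.Lib.Classical.TensorOrth.Forms
import Cfsg.Agent.Lib.Classical.OrthSimple
import Cfsg.Agent.Lib.Classical.TensorWreath.Basic

set_option autoImplicit false
set_option linter.unusedSectionVars false

/-!
The isometry group of a symmetric matrix, its commutator subgroups, and what simplicity of the projective group
says about the subgroups they normalise.
-/

namespace CfsgLib.Classical.TensorWreathOrth

open Matrix
open CfsgLib.Classical.TensorOrth (Gram)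
open scoped MatrixGroups Kronecker commutatorElement

variable {F : Type*} [Field F] {γ : Type} [Fintype γ] [DecidableEq γ]

/-- The isometries of the form with matrix `A`. -/
def iso (A : Matrix γ γ F) : Subgroup (GL γ F) where
  carrier := {g | (g.1)ᵀ * A * g.1 = A}
  one_mem' := by simp
  mul_mem' := fun {a b} ha hb => by
    simp only [Set.mem_setOf_eq] at ha hb ⊢
    calc (a * b).1ᵀ * A * (a * b).1 = b.1ᵀ * (a.1ᵀ * A * a.1) * b.1 := by
          rw [Units.val_mul, Matrix.transpose_mul]; simp only [Matrix.mul_assoc]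
      _ = A := by rw [ha, hb]
  inv_mem' := fun {a} ha => by
    simp only [Set.mem_setOf_eq] at ha ⊢
    have e : a.1 * (a⁻¹).1 = 1 := a.mul_inv
    calc (a⁻¹).1ᵀ * A * (a⁻¹).1 = (a⁻¹).1ᵀ * (a.1ᵀ * A * a.1) * (a⁻¹).1 := by rw [ha]
      _ = (a.1 * (a⁻¹).1)ᵀ * A * (a.1 * (a⁻¹).1) := by
          rw [Matrix.transpose_mul]; simp only [Matrix.mul_assoc]
      _ = A := by rw [e, Matrix.transpose_one, Matrix.one_mul, Matrix.mul_one]

theorem mem_iso {A : Matrix γ γ F} {g : GL γ F} : g ∈ iso A ↔ (g.1)ᵀ * A * g.1 = A := Iff.rfl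

/-- The commutator subgroup of the isometry group. -/
def Om (A : Matrix γ γ F) : Subgroup (GL γ F) := ⁅iso A, iso A⁆

/-- The second commutator subgroup. -/
def Lc (A : Matrix γ γ F) : Subgroup (GL γ F) := ⁅Om A, Om A⁆

theorem commutator_le_self {G : Type*} [Group G] (H : Subgroup G) : ⁅H, H⁆ ≤ H :=
  Subgroup.commutator_le.2 fun _ ha _ hb => H.mul_mem (H.mul_mem (H.mul_mem ha hb) (H.inv_mem ha)) (H.inv_mem hb)

theorem om_le (A : Matrix γ γ F) : Om A ≤ iso A := commutator_le_self _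

/-- Central elements cancel in commutators. -/
theorem commutator_central {G : Type*} [Group G] {z w : G} (hz : ∀ x, z * x = x * z) (hw : ∀ x, w * x = x * w)
    (a b : G) : ⁅z * a, w * b⁆ = ⁅a, b⁆ := by
  rw [commutatorElement_def, commutatorElement_def]
  calc z * a * (w * b) * (z * a)⁻¹ * (w * b)⁻¹
      = z * (a * w) * b * a⁻¹ * z⁻¹ * b⁻¹ * w⁻¹ := by group
    _ = z * w * (a * b * a⁻¹) * z⁻¹ * b⁻¹ * w⁻¹ := by rw [← hw a]; group
    _ = w * (z * (a * b * a⁻¹)) * z⁻¹ * b⁻¹ * w⁻¹ := by rw [hz w]; group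
    _ = w * (a * b * a⁻¹ * b⁻¹) * w⁻¹ := by rw [hz]; group
    _ = _ := by rw [hw]; group

theorem lc_le (A : Matrix γ γ F) : Lc A ≤ Om A := Subgroup.commutator_mono (om_le A) (om_le A)

/-- Not a scalar matrix. -/
def NonScal (X : Matrix γ γ F) : Prop := ∀ c : F, X ≠ c • 1

theorem iso_eq_isometryGroup {Q : QuadraticForm F (γ → F)} {A : Matrix γ γ F} (g : Gram Q A) :
    Cfsg.isometryGroup F ⇑Q = iso A := by
  ext x
  constructor
  · intro hx
    exact g.sp_grp ⟨x, hx⟩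
  · intro hx v _
    show Q (x.1 *ᵥ v) = Q v
    refine mul_left_cancel₀ g.two ?_
    rw [← g.self, ← g.self]
    exact g.form_image hx v v

theorem omegaGL_eq {Q : QuadraticForm F (γ → F)} {A : Matrix γ γ F} (g : Gram Q A) :
    Cfsg.Geo.omegaGL ⇑Q = Om A := by
  rw [Cfsg.Geo.omegaGL, Cfsg.Omega, Subgroup.map_subtype_commutator, iso_eq_isometryGroup g, Om]

/-- The projective commutator group is simple: the facts used about a space. -/
structure Core (A : Matrix γ γ F) : Prop where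
  /-- Commuting with the second commutator group means being scalar. -/
  cent : ∀ X : Matrix γ γ F, (∀ g ∈ Lc A, X * g.1 = g.1 * X) → ∃ c : F, X = c • 1
  /-- The commutator group is the second one up to scalars. -/
  omL : ∀ g ∈ Om A, ∃ l ∈ Lc A, ∃ c : F, g.1 = c • l.1
  perf : ⁅Lc A, Lc A⁆ = Lc A
  simp : ∀ U : Subgroup (GL γ F), U ≤ iso A → (∀ g ∈ Lc A, ∀ u ∈ U, g * u * g⁻¹ ∈ U) →
    (∃ u ∈ U, NonScal u.1) → Lc A ≤ U

theorem smul_one_comm (c : F) (X : Matrix γ γ F) : (c • (1 : Matrix γ γ F)) * X = X * (c • 1) := by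
  rw [Matrix.smul_mul, Matrix.mul_smul, Matrix.one_mul, Matrix.mul_one]

/-- A group element commuting up to scalars with a perfect group commutes with it. -/
theorem comm_of_scalar {L : Subgroup (GL γ F)} (hL : ⁅L, L⁆ = L) {u : GL γ F}
    (h : ∀ l ∈ L, ∃ c : F, u.1 * l.1 = c • (l.1 * u.1)) : ∀ l ∈ L, u * l = l * u := by
  have hz : ∀ l ∈ L, ∀ x : GL γ F, ⁅u, l⁆ * x = x * ⁅u, l⁆ := by
    intro l hl x
    obtain ⟨c, hc⟩ := h l hl
    have e : (⁅u, l⁆).1 = c • (1 : Matrix γ γ F) := by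
      rw [commutatorElement_def, Units.val_mul, Units.val_mul, Units.val_mul, hc, Matrix.smul_mul,
        Matrix.smul_mul, Matrix.mul_assoc l.1, ← Units.val_mul u u⁻¹, mul_inv_cancel, Units.val_one,
        Matrix.mul_one, ← Units.val_mul, mul_inv_cancel, Units.val_one]
    refine Units.ext ?_
    rw [Units.val_mul, Units.val_mul, e, smul_one_comm]
  let C : Subgroup (GL γ F) :=
    { carrier := {x | x ∈ L ∧ u * x = x * u}
      one_mem' := ⟨L.one_mem, by simp⟩
      mul_mem' := fun {a b} ha hb => ⟨L.mul_mem ha.1 hb.1, by rw [← mul_assoc, ha.2, mul_assoc, hb.2, mul_assoc]⟩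
      inv_mem' := fun {a} ha => ⟨L.inv_mem ha.1, (Commute.inv_right ha.2).eq⟩ }
  have hle : ⁅L, L⁆ ≤ C := by
    refine Subgroup.commutator_le.2 fun a ha b hb => ⟨hL ▸ Subgroup.commutator_mem_commutator ha hb, ?_⟩
    obtain ⟨za, hza⟩ : ∃ za, za = ⁅u, a⁆ := ⟨_, rfl⟩
    obtain ⟨zb, hzb⟩ : ∃ zb, zb = ⁅u, b⁆ := ⟨_, rfl⟩
    have ea : u * a * u⁻¹ = za * a := by rw [hza, commutatorElement_def]; group
    have eb : u * b * u⁻¹ = zb * b := by rw [hzb, commutatorElement_def]; group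
    have ca : ∀ x, za * x = x * za := hza ▸ hz a ha
    have cb : ∀ x, zb * x = x * zb := hzb ▸ hz b hb
    have e : u * ⁅a, b⁆ * u⁻¹ = ⁅a, b⁆ := by
      rw [show u * ⁅a, b⁆ * u⁻¹ = ⁅u * a * u⁻¹, u * b * u⁻¹⁆ by simp only [commutatorElement_def]; group, ea, eb,
        commutator_central ca cb]
    calc u * ⁅a, b⁆ = u * ⁅a, b⁆ * u⁻¹ * u := by group
      _ = _ := by rw [e]
  exact fun l hl => (hle (hL.symm ▸ hl)).2

/-- From simplicity of the projective group. -/
theorem core_of_simple {Q : QuadraticForm F (γ → F)} {A : Matrix γ γ F} (g : Gram Q A)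
    [IsSimpleGroup (Cfsg.POmega F ⇑Q)] (hcent : ∀ X : Matrix γ γ F, (∀ x ∈ Om A, X * x.1 = x.1 * X) →
      ∃ c : F, X = c • 1) (hna : ∃ x ∈ Om A, ∃ y ∈ Om A, ∃ z : GL γ F, z = ⁅x, y⁆ ∧ NonScal z.1) :
    Core A := by
  obtain ⟨G, hG⟩ : ∃ G, G = Om A := ⟨_, rfl⟩
  have hP : IsSimpleGroup (↥G ⧸ Subgroup.center ↥G) := by
    have e : G = Cfsg.Geo.omegaGL ⇑Q := hG.trans (omegaGL_eq g).symm
    subst e
    let E : Cfsg.Omega F ⇑Q ≃* Cfsg.Geo.omegaGL ⇑Q :=
      Subgroup.equivMapOfInjective _ _ (Subgroup.subtype_injective _)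
    haveI : IsSimpleGroup (↥(Cfsg.Omega F ⇑Q) ⧸ Subgroup.center ↥(Cfsg.Omega F ⇑Q)) :=
      ‹IsSimpleGroup (Cfsg.POmega F ⇑Q)›
    refine (QuotientGroup.congr (Subgroup.center ↥(Cfsg.Omega F ⇑Q))
      (Subgroup.center ↥(Cfsg.Geo.omegaGL ⇑Q)) E ?_).symm.isSimpleGroup
    refine le_antisymm ?_ fun z hz => ⟨E.symm z, ?_, E.apply_symm_apply z⟩
    · rintro _ ⟨z, hz, rfl⟩
      exact Subgroup.mem_center_iff.2 fun y => by
        obtain ⟨y, rfl⟩ := E.surjective y
        exact (map_mul E y z).symm.trans ((congrArg E (Subgroup.mem_center_iff.1 hz y)).trans (map_mul E z y))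
    · exact Subgroup.mem_center_iff.2 fun y => E.injective (by
        rw [map_mul, map_mul, E.apply_symm_apply]
        exact Subgroup.mem_center_iff.1 hz _)
  have hsc : ∀ z : ↥G, z ∈ Subgroup.center ↥G → ∃ c : F, (z : GL γ F).1 = c • 1 := by
    intro z hz
    refine hcent _ fun x hx => ?_
    have := Subgroup.mem_center_iff.1 hz ⟨x, hG ▸ hx⟩
    exact congrArg (fun t : ↥G => (t : GL γ F).1) this.symm
  have hc' : ∀ z : ↥G, (∃ c : F, (z : GL γ F).1 = c • 1) → z ∈ Subgroup.center ↥G := by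
    rintro z ⟨c, hc⟩
    refine Subgroup.mem_center_iff.2 fun x => Subtype.ext (Units.ext ?_)
    show (x : GL γ F).1 * (z : GL γ F).1 = (z : GL γ F).1 * (x : GL γ F).1
    rw [hc, smul_one_comm]
  -- a subgroup normalised by the group and not in the centre, with the centre, is everything
  have big : ∀ N : Subgroup ↥G, N.Normal → ¬ N ≤ Subgroup.center ↥G → N ⊔ Subgroup.center ↥G = ⊤ := by
    intro N hN hNc
    rcases hP.eq_bot_or_eq_top_of_normal _ (hN.map (QuotientGroup.mk' _) (QuotientGroup.mk'_surjective _)) with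
      h | h
    · exact absurd ((Subgroup.map_eq_bot_iff _).1 h |>.trans_eq (QuotientGroup.ker_mk' _)) hNc
    · rw [← QuotientGroup.ker_mk' (Subgroup.center ↥G), ← Subgroup.comap_map_eq, h, Subgroup.comap_top]
  -- so it contains the commutators
  have big' : ∀ N : Subgroup ↥G, N.Normal → ¬ N ≤ Subgroup.center ↥G → ⁅(⊤ : Subgroup ↥G), ⊤⁆ ≤ N := by
    intro N hN hNc
    refine Subgroup.commutator_le.2 fun a _ b _ => ?_
    have hmem : ∀ x : ↥G, ∃ n ∈ N, ∃ z ∈ Subgroup.center ↥G, n * z = x := fun x => by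
      have hx : x ∈ N ⊔ Subgroup.center ↥G := by rw [big N hN hNc]; trivial
      obtain ⟨n, hn, z, hz, e⟩ := Subgroup.mem_sup_of_normal_right.1 hx
      exact ⟨n, hn, z, hz, e⟩
    obtain ⟨n, hn, z, hz, rfl⟩ := hmem a
    obtain ⟨n', hn', z', hz', rfl⟩ := hmem b
    have e1 : ∀ x, z * x = x * z := fun x => (Subgroup.mem_center_iff.1 hz x).symm
    have e2 : ∀ x, z' * x = x * z' := fun x => (Subgroup.mem_center_iff.1 hz' x).symm
    have : ⁅n * z, n' * z'⁆ = ⁅n, n'⁆ := by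
      rw [← e1 n, ← e2 n', commutator_central e1 e2]
    rw [this, commutatorElement_def]
    exact N.mul_mem (N.mul_mem (N.mul_mem hn hn') (N.inv_mem hn)) (N.inv_mem hn')
  have hD : Subgroup.map G.subtype ⁅(⊤ : Subgroup ↥G), ⊤⁆ = Lc A := by
    rw [Subgroup.map_commutator, ← MonoidHom.range_eq_map, Subgroup.range_subtype, hG, Lc]
  have hDc : ¬ ⁅(⊤ : Subgroup ↥G), ⊤⁆ ≤ Subgroup.center ↥G := by
    obtain ⟨x, hx, y, hy, z, rfl, hz⟩ := hna
    intro h
    obtain ⟨c, hc⟩ := hsc ⁅(⟨x, hG ▸ hx⟩ : ↥G), ⟨y, hG ▸ hy⟩⁆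
      (h (Subgroup.commutator_mem_commutator (Subgroup.mem_top _) (Subgroup.mem_top _)))
    exact hz c hc
  have hDn : Subgroup.Normal ⁅(⊤ : Subgroup ↥G), ⊤⁆ := Subgroup.commutator_normal _ _
  have homL : ∀ x ∈ Om A, ∃ l ∈ Lc A, ∃ c : F, x.1 = c • l.1 := by
    intro x hx
    have : (⟨x, hG ▸ hx⟩ : ↥G) ∈ ⁅(⊤ : Subgroup ↥G), ⊤⁆ ⊔ Subgroup.center ↥G := by
      rw [big _ hDn hDc]; trivial
    obtain ⟨l, hl, z, hz, e⟩ := Subgroup.mem_sup_of_normal_right.1 this
    obtain ⟨c, hc⟩ := hsc z hz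
    refine ⟨l, hD ▸ Subgroup.mem_map_of_mem _ hl, c, ?_⟩
    have e' := congrArg (fun t : ↥G => (t : GL γ F).1) e
    simp only [Subgroup.coe_mul, Units.val_mul, hc, Matrix.mul_smul, Matrix.mul_one] at e'
    exact e'.symm
  have hperf : ⁅Lc A, Lc A⁆ = Lc A := by
    refine le_antisymm (commutator_le_self _) ?_
    obtain ⟨D, hD'⟩ : ∃ D : Subgroup ↥G, D = ⁅(⊤ : Subgroup ↥G), (⊤ : Subgroup ↥G)⁆ := ⟨_, rfl⟩
    rw [← hD'] at hD hDc hDn
    have h2 : D ≤ (⁅D, D⁆ : Subgroup ↥G) := by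
      refine hD'.trans_le ?_
      refine Subgroup.commutator_le.2 fun a _ b _ => ?_
      have hmem : ∀ x : ↥G, ∃ n ∈ D, ∃ z ∈ Subgroup.center ↥G, n * z = x := fun x => by
        have hx : x ∈ D ⊔ Subgroup.center ↥G := by rw [big _ hDn hDc]; trivial
        haveI := hDn
        obtain ⟨n, hn, z, hz, e⟩ := Subgroup.mem_sup_of_normal_right.1 hx
        exact ⟨n, hn, z, hz, e⟩
      obtain ⟨n, hn, z, hz, rfl⟩ := hmem a
      obtain ⟨n', hn', z', hz', rfl⟩ := hmem b
      have e1 : ∀ x, z * x = x * z := fun x => (Subgroup.mem_center_iff.1 hz x).symm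
      have e2 : ∀ x, z' * x = x * z' := fun x => (Subgroup.mem_center_iff.1 hz' x).symm
      have : ⁅n * z, n' * z'⁆ = ⁅n, n'⁆ := by
        rw [← e1 n, ← e2 n', commutator_central e1 e2]
      rw [this]
      exact Subgroup.commutator_mem_commutator hn hn'
    have h3 := Subgroup.map_mono (f := G.subtype) h2
    rw [Subgroup.map_commutator, hD] at h3
    exact h3
  refine ⟨fun X hX => hcent X fun x hx => ?_, homL, hperf, fun U hU hn ⟨u, hu, hus⟩ => ?_⟩
  · obtain ⟨l, hl, c, e⟩ := homL x hx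
    rw [e, Matrix.mul_smul, Matrix.smul_mul, hX l hl]
  · have hnG : ∀ x ∈ Om A, ∀ v ∈ U, x * v * x⁻¹ ∈ U := by
      intro x hx v hv
      obtain ⟨l, hl, c, e⟩ := homL x hx
      have e2 : x * v * x⁻¹ = l * v * l⁻¹ := by
        refine mul_right_cancel (b := x) (Units.ext ?_)
        rw [inv_mul_cancel_right]
        simp only [Units.val_mul, e, Matrix.smul_mul, Matrix.mul_smul, Matrix.mul_assoc,
          ← Units.val_mul l⁻¹ l, inv_mul_cancel, Units.val_one, Matrix.mul_one]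
      rw [e2]; exact hn l hl v hv
    obtain ⟨x, hx, hxs⟩ : ∃ x ∈ Om A, NonScal (⁅u, x⁆).1 := by
      by_contra hc
      push Not at hc
      have hcom := comm_of_scalar hperf (u := u) fun l hl => by
        have := hc l (lc_le A hl)
        simp only [NonScal, not_forall, not_not] at this
        obtain ⟨c, e⟩ := this
        refine ⟨c, ?_⟩
        have e' : ⁅u, l⁆ * (l * u) = u * l := by rw [commutatorElement_def]; group
        rw [← Units.val_mul, ← e', Units.val_mul, e, Matrix.smul_mul, Matrix.one_mul, Units.val_mul]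
      obtain ⟨c, e⟩ := hcent u.1 fun x hx => by
        obtain ⟨l, hl, c, e⟩ := homL x hx
        rw [e, Matrix.mul_smul, Matrix.smul_mul, ← Units.val_mul, hcom l hl, Units.val_mul]
      exact hus c e
    have hw : ⁅u, x⁆ ∈ U ⊓ Om A := by
      constructor
      · rw [commutatorElement_def, mul_assoc, mul_assoc, ← mul_assoc x]
        exact U.mul_mem hu (hnG x hx _ (U.inv_mem hu))
      · exact Subgroup.commutator_mem_commutator (hU hu) (om_le A hx)
    have hN : ((U ⊓ Om A).subgroupOf G).Normal := ⟨fun n hnn y => by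
      have hy : (y : GL γ F) ∈ Om A := hG ▸ y.2
      rw [Subgroup.mem_subgroupOf] at hnn ⊢
      exact ⟨hnG _ hy _ hnn.1, Subgroup.mul_mem _ (Subgroup.mul_mem _ hy hnn.2) (Subgroup.inv_mem _ hy)⟩⟩
    have hNc : ¬ (U ⊓ Om A).subgroupOf G ≤ Subgroup.center ↥G := fun h => by
      obtain ⟨c, e⟩ := hsc ⟨⁅u, x⁆, hG ▸ hw.2⟩ (h (Subgroup.mem_subgroupOf.2 hw))
      exact hxs c e
    have h4 := Subgroup.map_mono (f := G.subtype) (big' _ hN hNc)
    rw [hD, Subgroup.subgroupOf_map_subtype] at h4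
    exact h4.trans (inf_le_left.trans inf_le_left)

end CfsgLib.Classical.TensorWreathOrth
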