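import Cfsg.Agent.Lib.Classical.TensorWreathOrth.Four
import Cfsg.Agent.Lib.Classical.TensorOrthNine.Main

set_option autoImplicit false
set_option linter.unusedSectionVars false

/-!
A group above the monomial part of an orthogonal tensor power is monomial or contains the commutator group.
-/

namespace CfsgLib.Classical.TensorWreathOrth

open Matrix CfsgLib.Classical.TensorWreath
open CfsgLib.Classical.TensorOrth (Gram exists_form excl_three)
open CfsgLib.Classical.TensorSymp (ten single_eq_ten)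
open CfsgLib.Classical.TensorMax (Tens)
open scoped MatrixGroups Kronecker

variable {F : Type*} [Field F] [Finite F]

section

variable {τ : Type} [Fintype τ] [DecidableEq τ] {k : ℕ} {J : Matrix (Fin k) (Fin k) F}

/-- Under the inductive hypotheses all of the group is monomial. -/
theorem Ctx.allMono [NeZero k] {M : Subgroup (GL (Ix τ k) F)} (H : Ctx J M) (h3 : k = 3 → 3 ≤ Fintype.card τ) :
    AllMono M := by
  intro g hg
  haveI : Nonempty τ := Fintype.card_pos_iff.1 (by have := H.two_le; omega)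
  obtain ⟨i⟩ := ‹Nonempty τ›
  obtain ⟨c, hc⟩ := H.fac.frm.exists_good (A := J) (by rw [Fintype.card_fin]; have := H.fac.three; omega)
  refine H.mono_of_mono_conj h3 hg (isDl_embG i hc) ?_
  have he : Cls J M (g * embG i (rotG J c hc.1) * g⁻¹) := ⟨g, hg, _, isDl_embG i hc, rfl⟩
  rcases (show 3 ≤ Fintype.card τ ∨ Fintype.card τ = 2 by have := H.two_le; omega) with ht | ht
  · exact H.top_three ht he
  rcases (show 5 ≤ k ∨ k = 4 ∨ k = 3 by have := H.fac.three; omega) with hk | hk | hk
  · exact H.top_two ht hk he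
  · exact H.top_four ht hk he
  · have := h3 hk; omega

/-- The coordinates of two factors. -/
def pairEq {i l : τ} (hil : i ≠ l) (two : ∀ q : τ, q = i ∨ q = l) : Ix τ k ≃ Fin k × Fin k where
  toFun x := (x i, x l)
  invFun p := idx i p.1 p.2
  left_inv x := idx_eq hil two x
  right_inv p := Prod.ext (if_pos rfl) (if_neg hil.symm)

set_option maxHeartbeats 800000 in
/-- Two factors of dimension three. -/
theorem base_nine {J : Matrix (Fin 3) (Fin 3) F} {M : Subgroup (GL (Ix τ 3) F)} (H : Hyp J M)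
    (ht : Fintype.card τ = 2) : AllMono M ∨ Full J M := by
  classical
  cases nonempty_fintype F
  haveI : NeZero (3 : ℕ) := ⟨by omega⟩
  have hf := H.fac
  have h2 := hf.frm.two
  obtain ⟨i, l, hil⟩ := Fintype.exists_pair_of_one_lt_card (α := τ) (by omega)
  have two : ∀ q : τ, q = i ∨ q = l := fun q => by
    by_contra hc
    rw [not_or] at hc
    have : ({q, i, l} : Finset τ).card ≤ Fintype.card τ := Finset.card_le_univ _
    rw [Finset.card_insert_of_notMem (by simp [hc.1, hc.2]), Finset.card_pair hil, ht] at this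
    omega
  obtain ⟨ε, hε⟩ : ∃ ε : Ix τ 3 ≃ Fin 3 × Fin 3, ε = pairEq hil two := ⟨_, rfl⟩
  have hεv : ∀ x, ε x = (x i, x l) := fun x => by rw [hε]; rfl
  obtain ⟨φ, hφ⟩ : ∃ φ : GL (Fin 3 × Fin 3) F ≃* GL (Ix τ 3) F, φ = Cfsg.Geo.glReindex (F := F) ε.symm :=
    ⟨_, rfl⟩
  have hval : ∀ g, (φ g).1 = g.1.submatrix ε ε := fun g => by rw [hφ]; rfl
  obtain ⟨QJ, gJ, -⟩ := exists_form h2 hf.frm.symm hf.frm.det
  have hsym : (J ⊗ₖ J)ᵀ = J ⊗ₖ J := by rw [← Matrix.kroneckerMap_transpose, hf.frm.symm]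
  have hdet : (J ⊗ₖ J).det ≠ 0 := by
    rw [Matrix.det_kronecker]
    exact mul_ne_zero (pow_ne_zero _ hf.frm.det) (pow_ne_zero _ hf.frm.det)
  obtain ⟨Q, gQ, -⟩ := exists_form h2 hsym hdet
  have hJJ : JJ J τ = (J ⊗ₖ J).submatrix ε ε := by
    ext x y
    rw [Matrix.submatrix_apply, hεv, hεv, Matrix.kronecker_apply, JJ, pureM_apply, univ_pair hil two,
      Finset.prod_pair hil]
  have hiso : (iso (J ⊗ₖ J)).map φ.toMonoidHom = iso (JJ J τ) := by
    ext x
    obtain ⟨g, rfl⟩ := φ.surjective x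
    rw [show φ g = φ.toMonoidHom g from rfl, Subgroup.mem_map_iff_mem (f := φ.toMonoidHom) φ.injective, mem_iso,
      mem_iso, show (φ.toMonoidHom g).1 = g.1.submatrix ε ε from hval g, hJJ, Matrix.transpose_submatrix,
      Matrix.submatrix_mul_equiv, Matrix.submatrix_mul_equiv]
    constructor
    · intro e; rw [e]
    · intro e
      ext p q
      have := congrFun₂ e (ε.symm p) (ε.symm q)
      simpa using this
  have hom : (Cfsg.Omega F ⇑Q).map ((φ.toMonoidHom).comp (Cfsg.isometryGroup F ⇑Q).subtype) = Om (JJ J τ) := by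
    rw [← Subgroup.map_map, show (Cfsg.Omega F ⇑Q).map (Cfsg.isometryGroup F ⇑Q).subtype = Om (J ⊗ₖ J) from
      omegaGL_eq gQ, Om, Subgroup.map_commutator, hiso]
    rfl
  obtain ⟨ψ, hψ⟩ : ∃ ψ : CfsgLib.Orth.Grp Q →* GL (Ix τ 3) F,
      ψ = (φ.toMonoidHom).comp (Cfsg.isometryGroup F ⇑Q).subtype := ⟨_, rfl⟩
  have hψi : Function.Injective ψ := by
    rw [hψ]; exact φ.injective.comp (Subgroup.subtype_injective _)
  have hψv : ∀ g, (ψ g).1 = (TensorOrthNine.val g).submatrix ε ε := fun g => by rw [hψ]; exact hval _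
  rw [← hψ] at hom
  -- monomial elements
  have hswap : ∀ g : CfsgLib.Orth.Grp Q, TensorOrthNine.InH g → Mono (ψ g).1 := by
    rintro g (⟨S, T, e⟩ | ⟨S, T, e⟩)
    · refine ⟨fun j => if j = i then S else T, 1, ?_⟩
      rw [permM_one, mul_one, hψv, e]
      ext x y
      rw [pureM_apply, univ_pair hil two, Finset.prod_pair hil, if_pos rfl, if_neg hil.symm, Matrix.submatrix_apply,
        hεv, hεv, Matrix.kronecker_apply]
    · refine ⟨fun j => if j = i then S else T, Equiv.swap i l, ?_⟩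
      ext x y
      rw [mul_permM_entry, univ_pair hil two, Finset.prod_pair hil, if_pos rfl, if_neg hil.symm, Equiv.symm_swap,
        Equiv.swap_apply_left, Equiv.swap_apply_right, hψv, Matrix.submatrix_apply, hεv, hεv]
      have h5 := congrFun (e (Pi.single (y i) 1) (Pi.single (y l) 1)) (x i, x l)
      rw [← single_eq_ten] at h5
      change (TensorOrthNine.val g *ᵥ _) _ = _ at h5
      rw [Matrix.mulVec_single_one, Matrix.mulVec_single_one, Matrix.mulVec_single_one] at h5
      exact h5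
  obtain ⟨M₀, hM₀⟩ : ∃ M₀, M₀ = M.comap ψ ⊓ Cfsg.Omega F ⇑Q := ⟨_, rfl⟩
  have hmem : ∀ g : CfsgLib.Orth.Grp Q, g ∈ Cfsg.Omega F ⇑Q → TensorOrthNine.InH g → g ∈ M₀ := fun g hg hh => by
    rw [hM₀]
    exact ⟨H.mono _ (hom ▸ Subgroup.mem_map_of_mem ψ hg) (hswap g hh), hg⟩
  have hS : TensorOrthNine.Sym QJ QJ J J Q M₀ :=
    { gA := gJ
      gB := gJ
      polar := gQ.pol
      cardA := Fintype.card_fin 3
      cardB := Fintype.card_fin 3
      ext := (excl_three (F := F) le_rfl (fun h => by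
        have := hf.big rfl
        rw [Nat.card_eq_fintype_card] at this
        omega) h2).resolve_left (by omega)
      le := hM₀ ▸ inf_le_right
      tens := fun g hg h => hmem g hg (Or.inl h)
      prop := ⟨1, one_ne_zero, fun x => (one_mul _).symm⟩
      swapT := fun g hg h => hmem g hg (Or.inr h) }
  have hamb : amb J τ = Om (JJ J τ) := by rw [amb, if_pos (show Odd 3 by decide)]
  rcases hS.dichotomy with h | h
  · refine Or.inl fun g hg => ?_
    have hg' : g ∈ (Cfsg.Omega F ⇑Q).map ψ := by rw [hom, ← hamb]; exact H.le hg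
    obtain ⟨g₀, hg₀, rfl⟩ := hg'
    exact hswap g₀ (h g₀ (hM₀ ▸ ⟨hg, hg₀⟩))
  · refine Or.inr fun g hg => ?_
    rw [← hom] at hg
    obtain ⟨g₀, hg₀, rfl⟩ := hg
    rw [← h, hM₀] at hg₀
    exact hg₀.1

end

/-- Every intermediate group is monomial or full. -/
theorem dichotomy {k : ℕ} : ∀ (n : ℕ) {τ : Type} [Fintype τ] [DecidableEq τ], Fintype.card τ = n → 1 ≤ n →
    ∀ (J : Matrix (Fin k) (Fin k) F) (M : Subgroup (GL (Ix τ k) F)), Hyp J M → AllMono M ∨ Full J M := by
  intro n
  induction n using Nat.strong_induction_on with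
  | _ n ih =>
    intro τ _ _ hn hn1 J M H
    haveI := H.fac.neZero
    rcases (show n = 1 ∨ 2 ≤ n by omega) with h1 | h2
    · exact Or.inl fun g _ => mono_of_card_one (hn.trans h1) _
    by_cases h92 : k = 3 ∧ n = 2
    · obtain ⟨rfl, h2'⟩ := h92
      exact base_nine H (hn.trans h2')
    by_cases hF : Full J M
    · exact Or.inr hF
    refine Or.inl (Ctx.allMono (J := J) ⟨H, by omega, fun o N hN => ?_, hF⟩ fun hk => ?_)
    · have hc := card_rest_sub o
      exact ih (Fintype.card (Rest o)) (by omega) rfl (by omega) J N hN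
    · have : n ≠ 2 := fun e => h92 ⟨hk, e⟩
      omega

end CfsgLib.Classical.TensorWreathOrth
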