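import Cfsg.Agent.Lib.Classical.TensorWreathOrth.Diag
import Cfsg.Agent.Lib.Classical.OmegaApps

set_option autoImplicit false
set_option linter.unusedSectionVars false

/-!
Lines whose rotations matter, orthogonal frames of them, and the commutants of the rotations and of the
commutator group of the isometry group.
-/

namespace CfsgLib.Classical.TensorWreathOrth

open Matrix
open scoped MatrixGroups commutatorElement

variable {F : Type*} [Field F] [Finite F] {γ : Type} [Fintype γ] [DecidableEq γ]

/-- A line to rotate about: anisotropic, and in odd dimension of the square class of the determinant. -/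
def Good (A : Matrix γ γ F) (c : γ → F) : Prop :=
  bf A c c ≠ 0 ∧ (Even (Fintype.card γ) ∨ IsSquare (bf A c c * A.det))

theorem Good.ne {A : Matrix γ γ F} {c : γ → F} (hc : Good A c) : bf A c c ≠ 0 := hc.1

theorem Good.of_sq {A : Matrix γ γ F} {c d : γ → F} (hc : Good A c) {s : F} (hs : s ≠ 0)
    (e : bf A d d = bf A c c * (s * s)) : Good A d := by
  refine ⟨by rw [e]; exact mul_ne_zero hc.1 (mul_ne_zero hs hs), hc.2.imp id fun h => ?_⟩
  rw [e, show bf A c c * (s * s) * A.det = bf A c c * A.det * (s * s) by ring]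
  exact (isSquare_mul_sq hs).2 h

theorem Good.of_eq {A : Matrix γ γ F} {c d : γ → F} (hc : Good A c) (e : bf A d d = bf A c c) : Good A d :=
  hc.of_sq one_ne_zero (by rw [e, one_mul, mul_one])

theorem Good.smul {A : Matrix γ γ F} {c : γ → F} (hc : Good A c) {s : F} (hs : s ≠ 0) : Good A (s • c) :=
  hc.of_sq hs (by rw [bf_smul_left, bf_smul_right]; ring)

theorem Good.map {A : Matrix γ γ F} (h : Frm A) {c : γ → F} (hc : Good A c) {g : GL γ F} (hg : g ∈ iso A) :
    Good A (g.1 *ᵥ c) := hc.of_eq (h.bf_iso hg c c)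

namespace Frm

variable {A : Matrix γ γ F} (h : Frm A)
include h

/-- With two dimensions to spare, every value is taken orthogonally to given lines. -/
theorem exists_perp_value {κ : Type} [Fintype κ] [DecidableEq κ] {v : κ → γ → F}
    (ho : ∀ a b, a ≠ b → bf A (v a) (v b) = 0) (ha : ∀ a, bf A (v a) (v a) ≠ 0)
    (hc : Fintype.card κ + 2 ≤ Fintype.card γ) (t : F) :
    ∃ x, (∀ a, bf A (v a) x = 0) ∧ bf A x x = t := by
  cases nonempty_fintype F
  obtain ⟨Q, hQ, hQ2⟩ := exists_gram h
  let L : (γ → F) →ₗ[F] (κ → F) :=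
    { toFun := fun x a => bf A (v a) x
      map_add' := fun x y => funext fun a => bf_add_right A _ _ _
      map_smul' := fun c x => funext fun a => bf_smul_right A c _ _ }
  have hmem : ∀ x, x ∈ LinearMap.ker L ↔ ∀ a, bf A (v a) x = 0 := fun x => by
    rw [LinearMap.mem_ker, funext_iff]; rfl
  have hU : ∀ x ∈ LinearMap.ker L, (∀ y ∈ LinearMap.ker L, QuadraticMap.polar (⇑Q) x y = 0) → x = 0 := by
    intro z hz hzy
    refine h.nondeg fun y => ?_
    obtain ⟨y', hy'⟩ : ∃ y', y' = y - ∑ a, ((bf A (v a) (v a))⁻¹ * bf A (v a) y) • v a := ⟨_, rfl⟩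
    have hy'' : y' ∈ LinearMap.ker L := (hmem _).2 fun b => by
      rw [hy', bf_sub_right, bf_sum_right, Finset.sum_eq_single b (fun a _ hab => by
        rw [bf_smul_right, ho b a hab.symm, mul_zero]) (fun hb => absurd (Finset.mem_univ b) hb),
        bf_smul_right, mul_right_comm, inv_mul_cancel₀ (ha b), one_mul, sub_self]
    have e : bf A z y' = 0 := (hQ.dot_polar z y').trans (hzy y' hy'')
    rw [show y = y' + ∑ a, ((bf A (v a) (v a))⁻¹ * bf A (v a) y) • v a by rw [hy', sub_add_cancel],
      bf_add_right, e, zero_add, bf_sum_right]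
    refine Finset.sum_eq_zero fun a _ => ?_
    rw [bf_smul_right, h.bf_comm z (v a), (hmem z).1 hz a, mul_zero]
  have hd : 2 ≤ Module.finrank F (LinearMap.ker L) := by
    have h1 := L.finrank_range_add_finrank_ker
    have h2 := Submodule.finrank_le (LinearMap.range L)
    rw [Module.finrank_fintype_fun_eq_card] at h1 h2
    omega
  obtain ⟨x, hx, e⟩ := CfsgLib.Orth.exists_value hU h.two hd ((2 : F)⁻¹ * t)
  exact ⟨x, (hmem x).1 hx, by rw [← hQ2, e, ← mul_assoc, mul_inv_cancel₀ h.two, one_mul]⟩

theorem exists_good (hn : 2 ≤ Fintype.card γ) : ∃ c, Good A c := by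
  obtain ⟨x, -, hx⟩ := h.exists_perp_value (κ := Fin 0) (v := Fin.elim0) (fun a => a.elim0) (fun a => a.elim0)
    (by rw [Fintype.card_fin]; omega) A.det
  exact ⟨x, by rw [hx]; exact h.det, Or.inr ⟨A.det, by rw [hx]⟩⟩

/-- In an orthogonal basis, if all lines but one are good, so is the last. -/
theorem good_last {κ : Type} [Fintype κ] [DecidableEq κ] {v : κ → γ → F} (hv : OB A v) (b : κ)
    (hg : ∀ a, a ≠ b → Good A (v a)) : Good A (v b) := by
  refine ⟨hv.aniso b, ?_⟩
  rcases Nat.even_or_odd (Fintype.card γ) with he | ho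
  · exact Or.inl he
  · refine Or.inr ((hv.isSquare_prod_iff (bf A (v b) (v b))).1 ?_)
    rw [← Finset.mul_prod_erase _ _ (Finset.mem_univ b), ← mul_assoc, mul_comm (bf A (v b) (v b) * _),
      isSquare_mul_sq (hv.aniso b)]
    have hs : ∀ a ∈ Finset.univ.erase b, IsSquare (bf A (v a) (v a) * A.det) := fun a ha =>
      (hg a (Finset.ne_of_mem_erase ha)).2.resolve_left (Nat.not_even_iff_odd.2 ho)
    have hp : IsSquare (∏ a ∈ Finset.univ.erase b, bf A (v a) (v a) * A.det) := by
      refine Finset.prod_induction _ IsSquare (fun x y => IsSquare.mul) IsSquare.one hs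
    rw [Finset.prod_mul_distrib, Finset.prod_const, Finset.card_erase_of_mem (Finset.mem_univ b), Finset.card_univ,
      hv.card] at hp
    obtain ⟨l, hl⟩ := Nat.Odd.sub_odd ho odd_one
    rwa [hl, pow_add, isSquare_mul_sq (pow_ne_zero _ h.det)] at hp

/-- Orthogonal good lines extend to a frame. -/
theorem exists_frame_extend {j n : ℕ} (hn : Fintype.card γ = n) (hjn : j ≤ n) (v : Fin j → γ → F)
    (ho : ∀ a b, a ≠ b → bf A (v a) (v b) = 0) (hg : ∀ a, Good A (v a)) :
    ∃ w : Fin n → γ → F, OB A w ∧ (∀ a, Good A (w a)) ∧ ∀ a : Fin j, w (Fin.castLE hjn a) = v a := by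
  induction hd : n - j generalizing j with
  | zero =>
    have hj : j = n := by omega
    subst hj
    exact ⟨v, ⟨ho, fun a => (hg a).1, by rw [Fintype.card_fin, hn]⟩, hg, fun a => rfl⟩
  | succ d ih =>
    have hsnoc : ∀ x, (∀ a, bf A (v a) x = 0) → ∀ a b : Fin (j + 1), a ≠ b →
        bf A (Fin.snoc (α := fun _ => γ → F) v x a) (Fin.snoc (α := fun _ => γ → F) v x b) = 0 := by
      intro x hx a b hab
      induction a using Fin.lastCases with
      | last =>
        induction b using Fin.lastCases with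
        | last => exact absurd rfl hab
        | cast b => rw [Fin.snoc_last, Fin.snoc_castSucc, h.bf_comm]; exact hx b
      | cast a =>
        induction b using Fin.lastCases with
        | last => rw [Fin.snoc_last, Fin.snoc_castSucc]; exact hx a
        | cast b => rw [Fin.snoc_castSucc, Fin.snoc_castSucc]; exact ho a b fun e => hab (congrArg _ e)
    obtain ⟨x, hx, hxg⟩ : ∃ x, (∀ a, bf A (v a) x = 0) ∧ Good A x := by
      rcases Nat.lt_or_ge (j + 1) n with hlt | hge
      · obtain ⟨x, hx, hxx⟩ := h.exists_perp_value ho (fun a => (hg a).1) (by rw [Fintype.card_fin]; omega) A.det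
        exact ⟨x, hx, by rw [hxx]; exact h.det, Or.inr ⟨A.det, by rw [hxx]⟩⟩
      · obtain ⟨x, hx, hxx⟩ := h.exists_perp_aniso ho (fun a => (hg a).1) (by rw [Fintype.card_fin, hn]; omega)
        have hv' : OB A (Fin.snoc (α := fun _ => γ → F) v x) := ⟨hsnoc x hx, fun a => by
          induction a using Fin.lastCases with
          | last => rw [Fin.snoc_last]; exact hxx
          | cast a => rw [Fin.snoc_castSucc]; exact (hg a).1, by rw [Fintype.card_fin, hn]; omega⟩
        have := h.good_last hv' (Fin.last j) fun a => by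
          induction a using Fin.lastCases with
          | last => exact fun hne => absurd rfl hne
          | cast a => intro _; rw [Fin.snoc_castSucc]; exact hg a
        rw [Fin.snoc_last] at this
        exact ⟨x, hx, this⟩
    obtain ⟨w, hw, hwg, hwv⟩ := ih (by omega : j + 1 ≤ n) (Fin.snoc v x) (hsnoc x hx) (fun a => by
      induction a using Fin.lastCases with
      | last => rw [Fin.snoc_last]; exact hxg
      | cast a => rw [Fin.snoc_castSucc]; exact hg a) (by omega)
    refine ⟨w, hw, hwg, fun a => ?_⟩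
    have := hwv a.castSucc
    rwa [Fin.snoc_castSucc] at this

/-- Two good lines in odd dimension have values in the same class. -/
theorem exists_scale {c d : γ → F} (hc : Good A c) (hd : Good A d) (ho : Odd (Fintype.card γ)) :
    ∃ s : F, s ≠ 0 ∧ bf A (s • d) (s • d) = bf A c c := by
  obtain ⟨y, hy⟩ := hc.2.resolve_left (Nat.not_even_iff_odd.2 ho)
  obtain ⟨z, hz⟩ := hd.2.resolve_left (Nat.not_even_iff_odd.2 ho)
  have hy0 : y ≠ 0 := fun e => mul_ne_zero hc.1 h.det (by rw [hy, e, mul_zero])
  have hz0 : z ≠ 0 := fun e => mul_ne_zero hd.1 h.det (by rw [hz, e, mul_zero])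
  refine ⟨y * z⁻¹, mul_ne_zero hy0 (inv_ne_zero hz0), ?_⟩
  rw [bf_smul_left, bf_smul_right]
  refine mul_right_cancel₀ h.det ?_
  rw [hy]
  field_simp
  linear_combination hz

/-- A frame through a good line with all values but possibly one equal, and all equal in odd dimension. -/
theorem exists_frame_eq {c : γ → F} (hc : Good A c) {n : ℕ} (hn : Fintype.card γ = n) (hn2 : 2 ≤ n) :
    ∃ w : Fin n → γ → F, OB A w ∧ (∀ a, Good A (w a)) ∧ w ⟨0, by omega⟩ = c ∧
      ∀ a : Fin n, (a.val + 1 < n ∨ Odd n) → bf A (w a) (w a) = bf A c c := by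
  have step : ∀ j (hj0 : 0 < j), j + 1 ≤ n → ∃ v : Fin j → γ → F, (∀ a b, a ≠ b → bf A (v a) (v b) = 0) ∧
      (∀ a, bf A (v a) (v a) = bf A c c) ∧ v ⟨0, hj0⟩ = c := by
    intro j
    induction j with
    | zero => omega
    | succ j ih =>
      intro _ hj
      rcases Nat.eq_zero_or_pos j with rfl | hpos
      · exact ⟨fun _ => c, fun a b hab => absurd (Subsingleton.elim (α := Fin 1) a b) hab, fun _ => rfl, rfl⟩
      · obtain ⟨v, ho, hv, hv0⟩ := ih hpos (by omega)
        obtain ⟨x, hx, hxx⟩ := h.exists_perp_value ho (fun a => by rw [hv]; exact hc.1)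
          (by rw [Fintype.card_fin]; omega) (bf A c c)
        refine ⟨Fin.snoc v x, ?_, ?_, ?_⟩
        · intro a b hab
          induction a using Fin.lastCases with
          | last =>
            induction b using Fin.lastCases with
            | last => exact absurd rfl hab
            | cast b => rw [Fin.snoc_last, Fin.snoc_castSucc, h.bf_comm]; exact hx b
          | cast a =>
            induction b using Fin.lastCases with
            | last => rw [Fin.snoc_last, Fin.snoc_castSucc]; exact hx a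
            | cast b => rw [Fin.snoc_castSucc, Fin.snoc_castSucc]; exact ho a b fun e => hab (congrArg _ e)
        · intro a
          induction a using Fin.lastCases with
          | last => rw [Fin.snoc_last]; exact hxx
          | cast a => rw [Fin.snoc_castSucc]; exact hv a
        · rw [show (⟨0, _⟩ : Fin (j + 1)) = Fin.castSucc ⟨0, hpos⟩ from rfl, Fin.snoc_castSucc, hv0]
  obtain ⟨v, ho, hv, hv0⟩ := step (n - 1) (by omega) (by omega)
  obtain ⟨w, hw, hwg, hwv⟩ := h.exists_frame_extend hn (by omega : n - 1 ≤ n) v ho (fun a => hc.of_eq (hv a))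
  have hfst : ∀ a : Fin n, a.val + 1 < n → bf A (w a) (w a) = bf A c c := fun a ha => by
    have := hwv ⟨a.val, by omega⟩
    rw [show Fin.castLE _ (⟨a.val, _⟩ : Fin (n - 1)) = a from rfl] at this
    rw [this, hv]
  have hw0 : w ⟨0, by omega⟩ = c := (hwv ⟨0, by omega⟩).trans hv0
  rcases Nat.even_or_odd n with he | hodd
  · refine ⟨w, hw, hwg, hw0, fun a ha => hfst a (ha.resolve_right (Nat.not_odd_iff_even.2 he))⟩
  · obtain ⟨s, hs, hse⟩ := h.exists_scale hc (hwg ⟨n - 1, by omega⟩) (hn ▸ hodd)
    obtain ⟨t, ht⟩ : ∃ t : Fin n → F, t = fun a => if a.val + 1 = n then s else 1 := ⟨_, rfl⟩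
    have ht0 : ∀ a, t a ≠ 0 := fun a => by
      rw [ht]; dsimp only; split_ifs
      exacts [hs, one_ne_zero]
    refine ⟨fun a => t a • w a, ⟨fun a b hab => by
      rw [bf_smul_left, bf_smul_right, hw.orth a b hab, mul_zero, mul_zero], fun a => by
      rw [bf_smul_left, bf_smul_right]; exact mul_ne_zero (ht0 a) (mul_ne_zero (ht0 a) (hw.aniso a)),
      hw.card⟩, fun a => (hwg a).smul (ht0 a), ?_, fun a _ => ?_⟩
    · rw [ht]; dsimp only
      rw [if_neg (by omega), one_smul, hw0]
    · rw [ht]; dsimp only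
      split_ifs with he
      · rw [show a = ⟨n - 1, by omega⟩ from Fin.ext (by simp only; omega)]
        exact hse
      · rw [one_smul]; exact hfst a (by omega)

/-- Three good lines with equal values, from a good one. -/
theorem exists_three {c : γ → F} (hc : Good A c) (hn : 3 ≤ Fintype.card γ) :
    ∃ d e : γ → F, bf A c d = 0 ∧ bf A c e = 0 ∧ bf A d e = 0 ∧ bf A d d = bf A c c ∧ bf A e e = bf A c c := by
  obtain ⟨w, hw, -, hw0, hv⟩ := h.exists_frame_eq hc rfl (by omega)
  refine ⟨w ⟨1, by omega⟩, w ⟨2, by omega⟩, ?_, ?_, hw.orth _ _ (by simp), hv _ (Or.inl ?_), hv _ ?_⟩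
  · rw [← hw0]; exact hw.orth _ _ (by simp)
  · rw [← hw0]; exact hw.orth _ _ (by simp)
  · simp only; omega
  · rcases Nat.lt_or_ge 3 (Fintype.card γ) with h3 | h3
    · exact Or.inl h3
    · exact Or.inr ⟨1, by omega⟩

/-- Orthogonal good lines are linked by a third one. -/
theorem exists_link (hn : 3 ≤ Fintype.card γ) (hbig : Fintype.card γ = 3 → 5 ≤ Nat.card F) {a b : γ → F}
    (ha : Good A a) (hb : Good A b) (hab : bf A a b = 0) :
    ∃ x, Good A x ∧ bf A a x ≠ 0 ∧ bf A b x ≠ 0 := by
  have hba : bf A b a = 0 := by rw [h.bf_comm, hab]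
  obtain ⟨w, hw, hwg, hwv⟩ := h.exists_frame_extend rfl (by omega : 2 ≤ Fintype.card γ) ![a, b]
    (by intro i j hij; fin_cases i <;> fin_cases j <;> simp_all)
    (by intro i; fin_cases i <;> simpa)
  have hwa : w ⟨0, by omega⟩ = a := hwv 0
  have hwb : w ⟨1, by omega⟩ = b := hwv 1
  have hae : bf A a (w ⟨2, by omega⟩) = 0 := by rw [← hwa]; exact hw.orth _ _ (by simp)
  have hbe : bf A b (w ⟨2, by omega⟩) = 0 := by rw [← hwb]; exact hw.orth _ _ (by simp)
  obtain ⟨e, he⟩ : ∃ e, e = w ⟨2, by omega⟩ := ⟨_, rfl⟩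
  rw [← he] at hae hbe
  have heg : Good A e := he ▸ hwg _
  have hea : bf A e a = 0 := by rw [h.bf_comm, hae]
  have heb : bf A e b = 0 := by rw [h.bf_comm, hbe]
  rcases Nat.even_or_odd (Fintype.card γ) with hev | hodd
  · by_cases hsum : bf A a a + bf A b b = 0
    · refine ⟨a + b + e, ⟨?_, Or.inl hev⟩, ?_, ?_⟩ <;>
        simp only [bf_add_left, bf_add_right, hab, hba, hae, hbe, hea, heb, add_zero, zero_add]
      · rw [hsum, zero_add]; exact heg.1
      · exact ha.1
      · exact hb.1
    · refine ⟨a + b, ⟨?_, Or.inl hev⟩, ?_, ?_⟩ <;>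
        simp only [bf_add_left, bf_add_right, hab, hba, add_zero, zero_add]
      · exact hsum
      · exact ha.1
      · exact hb.1
  · obtain ⟨s, hs, hsb⟩ := h.exists_scale ha hb hodd
    obtain ⟨s', hs', hse⟩ := h.exists_scale ha heg hodd
    obtain ⟨b', hb'⟩ : ∃ b', b' = s • b := ⟨_, rfl⟩
    obtain ⟨e', he'⟩ : ∃ e', e' = s' • e := ⟨_, rfl⟩
    rw [← hb'] at hsb
    rw [← he'] at hse
    have p1 : bf A a b' = 0 := by rw [hb', bf_smul_right, hab, mul_zero]
    have p2 : bf A b' a = 0 := by rw [h.bf_comm, p1]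
    have p3 : bf A a e' = 0 := by rw [he', bf_smul_right, hae, mul_zero]
    have p4 : bf A e' a = 0 := by rw [h.bf_comm, p3]
    have p5 : bf A b' e' = 0 := by rw [hb', he', bf_smul_left, bf_smul_right, hbe, mul_zero, mul_zero]
    have p6 : bf A e' b' = 0 := by rw [h.bf_comm, p5]
    have q1 : bf A b b' ≠ 0 := by rw [hb', bf_smul_right]; exact mul_ne_zero hs hb.1
    have q2 : bf A b e' = 0 := by rw [he', bf_smul_right, hbe, mul_zero]
    rcases Nat.lt_or_ge 3 (Fintype.card γ) with h5 | h3
    · -- four equal values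
      obtain ⟨f, hf, hff⟩ := h.exists_perp_value (κ := Fin 3) (v := ![a, b', e'])
        (by intro i j hij; fin_cases i <;> fin_cases j <;> simp_all)
        (by intro i; fin_cases i <;> simp [hsb, hse, ha.1])
        (by rw [Fintype.card_fin]; obtain ⟨l, hl⟩ := hodd; omega) (bf A a a)
      have f1 : bf A a f = 0 := hf 0
      have f2 : bf A b' f = 0 := hf 1
      have f3 : bf A e' f = 0 := hf 2
      have f1' : bf A f a = 0 := by rw [h.bf_comm, f1]
      have f2' : bf A f b' = 0 := by rw [h.bf_comm, f2]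
      have f3' : bf A f e' = 0 := by rw [h.bf_comm, f3]
      have q3 : bf A b f = 0 := by
        have := f2
        rw [hb', bf_smul_left] at this
        exact (mul_eq_zero.1 this).resolve_left hs
      refine ⟨a + b' + e' + f, ha.of_sq h.two ?_, ?_, ?_⟩ <;>
        simp only [bf_add_left, bf_add_right, p1, p2, p3, p4, p5, p6, f1, f2, f3, f1', f2', f3', hsb, hse, hff,
          hba, q2, q3, add_zero, zero_add]
      · ring
      · exact ha.1
      · exact q1
    · -- dimension three
      have hc3 : Fintype.card γ = 3 := by omega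
      have h5 := hbig hc3
      by_cases hch : (3 : F) = 0
      · obtain ⟨u, hu0, hu⟩ : ∃ u : F, u ≠ 0 ∧ u ^ 4 ≠ 1 := by
          by_contra hcon
          push Not at hcon
          cases nonempty_fintype F
          classical
          have hsub : (Finset.univ : Finset F) ⊆ insert 0 (Polynomial.X ^ 4 - Polynomial.C 1 : Polynomial F).roots.toFinset := by
            intro x _
            by_cases hx : x = 0
            · rw [hx]; exact Finset.mem_insert_self _ _
            · refine Finset.mem_insert_of_mem (Multiset.mem_toFinset.2 ((Polynomial.mem_roots ?_).2 ?_))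
              · exact Polynomial.X_pow_sub_C_ne_zero (by norm_num) 1
              · simp [hcon x hx]
          have h4 := (Finset.card_le_card hsub).trans (Finset.card_insert_le _ _)
          have h4' := (Multiset.toFinset_card_le (Polynomial.X ^ 4 - Polynomial.C 1 : Polynomial F).roots).trans
            (Polynomial.card_roots' _)
          rw [Polynomial.natDegree_X_pow_sub_C] at h4'
          rw [Finset.card_univ, ← Nat.card_eq_fintype_card] at h4
          have h5' : Nat.card F = 5 := by omega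
          have : ((5 : ℕ) : F) = 0 := by
            rw [← h5', Nat.card_eq_fintype_card]; exact FiniteField.cast_card_eq_zero F
          refine h.two ?_
          push_cast at this
          linear_combination this - hch
        obtain ⟨y, hy⟩ : ∃ y, y = (u⁻¹ - u) * 2⁻¹ := ⟨_, rfl⟩
        have h2 := h.two
        have hy0 : y ≠ 0 := by
          intro e
          rw [hy] at e
          have : u⁻¹ = u := sub_eq_zero.1 ((mul_eq_zero.1 e).resolve_right (inv_ne_zero h2))
          field_simp at this
          exact hu (by linear_combination (-1 - u ^ 2) * this)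
        obtain ⟨r, hr⟩ : ∃ r, r = (u⁻¹ + u) * 2⁻¹ := ⟨_, rfl⟩
        have hr0 : r ≠ 0 := by
          intro e
          rw [hr] at e
          have : u⁻¹ + u = 0 := (mul_eq_zero.1 e).resolve_right (inv_ne_zero h2)
          field_simp at this
          exact hu (by linear_combination (u ^ 2 - 1) * this)
        refine ⟨a + y • b', ha.of_sq hr0 ?_, ?_, ?_⟩ <;>
          simp only [bf_add_left, bf_add_right, bf_smul_left, bf_smul_right, p1, p2, hsb, hba, mul_zero, add_zero,
            zero_add]
        · rw [hy, hr]; field_simp; ring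
        · exact ha.1
        · exact mul_ne_zero hy0 q1
      · refine ⟨a + (2 : F) • b' + (2 : F) • e', ha.of_sq hch ?_, ?_, ?_⟩ <;>
          simp only [bf_add_left, bf_add_right, bf_smul_left, bf_smul_right, p1, p2, p3, p4, p5, p6, hsb, hse, hba,
            q2, mul_zero, add_zero, zero_add]
        · ring
        · exact ha.1
        · exact mul_ne_zero h.two q1

theorem comm_pr {c : γ → F} {X : Matrix γ γ F} (hX : X * rot A c = rot A c * X) :
    X * pr A c = pr A c * X := by
  rw [rot, Matrix.mul_sub, Matrix.sub_mul, Matrix.mul_one, Matrix.one_mul, Matrix.mul_smul, Matrix.smul_mul,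
    sub_left_inj] at hX
  exact smul_right_injective _ h.two hX

/-- Commuting with all the rotations means being scalar. -/
theorem scalar_of_rot (hn : 3 ≤ Fintype.card γ) (hbig : Fintype.card γ = 3 → 5 ≤ Nat.card F)
    {X : Matrix γ γ F} (hX : ∀ c, Good A c → X * rot A c = rot A c * X) : ∃ s : F, X = s • 1 := by
  have hline : ∀ c, Good A c → ∃ s : F, X *ᵥ c = s • c := fun c hc => by
    have := congrArg (· *ᵥ c) (h.comm_pr (hX c hc))
    simp only [← Matrix.mulVec_mulVec, pr_self A hc.1] at this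
    exact ⟨_, this.trans (pr_mulVec A c _)⟩
  choose s hs using hline
  obtain ⟨c, hc⟩ := h.exists_good (A := A) (by omega)
  obtain ⟨w, hw, hwg, -, -⟩ := h.exists_frame_eq hc rfl (by omega)
  have same : ∀ a b (ha : Good A a) (hb : Good A b), bf A a b = 0 → s a ha = s b hb := by
    intro a b ha hb hab
    obtain ⟨x, hx, hax, hbx⟩ := h.exists_link hn hbig ha hb hab
    have key : ∀ c (hc : Good A c), bf A c x ≠ 0 → s c hc = s x hx := by
      intro c hc hcx
      have h1 : pr A c *ᵥ (X *ᵥ x) = X *ᵥ (pr A c *ᵥ x) := by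
        rw [Matrix.mulVec_mulVec, Matrix.mulVec_mulVec, h.comm_pr (hX c hc)]
      rw [hs x hx, Matrix.mulVec_smul, pr_mulVec, Matrix.mulVec_smul, hs c hc, smul_smul, smul_smul] at h1
      have h2 : ((bf A c c)⁻¹ * bf A c x) ≠ 0 := mul_ne_zero (inv_ne_zero hc.1) hcx
      have h3 := congrArg (bf A c) h1
      rw [bf_smul_right, bf_smul_right] at h3
      exact mul_left_cancel₀ h2 ((mul_right_cancel₀ hc.1 h3).symm.trans (mul_comm _ _))
    rw [key a ha hax, key b hb hbx]
  refine ⟨s _ (hwg ⟨0, by omega⟩), hw.ext fun a => ?_⟩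
  rw [hs _ (hwg a), Matrix.smul_mulVec, Matrix.one_mulVec]
  by_cases ha : a = ⟨0, by omega⟩
  · subst ha; rfl
  · rw [same _ _ (hwg _) (hwg a) (hw.orth _ _ (Ne.symm ha))]

theorem rot_mul_eq {c d : γ → F} (hcd : bf A c d = 0) :
    rot A c * rot A d = 1 - (2 : F) • (pr A c + pr A d) := by
  rw [rot, rot, Matrix.sub_mul, Matrix.one_mul, Matrix.mul_sub, Matrix.mul_one, Matrix.smul_mul, Matrix.mul_smul,
    pr_mul_perp A hcd, smul_zero, smul_zero, smul_add]
  abel

/-- Commuting with the commutator group means being scalar. -/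
theorem scalar_of_om (hn : 3 ≤ Fintype.card γ) (hbig : Fintype.card γ = 3 → 5 ≤ Nat.card F)
    {X : Matrix γ γ F} (hX : ∀ g ∈ Om A, X * g.1 = g.1 * X) : ∃ s : F, X = s • 1 := by
  refine h.scalar_of_rot hn hbig fun c hc => ?_
  obtain ⟨d, e, hcd, hce, hde, hdd, hee⟩ := h.exists_three hc hn
  have pair : ∀ u w, bf A u u = bf A c c → bf A w w = bf A c c → bf A u w = 0 →
      X * (pr A u + pr A w) = (pr A u + pr A w) * X := by
    intro u w hu hw huw
    have hu0 : bf A u u ≠ 0 := by rw [hu]; exact hc.1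
    have hw0 : bf A w w ≠ 0 := by rw [hw]; exact hc.1
    have := hX _ (rot_pair_mem_Om h hu0 hw0 ⟨bf A c c, by rw [hu, hw]⟩)
    rw [Units.val_mul, show (rotG A u hu0).1 = rot A u from rfl, show (rotG A w hw0).1 = rot A w from rfl,
      h.rot_mul_eq huw, Matrix.mul_sub, Matrix.sub_mul, Matrix.mul_one, Matrix.one_mul, sub_right_inj,
      Matrix.mul_smul, Matrix.smul_mul] at this
    exact smul_right_injective _ h.two this
  have e1 := pair c d rfl hdd hcd
  have e2 := pair c e rfl hee hce
  have e3 := pair d e hdd hee hde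
  have e4 : X * ((2 : F) • pr A c) = ((2 : F) • pr A c) * X := by
    rw [show (2 : F) • pr A c = pr A c + pr A d + (pr A c + pr A e) - (pr A d + pr A e) by rw [two_smul]; abel,
      Matrix.mul_sub, Matrix.sub_mul, Matrix.mul_add, Matrix.add_mul, e1, e2, e3]
  rw [rot, Matrix.mul_sub, Matrix.sub_mul, Matrix.mul_one, Matrix.one_mul, e4]

omit [Finite F] in
theorem rot_diff {a b : γ → F} (hab : bf A a b = 0) (e : bf A b b = bf A a a) (ha : bf A a a ≠ 0) :
    bf A (a - b) (a - b) = 2 * bf A a a ∧ rot A (a - b) *ᵥ a = -b ∧ rot A (a - b) *ᵥ b = -a := by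
  have hba : bf A b a = 0 := by rw [h.bf_comm, hab]
  have h1 : bf A (a - b) (a - b) = 2 * bf A a a := by
    rw [bf_sub_left, bf_sub_right, bf_sub_right, hab, hba, e]; ring
  refine ⟨h1, ?_, ?_⟩
  · rw [rot, Matrix.sub_mulVec, Matrix.one_mulVec, Matrix.smul_mulVec, pr_mulVec, h1, bf_sub_left, hba, sub_zero,
      smul_smul, show (2 : F) * ((2 * bf A a a)⁻¹ * bf A a a) = 1 by have := h.two; field_simp, one_smul]
    abel
  · rw [rot, Matrix.sub_mulVec, Matrix.one_mulVec, Matrix.smul_mulVec, pr_mulVec, h1, bf_sub_left, hab, e, zero_sub,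
      smul_smul, show (2 : F) * ((2 * bf A a a)⁻¹ * -bf A a a) = -1 by have := h.two; field_simp, neg_one_smul]
    abel

/-- A commutator in the commutator group that is not scalar. -/
theorem exists_nonscal (hn : 3 ≤ Fintype.card γ) :
    ∃ x ∈ Om A, ∃ y ∈ Om A, ∃ z : GL γ F, z = ⁅x, y⁆ ∧ NonScal z.1 := by
  obtain ⟨a, ha⟩ := h.exists_good (A := A) (by omega)
  obtain ⟨b, c, hab, hac, hbc, hbb, hcc⟩ := h.exists_three ha hn
  have hb0 : bf A b b ≠ 0 := by rw [hbb]; exact ha.1
  obtain ⟨h1, h1a, -⟩ := h.rot_diff hab hbb ha.1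
  obtain ⟨h2, h2b, -⟩ := h.rot_diff hbc (hcc.trans hbb.symm) hb0
  have h10 : bf A (a - b) (a - b) ≠ 0 := by rw [h1]; exact mul_ne_zero h.two ha.1
  have h20 : bf A (b - c) (b - c) ≠ 0 := by rw [h2]; exact mul_ne_zero h.two hb0
  obtain ⟨y, hy⟩ : ∃ y, y = rotG A (a - b) h10 * rotG A (b - c) h20 := ⟨_, rfl⟩
  have hy' : y ∈ Om A := hy ▸ rot_pair_mem_Om h h10 h20 ⟨2 * bf A a a, by rw [h1, h2, hbb]⟩
  have hba : bf A b a = 0 := by rw [h.bf_comm, hab]
  have hca : bf A c a = 0 := by rw [h.bf_comm, hac]
  have hcb : bf A c b = 0 := by rw [h.bf_comm, hbc]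
  have ya : y.1 *ᵥ a = b := by
    rw [hy, Units.val_mul, ← Matrix.mulVec_mulVec]
    show rot A (a - b) *ᵥ (rot A (b - c) *ᵥ a) = b
    rw [rot_perp A (c := b - c) (x := a) (by rw [bf_sub_left, hba, hca, sub_zero]), Matrix.mulVec_neg, h1a, neg_neg]
  have yb : y.1 *ᵥ b = c := by
    rw [hy, Units.val_mul, ← Matrix.mulVec_mulVec]
    show rot A (a - b) *ᵥ (rot A (b - c) *ᵥ b) = c
    rw [h2b, Matrix.mulVec_neg, rot_perp A (c := a - b) (x := c) (by rw [bf_sub_left, hac, hbc, sub_zero]), neg_neg]
  obtain ⟨x, hx⟩ : ∃ x, x = rotG A a ha.1 * rotG A b hb0 := ⟨_, rfl⟩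
  have hx' : x ∈ Om A := hx ▸ rot_pair_mem_Om h ha.1 hb0 ⟨bf A a a, by rw [hbb]⟩
  refine ⟨x, hx', y, hy', ⁅x, y⁆, rfl, fun s hs => ?_⟩
  have hyi : y ∈ iso A := om_le A hy'
  have hc0 : bf A c c ≠ 0 := by rw [hcc]; exact ha.1
  have hconj : y.1 * (rotG A a ha.1 * rotG A b hb0)⁻¹.1 * (y⁻¹).1 = rot A c * rot A b := by
    rw [_root_.mul_inv_rev, Units.val_mul, show ((rotG A a ha.1)⁻¹).1 = rot A a from rfl,
      show ((rotG A b hb0)⁻¹).1 = rot A b from rfl]
    calc y.1 * (rot A b * rot A a) * (y⁻¹).1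
        = (y.1 * rot A b * (y⁻¹).1) * (y.1 * rot A a * (y⁻¹).1) := by
          simp only [Matrix.mul_assoc, Units.inv_mul_cancel_left]
      _ = _ := by rw [h.conj_rot hyi, h.conj_rot hyi, ya, yb]
  have e : (⁅x, y⁆).1 = rot A a * rot A b * (rot A c * rot A b) := by
    rw [← hconj, commutatorElement_def, hx]
    simp only [Units.val_mul, Matrix.mul_assoc]
    rfl
  rw [hs] at e
  have ea := congrArg (· *ᵥ a) e
  have ec := congrArg (· *ᵥ b) e
  simp only [← Matrix.mulVec_mulVec, Matrix.smul_mulVec, Matrix.one_mulVec, rot_perp A hba, rot_perp A hca,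
    rot_self A hb0, rot_perp A hcb, rot_self A ha.1, Matrix.mulVec_neg, rot_perp A hab] at ea ec
  have hs1 : s = -1 := by
    have := congrArg (bf A a) ea
    simp only [bf, dotProduct_smul, smul_eq_mul, dotProduct_neg, neg_neg] at this
    exact mul_right_cancel₀ ha.1 (show s * bf A a a = _ by rw [neg_one_mul]; exact this)
  have hs2 : s = 1 := by
    have := congrArg (bf A b) ec
    simp only [bf, dotProduct_smul, smul_eq_mul, dotProduct_neg, neg_neg] at this
    exact mul_right_cancel₀ hb0 (show s * bf A b b = _ by rw [one_mul]; exact this)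
  exact h.two (by linear_combination hs1.symm.trans hs2 |>.symm)

end Frm

end CfsgLib.Classical.TensorWreathOrth
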