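import Cfsg.Agent.Lib.Classical.TensorWreathOrth.Setup
import Cfsg.Agent.Lib.Classical.TensorWreath.Main
import Cfsg.Agent.Lib.Classical.TensorOrth.Main

set_option autoImplicit false
set_option linter.unusedSectionVars false

/-!
From a dichotomy for the groups above the monomial part to the maximality of the stabiliser of a decomposition
into equal orthogonal tensor factors.
-/

namespace CfsgLib.Classical.TensorWreathOrth

open Matrix CfsgLib.Classical.TensorWreath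
open CfsgLib.Classical.TensorOrth (Gram gram_symm gram_det formOfGram_eq)
open scoped MatrixGroups

variable {F : Type*} [Field F]

section top

variable [Finite F] {τ : Type} [Fintype τ] [DecidableEq τ] {k : ℕ} {J : Matrix (Fin k) (Fin k) F}

/-- For an even factor the isometries of one factor lie in the commutator group. -/
theorem embG_iso_mem_om (h : Frm J) (hk : Even k) (hk0 : 2 ≤ k) (ht : 2 ≤ Fintype.card τ)
    (hD : 3 ≤ Fintype.card τ ∨ IsSquare J.det) (i : τ) {R : GL (Fin k) F} (hR : R ∈ iso J) :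
    embG i R ∈ Om (JJ J τ) := by
  refine iso_le_of_refl h (U := (Om (JJ J τ)).comap (embG i)) (fun u hu => ?_) hR
  exact embM_refl_mem h hk hk0 ht hD i hu rfl

/-- The commutator group has an element which is not monomial. -/
theorem Fac.exists_not_mono (hf : Fac J) (ht : 2 ≤ Fintype.card τ) :
    ∃ g ∈ Om (JJ J τ), ¬ Mono g.1 := by
  classical
  haveI := hf.neZero
  have h3 := hf.three
  obtain ⟨i, l, hil⟩ := Fintype.exists_pair_of_one_lt_card (α := τ) (by omega)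
  obtain ⟨a, ha⟩ := hf.frm.exists_good (A := J) (by rw [Fintype.card_fin]; omega)
  obtain ⟨w, hw, hwg, hw0, -⟩ := hf.frm.exists_frame_eq ha (Fintype.card_fin k) (by omega)
  obtain ⟨m, hm, hms⟩ := hf.exists_nonscal
  obtain ⟨T, hT⟩ : ∃ T, T = embG (⟨l, Ne.symm hil⟩ : Rest i) m := ⟨_, rfl⟩
  obtain ⟨g, hg⟩ : ∃ g, g = eHom (J := J) i a ha.1 T := ⟨_, rfl⟩
  have hgO : g ∈ Om (JJ J τ) := hg ▸ eHom_om hf.frm i ha.1 (hT ▸ embG_om hf.frm _ (lc_le _ hm))
  refine ⟨g, hgO, fun hmono => ?_⟩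
  have pc : ∀ b, pr J a * pr J (w b) = pr J (w b) * pr J a := by
    intro b
    by_cases hb : w b = a
    · rw [hb]
    · have hne : b ≠ ⟨0, by omega⟩ := fun e => hb (e ▸ hw0)
      rw [pr_mul_perp J (hw0 ▸ hw.orth _ b (Ne.symm hne)), pr_mul_perp J (hw0 ▸ hw.orth b _ hne)]
  have hc : ∀ b, g ∈ comG J i (w b) := by
    intro b
    rw [mem_comG, hg, eHom_val, Ea, embM_eq_ins, Matrix.add_mul, Matrix.mul_add, ins_mul, ins_mul, ins_mul,
      ins_mul, Matrix.mul_one, Matrix.one_mul, Matrix.one_mul, pc, Matrix.sub_mul, Matrix.mul_sub, pc,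
      Matrix.one_mul, Matrix.mul_one]
  obtain ⟨A, c, -, hA⟩ := pieces_prop_of_mono hf hw hwg (om_le _ hgO) hmono hc
  have hpa : ∀ b y, g.1 *ᵥ iv i y (w b) = iv i ((if b = ⟨0, by omega⟩ then T.1 else 1) *ᵥ y) (w b) := by
    intro b y
    rw [hg, eHom_val, Ea_mulVec]
    split_ifs with hb
    · rw [hb, hw0, inv_mul_cancel₀ ha.1, one_smul, iv_sub_left, add_sub_cancel]
    · rw [show bf J a (w b) = 0 from hw0 ▸ hw.orth _ b (Ne.symm hb), mul_zero, zero_smul, add_zero,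
        Matrix.one_mulVec]
  obtain ⟨hc0, e0⟩ := hA ⟨0, by omega⟩
  obtain ⟨hc1, e1⟩ := hA ⟨1, by omega⟩
  rw [pieceM_eq (hw.aniso _) (hc _) (hpa _), if_pos rfl] at e0
  rw [pieceM_eq (hw.aniso _) (hc _) (hpa _), if_neg (by simp [Fin.ext_iff])] at e1
  have hTs : T.1 = (c ⟨0, by omega⟩ * (c ⟨1, by omega⟩)⁻¹) • 1 := by
    rw [e0, e1, smul_smul, mul_assoc, inv_mul_cancel₀ hc1, mul_one]
  rw [hT, embG_val] at hTs
  exact hms _ (hf.scalar_emb hTs)

end top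

variable [Fintype F] {ι : Type} [Fintype ι] [DecidableEq ι] {k t : ℕ}

/-- No pair of independent orthogonal singular vectors in a four-dimensional form of minus type. -/
theorem noPair_of_minus {f : (Fin k → F) → (Fin k → F) → F} (hf : Cfsg.Geo.IsSymmetricForm f)
    (hm : ¬ Cfsg.Geo.IsPlusTypeOn (fun v : Fin k → F => f v v) ⊤) (hk : k = 4) :
    NoPair (Cfsg.Geo.gramMatrix f) := by
  intro u v hu hv huv hu0
  by_contra hne
  push Not at hne
  refine hm ⟨Submodule.span F {u, v}, le_top, fun x hx => ?_, ?_⟩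
  · obtain ⟨a, b, rfl⟩ := Submodule.mem_span_pair.1 hx
    show f (a • u + b • v) (a • u + b • v) = 0
    rw [TensorOrthNotMax.apply_eq_gram hf.bilinear, dotProduct_comm]
    show bf _ (a • u + b • v) (a • u + b • v) = 0
    have hvu : bf (Cfsg.Geo.gramMatrix f) v u = 0 := by
      rw [bf, dotProduct_comm, Matrix.dotProduct_mulVec, ← Matrix.mulVec_transpose, gram_symm hf]
      exact huv
    simp only [bf_add_left, bf_add_right, bf_smul_left, bf_smul_right, hu, hv, huv, hvu, mul_zero, add_zero]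
  · have hli : LinearIndependent F ![u, v] := (LinearIndependent.pair_iff' hu0).2 fun a e => hne a e.symm
    have := finrank_span_eq_card hli
    rw [Matrix.range_cons_cons_empty, Fintype.card_fin] at this
    rw [this, finrank_top, Module.finrank_pi, Fintype.card_fin, hk]

/-- Maximality from the dichotomies. -/
theorem isMaximalIn {Q : QuadraticForm F (ι → F)} (h2 : (2 : F) ≠ 0) (hk : 3 ≤ k) (ht : 2 ≤ t)
    (hbig : k = 3 → 5 ≤ Nat.card F) (e : ι ≃ (Fin t → Fin k)) (P : GL ι F)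
    {f₁ : (Fin k → F) → (Fin k → F) → F} (hf₁ : Cfsg.Geo.IsSymmetricForm f₁)
    (h4 : k = 4 → ¬ Cfsg.Geo.IsPlusTypeOn (fun v : Fin k → F => f₁ v v) ⊤)
    (hT : Cfsg.Geo.IsTensorPowerFormStructure id (QuadraticMap.polar ⇑Q) f₁ e P)
    (hD : ∀ (J : Matrix (Fin k) (Fin k) F) (M : Subgroup (GL (Ix (Fin t) k) F)), Hyp J M → AllMono M ∨ Full J M)
    (two : t = 2 → Even k → ∀ (J : Matrix (Fin k) (Fin k) F) (M : Subgroup (GL (Ix (Fin t) k) F)), Fac J →
      ¬ IsSquare J.det → M ≤ Om (JJ J (Fin t)) → (∀ g ∈ Om (JJ J (Fin t)), Mono g.1 → g ∈ M) →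
      (∀ g ∈ M, Mono g.1) ∨ M = Om (JJ J (Fin t))) :
    Cfsg.Geo.IsMaximalIn (Cfsg.Geo.omegaGL ⇑Q)
      (Cfsg.Geo.tensorWreathSubgroup k t e P ⊓ Cfsg.Geo.omegaGL ⇑Q) := by
  classical
  haveI : NeZero k := ⟨by omega⟩
  obtain ⟨c, hc, hB⟩ := hT
  obtain ⟨J, hJd⟩ : ∃ J, J = Cfsg.Geo.gramMatrix f₁ := ⟨_, rfl⟩
  have hfr : Frm J := ⟨h2, hJd ▸ gram_symm hf₁, hJd ▸ gram_det hf₁⟩
  have hf : Fac J := ⟨hfr, hk, hbig, fun hk4 => hJd ▸ noPair_of_minus hf₁ (h4 hk4) hk4⟩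
  obtain ⟨φ, hφ⟩ : ∃ φ : GL (Ix (Fin t) k) F ≃* GL ι F,
      φ = (Cfsg.Geo.glReindex (F := F) e.symm).trans (MulAut.conj P) := ⟨_, rfl⟩
  obtain ⟨co, hco⟩ : ∃ co : (Ix (Fin t) k → F) →ₗ[F] (ι → F), ∀ z, co z = P.1 *ᵥ (z ∘ e) :=
    ⟨(Matrix.mulVecLin P.1).comp (LinearMap.funLeft F F e), fun _ => rfl⟩
  obtain ⟨Q₀, hQ₀⟩ : ∃ Q₀ : QuadraticForm F (Ix (Fin t) k → F), Q₀ = c⁻¹ • Q.comp co := ⟨_, rfl⟩
  have hQ₀v : ∀ z, Q₀ z = c⁻¹ * Q (co z) := fun z => by rw [hQ₀]; rfl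
  have hap : ∀ (g : GL (Ix (Fin t) k) F) z, (φ g).1 *ᵥ co z = co (g.1 *ᵥ z) := by
    intro g z
    rw [hφ, hco, hco]
    show (P.1 * Matrix.submatrix g.1 e e * (P⁻¹ : GL ι F).1) *ᵥ (P.1 *ᵥ _) = _
    rw [Matrix.mulVec_mulVec, Matrix.mul_assoc, Units.inv_mul, Matrix.mul_one, ← Matrix.mulVec_mulVec,
      Matrix.submatrix_mulVec_equiv, Function.comp_assoc, Equiv.self_comp_symm, Function.comp_id]
  have hsurj : ∀ v, ∃ z, co z = v := fun v => ⟨((P⁻¹ : GL ι F).1 *ᵥ v) ∘ e.symm, by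
    rw [hco, Function.comp_assoc, Equiv.symm_comp_self, Function.comp_id, Matrix.mulVec_mulVec,
      Units.mul_inv, Matrix.one_mulVec]⟩
  have hiso : (Cfsg.isometryGroup F ⇑Q₀).map φ.toMonoidHom = Cfsg.isometryGroup F ⇑Q := by
    ext x
    constructor
    · rintro ⟨g, hg, rfl⟩ u w
      obtain ⟨z, rfl⟩ := hsurj u
      show Q ((φ g).1 *ᵥ co z) = Q (co z)
      rw [hap]
      exact mul_left_cancel₀ (inv_ne_zero hc) (by rw [← hQ₀v, ← hQ₀v]; exact hg z z)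
    · intro hx
      obtain ⟨g, rfl⟩ := φ.surjective x
      refine ⟨g, fun z w => ?_, rfl⟩
      have h0 : Q ((φ g).1 *ᵥ co z) = Q (co z) := hx _ (co w)
      rw [hap] at h0
      show Q₀ (g.1 *ᵥ z) = Q₀ z
      rw [hQ₀v, hQ₀v, h0]
  have hom : (Cfsg.Geo.omegaGL ⇑Q₀).map φ.toMonoidHom = Cfsg.Geo.omegaGL ⇑Q := by
    simp only [Cfsg.Geo.omegaGL, Cfsg.Omega, Subgroup.map_subtype_commutator, Subgroup.map_commutator, hiso]
  have hpol : ∀ x y, QuadraticMap.polar ⇑Q₀ x y = x ⬝ᵥ JJ J (Fin t) *ᵥ y := by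
    intro x y
    have h0 : QuadraticMap.polar ⇑Q₀ x y = c⁻¹ * QuadraticMap.polar ⇑Q (co x) (co y) := by
      simp only [QuadraticMap.polar, hQ₀v, map_add]
      ring
    rw [h0, hco, hco, hB, ← mul_assoc, inv_mul_cancel₀ hc, one_mul, dotProduct]
    refine Finset.sum_congr rfl fun a _ => ?_
    rw [Matrix.mulVec, dotProduct, Finset.mul_sum]
    refine Finset.sum_congr rfl fun b _ => ?_
    simp only [hJd, pureM_apply, id_eq]
    ring
  have hG : Gram Q₀ (JJ J (Fin t)) := ⟨h2, hpol, fun x hx => (hfr.pow (Fin t)).nondeg fun y => by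
    rw [bf, dotProduct_comm, ← hpol, CfsgLib.Orth.b_comm]
    exact hx y⟩
  have homg : ∀ g, φ g ∈ Cfsg.Geo.omegaGL ⇑Q ↔ g ∈ Om (JJ J (Fin t)) := fun g => by
    rw [← hom, ← omegaGL_eq hG]
    exact Subgroup.mem_map_iff_mem (f := φ.toMonoidHom) φ.injective
  have hkr : ∀ g, φ g ∈ Cfsg.Geo.tensorWreathSubgroup k t e P ↔ Mono g.1 := by
    intro g
    constructor
    · rintro ⟨_, ⟨x, hx, rfl⟩, hx'⟩
      have : x = g := φ.injective (by rw [hφ]; rw [hφ] at hx'; exact hx')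
      exact this ▸ TensorWreath.mem_standard_iff.1 hx
    · intro h
      exact ⟨_, ⟨g, TensorWreath.mem_standard_iff.2 h, rfl⟩, by rw [hφ]; rfl⟩
  refine ⟨lt_of_le_of_ne inf_le_right fun hh => ?_, fun K hK hK' => ?_⟩
  · obtain ⟨g, hg, hnm⟩ := hf.exists_not_mono (τ := Fin t) (by rw [Fintype.card_fin]; exact ht)
    refine hnm ((hkr g).1 ?_)
    have := (homg g).2 hg
    rw [← hh] at this
    exact this.1
  · have hle : K.comap φ.toMonoidHom ≤ Om (JJ J (Fin t)) := fun g hg => (homg g).1 (hK' hg)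
    have hm : ∀ g ∈ Om (JJ J (Fin t)), Mono g.1 → g ∈ K.comap φ.toMonoidHom := fun g hg hm =>
      hK ⟨(hkr g).2 hm, (homg g).2 hg⟩
    have hd : (∀ g ∈ K.comap φ.toMonoidHom, Mono g.1) ∨ Om (JJ J (Fin t)) ≤ K.comap φ.toMonoidHom := by
      by_cases hev : Even k → 3 ≤ Fintype.card (Fin t) ∨ IsSquare J.det
      · exact hD J _ ⟨hf, hle.trans om_le_amb, hm, fun hk2 i R hR => hm _
          (embG_iso_mem_om hfr hk2 (by omega) (by rw [Fintype.card_fin]; exact ht) (hev hk2) i hR)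
          (mono_pure _)⟩
      · simp only [Classical.not_imp, not_or, Fintype.card_fin] at hev
        obtain ⟨hk2, ht3, hns⟩ := hev
        exact (two (by omega) hk2 J _ hf hns hle hm).imp_right fun h => h.ge
    rcases hd with h | h
    · refine Or.inl (le_antisymm (fun y hy => ?_) hK)
      obtain ⟨g, rfl⟩ := φ.surjective y
      exact ⟨(hkr g).2 (h g hy), hK' hy⟩
    · refine Or.inr (le_antisymm hK' fun y hy => ?_)
      obtain ⟨g, rfl⟩ := φ.surjective y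
      exact h ((homg g).1 hy)

theorem two_ne_of_odd (hodd : Odd (Fintype.card F)) : (2 : F) ≠ 0 := fun h => by
  obtain ⟨j, hj⟩ := hodd
  have h1 := FiniteField.cast_card_eq_zero F
  rw [hj, Nat.cast_add, Nat.cast_mul, Nat.cast_ofNat, h, zero_mul, zero_add, Nat.cast_one] at h1
  exact one_ne_zero h1

/-- The odd-dimensional statement. -/
theorem isMaximalIn_odd {m : ℕ} (hodd : Odd (Fintype.card F)) (hk : 3 ≤ k) (ht : 2 ≤ t)
    (hex : ¬ (Fintype.card F = 3 ∧ k = 3)) (e : (Unit ⊕ (Fin m ⊕ Fin m)) ≃ (Fin t → Fin k))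
    (P : GL (Unit ⊕ (Fin m ⊕ Fin m)) F) {f₁ : (Fin k → F) → (Fin k → F) → F}
    (hf₁ : Cfsg.Geo.IsSymmetricForm f₁)
    (hT : Cfsg.Geo.IsTensorPowerFormStructure id (QuadraticMap.polar (Cfsg.quadFormOdd m F)) f₁ e P)
    (hD : ∀ (J : Matrix (Fin k) (Fin k) F) (M : Subgroup (GL (Ix (Fin t) k) F)), Hyp J M → AllMono M ∨ Full J M) :
    Cfsg.Geo.IsMaximalIn (Cfsg.Geo.omegaGL (Cfsg.quadFormOdd m F))
      (Cfsg.Geo.tensorWreathSubgroup k t e P ⊓ Cfsg.Geo.omegaGL (Cfsg.quadFormOdd m F)) := by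
  have hko : Odd k := by
    by_contra hev
    rw [Nat.not_odd_iff_even] at hev
    have hcard : k ^ t = 1 + (m + m) := by simpa using (Fintype.card_congr e).symm
    have := hev.pow_of_ne_zero (by omega : t ≠ 0)
    rw [hcard] at this
    obtain ⟨j, hj⟩ := this
    omega
  obtain ⟨Q, hQ⟩ : ∃ Q : QuadraticForm F (Unit ⊕ (Fin m ⊕ Fin m) → F), ⇑Q = Cfsg.quadFormOdd m F :=
    ⟨QuadraticMap.linMulLin (LinearMap.proj (.inl ())) (LinearMap.proj (.inl ())) +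
      ∑ i : Fin m, QuadraticMap.linMulLin (LinearMap.proj (.inr (.inl i))) (LinearMap.proj (.inr (.inr i))),
      funext fun v => by simp [Cfsg.quadFormOdd, pow_two]⟩
  rw [← hQ] at hT ⊢
  refine isMaximalIn (two_ne_of_odd hodd) hk ht (fun hk3 => ?_) e P hf₁ (fun hk4 => ?_) hT hD
    fun _ hk2 => absurd hk2 (Nat.not_even_iff_odd.2 hko)
  · rw [Nat.card_eq_fintype_card]
    have := Fintype.one_lt_card (α := F)
    obtain ⟨j, hj⟩ := hodd
    have : Fintype.card F ≠ 3 := fun h => hex ⟨h, hk3⟩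
    omega
  · rw [hk4] at hko
    exact absurd hko (by decide)

/-- The statement of plus type. -/
theorem isMaximalIn_plus {n : ℕ} {Q : (Fin n → F) → F} (hQ : Cfsg.Geo.IsNondegenerateQuadraticForm Q)
    (hodd : Odd (Fintype.card F)) (ht : 2 ≤ t) (e : Fin n ≃ (Fin t → Fin k))
    (P : GL (Fin n) F) {f₁ : (Fin k → F) → (Fin k → F) → F} (hf₁ : Cfsg.Geo.IsSymmetricForm f₁)
    (hsize : (6 ≤ k ∧ Cfsg.Geo.IsPlusTypeOn (fun v : Fin k → F => f₁ v v) ⊤) ∨
      (4 ≤ k ∧ ¬ Cfsg.Geo.IsPlusTypeOn (fun v : Fin k → F => f₁ v v) ⊤))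
    (hT : Cfsg.Geo.IsTensorPowerFormStructure id (QuadraticMap.polar Q) f₁ e P)
    (hD : ∀ (J : Matrix (Fin k) (Fin k) F) (M : Subgroup (GL (Ix (Fin t) k) F)), Hyp J M → AllMono M ∨ Full J M)
    (two : t = 2 → Even k → ∀ (J : Matrix (Fin k) (Fin k) F) (M : Subgroup (GL (Ix (Fin t) k) F)), Fac J →
      ¬ IsSquare J.det → M ≤ Om (JJ J (Fin t)) → (∀ g ∈ Om (JJ J (Fin t)), Mono g.1 → g ∈ M) →
      (∀ g ∈ M, Mono g.1) ∨ M = Om (JJ J (Fin t))) :
    Cfsg.Geo.IsMaximalIn (Cfsg.Geo.omegaGL Q) (Cfsg.Geo.tensorWreathSubgroup k t e P ⊓ Cfsg.Geo.omegaGL Q) := by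
  obtain ⟨Q, rfl, -⟩ := CfsgLib.Orth.exists_quadForm hQ
  refine isMaximalIn (two_ne_of_odd hodd) (by omega) ht (fun hk3 => ?_) e P hf₁ (fun hk4 => ?_) hT hD two
  · omega
  · rcases hsize with ⟨h6, -⟩ | ⟨-, h⟩
    · omega
    · exact h

end CfsgLib.Classical.TensorWreathOrth
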