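import Cfsg.Agent.Lib.Classical.TensorWreathOrth.Fac
import Cfsg.Agent.Lib.Classical.TensorWreath.Perms

set_option autoImplicit false
set_option linter.unusedSectionVars false

/-!
Monomial isometries, and: an isometry normalising the monomial part of the commutator group is monomial.
-/

namespace CfsgLib.Classical.TensorWreathOrth

open Matrix CfsgLib.Classical.TensorWreath
open scoped MatrixGroups commutatorElement

variable {F : Type*} [Field F] [Finite F] {τ : Type} [Fintype τ] [DecidableEq τ] {k : ℕ}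
  {J : Matrix (Fin k) (Fin k) F}

omit [Finite F] in
theorem conj_om {γ : Type} [Fintype γ] [DecidableEq γ] {A : Matrix γ γ F} {u : GL γ F}
    (hu : ∀ h ∈ iso A, u * h * u⁻¹ ∈ iso A) :
    (∀ h ∈ Om A, u * h * u⁻¹ ∈ Om A) ∧ ∀ h ∈ Lc A, u * h * u⁻¹ ∈ Lc A := by
  have h1 : (iso A).map (MulAut.conj u).toMonoidHom ≤ iso A := by
    rintro _ ⟨h, hh, rfl⟩
    exact hu h hh
  have h2 : (Om A).map (MulAut.conj u).toMonoidHom ≤ Om A := by
    rw [Om, Subgroup.map_commutator]
    exact Subgroup.commutator_mono h1 h1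
  refine ⟨fun h hh => h2 ⟨h, hh, rfl⟩, fun h hh => ?_⟩
  have h3 : (Lc A).map (MulAut.conj u).toMonoidHom ≤ Lc A := by
    rw [Lc, Subgroup.map_commutator]
    exact Subgroup.commutator_mono h2 h2
  exact h3 ⟨h, hh, rfl⟩

omit [Finite F] in
theorem iso_conj {γ : Type} [Fintype γ] [DecidableEq γ] {A : Matrix γ γ F} {u : GL γ F} (hu : u ∈ iso A) :
    ∀ h ∈ iso A, u * h * u⁻¹ ∈ iso A := fun _ hh => (iso A).mul_mem ((iso A).mul_mem hu hh) ((iso A).inv_mem hu)

/-- A monomial isometry permutes the factors' groups. -/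
theorem mono_iso_data (hf : Fac J) {X : GL (Ix τ k) F} (hX : Mono X.1) (hi : X ∈ iso (JJ J τ)) :
    ∃ (g : τ → GL (Fin k) F) (σ : Equiv.Perm τ), X.1 = pureM (fun j => (g j).1) * permM F k σ ∧
      (∀ j, ∀ h ∈ iso J, g j * h * (g j)⁻¹ ∈ iso J) ∧
      ∀ j (b : Matrix (Fin k) (Fin k) F),
        X.1 * embM j b * (X⁻¹).1 = embM (σ j) ((g (σ j)).1 * b * ((g (σ j))⁻¹).1) := by
  haveI := hf.neZero
  obtain ⟨gs, σ, e⟩ := hX
  have hd : (pureM gs).det ≠ 0 := fun h0 => by
    have h1 := ((Matrix.isUnit_iff_isUnit_det _).1 X.isUnit).ne_zero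
    rw [e, Matrix.det_mul, h0, zero_mul] at h1
    exact h1 rfl
  obtain ⟨g, hg⟩ : ∃ g : τ → GL (Fin k) F, g = fun j =>
      Matrix.GeneralLinearGroup.mkOfDetNeZero (gs j) (det_ne_zero_of_pureM hd j) := ⟨_, rfl⟩
  have hgv : ∀ j, (g j).1 = gs j := fun j => by rw [hg]; rfl
  have e' : X.1 = pureM (fun j => (g j).1) * permM F k σ := by simpa only [hgv] using e
  refine ⟨g, σ, e', fun j => ?_, fun j b => ?_⟩
  · -- the factors are similitudes
    obtain ⟨W, hW⟩ : ∃ W, W = fun l => J⁻¹ * ((gs l)ᵀ * J * gs l) := ⟨_, rfl⟩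
    have hi' := mem_iso.1 hi
    rw [e, Matrix.transpose_mul] at hi'
    have hperm : (permM F k σ)ᵀ = permM F k σ⁻¹ := by
      ext x y
      simp only [Matrix.transpose_apply, permM, Matrix.of_apply]
      exact if_congr ⟨fun h => by subst h; ext; simp, fun h => by subst h; ext; simp⟩ rfl rfl
    have ht : (pureM gs)ᵀ = pureM fun l => (gs l)ᵀ := by ext x y; simp [pureM_apply]
    have h2 : pureM (fun l => (gs l)ᵀ * J * gs l) = JJ J τ := by
      rw [hperm, ht] at hi'
      have h3 := congrArg (fun Z => permM F k σ * Z * permM F k σ⁻¹) hi'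
      simp only [← Matrix.mul_assoc, permM_mul_inv, Matrix.one_mul] at h3
      rw [Matrix.mul_assoc _ (permM F k σ), permM_mul_inv, Matrix.mul_one] at h3
      rw [permM_mul_pureM, Matrix.mul_assoc _ (permM F k σ), permM_mul_inv, Matrix.mul_one,
        pureM_mul, pureM_mul] at h3
      exact h3
    have h4 : pureM W * permM F k (1 : Equiv.Perm τ) = 1 := by
      rw [permM_one, mul_one, hW, show (fun l => J⁻¹ * ((gs l)ᵀ * J * gs l)) =
        (fun _ : τ => J⁻¹) * fun l => (gs l)ᵀ * J * gs l from rfl, ← pureM_mul, h2, pureM_mul]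
      convert pureM_one (F := F) (τ := τ) (m := k) using 2
      funext l
      exact Matrix.nonsing_inv_mul J hf.frm.isUnit_det
    obtain ⟨c, hc⟩ := (eq_one_of_pure_perm hf.three h4).2 j
    rw [hW] at hc
    have hsim : (g j).1ᵀ * J * (g j).1 = c • J := by
      rw [hgv]
      have := congrArg (J * ·) hc
      simp only [Matrix.mul_nonsing_inv_cancel_left J _ hf.frm.isUnit_det, Matrix.mul_smul, Matrix.mul_one] at this
      exact this
    intro h hh
    rw [mem_iso] at hh ⊢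
    set u := g j
    have key : u.1ᵀ * ((u * h * u⁻¹).1ᵀ * J * (u * h * u⁻¹).1) * u.1 = u.1ᵀ * J * u.1 := by
      calc u.1ᵀ * ((u * h * u⁻¹).1ᵀ * J * (u * h * u⁻¹).1) * u.1
          = ((u * h * u⁻¹).1 * u.1)ᵀ * J * ((u * h * u⁻¹).1 * u.1) := by
            rw [Matrix.transpose_mul]; simp only [Matrix.mul_assoc]
        _ = h.1ᵀ * (u.1ᵀ * J * u.1) * h.1 := by
            rw [← Units.val_mul, inv_mul_cancel_right, Units.val_mul, Matrix.transpose_mul]
            simp only [Matrix.mul_assoc]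
        _ = _ := by rw [hsim, Matrix.mul_smul, Matrix.smul_mul, hh]
    have hu : IsUnit u.1 := u.isUnit
    have hut : IsUnit u.1ᵀ := by rwa [Matrix.isUnit_transpose]
    exact hut.mul_left_cancel (hu.mul_right_cancel key)
  · rw [e', mono_mul_embM (g' := fun l => ((g l)⁻¹).1) σ j ((g (σ j)).mul_inv), Matrix.mul_assoc, ← e',
      X.mul_inv, Matrix.mul_one]

omit [Finite F] in
/-- Conjugation fixing a factor's algebra splits off that factor. -/
theorem exists_cen_of_fix [NeZero k] {j : τ} {g : GL (Ix τ k) F}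
    (h : ∀ b, ∃ b', g.1 * embM j b * (g⁻¹).1 = embM j b') :
    ∃ G : GL (Fin k) F, Cen j ((embG j G⁻¹).1 * g.1) := by
  choose φ hφ using h
  have hφ' : ∀ b, g.1 * embM j b = embM j (φ b) * g.1 := fun b => by
    rw [← hφ, Matrix.mul_assoc _ (g⁻¹).1, g.inv_mul, Matrix.mul_one]
  obtain ⟨B, hB⟩ : ∃ B : Ix (Rest j) k → Ix (Rest j) k → Matrix (Fin k) (Fin k) F,
      B = fun r r' => Matrix.of fun a c => g.1 ((spl j).symm (r, a)) ((spl j).symm (r', c)) := ⟨_, rfl⟩
  have hblk : ∀ r r' b, B r r' * b = φ b * B r r' := by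
    intro r r' b
    ext a c
    have := congrFun₂ (hφ' b) ((spl j).symm (r, a)) ((spl j).symm (r', c))
    rw [Matrix.mul_apply, Matrix.mul_apply, ← (spl j).symm.sum_comp, ← (spl j).symm.sum_comp,
      Fintype.sum_prod_type, Fintype.sum_prod_type, Finset.sum_eq_single r', Finset.sum_eq_single r] at this
    · simp only [hB, Matrix.mul_apply, Matrix.of_apply]
      simpa only [embM_eq_ins, ins, Matrix.submatrix_apply, Equiv.apply_symm_apply, Matrix.kronecker_apply,
        Matrix.one_apply_eq, one_mul] using this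
    · intro u _ hu
      simp [embM_eq_ins, ins, Matrix.kronecker_apply, Matrix.one_apply_ne (Ne.symm hu)]
    · exact fun hu => absurd (Finset.mem_univ _) hu
    · intro u _ hu
      simp [embM_eq_ins, ins, Matrix.kronecker_apply, Matrix.one_apply_ne hu]
    · exact fun hu => absurd (Finset.mem_univ _) hu
  obtain ⟨r, r', hne⟩ : ∃ r r', B r r' ≠ 0 := by
    by_contra hcon
    push Not at hcon
    have hz : g.1 = 0 := by
      ext x y
      have := congrFun₂ (hcon (spl j x).1 (spl j y).1) (spl j x).2 (spl j y).2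
      rw [hB] at this
      simpa using this
    have h1 := g.mul_inv
    rw [hz, Matrix.zero_mul] at h1
    exact zero_ne_one h1
  have hdet : (B r r').det ≠ 0 := by
    intro h0
    obtain ⟨v, hv, hv'⟩ := Matrix.exists_mulVec_eq_zero_iff.2 h0
    refine hne (Matrix.ext_of_mulVec_single fun c => ?_)
    obtain ⟨a, ha⟩ := Function.ne_iff.1 hv
    have h1 : B r r' *ᵥ (Matrix.single c a (v a)⁻¹ *ᵥ v) = 0 := by
      rw [Matrix.mulVec_mulVec, hblk, ← Matrix.mulVec_mulVec, hv', Matrix.mulVec_zero]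
    have h2 : Matrix.single c a (v a)⁻¹ *ᵥ v = Pi.single c 1 := by
      funext x
      by_cases hxc : x = c
      · subst hxc
        simp [Matrix.mulVec, dotProduct, Matrix.single_apply, inv_mul_cancel₀ ha]
      · simp [Matrix.mulVec, dotProduct, Matrix.single_apply, hxc, Ne.symm hxc]
    rw [h2] at h1
    rw [h1, Matrix.zero_mulVec]
  obtain ⟨G, hG⟩ : ∃ G : GL (Fin k) F, G.1 = B r r' := ⟨Matrix.GeneralLinearGroup.mkOfDetNeZero _ hdet, rfl⟩
  refine ⟨G, fun b => ?_⟩
  rw [embG_val, ← Matrix.mul_assoc, embM_mul, Matrix.mul_assoc _ g.1, hφ', ← Matrix.mul_assoc, embM_mul]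
  congr 2
  have h1 : G.1 * b = φ b * G.1 := by rw [hG]; exact hblk r r' b
  calc b * (G⁻¹).1 = (G⁻¹).1 * (G.1 * b) * (G⁻¹).1 := by rw [← Matrix.mul_assoc, G.inv_mul, Matrix.one_mul]
    _ = (G⁻¹).1 * φ b := by rw [h1, Matrix.mul_assoc, Matrix.mul_assoc (φ b), G.mul_inv, Matrix.mul_one]

/-- Conjugation fixing every factor's algebra is pure. -/
theorem mono_of_fix_all [NeZero k] [Nonempty τ] {g : GL (Ix τ k) F}
    (h : ∀ j b, ∃ b', g.1 * embM j b * (g⁻¹).1 = embM j b') : Mono g.1 := by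
  obtain ⟨i⟩ := ‹Nonempty τ›
  suffices key : ∀ s : Finset τ, i ∉ s → ∃ P : GL (Ix τ k) F, Mono P.1 ∧ (∀ l, l ∉ s → Cen l P.1) ∧
        ∀ j ∈ s, Cen j ((P⁻¹).1 * g.1) by
      obtain ⟨P, hP, -, hc⟩ := key (Finset.univ.erase i) (by simp)
      obtain ⟨R, hR⟩ := eq_embM_of_cen i fun j hj => hc j (by simp [hj])
      have : g.1 = P.1 * embM i R := by
        rw [← hR, ← Matrix.mul_assoc, P.mul_inv, Matrix.one_mul]
      rw [this]
      exact hP.mul (mono_pure _)
  intro s
  induction s using Finset.induction_on with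
  | empty => exact fun _ => ⟨1, (monoGroup F τ k).one_mem, fun l _ => Cen.one l, by simp⟩
  | insert a s has ih =>
    intro hi
    rw [Finset.mem_insert, not_or] at hi
    obtain ⟨P, hP, hPc, hc⟩ := ih hi.2
    -- `P` commutes with the new factor
    have hPa : Cen a P.1 := hPc a has
    have hfix : ∀ b, ∃ b', (P⁻¹ * g).1 * embM a b * ((P⁻¹ * g)⁻¹).1 = embM a b' := by
      intro b
      obtain ⟨b', hb'⟩ := h a b
      refine ⟨b', ?_⟩
      rw [_root_.mul_inv_rev, inv_inv, Units.val_mul, Units.val_mul]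
      calc (P⁻¹).1 * g.1 * embM a b * ((g⁻¹).1 * P.1)
          = (P⁻¹).1 * (g.1 * embM a b * (g⁻¹).1) * P.1 := by simp only [Matrix.mul_assoc]
        _ = _ := by rw [hb', Matrix.mul_assoc, hPa b', ← Matrix.mul_assoc, P.inv_mul, Matrix.one_mul]
    obtain ⟨G, hG⟩ := exists_cen_of_fix hfix
    refine ⟨P * embG a G, ?_, fun l hl => ?_, fun j hj => ?_⟩
    · exact hP.mul (mono_pure _)
    · rw [Finset.mem_insert, not_or] at hl
      exact (hPc l hl.2).mul (cen_embM hl.1 _)
    · rw [_root_.mul_inv_rev, Units.val_mul, ← map_inv, Matrix.mul_assoc]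
      rcases Finset.mem_insert.1 hj with rfl | hj'
      · rwa [Units.val_mul] at hG
      · exact (cen_embM (fun e : j = a => has (by rw [← e]; exact hj')) _).mul (hc j hj')

namespace Fac

variable (hf : Fac J)
include hf

theorem embG_inj (j : τ) : Function.Injective (embG (F := F) (k := k) j) := fun a b e => by
  haveI := hf.neZero
  exact Units.ext (embM_injective j (congrArg Units.val e))

theorem exists_nonscal : ∃ l ∈ Lc J, NonScal l.1 := by
  obtain ⟨x, hx, y, hy, z, rfl, hz⟩ := hf.frm.exists_nonscal (by rw [Fintype.card_fin]; exact hf.three)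
  exact ⟨_, Subgroup.commutator_mem_commutator hx hy, hz⟩

theorem scalar_emb {j : τ} {b : Matrix (Fin k) (Fin k) F} {c : F} (h : embM j b = c • 1) : b = c • 1 := by
  haveI := hf.neZero
  rw [← embM_one j, ← embM_smul] at h
  exact embM_injective j h

/-- An isometry normalising a group of monomial isometries with the factors' groups is monomial. -/
theorem mono_of_normalise_sub [Nonempty τ] {g : GL (Ix τ k) F}
    {N0 : Subgroup (GL (Ix τ k) F)} (hNi : ∀ x ∈ N0, x ∈ iso (JJ J τ) ∧ Mono x.1)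
    (hNL : ∀ j, ∀ l ∈ Lc J, embG j l ∈ N0) (hNg : ∀ x ∈ N0, g * x * g⁻¹ ∈ N0) : Mono g.1 := by
  classical
  haveI := hf.neZero
  haveI : Finite (GL (Ix τ k) F) := inferInstance
  obtain ⟨L, hL⟩ : ∃ L : τ → Subgroup (GL (Ix τ k) F), L = fun j => (Lc J).map (embG j) := ⟨_, rfl⟩
  obtain ⟨La, hLa⟩ : ∃ La, La = ⨆ j, L j := ⟨_, rfl⟩
  have hmemL : ∀ j x, x ∈ L j ↔ ∃ l ∈ Lc J, embG j l = x := fun j x => by rw [hL]; rfl
  have hLN : ∀ j, L j ≤ N0 := by
    intro j x hx
    obtain ⟨l, hl, rfl⟩ := (hmemL j x).1 hx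
    exact hNL j l hl
  have hLaN : La ≤ N0 := hLa ▸ iSup_le hLN
  -- the monomial part permutes the factors
  have hperm : ∀ x, x ∈ iso (JJ J τ) → Mono x.1 → ∃ σ : Equiv.Perm τ, ∀ j, ∀ y ∈ L j, x * y * x⁻¹ ∈ L (σ j) := by
    intro x hxi hxm
    obtain ⟨gs, σ, -, hsim, hconj⟩ := mono_iso_data hf hxm hxi
    refine ⟨σ, fun j y hy => ?_⟩
    obtain ⟨l, hl, rfl⟩ := (hmemL j y).1 hy
    refine (hmemL _ _).2 ⟨_, (conj_om (hsim (σ j))).2 l hl, Units.ext ?_⟩
    simp only [Units.val_mul, embG_val]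
    rw [hconj]
  have hnorm : ∀ x ∈ N0, ∀ y ∈ La, x * y * x⁻¹ ∈ La := by
    intro x hx y hy
    obtain ⟨σ, hσ⟩ := hperm x (hNi x hx).1 (hNi x hx).2
    have hle : La.map (MulAut.conj x).toMonoidHom ≤ La := by
      rw [hLa, Subgroup.map_iSup]
      refine iSup_le fun j => ?_
      rintro _ ⟨z, hz, rfl⟩
      exact Subgroup.mem_iSup_of_mem (σ j) (hσ j z hz)
    exact hle ⟨y, hy, rfl⟩
  have hperfL : ∀ j, ⁅L j, L j⁆ = L j := fun j => by
    rw [hL]
    show ⁅(Lc J).map (embG j), (Lc J).map (embG j)⁆ = _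
    rw [← Subgroup.map_commutator, hf.core.perf]
  have hcen : ∀ {X : Matrix (Ix τ k) (Ix τ k) F} {j : τ}, (∀ x ∈ L j, X * x.1 = x.1 * X) → Cen j X := by
    intro X j hX
    refine cen_of_comm (S := {b | ∃ l ∈ Lc J, l.1 = b}) (fun Y hY => hf.core.cent Y fun l hl => hY _ ⟨l, hl, rfl⟩)
      fun b ⟨l, hl, hb⟩ => ?_
    subst hb
    exact hX _ ((hmemL j _).2 ⟨l, hl, rfl⟩)
  have hne : ∀ j, ∃ x ∈ L j, NonScal x.1 := fun j => by
    obtain ⟨l, hl, hns⟩ := hf.exists_nonscal
    exact ⟨_, (hmemL j _).2 ⟨l, hl, rfl⟩, fun c e => hns c (hf.scalar_emb e)⟩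
  have hcommL : ∀ p q, p ≠ q → ∀ x ∈ L p, ∀ y ∈ L q, x * y = y * x := by
    intro p q hpq x hx y hy
    obtain ⟨l, -, rfl⟩ := (hmemL p x).1 hx
    obtain ⟨l', -, rfl⟩ := (hmemL q y).1 hy
    exact Units.ext (embM_comm hpq _ _)
  have hLanorm : ∀ p, ∀ x ∈ La, ∀ y ∈ L p, x * y * x⁻¹ ∈ L p := by
    intro p x hx
    have hle : La ≤ Subgroup.normalizer (L p : Set (GL (Ix τ k) F)) := by
      rw [hLa]
      refine iSup_le fun j => ?_
      intro z hz
      by_cases hj : j = p
      · subst hj; exact Subgroup.le_normalizer hz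
      · refine Subgroup.mem_normalizer_iff.2 fun w => ?_
        constructor
        · intro hw
          rw [hcommL j p hj z hz w hw, mul_inv_cancel_right]; exact hw
        · intro hw
          have h1 := hcommL j p hj z⁻¹ ((L j).inv_mem hz) _ hw
          have h2 : z⁻¹ * (z * w * z⁻¹) = w * z⁻¹ := by group
          rw [h2] at h1
          have h3 : w = z * w * z⁻¹ := by
            have := congrArg (· * z) h1
            simpa [mul_assoc] using this
          rw [h3]; exact hw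
    exact fun y hy => (Subgroup.mem_normalizer_iff.1 (hle hx) y).1 hy
  -- a subgroup of the product normalised by a factor contains or centralises it
  have split : ∀ P : Subgroup (GL (Ix τ k) F), P ≤ La → ∀ p, (∀ y ∈ L p, ∀ x ∈ P, y * x * y⁻¹ ∈ P) →
      L p ≤ P ∨ ∀ x ∈ P, ∀ y ∈ L p, x * y = y * x := by
    intro P hP p hn
    obtain ⟨W, hW⟩ : ∃ W, W = P.comap (embG p) ⊓ Lc J := ⟨_, rfl⟩
    by_cases hsc : ∃ w ∈ W, NonScal w.1
    · left
      have h1 : Lc J ≤ W := hf.core.simp W (fun w hw => by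
        rw [hW] at hw; exact om_le _ (lc_le _ hw.2)) (fun l hl w hw => by
        rw [hW] at hw ⊢
        exact ⟨by
          show embG p (l * w * l⁻¹) ∈ P
          rw [map_mul, map_mul, map_inv]
          exact hn _ ((hmemL p _).2 ⟨l, hl, rfl⟩) _ hw.1, (Lc J).mul_mem ((Lc J).mul_mem hl hw.2) ((Lc J).inv_mem hl)⟩) hsc
      intro y hy
      obtain ⟨l, hl, rfl⟩ := (hmemL p y).1 hy
      have := h1 hl
      rw [hW] at this
      exact this.1
    · right
      push Not at hsc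
      intro x hx
      refine comm_of_scalar (hperfL p) fun y hy => ?_
      have h1 : ⁅x, y⁆ ∈ P := by
        rw [commutatorElement_def, mul_assoc, mul_assoc, ← mul_assoc y]
        exact P.mul_mem hx (hn y hy _ (P.inv_mem hx))
      have h2 : ⁅x, y⁆ ∈ L p := by
        rw [commutatorElement_def]
        exact (L p).mul_mem (hLanorm p x (hP hx) y hy) ((L p).inv_mem hy)
      obtain ⟨l, hl, e⟩ := (hmemL p _).1 h2
      have h3 := hsc l (by rw [hW]; exact ⟨show embG p l ∈ P from e ▸ h1, hl⟩)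
      simp only [NonScal, not_forall, not_not] at h3
      obtain ⟨c, hc⟩ := h3
      refine ⟨c, ?_⟩
      have e' : x * y = ⁅x, y⁆ * (y * x) := by rw [commutatorElement_def]; group
      rw [← Units.val_mul, e', Units.val_mul, Units.val_mul, ← e, embG_val, hc, embM_smul, embM_one,
        Matrix.smul_mul, Matrix.one_mul]
  have hscal : ∀ {x : GL (Ix τ k) F}, (∀ j, ∀ y ∈ L j, x * y = y * x) → ∀ i : τ, ∃ c : F, x.1 = c • 1 := by
    intro x hx i
    have hc : ∀ j, Cen j x.1 := fun j => hcen fun y hy => by rw [← Units.val_mul, hx j y hy, Units.val_mul]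
    obtain ⟨R, hR⟩ := eq_embM_of_cen i fun j _ => hc j
    obtain ⟨c, e⟩ := hf.scalar_rot (X := R) fun d _ => embM_injective i (by
      rw [← embM_mul, ← embM_mul, ← hR, hc i])
    exact ⟨c, by rw [hR, e, embM_smul, embM_one]⟩
  obtain ⟨φ, hφ⟩ : ∃ φ : GL (Ix τ k) F →* GL (Ix τ k) F, φ = (MulAut.conj g).toMonoidHom := ⟨_, rfl⟩
  have hφv : ∀ x, φ x = g * x * g⁻¹ := fun x => by rw [hφ]; rfl
  have hφi : Function.Injective φ := by rw [hφ]; exact (MulAut.conj g).injective
  have hN0g : N0.map φ = N0 := by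
    refine Subgroup.eq_of_le_of_card_ge ?_ (Subgroup.card_map_of_injective hφi).ge
    rintro _ ⟨x, hx, rfl⟩
    rw [hφv]
    exact hNg x hx
  obtain ⟨Λ, hΛ⟩ : ∃ Λ, Λ = La.map φ := ⟨_, rfl⟩
  have hΛN : Λ ≤ N0 := by rw [hΛ, ← hN0g]; exact Subgroup.map_mono hLaN
  have hΛn : ∀ x ∈ N0, ∀ y ∈ Λ, x * y * x⁻¹ ∈ Λ := by
    intro x hx y hy
    rw [← hN0g] at hx
    obtain ⟨x', hx', rfl⟩ := hx
    rw [hΛ] at hy ⊢
    obtain ⟨y', hy', rfl⟩ := hy
    exact ⟨x' * y' * x'⁻¹, hnorm x' hx' y' hy', by rw [map_mul, map_mul, map_inv]⟩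
  -- the conjugate of each factor lies in the product
  have hin : ∀ p, (L p).map φ ≤ La := by
    intro p
    obtain ⟨P, hP⟩ : ∃ P, P = (Λ ⊓ La).comap φ ⊓ La := ⟨_, rfl⟩
    rcases split P (hP ▸ inf_le_right) p (fun y hy x hx => by
      rw [hP] at hx ⊢
      have hyN : φ y ∈ N0 := by rw [← hN0g]; exact Subgroup.mem_map_of_mem φ (hLN p hy)
      refine ⟨?_, hnorm y (hLN p hy) x hx.2⟩
      show φ (y * x * y⁻¹) ∈ Λ ⊓ La
      rw [map_mul, map_mul, map_inv]
      exact ⟨hΛn _ hyN _ hx.1.1, hnorm _ hyN _ hx.1.2⟩) with hle | hcomm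
    · rintro _ ⟨y, hy, rfl⟩
      have := hle hy
      rw [hP] at this
      exact this.1.2
    · exfalso
      obtain ⟨S, hS⟩ : ∃ S, S = (L p).map φ := ⟨_, rfl⟩
      have hSΛ : S ≤ Λ := by
        rw [hS, hΛ]
        exact Subgroup.map_mono (hLa ▸ le_iSup L p)
      have hX : ∀ x ∈ Λ ⊓ La, ∀ y ∈ S, x * y = y * x := by
        intro x hx y hy
        rw [hS] at hy
        obtain ⟨y', hy', rfl⟩ := hy
        have hx' : x ∈ La.map φ := hΛ ▸ hx.1
        obtain ⟨x', hx', rfl⟩ := hx'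
        have := hcomm x' (by rw [hP]; exact ⟨hx, hx'⟩) y' hy'
        rw [← map_mul, this, map_mul]
      have h1 : ⁅S, La⁆ ≤ Λ ⊓ La := by
        refine Subgroup.commutator_le.2 fun a ha b hb => ⟨?_, ?_⟩
        · rw [commutatorElement_def, mul_assoc, mul_assoc, ← mul_assoc b]
          exact Λ.mul_mem (hSΛ ha) (hΛn b (hLaN hb) _ (Λ.inv_mem (hSΛ ha)))
        · rw [commutatorElement_def]
          exact La.mul_mem (hnorm a (hΛN (hSΛ ha)) b hb) (La.inv_mem hb)
      have hb : ⁅⁅S, La⁆, S⁆ = ⊥ := by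
        rw [Subgroup.commutator_eq_bot_iff_le_centralizer]
        intro x hx
        rw [Subgroup.mem_centralizer_iff]
        exact fun y hy => (hX x (h1 hx) y hy).symm
      have h2 : ⁅⁅S, S⁆, La⁆ = ⊥ :=
        Subgroup.commutator_commutator_eq_bot_of_rotate hb (by rw [Subgroup.commutator_comm La S]; exact hb)
      have hperfS : ⁅S, S⁆ = S := by rw [hS, ← Subgroup.map_commutator, hperfL]
      rw [hperfS, Subgroup.commutator_eq_bot_iff_le_centralizer] at h2
      obtain ⟨y, hy, hys⟩ := hne p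
      obtain ⟨c, hc⟩ := hscal (x := φ y) (fun j z hz => by
        have := h2 (hS ▸ Subgroup.mem_map_of_mem φ hy)
        rw [Subgroup.mem_centralizer_iff] at this
        exact (this z (hLa ▸ Subgroup.mem_iSup_of_mem j hz)).symm) p
      refine hys c ?_
      rw [hφv] at hc
      have e : y.1 = (g⁻¹).1 * (g * y * g⁻¹).1 * g.1 := by
        simp only [← Units.val_mul]
        congr 1
        group
      rw [e, hc, Matrix.mul_smul, Matrix.mul_one, Matrix.smul_mul, g.inv_mul]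
  have hΛLa : La.map φ = La := by
    refine Subgroup.eq_of_le_of_card_ge ?_ (Subgroup.card_map_of_injective hφi).ge
    rw [hLa, Subgroup.map_iSup]
    exact iSup_le fun p => hLa ▸ hin p
  -- a factor goes onto a factor
  have honto : ∀ (ψ : GL (Ix τ k) F →* GL (Ix τ k) F), Function.Injective ψ → La.map ψ = La → ∀ p,
      ∃ q, L q ≤ (L p).map ψ := by
    intro ψ hψ hψL p
    by_contra hcon
    push Not at hcon
    obtain ⟨S, hS⟩ : ∃ S, S = (L p).map ψ := ⟨_, rfl⟩
    have hSLa : S ≤ La := by rw [hS, ← hψL]; exact Subgroup.map_mono (hLa ▸ le_iSup L p)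
    have hall : ∀ q, ∀ x ∈ S, ∀ y ∈ L q, x * y = y * x := by
      intro q
      refine (split S hSLa q fun y hy x hx => ?_).resolve_left (hS ▸ hcon q)
      have hy' : y ∈ La.map ψ := hψL.symm ▸ (hLa ▸ Subgroup.mem_iSup_of_mem q hy)
      obtain ⟨y', hy', rfl⟩ := hy'
      rw [hS] at hx ⊢
      obtain ⟨x', hx', rfl⟩ := hx
      exact ⟨y' * x' * y'⁻¹, hLanorm p y' hy' x' hx', by rw [map_mul, map_mul, map_inv]⟩
    obtain ⟨y, hy, hys⟩ := hne p
    have hyS : ψ y ∈ S := hS ▸ Subgroup.mem_map_of_mem ψ hy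
    obtain ⟨z, hz, hzs⟩ := hne p
    have hzS : ψ z ∈ S := hS ▸ Subgroup.mem_map_of_mem ψ hz
    have hab : ∀ a ∈ L p, ∀ b ∈ L p, a * b = b * a := by
      intro a ha b hb
      refine hψ ?_
      obtain ⟨c, hc⟩ := hscal (x := ψ a) (fun j w hw => hall j _ (hS ▸ Subgroup.mem_map_of_mem ψ ha) w hw) p
      refine Units.ext ?_
      rw [map_mul, map_mul, Units.val_mul, Units.val_mul, hc, smul_one_comm]
    have hbot : L p = ⊥ := by
      rw [← hperfL p, Subgroup.commutator_eq_bot_iff_le_centralizer]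
      exact fun a ha => Subgroup.mem_centralizer_iff.2 fun b hb => hab b hb a ha
    rw [hbot, Subgroup.mem_bot] at hy
    exact hys 1 (by rw [hy, Units.val_one, one_smul])
  have hφinv : La.map (MulAut.conj g⁻¹).toMonoidHom = La := by
    conv_lhs => rw [← hΛLa, hφ, Subgroup.map_map]
    convert Subgroup.map_id La
    ext x
    simp [mul_assoc]
  choose σ hσ using fun p => honto φ hφi hΛLa p
  have hEq : ∀ p, (L p).map φ = L (σ p) := by
    intro p
    refine le_antisymm ?_ (hσ p)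
    obtain ⟨r, hr⟩ := honto _ (MulAut.conj g⁻¹).injective hφinv (σ p)
    have hrp : L r ≤ L p := by
      refine hr.trans ?_
      rintro _ ⟨x, hx, rfl⟩
      obtain ⟨y, hy, rfl⟩ := hσ p hx
      rw [hφv]
      show g⁻¹ * (g * y * g⁻¹) * g⁻¹⁻¹ ∈ L p
      rwa [show g⁻¹ * (g * y * g⁻¹) * g⁻¹⁻¹ = y by group]
    have hrp' : r = p := by
      by_contra hne'
      obtain ⟨x, hx, hxs⟩ := hne r
      obtain ⟨c, hc⟩ := hscal (x := x) (fun j w hw => by
        by_cases hj : j = r
        · subst hj; exact (hcommL p j (Ne.symm hne') x (hrp hx) w hw)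
        · exact hcommL r j (Ne.symm hj) x hx w hw) r
      exact hxs c hc
    subst hrp'
    rintro _ ⟨x, hx, rfl⟩
    obtain ⟨z, hz, hzx⟩ := hr hx
    rw [← hzx, hφv]
    show g * (g⁻¹ * z * g⁻¹⁻¹) * g⁻¹ ∈ L (σ r)
    rwa [show g * (g⁻¹ * z * g⁻¹⁻¹) * g⁻¹ = z by group]
  have hσinj : Function.Injective σ := by
    intro p p' e
    by_contra hne'
    obtain ⟨x, hx, hxs⟩ := hne p
    have : φ x ∈ (L p').map φ := by rw [hEq, ← e, ← hEq]; exact Subgroup.mem_map_of_mem φ hx
    obtain ⟨y, hy, hyx⟩ := this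
    have := hφi hyx
    subst this
    obtain ⟨c, hc⟩ := hscal (x := y) (fun j w hw => by
      by_cases hj : j = p
      · subst hj; exact (hcommL p' j (Ne.symm hne') y hy w hw)
      · exact hcommL p j (Ne.symm hj) y hx w hw) p
    exact hxs c hc
  -- so the factors' algebras are permuted
  obtain ⟨π, hπ⟩ : ∃ π : Equiv.Perm τ, ∀ p, π p = σ p :=
    ⟨Equiv.ofBijective σ (Finite.injective_iff_bijective.1 hσinj), fun _ => rfl⟩
  have halg : ∀ p b, ∃ b', g.1 * embM p b * (g⁻¹).1 = embM (π p) b' := by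
    intro p b
    refine eq_embM_of_cen (π p) fun q hq => hcen fun y hy => ?_
    obtain ⟨p', rfl⟩ := π.surjective q
    have hy' : y ∈ (L p').map φ := by rw [hEq, ← hπ]; exact hy
    obtain ⟨y', hy', rfl⟩ := hy'
    obtain ⟨l, -, rfl⟩ := (hmemL p' y').1 hy'
    have hpp : p ≠ p' := fun e => hq (by rw [e])
    rw [hφv, Units.val_mul, Units.val_mul, embG_val]
    calc g.1 * embM p b * (g⁻¹).1 * (g.1 * embM p' l.1 * (g⁻¹).1)
        = g.1 * (embM p b * embM p' l.1) * (g⁻¹).1 := by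
          simp only [Matrix.mul_assoc, Units.inv_mul_cancel_left]
      _ = _ := by rw [embM_comm hpp]; simp only [Matrix.mul_assoc, Units.inv_mul_cancel_left]
  obtain ⟨P, hP⟩ : ∃ P : GL (Ix τ k) F, P.1 = permM F k π :=
    ⟨⟨permM F k π, permM F k π⁻¹, permM_mul_inv π, permM_inv_mul π⟩, rfl⟩
  have hPi : (P⁻¹).1 = permM F k π⁻¹ := Units.inv_eq_of_mul_eq_one_right (by rw [hP]; exact permM_mul_inv π)
  have hfix : ∀ j b, ∃ b', (P⁻¹ * g).1 * embM j b * ((P⁻¹ * g)⁻¹).1 = embM j b' := by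
    intro j b
    obtain ⟨b', hb'⟩ := halg j b
    refine ⟨b', ?_⟩
    rw [_root_.mul_inv_rev, inv_inv, Units.val_mul, Units.val_mul]
    calc (P⁻¹).1 * g.1 * embM j b * ((g⁻¹).1 * P.1)
        = (P⁻¹).1 * (g.1 * embM j b * (g⁻¹).1) * P.1 := by simp only [Matrix.mul_assoc]
      _ = _ := by
          rw [hb', hPi, hP, permM_conj_embM, Matrix.mul_assoc, permM_inv_mul, Matrix.mul_one]
          congr 1
          exact π.symm_apply_apply j
  have hm := mono_of_fix_all hfix
  have : g.1 = P.1 * (P⁻¹ * g).1 := by rw [← Units.val_mul, mul_inv_cancel_left]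
  rw [this, hP]
  exact (mono_perm π).mul hm

/-- An isometry normalising the monomial part of the commutator group is monomial. -/
theorem mono_of_normalise [Nonempty τ] {g : GL (Ix τ k) F} (hg : g ∈ iso (JJ J τ))
    (h : ∀ x ∈ Om (JJ J τ), Mono x.1 → Mono (g * x * g⁻¹).1) : Mono g.1 :=
  haveI := hf.neZero
  hf.mono_of_normalise_sub (N0 := Om (JJ J τ) ⊓ monoGroup F τ k) (fun _ hx => ⟨om_le _ hx.1, hx.2⟩)
    (fun j _ hl => ⟨embG_om hf.frm j (lc_le _ hl), mono_pure _⟩)
    fun x hx => ⟨(conj_om (iso_conj hg)).1 x hx.1, h x hx.1 hx.2⟩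

end Fac

end CfsgLib.Classical.TensorWreathOrth
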