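import Cfsg.Agent.Lib.Classical.TensorWreathOrth.Conj

set_option autoImplicit false
set_option linter.unusedSectionVars false

/-!
Two elements of the class: a central involution of their group is one or a product of two commuting rotations, and
an element of the class keeping such a product is monomial.
-/

namespace CfsgLib.Classical.TensorWreathOrth

open Matrix CfsgLib.Classical.TensorWreath
open CfsgLib.Classical.TensorOrthNine (eig mem_eig finrank_eig_add)
open scoped MatrixGroups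

variable {F : Type*} [Field F] [Finite F]

/-! ### Signatures -/

section sigs

variable {γ : Type} [Fintype γ] [DecidableEq γ]

theorem sig_add_mul (h2 : (2 : F) ≠ 0) {e z : Matrix γ γ F} (he : e * e = 1) (hz : z * z = 1) (hc : e * z = z * e) :
    sig e + sig (e * z) = 2 * ((Module.finrank F ↥(eig z 1 ⊓ eig e 1) : ℤ) -
        Module.finrank F ↥(eig z 1 ⊓ eig e (-1))) ∧
      Module.finrank F ↥(eig z 1 ⊓ eig e 1) + Module.finrank F ↥(eig z 1 ⊓ eig e (-1)) =
        Module.finrank F (eig z 1) := by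
  have t1 := finrank_eig_mul h2 hz (e := e) hc 1
  have t2 := finrank_eig_mul h2 hz (e := e) hc (-1)
  rw [neg_neg] at t2
  have u1 := finrank_split_mat h2 hz (eig e 1) (eig_stable hc.symm)
  have u2 := finrank_split_mat h2 hz (eig e (-1)) (eig_stable hc.symm)
  rw [inf_comm (eig e 1), inf_comm (eig e 1) (eig z (-1))] at u1
  rw [inf_comm (eig e (-1)), inf_comm (eig e (-1)) (eig z (-1))] at u2
  have a := finrank_split_mat h2 he (eig z 1) (eig_stable hc)
  refine ⟨?_, a⟩
  rw [sig, sig, t1, t2]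
  omega

/-- Two commuting involutions and one having one signature with all their products. -/
theorem three_count (h2 : (2 : F) ≠ 0) {e z z' : Matrix γ γ F} (he : e * e = 1) (hz : z * z = 1) (hz' : z' * z' = 1)
    (c1 : e * z = z * e) (c2 : e * z' = z' * e) (c3 : z * z' = z' * z) {X : ℤ} (s1 : sig e = X) (s2 : sig (e * z) = X)
    (s3 : sig (e * z') = X) (s4 : sig (e * z' * z) = X) :
    4 * -X ≤ (Fintype.card γ : ℤ) + sig z + sig z' + sig (z' * z) := by
  have key : ∀ s t : F, t * t = 1 → eig (e * z') s ⊓ eig z' t = eig z' t ⊓ eig e (t * s) := by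
    intro s t ht
    ext x
    simp only [Submodule.mem_inf, mem_eig]
    constructor
    · rintro ⟨h1, h3⟩
      refine ⟨h3, ?_⟩
      rw [← Matrix.mulVec_mulVec, h3, Matrix.mulVec_smul] at h1
      calc e *ᵥ x = (t * t) • (e *ᵥ x) := by rw [ht, one_smul]
        _ = _ := by rw [mul_smul, h1, smul_smul]
    · rintro ⟨h3, h1⟩
      refine ⟨?_, h3⟩
      rw [← Matrix.mulVec_mulVec, h3, Matrix.mulVec_smul, h1, smul_smul, ← mul_assoc, ht, one_mul]
  have hc' : e * z' * z = z * (e * z') := by rw [mul_assoc, ← c3, ← mul_assoc, c1, mul_assoc]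
  have hee : e * z' * (e * z') = 1 := by rw [mul_assoc, ← mul_assoc z', ← c2, mul_assoc e z', hz', mul_one, he]
  have hzz : z' * z * (z' * z) = 1 := by rw [mul_assoc, ← mul_assoc z, c3, mul_assoc z' z, hz, mul_one, hz']
  have split : ∀ s : F,
      Module.finrank F ↥((eig z 1 ⊓ eig (e * z') s) ⊓ eig z' 1) +
        Module.finrank F ↥((eig z 1 ⊓ eig (e * z') s) ⊓ eig z' (-1)) =
          Module.finrank F ↥(eig z 1 ⊓ eig (e * z') s) :=
    fun s => finrank_split_mat h2 hz' _ fun x hx => ⟨eig_stable c3.symm x hx.1,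
      eig_stable (by rw [← mul_assoc, ← c2]) x hx.2⟩
  have split' : ∀ s : F,
      Module.finrank F ↥((eig z 1 ⊓ eig e s) ⊓ eig z' 1) +
        Module.finrank F ↥((eig z 1 ⊓ eig e s) ⊓ eig z' (-1)) = Module.finrank F ↥(eig z 1 ⊓ eig e s) :=
    fun s => finrank_split_mat h2 hz' _ fun x hx => ⟨eig_stable c3.symm x hx.1, eig_stable c2.symm x hx.2⟩
  have i1 : ∀ s : F, (eig z 1 ⊓ eig (e * z') s) ⊓ eig z' 1 = (eig z 1 ⊓ eig e s) ⊓ eig z' 1 := fun s => by
    rw [inf_assoc, key s 1 (one_mul 1), one_mul, inf_assoc, inf_comm (eig z' 1)]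
  have i2 : ∀ s : F, (eig z 1 ⊓ eig (e * z') s) ⊓ eig z' (-1) = (eig z 1 ⊓ eig e (-s)) ⊓ eig z' (-1) := fun s => by
    rw [inf_assoc, key s (-1) (neg_mul_neg _ _ |>.trans (one_mul 1)), neg_one_mul, inf_assoc, inf_comm (eig z' (-1))]
  obtain ⟨A, -⟩ := sig_add_mul h2 he hz c1
  obtain ⟨B, -⟩ := sig_add_mul h2 hee hz hc'
  obtain ⟨C, C'⟩ := sig_add_mul h2 hz' hz c3.symm
  have D := sig_add_card h2 hz
  have w := finrank_split_mat h2 he (eig z 1 ⊓ eig z' 1) fun x hx =>
    ⟨eig_stable c1 x hx.1, eig_stable c2 x hx.2⟩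
  rw [inf_right_comm (eig z 1) (eig z' 1), inf_right_comm (eig z 1) (eig z' 1) (eig e (-1))] at w
  have b1 := split 1
  have b2 := split (-1)
  have a1 := split' 1
  have a2 := split' (-1)
  rw [i1, i2] at b1 b2
  rw [neg_neg] at b2
  rw [s1, s2] at A
  rw [s3, s4] at B
  omega

/-- Multiplying by the rotation on a fixed line. -/
theorem sig_mul_rot {A : Matrix γ γ F} (h : Frm A) {R : Matrix γ γ F} (hR : R * R = 1) {u : γ → F}
    (hu : bf A u u ≠ 0) (hc : R * rot A u = rot A u * R) :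
    (R *ᵥ u = u → sig (R * rot A u) = 2 - sig R) ∧ (R *ᵥ u = -u → sig (R * rot A u) = -2 - sig R) := by
  obtain ⟨e1, e2⟩ := sig_add_mul h.two hR (rot_mul_self A hu) hc
  rw [finrank_eig_rot h hu] at e2
  have mem : ∀ s : F, R *ᵥ u = s • u → eig (rot A u) 1 ⊓ eig R s = eig (rot A u) 1 := by
    intro s hs
    refine inf_eq_left.2 fun x hx => ?_
    rw [eig_rot_one h hu, Submodule.mem_span_singleton] at hx
    obtain ⟨t, rfl⟩ := hx
    rw [mem_eig, Matrix.mulVec_smul, hs, smul_comm]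
  constructor <;> intro hs
  · have := congrArg (fun S : Submodule F (γ → F) => Module.finrank F S) (mem 1 (by rw [one_smul, hs]))
    simp only [finrank_eig_rot h hu] at this
    omega
  · have := congrArg (fun S : Submodule F (γ → F) => Module.finrank F S) (mem (-1) (by rw [neg_one_smul, hs]))
    simp only [finrank_eig_rot h hu] at this
    omega

theorem rot_comm_orth {A : Matrix γ γ F} (h : Frm A) {c d : γ → F} (hcd : bf A c d = 0) :
    rot A c * rot A d = rot A d * rot A c := by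
  rw [h.rot_mul_eq hcd, h.rot_mul_eq (by rw [h.bf_comm]; exact hcd), add_comm]

/-- The product of the rotations on two orthogonal lines. -/
theorem sig_rot_two {A : Matrix γ γ F} (h : Frm A) {c b : γ → F} (hc : bf A c c ≠ 0) (hb : bf A b b ≠ 0)
    (hcb : bf A c b = 0) : sig (rot A c * rot A b) = (Fintype.card γ : ℤ) - 4 := by
  rw [(sig_mul_rot h (rot_mul_self A hc) hb (rot_comm_orth h hcb)).2 (rot_perp A hcb), sig_rot h hc]
  ring

theorem rot_two_sq {A : Matrix γ γ F} (h : Frm A) {c b : γ → F} (hc : bf A c c ≠ 0) (hb : bf A b b ≠ 0)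
    (hcb : bf A c b = 0) : rot A c * rot A b * (rot A c * rot A b) = 1 := by
  conv_lhs => arg 2; rw [rot_comm_orth h hcb]
  rw [mul_assoc, ← mul_assoc (rot A b), rot_mul_self A hb, one_mul, rot_mul_self A hc]

end sigs

/-! ### Involutions of several factors -/

section tens

variable {τ : Type} [Fintype τ] [DecidableEq τ] {k : ℕ}

theorem card_rest_sub (i : τ) : Fintype.card (Rest i) = Fintype.card τ - 1 := by
  rw [Fintype.card_subtype_compl, Fintype.card_subtype_eq]

theorem embM_two_ins [NeZero k] {i n : τ} (hin : i ≠ n) (R R' : Matrix (Fin k) (Fin k) F) :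
    embM i R * embM n R' = ins i (embM (⟨n, Ne.symm hin⟩ : Rest i) R') R := by
  rw [← ins_embM i ⟨n, Ne.symm hin⟩ R', embM_eq_ins, ins_mul, Matrix.one_mul, Matrix.mul_one]

theorem embM_sq (i : τ) {R : Matrix (Fin k) (Fin k) F} (hR : R * R = 1) : embM i R * embM i R = 1 := by
  rw [embM_mul, hR, embM_one]

theorem two_sq {i n : τ} (hin : i ≠ n) {R R' : Matrix (Fin k) (Fin k) F} (hR : R * R = 1) (hR' : R' * R' = 1) :
    embM i R * embM n R' * (embM i R * embM n R') = 1 := by
  conv_lhs => arg 2; rw [embM_comm hin]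
  rw [mul_assoc, ← mul_assoc (embM n R'), embM_sq n hR', one_mul, embM_sq i hR]

theorem sig_two (h2 : (2 : F) ≠ 0) [NeZero k] {i n : τ} (hin : i ≠ n) {R R' : Matrix (Fin k) (Fin k) F}
    (hR : R * R = 1) (hR' : R' * R' = 1) :
    sig (embM i R * embM n R') = (k : ℤ) ^ (Fintype.card τ - 2) * (sig R * sig R') := by
  rw [embM_two_ins hin, sig_ins h2 i (embM_sq _ hR') hR, sig_embM h2 _ hR', card_rest_sub, Nat.sub_sub]
  ring

theorem sig_three (h2 : (2 : F) ≠ 0) [NeZero k] {i n p : τ} (hin : i ≠ n) (hip : i ≠ p) (hnp : n ≠ p)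
    {R R' R'' : Matrix (Fin k) (Fin k) F} (hR : R * R = 1) (hR' : R' * R' = 1) (hR'' : R'' * R'' = 1) :
    sig (embM i R * embM n R' * embM p R'') = (k : ℤ) ^ (Fintype.card τ - 3) * (sig R * sig R' * sig R'') := by
  obtain ⟨n', hn'⟩ : ∃ n' : Rest i, n'.1 = n := ⟨⟨n, Ne.symm hin⟩, rfl⟩
  obtain ⟨p', hp'⟩ : ∃ p' : Rest i, p'.1 = p := ⟨⟨p, Ne.symm hip⟩, rfl⟩
  have hne : n' ≠ p' := fun e => hnp (by rw [← hn', ← hp', e])
  have e : embM i R * embM n R' * embM p R'' = ins i (embM n' R' * embM p' R'') R := by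
    rw [← hn', ← hp', ← ins_embM i n', ← ins_embM i p', embM_eq_ins, ins_mul, ins_mul]
    simp only [Matrix.one_mul, Matrix.mul_one]
  rw [e, sig_ins h2 i (two_sq hne hR' hR'') hR, sig_two h2 hne hR' hR'', card_rest_sub, Nat.sub_sub]
  ring

theorem three_sq {i n p : τ} (hin : i ≠ n) (hip : i ≠ p) (hnp : n ≠ p) {R R' R'' : Matrix (Fin k) (Fin k) F}
    (hR : R * R = 1) (hR' : R' * R' = 1) (hR'' : R'' * R'' = 1) :
    embM i R * embM n R' * embM p R'' * (embM i R * embM n R' * embM p R'') = 1 := by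
  have h1 : embM p R'' * (embM i R * embM n R') = embM i R * embM n R' * embM p R'' := by
    rw [← mul_assoc, ← embM_comm hip, mul_assoc, ← embM_comm hnp, ← mul_assoc]
  rw [mul_assoc (embM i R * embM n R'), ← mul_assoc (embM p R''), h1, mul_assoc _ _ (embM p R''), embM_sq p hR'',
    mul_one, two_sq hin hR hR']

theorem sig_four (h2 : (2 : F) ≠ 0) [NeZero k] {i n p l : τ} (hin : i ≠ n) (hip : i ≠ p) (hil : i ≠ l)
    (hnp : n ≠ p) (hnl : n ≠ l) (hpl : p ≠ l) {R R' R'' S : Matrix (Fin k) (Fin k) F}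
    (hR : R * R = 1) (hR' : R' * R' = 1) (hR'' : R'' * R'' = 1) (hS : S * S = 1) :
    sig (embM i R * embM n R' * embM p R'' * embM l S) =
      (k : ℤ) ^ (Fintype.card τ - 4) * (sig R * sig R' * sig R'' * sig S) := by
  obtain ⟨n', hn'⟩ : ∃ n' : Rest i, n'.1 = n := ⟨⟨n, Ne.symm hin⟩, rfl⟩
  obtain ⟨p', hp'⟩ : ∃ p' : Rest i, p'.1 = p := ⟨⟨p, Ne.symm hip⟩, rfl⟩
  obtain ⟨l', hl'⟩ : ∃ l' : Rest i, l'.1 = l := ⟨⟨l, Ne.symm hil⟩, rfl⟩
  have h1 : n' ≠ p' := fun e => hnp (by rw [← hn', ← hp', e])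
  have h1' : n' ≠ l' := fun e => hnl (by rw [← hn', ← hl', e])
  have h1'' : p' ≠ l' := fun e => hpl (by rw [← hp', ← hl', e])
  have e : embM i R * embM n R' * embM p R'' * embM l S = ins i (embM n' R' * embM p' R'' * embM l' S) R := by
    rw [← hn', ← hp', ← hl', ← ins_embM i n', ← ins_embM i p', ← ins_embM i l', embM_eq_ins, ins_mul, ins_mul,
      ins_mul]
    simp only [Matrix.one_mul, Matrix.mul_one]
  rw [e, sig_ins h2 i (three_sq h1 h1' h1'' hR' hR'' hS) hR, sig_three h2 h1 h1' h1'' hR' hR'' hS, card_rest_sub,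
    Nat.sub_sub]
  ring

end tens

/-! ### Dihedral groups -/

section dihedral

variable {G : Type*} [Group G] [Finite G]

/-- A central involution of the group of two involutions, and the classes of the products with it. -/
theorem dihedral_conj (M : Subgroup G) {e e' : G} (heM : e ∈ M) (he'M : e' ∈ M) (he : e * e = 1) (he' : e' * e' = 1) :
    ∃ ζ ∈ M, ζ * ζ = 1 ∧ e * ζ = ζ * e ∧ e' * ζ = ζ * e' ∧ (∀ z, e * z = z * e → e' * z = z * e' → z * ζ = ζ * z) ∧
      ((ζ ≠ 1 ∧ (∃ m, Even m ∧ (e * e') ^ m = ζ) ∧ ∀ z, e * z = z * e → e' * z = z * e' → z * z = 1 →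
          (∃ h ∈ M, h * (e * z) * h⁻¹ = e * z * ζ) ∧ ∃ h ∈ M, h * (e' * z) * h⁻¹ = e' * z * ζ) ∨
        ∀ z, e * z = z * e → e' * z = z * e' → z * z = 1 →
          (∃ h ∈ M, h * (e' * z) * h⁻¹ = e * z * ζ) ∧ ∃ h ∈ M, h * (e * z) * h⁻¹ = e' * z * ζ) := by
  obtain ⟨m, h1, h2, h3, h4⟩ := exists_dihedral he he'
  have hp : e * e' ∈ M := M.mul_mem heM he'M
  have hcz : ∀ z, e * z = z * e → e' * z = z * e' → z * (e * e') ^ m = (e * e') ^ m * z := fun z a b =>
    ((Commute.mul_right (Commute.symm a) (Commute.symm b)).pow_right m).eq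
  have main : ∀ z, e * z = z * e → e' * z = z * e' → z * z = 1 → ∀ a b : G, a = e * z → b = e' * z →
      a * b = e * e' ∧ ∀ j : ℕ, a * (a * b) ^ j = ((a * b) ^ j)⁻¹ * a ∧ b * (a * b) ^ j = ((a * b) ^ j)⁻¹ * b := by
    intro z c1 c2 hz a b ha hb
    have haa : a * a = 1 := by rw [ha, mul_assoc, ← mul_assoc z, ← c1, mul_assoc e z, hz, mul_one, he]
    have hbb : b * b = 1 := by rw [hb, mul_assoc, ← mul_assoc z, ← c2, mul_assoc e' z, hz, mul_one, he']
    have hai : a⁻¹ = a := inv_eq_of_mul_eq_one_right haa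
    have hbi : b⁻¹ = b := inv_eq_of_mul_eq_one_right hbb
    refine ⟨by rw [ha, hb, mul_assoc, ← mul_assoc z, ← c2, mul_assoc e' z, hz, mul_one], fun j => ?_⟩
    have e1 : a * (a * b) * a⁻¹ = (a * b)⁻¹ := by
      rw [_root_.mul_inv_rev, hai, hbi, ← mul_assoc, haa, one_mul]
    have e2 : b * (a * b) * b⁻¹ = (a * b)⁻¹ := by
      rw [_root_.mul_inv_rev, hai, hbi, mul_assoc, mul_assoc, hbb, mul_one]
    constructor
    · rw [← mul_inv_eq_iff_eq_mul, ← conj_pow, e1, inv_pow]
    · rw [← mul_inv_eq_iff_eq_mul, ← conj_pow, e2, inv_pow]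
  refine ⟨(e * e') ^ m, M.pow_mem hp m, h1, h2, h3, hcz, ?_⟩
  rcases Nat.even_or_odd' m with ⟨j, rfl | rfl⟩
  · refine Or.inl ⟨h4 (even_two_mul j), ⟨2 * j, even_two_mul j, rfl⟩, fun z c1 c2 hz => ?_⟩
    obtain ⟨ab, hj⟩ := main z c1 c2 hz _ _ rfl rfl
    obtain ⟨ja, jb⟩ := hj j
    rw [← ab]
    constructor
    · refine ⟨((e * z * (e' * z)) ^ j)⁻¹, M.inv_mem (M.pow_mem (ab ▸ hp) j), ?_⟩
      rw [inv_inv, ← ja, mul_assoc, ← pow_add, two_mul]
    · refine ⟨((e * z * (e' * z)) ^ j)⁻¹, M.inv_mem (M.pow_mem (ab ▸ hp) j), ?_⟩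
      rw [inv_inv, ← jb, mul_assoc, ← pow_add, two_mul]
  · refine Or.inr fun z c1 c2 hz => ?_
    obtain ⟨ab, hj⟩ := main z c1 c2 hz _ _ rfl rfl
    rw [← ab]
    obtain ⟨a, ha⟩ : ∃ a, a = e * z := ⟨_, rfl⟩
    obtain ⟨b, hb⟩ : ∃ b, b = e' * z := ⟨_, rfl⟩
    rw [← ha, ← hb] at hj ab ⊢
    have haa : a * a = 1 := by rw [ha, mul_assoc, ← mul_assoc z, ← c1, mul_assoc e z, hz, mul_one, he]
    have hbb : b * b = 1 := by rw [hb, mul_assoc, ← mul_assoc z, ← c2, mul_assoc e' z, hz, mul_one, he']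
    constructor
    · refine ⟨((a * b) ^ j)⁻¹, M.inv_mem (M.pow_mem (ab ▸ hp) j), ?_⟩
      rw [inv_inv, ← (hj j).2, mul_assoc, ← pow_add, show j + j = 2 * j by omega, show 2 * j + 1 = 1 + 2 * j by omega,
        pow_add, pow_one, ← mul_assoc a, ← mul_assoc a, haa, one_mul]
    · refine ⟨((a * b) ^ (j + 1))⁻¹, M.inv_mem (M.pow_mem (ab ▸ hp) _), ?_⟩
      rw [inv_inv, ← (hj (j + 1)).1, mul_assoc, ← pow_add, show j + 1 + (j + 1) = 1 + (2 * j + 1) by omega, pow_add,
        pow_one, ← mul_assoc a, ← mul_assoc a, haa, one_mul]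

end dihedral

/-! ### Products of two rotations -/

variable {τ : Type} [Fintype τ] [DecidableEq τ] {k : ℕ} {J : Matrix (Fin k) (Fin k) F}

namespace Ctx

variable {M : Subgroup (GL (Ix τ k) F)} (H : Ctx J M)
include H

theorem xsig_eq : xsig τ k = (2 - (k : ℤ)) * k * (k : ℤ) ^ (Fintype.card τ - 2) := by
  rw [xsig, show Fintype.card τ - 1 = (Fintype.card τ - 2) + 1 by have := H.two_le; omega, pow_succ]
  ring

theorem card_eq [NeZero k] : (Fintype.card (Ix τ k) : ℤ) = (k : ℤ) * k * (k : ℤ) ^ (Fintype.card τ - 2) := by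
  haveI : Nonempty τ := Fintype.card_pos_iff.1 (by have := H.two_le; omega)
  rw [card_ix' H.fac.three, show Fintype.card τ - 1 = (Fintype.card τ - 2) + 1 by have := H.two_le; omega, pow_succ]
  ring

/-- The outcome of a rotation against an element of the class. -/
theorem dihedral_dl [NeZero k] (h3 : k = 3 → 3 ≤ Fintype.card τ) {e x : GL (Ix τ k) F} (he : Cls J M e)
    (hx : IsDl J x) {z : GL (Ix τ k) F} (hz : z * z = 1) (c1 : x * z = z * x) (c2 : e * z = z * e)
    (hne : sig (x * z).1 ≠ sig (e * z).1) :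
    ∃ x', IsDl J x' ∧ x' ≠ x ∧ x * x' = x' * x ∧ e * (x * x') = x * x' * e ∧ Cls J M (e * (x * x')) ∧
      z * (x * x') = x * x' * z ∧
      (sig (e * z).1 = sig (x * z * (x * x')).1 ∨
        sig (e * z * (x * x')).1 = sig (e * z).1 ∧ sig (x * z * (x * x')).1 = sig (x * z).1) := by
  obtain ⟨heM, hee, -⟩ := H.cls_props he
  obtain ⟨hxx, -, -⟩ := H.dl_props hx
  obtain ⟨ζ, hζM, hζ, cx, ce, cz, hcase⟩ := dihedral_conj M (H.dl_mem hx) heM hxx hee
  have one_comm : ∀ a : GL (Ix τ k) F, a * 1 = 1 * a := fun a => by rw [mul_one, one_mul]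
  have cc : ∀ h ∈ M, ∀ {a : GL (Ix τ k) F}, Cls J M a → Cls J M (h * a * h⁻¹) := fun h hh _ ha => H.cls_conj hh ha
  have hcls : Cls J M (x * ζ) ∧ Cls J M (e * ζ) := by
    rcases hcase with ⟨-, -, hz'⟩ | hz'
    · obtain ⟨⟨h, hh, e1⟩, h', hh', e2⟩ := hz' 1 (one_comm x) (one_comm e) (one_mul 1)
      simp only [mul_one] at e1 e2
      exact ⟨e1 ▸ cc h hh (H.dl_cls hx), e2 ▸ cc h' hh' he⟩
    · obtain ⟨⟨h, hh, e1⟩, h', hh', e2⟩ := hz' 1 (one_comm x) (one_comm e) (one_mul 1)
      simp only [mul_one] at e1 e2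
      exact ⟨e1 ▸ cc h hh he, e2 ▸ cc h' hh' (H.dl_cls hx)⟩
  have hζm : Mono ζ.1 := H.dl_cent hx hζM cx.symm
  have hxζ : IsDl J (x * ζ) := H.cls_mono h3 hcls.1 ((monoGroup F τ k).mul_mem (H.dl_props hx).2.2 hζm)
  have ex : x * (x * ζ) = ζ := by rw [← mul_assoc, hxx, one_mul]
  have scj : ∀ {h a b : GL (Ix τ k) F}, h * a * h⁻¹ = b → sig b.1 = sig a.1 := fun {h a b} e' => by
    rw [← e', Units.val_mul, Units.val_mul, sig_conj h.inv_mul]
  refine ⟨x * ζ, hxζ, fun e1 => hne ?_, ?_, by rw [ex]; exact ce, by rw [ex]; exact hcls.2,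
    by rw [ex]; exact cz z c1 c2, ?_⟩
  · have hζ1 : ζ = 1 := mul_left_cancel (e1.trans (mul_one x).symm)
    rcases hcase with ⟨hn, -⟩ | hz'
    · exact absurd hζ1 hn
    · obtain ⟨⟨h, -, e2⟩, -⟩ := hz' z c1 c2 hz
      rw [hζ1, mul_one] at e2
      exact scj e2
  · rw [ex, mul_assoc, ← cx, ex]
  · rw [ex]
    rcases hcase with ⟨-, -, hz'⟩ | hz'
    · obtain ⟨⟨h, -, e2⟩, h', -, e3⟩ := hz' z c1 c2 hz
      exact Or.inr ⟨scj e3, scj e2⟩
    · obtain ⟨⟨h, -, e2⟩, -⟩ := hz' z c1 c2 hz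
      exact Or.inl (scj e2).symm

set_option maxHeartbeats 800000 in
/-- An element of the class keeping the product of two rotations of one factor. -/
theorem plane_mono [NeZero k] {e : GL (Ix τ k) F} (he : Cls J M e) {i : τ} {c b : Fin k → F} (hc : Good J c)
    (hb : Good J b) (hcb : bf J c b = 0) {P : GL (Ix τ k) F} (eP : P.1 = embM i (rot J c * rot J b))
    (hcomm : e * P = P * e) (hP : Cls J M (e * P)) : Mono e.1 := by
  have hf := H.fac
  have h := hf.frm
  have h2 := h.two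
  have h3 := hf.three
  obtain ⟨heM, hee, hes⟩ := H.cls_props he
  obtain ⟨-, -, hPs⟩ := H.cls_props hP
  have heq := congrArg Units.val hee
  have hRR := rot_two_sq h hc.1 hb.1 hcb
  have hPP : P.1 * P.1 = 1 := by rw [eP]; exact embM_sq i hRR
  have hcv := congrArg Units.val hcomm
  rw [Units.val_mul, Units.val_mul] at hcv
  rw [Units.val_mul] at hPs
  obtain ⟨a1, a2⟩ := sig_add_mul h2 heq hPP hcv
  have a3 := sig_add_card h2 hPP
  rw [show sig P.1 = (k : ℤ) ^ (Fintype.card τ - 1) * ((k : ℤ) - 4) by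
    rw [eP, sig_embM h2 i hRR, sig_rot_two h hc.1 hb.1 hcb, Fintype.card_fin]] at a3
  haveI : Nonempty τ := ⟨i⟩
  rw [card_ix' h3] at a3
  rw [hes, hPs, xsig] at a1
  obtain ⟨K, hK⟩ : ∃ K : ℤ, K = (k : ℤ) ^ (Fintype.card τ - 1) := ⟨_, rfl⟩
  rw [← hK] at a1 a3
  zify at a2
  have h0 : Module.finrank F ↥(eig P.1 1 ⊓ eig e.1 1) = 0 := by
    have : (Module.finrank F ↥(eig P.1 1 ⊓ eig e.1 1) : ℤ) = 0 := by linarith
    exact_mod_cast this
  have hneg : ∀ v ∈ eig P.1 1, e.1 *ᵥ v = -v := by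
    have hle : eig P.1 1 ⊓ eig e.1 (-1) = eig P.1 1 := Submodule.eq_of_le_of_finrank_eq inf_le_left (by
      rw [h0] at a2; push_cast at a2; omega)
    intro v hv
    have : v ∈ eig P.1 1 ⊓ eig e.1 (-1) := by rw [hle]; exact hv
    rw [← neg_one_smul F v]
    exact mem_eig.1 this.2
  -- a third line
  classical
  obtain ⟨p0, p1, p2, h01, h02, h12⟩ : ∃ p0 p1 p2 : Fin k, p0 ≠ p1 ∧ p0 ≠ p2 ∧ p1 ≠ p2 :=
    ⟨⟨0, by omega⟩, ⟨1, by omega⟩, ⟨2, by omega⟩, by simp [Fin.ext_iff], by simp [Fin.ext_iff], by simp [Fin.ext_iff]⟩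
  obtain ⟨f, hfr, hff⟩ := hf.exists_frame_on {p0, p1} (fun a => if a = p0 then c else b)
    (fun a ha a' ha' hne => by
      rw [Finset.mem_insert, Finset.mem_singleton] at ha ha'
      rcases ha with rfl | rfl <;> rcases ha' with rfl | rfl
      · exact absurd rfl hne
      · rw [if_pos rfl, if_neg h01.symm]; exact hcb
      · rw [if_pos rfl, if_neg h01.symm, h.bf_comm]; exact hcb
      · exact absurd rfl hne)
    (fun a _ => by by_cases ha : a = p0 <;> simp only [ha, if_true, if_false] <;> first | exact hc | exact hb)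
  have f0 : f p0 = c := (hff p0 (by simp)).trans (if_pos rfl)
  have f1 : f p1 = b := (hff p1 (by simp)).trans (if_neg h01.symm)
  obtain ⟨E, hE⟩ : ∃ E, E = embM i (pr J (f p2)) := ⟨_, rfl⟩
  have hfix : ∀ y, P.1 *ᵥ iv i y (f p2) = iv i y (f p2) := fun y => by
    rw [eP, embM_mulVec_iv, ← Matrix.mulVec_mulVec, rot_perp J (c := b) (x := f p2)
      (by rw [← f1]; exact hfr.ob.orth _ _ h12), Matrix.mulVec_neg, rot_perp J (c := c) (x := f p2)
      (by rw [← f0]; exact hfr.ob.orth _ _ h02), neg_neg]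
  have eE : e.1 * E = -E := Matrix.ext_iff_mulVec.2 fun x => by
    rw [← Matrix.mulVec_mulVec, Matrix.neg_mulVec, hE, ins_pr_mulVec]
    exact hneg _ (by rw [mem_eig, one_smul]; exact hfix _)
  have hi := mem_iso.1 (H.toHyp.iso_mem heM)
  have hsym : Eᵀ * JJ J τ = JJ J τ * E := by
    rw [hE, embM_eq_ins, JJ_ins J i, ins_transpose, ins_mul, ins_mul, Matrix.transpose_one, Matrix.one_mul,
      Matrix.mul_one, h.pr_symm]
  have hse : e.1ᵀ * JJ J τ = JJ J τ * e.1 := by
    conv_lhs => rw [← Matrix.mul_one (e.1ᵀ * JJ J τ), show (1 : Matrix (Ix τ k) (Ix τ k) F) = e.1 * e.1 from heq.symm,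
      ← Matrix.mul_assoc, hi]
  have Ee : E * e.1 = -E := by
    have h5 : JJ J τ * (E * e.1) = JJ J τ * (-E) := by
      calc JJ J τ * (E * e.1) = Eᵀ * (JJ J τ * e.1) := by rw [← Matrix.mul_assoc, ← hsym, Matrix.mul_assoc]
        _ = (e.1 * E)ᵀ * JJ J τ := by rw [← hse, Matrix.transpose_mul, Matrix.mul_assoc]
        _ = _ := by rw [eE, Matrix.transpose_neg, Matrix.neg_mul, hsym, Matrix.mul_neg]
    exact ((Matrix.isUnit_iff_isUnit_det _).2 (h.pow τ).isUnit_det).mul_left_cancel h5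
  exact H.cent_mono (hfr.good p2) heM (mem_comG.2 (by rw [← hE, eE, Ee]))

/-- An element of the class with two commuting rotations of one factor. -/
theorem plane_mono' [NeZero k] {e : GL (Ix τ k) F} (he : Cls J M e) {y y' : GL (Ix τ k) F} {i : τ} {c b : Fin k → F}
    (hc : Good J c) (hb : Good J b) (ey : y.1 = embM i (rot J c)) (ey' : y'.1 = embM i (rot J b)) (hne : y' ≠ y)
    (hyy : y * y' = y' * y) (hcomm : e * (y * y') = y * y' * e) (hP : Cls J M (e * (y * y'))) : Mono e.1 := by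
  have hcomm' : rot J c * rot J b = rot J b * rot J c := embM_injective i (by
    rw [← embM_mul, ← embM_mul, ← ey, ← ey', ← Units.val_mul, hyy, Units.val_mul])
  rcases H.fac.rot_commute hc.1 hb.1 hcomm' with h0 | h0
  · exact H.plane_mono he hc hb h0 (P := y * y') (by rw [Units.val_mul, ey, ey', embM_mul]) hcomm hP
  · exact absurd (Units.ext (by rw [ey, ey', h0])) hne

/-- A second rotation found for a product across two factors. -/
theorem cross_test [NeZero k] (h3 : k = 3 → 3 ≤ Fintype.card τ) {e y y' x : GL (Ix τ k) F} (he : Cls J M e)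
    (hcomm : e * (y * y') = y * y' * e) (hE : Cls J M (e * (y * y'))) (hyy : y * y' = y' * y) (sy : y * y = 1)
    (sy' : y' * y' = 1) {n : τ} {b : Fin k → F} (hb : Good J b) (ex : x.1 = embM n (rot J b))
    (cx : x * (y * y') = y * y' * x) (hs : sig (x * (y * y')).1 ≠ xsig τ k) :
    Mono e.1 ∨ ∃ p g, p ≠ n ∧ Good J g ∧ ∃ x' : GL (Ix τ k) F, x'.1 = embM p (rot J g) ∧
      e * (x * x') = x * x' * e ∧ y * y' * x' = x' * (y * y') ∧
      (sig (y * y' * x').1 = xsig τ k ∨
        4 * -xsig τ k ≤ (Fintype.card (Ix τ k) : ℤ) + sig (y * y').1 + sig (x * x').1 +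
          sig (x * x' * (y * y')).1) := by
  obtain ⟨heM, hee, hes⟩ := H.cls_props he
  obtain ⟨-, -, hEs⟩ := H.cls_props hE
  have hx : IsDl J x := ⟨n, b, hb, ex⟩
  have hxx := (H.dl_props hx).1
  have hzz : y * y' * (y * y') = 1 := by rw [mul_assoc, ← mul_assoc y', ← hyy, mul_assoc y y', sy', mul_one, sy]
  obtain ⟨x', hx', hne, hxc, hec, hcl, hzc, hpar⟩ := H.dihedral_dl h3 he hx hzz cx hcomm (by rw [hEs]; exact hs)
  obtain ⟨hx's, -, -⟩ := H.dl_props hx'
  obtain ⟨p, g, hg, ex'⟩ := hx'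
  by_cases hp : p = n
  · subst hp
    exact Or.inl (H.plane_mono' he hb hg ex ex' hne hxc hec hcl)
  have hcz : y * y' * x' = x' * (y * y') := by
    have h1 : x * (y * y' * x') = x * (x' * (y * y')) := by rw [← mul_assoc, cx, mul_assoc, hzc, mul_assoc]
    exact mul_left_cancel h1
  refine Or.inr ⟨p, g, hp, hg, x', ex', hec, hcz, ?_⟩
  rcases hpar with h1 | ⟨h1, -⟩
  · left
    rw [hEs] at h1
    rw [h1, show x * (y * y') * (x * x') = y * y' * x' by rw [cx, mul_assoc, ← mul_assoc x, hxx, one_mul]]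
  · right
    rw [hEs] at h1
    have hxx' : x * x' * (x * x') = 1 := by
      rw [mul_assoc, ← mul_assoc x', ← hxc, mul_assoc x x', hx's, mul_one, hxx]
    have := three_count H.fac.frm.two (congrArg Units.val hee) (congrArg Units.val hzz) (congrArg Units.val hxx')
      (congrArg Units.val hcomm) (congrArg Units.val hec) (congrArg Units.val hzc) hes
      (by rw [← Units.val_mul]; exact hEs) (by rw [← Units.val_mul]; exact (H.cls_props hcl).2.2)
      (by
        rw [← Units.val_mul, ← Units.val_mul]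
        rw [show e * (x * x') * (y * y') = e * (y * y') * (x * x') by rw [mul_assoc, ← hzc, ← mul_assoc]]
        exact h1)
    simpa only [Units.val_mul] using this

set_option maxHeartbeats 800000 in
/-- An element of the class keeping a product of rotations of two factors, large factors. -/
theorem cross_big [NeZero k] (hk : 4 ≤ k) {e y y' : GL (Ix τ k) F} (he : Cls J M e) {i m : τ} (him : i ≠ m)
    {c d : Fin k → F} (hc : Good J c) (hd : Good J d) (ey : y.1 = embM i (rot J c)) (ey' : y'.1 = embM m (rot J d))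
    (hcomm : e * (y * y') = y * y' * e) (hE : Cls J M (e * (y * y'))) : Mono e.1 := by
  classical
  have hf := H.fac
  have h := hf.frm
  have h2 := h.two
  obtain ⟨heM, -, -⟩ := H.cls_props he
  have h3 : k = 3 → 3 ≤ Fintype.card τ := fun e => by omega
  obtain ⟨f, hfr, hf0⟩ := hf.exists_frame_on {⟨0, by omega⟩} (fun _ => c) (fun a ha b hb hne => absurd
    ((Finset.mem_singleton.1 ha).trans (Finset.mem_singleton.1 hb).symm) hne) fun _ _ => hc
  have f0 : f ⟨0, by omega⟩ = c := hf0 _ (Finset.mem_singleton_self _)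
  have hyy : y * y' = y' * y := Units.ext (by rw [Units.val_mul, Units.val_mul, ey, ey', embM_comm him])
  have sy := (H.dl_props ⟨i, c, hc, ey⟩).1
  have sy' := (H.dl_props ⟨m, d, hd, ey'⟩).1
  obtain ⟨P2, hP2⟩ : ∃ P2 : ℤ, P2 = (k : ℤ) ^ (Fintype.card τ - 2) := ⟨_, rfl⟩
  have hP20 : 0 < P2 := by rw [hP2]; exact pow_pos (by omega) _
  have rk : ∀ {v : Fin k → F}, bf J v v ≠ 0 → sig (rot J v) = 2 - (k : ℤ) := fun hv => by
    rw [sig_rot h hv, Fintype.card_fin]
  -- with every line of the frame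
  have each : ∀ a : Fin k, a ≠ ⟨0, by omega⟩ →
      Mono e.1 ∨ e.1 * embM i (rot J c * rot J (f a)) = embM i (rot J c * rot J (f a)) * e.1 := by
    intro a ha
    have hb := hfr.good a
    have hcb : bf J c (f a) = 0 := by rw [← f0]; exact hfr.ob.orth _ _ ha.symm
    obtain ⟨x, hxdef⟩ : ∃ x, x = embG i (rotG J (f a) hb.1) := ⟨_, rfl⟩
    have ex : x.1 = embM i (rot J (f a)) := by rw [hxdef]; rfl
    have hbc : embM i (rot J (f a)) * embM i (rot J c) = embM i (rot J c * rot J (f a)) := by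
      rw [embM_mul, rot_comm_orth h hcb]
    have cxy : x * y = y * x := Units.ext (by
      rw [Units.val_mul, Units.val_mul, ex, ey, hbc, embM_mul])
    have cxy' : x * y' = y' * x := Units.ext (by rw [Units.val_mul, Units.val_mul, ex, ey', embM_comm him])
    have cx : x * (y * y') = y * y' * x := by rw [← mul_assoc, cxy, mul_assoc, cxy', mul_assoc]
    have hsx : sig (x * (y * y')).1 = P2 * (((k : ℤ) - 4) * (2 - k)) := by
      rw [Units.val_mul, Units.val_mul, ex, ey, ey', ← Matrix.mul_assoc, hbc,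
        sig_two h2 him (rot_two_sq h hc.1 hb.1 hcb) (rot_mul_self J hd.1), sig_rot_two h hc.1 hb.1 hcb,
        Fintype.card_fin, rk hd.1, hP2]
    rcases H.cross_test h3 he hcomm hE hyy sy sy' hb ex cx (by
        rw [hsx, H.xsig_eq, ← hP2]; intro e'; nlinarith [mul_pos hP20 (show (0 : ℤ) < k - 2 by omega)]) with
      hm | ⟨p, g, hp, hg, x', ex', hec, hcz, hpar⟩
    · exact Or.inl hm
    have hpy : y * x' = x' * y := Units.ext (by rw [Units.val_mul, Units.val_mul, ey, ex', embM_comm (Ne.symm hp)])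
    have hy'x' : y' * x' = x' * y' := by
      rw [mul_assoc, ← mul_assoc x', ← hpy, mul_assoc y x'] at hcz
      exact mul_left_cancel hcz
    rw [H.xsig_eq, ← hP2, H.card_eq, ← hP2] at hpar
    have hsz : sig (y * y').1 = P2 * ((2 - (k : ℤ)) * (2 - k)) := by
      rw [Units.val_mul, ey, ey', sig_two h2 him (rot_mul_self J hc.1) (rot_mul_self J hd.1), rk hc.1, rk hd.1, hP2]
    have hszx : sig (x * x').1 = P2 * ((2 - (k : ℤ)) * (2 - k)) := by
      rw [Units.val_mul, ex, ex', sig_two h2 (Ne.symm hp) (rot_mul_self J hb.1) (rot_mul_self J hg.1), rk hb.1,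
        rk hg.1, hP2]
    have hprod : (x * x' * (y * y')).1 =
        embM i (rot J c * rot J (f a)) * (embM p (rot J g) * embM m (rot J d)) := by
      rw [show x * x' * (y * y') = x * y * (x' * y') by
        rw [mul_assoc, ← mul_assoc x', ← hpy, mul_assoc y, ← mul_assoc], Units.val_mul, Units.val_mul,
        Units.val_mul, ex, ey, ex', ey', hbc]
    have hodd : (y * y' * x').1 = embM i (rot J c) * (embM m (rot J d) * embM p (rot J g)) := by
      rw [Units.val_mul, Units.val_mul, ey, ey', ex', Matrix.mul_assoc]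
    rw [hsz, hszx, hprod, hodd] at hpar
    by_cases hpm : p = m
    · subst hpm
      have hrot : rot J d * rot J g = rot J g * rot J d := embM_injective p (by
        rw [← embM_mul, ← embM_mul, ← ey', ← ex', ← Units.val_mul, hy'x', Units.val_mul])
      rcases hf.rot_commute hd.1 hg.1 hrot with h0 | h0
      · exfalso
        have hgd : bf J g d = 0 := by rw [h.bf_comm]; exact h0
        rw [embM_mul, embM_mul, sig_two h2 him (rot_mul_self J hc.1) (rot_two_sq h hd.1 hg.1 h0),
          sig_two h2 him (rot_two_sq h hc.1 hb.1 hcb) (rot_two_sq h hg.1 hd.1 hgd),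
          sig_rot_two h hc.1 hb.1 hcb, sig_rot_two h hd.1 hg.1 h0, sig_rot_two h hg.1 hd.1 hgd, Fintype.card_fin,
          rk hc.1, ← hP2] at hpar
        rcases hpar with h5 | h5 <;> nlinarith [mul_pos hP20 (show (0 : ℤ) < k - 2 by omega),
          mul_le_mul_of_nonneg_left (show (4 : ℤ) ≤ k by omega) hP20.le]
      · refine Or.inr ?_
        have hxx'yy' : (x * x' * (y * y')).1 = embM i (rot J c * rot J (f a)) := by
          rw [hprod, embM_mul, h0, rot_mul_self J hd.1, embM_one, Matrix.mul_one]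
        rw [← hxx'yy', ← Units.val_mul, ← Units.val_mul]
        congr 1
        rw [← mul_assoc, hec, mul_assoc _ e, hcomm, ← mul_assoc]
    · exfalso
      obtain ⟨P3, hP3⟩ : ∃ P3 : ℤ, P3 = (k : ℤ) ^ (Fintype.card τ - 3) := ⟨_, rfl⟩
      have hP30 : 0 < P3 := by rw [hP3]; exact pow_pos (by omega) _
      have hc3 : 3 ≤ Fintype.card τ := by
        have : ({i, m, p} : Finset τ).card ≤ Fintype.card τ := Finset.card_le_univ _
        rwa [Finset.card_insert_of_notMem (by simp [him, Ne.symm hp]), Finset.card_pair (Ne.symm hpm)] at this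
      have hP23 : P2 = k * P3 := by
        rw [hP2, hP3, show Fintype.card τ - 2 = Fintype.card τ - 3 + 1 by omega, pow_succ]; ring
      rw [← Matrix.mul_assoc, ← Matrix.mul_assoc,
        sig_three h2 him (Ne.symm hp) (Ne.symm hpm) (rot_mul_self J hc.1) (rot_mul_self J hd.1) (rot_mul_self J hg.1),
        sig_three h2 (Ne.symm hp) him hpm (rot_two_sq h hc.1 hb.1 hcb) (rot_mul_self J hg.1) (rot_mul_self J hd.1),
        rk hc.1, rk hd.1, rk hg.1, sig_rot_two h hc.1 hb.1 hcb, Fintype.card_fin, ← hP3, hP23] at hpar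
      have hk2 : (0 : ℤ) < k - 2 := by omega
      rcases hpar with h5 | h5 <;> nlinarith [mul_pos hP30 hk2, mul_pos (mul_pos hP30 hk2) hk2,
        mul_le_mul_of_nonneg_left (show (4 : ℤ) ≤ k by omega) hP30.le,
        mul_le_mul_of_nonneg_left (show (16 : ℤ) ≤ k * k by nlinarith) hP30.le]
  rcases each ⟨1, by omega⟩ (by simp [Fin.ext_iff]) with hm | h1
  · exact hm
  rcases each ⟨2, by omega⟩ (by simp [Fin.ext_iff]) with hm | h2'
  · exact hm
  -- the line itself
  have conv : ∀ a : Fin k, a ≠ ⟨0, by omega⟩ →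
      e.1 * embM i (rot J c * rot J (f a)) = embM i (rot J c * rot J (f a)) * e.1 →
      e.1 * embM i (pr J c + pr J (f a)) = embM i (pr J c + pr J (f a)) * e.1 := by
    intro a ha hh
    rw [h.rot_mul_eq (show bf J c (f a) = 0 by rw [← f0]; exact hfr.ob.orth _ _ ha.symm), embM_sub, embM_one,
      embM_smul, Matrix.mul_sub, Matrix.sub_mul, Matrix.mul_one, Matrix.one_mul, sub_right_inj, Matrix.mul_smul,
      Matrix.smul_mul] at hh
    exact smul_right_injective _ h.two hh
  have hp1 := conv _ (by simp [Fin.ext_iff]) h1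
  have hp2 := conv _ (by simp [Fin.ext_iff]) h2'
  refine H.cent_mono (i := i) hc heM (mem_comG.2 ?_)
  have e0 : (pr J c + pr J (f ⟨1, by omega⟩)) * (pr J c + pr J (f ⟨2, by omega⟩)) = pr J c := by
    rw [Matrix.add_mul, Matrix.mul_add, Matrix.mul_add, pr_mul_self J hc.1,
      pr_mul_perp J (show bf J c (f ⟨2, by omega⟩) = 0 by rw [← f0]; exact hfr.ob.orth _ _ (by simp [Fin.ext_iff])),
      pr_mul_perp J (show bf J (f ⟨1, by omega⟩) c = 0 by rw [← f0]; exact hfr.ob.orth _ _ (by simp [Fin.ext_iff])),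
      pr_mul_perp J (hfr.ob.orth _ _ (by simp [Fin.ext_iff])), add_zero, add_zero, add_zero]
  rw [← e0, ← embM_mul, ← Matrix.mul_assoc, hp1, Matrix.mul_assoc, hp2, Matrix.mul_assoc]

set_option maxHeartbeats 800000 in
/-- An element of the class keeping a product of rotations of two factors, factors of dimension three. -/
theorem cross_three [NeZero k] (hk : k = 3) (ht : 3 ≤ Fintype.card τ) {e y y' : GL (Ix τ k) F} (he : Cls J M e)
    {i m : τ} (him : i ≠ m) {c d : Fin k → F} (hc : Good J c) (hd : Good J d) (ey : y.1 = embM i (rot J c))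
    (ey' : y'.1 = embM m (rot J d)) (hcomm : e * (y * y') = y * y' * e) (hE : Cls J M (e * (y * y'))) :
    Mono e.1 := by
  classical
  have hf := H.fac
  have h := hf.frm
  have h2 := h.two
  obtain ⟨heM, -, -⟩ := H.cls_props he
  obtain ⟨n, hn⟩ : ∃ n, n ∉ ({i, m} : Finset τ) := by
    by_contra hcon
    push Not at hcon
    have := Finset.card_le_card (show (Finset.univ : Finset τ) ⊆ {i, m} from fun x _ => hcon x)
    rw [Finset.card_univ, Finset.card_pair him] at this
    omega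
  rw [Finset.mem_insert, Finset.mem_singleton, not_or] at hn
  obtain ⟨hni, hnm⟩ := hn
  obtain ⟨f0, hf0⟩ := h.exists_good (A := J) (by rw [Fintype.card_fin]; omega)
  obtain ⟨x2, x3, hx2, hx3, hprod, ⟨b2, hb2, e2⟩, b3, hb3, e3⟩ := H.frame_three hk hf0 n
  obtain ⟨x1, hx1⟩ : ∃ x1, x1 = embG n (rotG J f0 hf0.1) := ⟨_, rfl⟩
  rw [← hx1] at hprod
  have hyy : y * y' = y' * y := Units.ext (by rw [Units.val_mul, Units.val_mul, ey, ey', embM_comm him])
  have sy := (H.dl_props ⟨i, c, hc, ey⟩).1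
  have sy' := (H.dl_props ⟨m, d, hd, ey'⟩).1
  obtain ⟨P3, hP3⟩ : ∃ P3 : ℤ, P3 = (k : ℤ) ^ (Fintype.card τ - 3) := ⟨_, rfl⟩
  have hP30 : 0 < P3 := by rw [hP3]; exact pow_pos (by omega) _
  have hP2 : (k : ℤ) ^ (Fintype.card τ - 2) = 3 * P3 := by
    rw [hP3, show Fintype.card τ - 2 = Fintype.card τ - 3 + 1 by omega, pow_succ, hk]; push_cast; ring
  have rk : ∀ {v : Fin k → F}, bf J v v ≠ 0 → sig (rot J v) = -1 := fun hv => by
    rw [sig_rot h hv, Fintype.card_fin, hk]; norm_num
  have rk2 : ∀ {u v : Fin k → F}, bf J u u ≠ 0 → bf J v v ≠ 0 → bf J u v = 0 → sig (rot J u * rot J v) = -1 :=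
    fun hu hv huv => by rw [sig_rot_two h hu hv huv, Fintype.card_fin, hk]; norm_num
  have hX : xsig τ k = -(9 * P3) := by rw [H.xsig_eq, hP2, hk]; push_cast; ring
  -- each line goes with one of the two
  have each : ∀ (x : GL (Ix τ k) F) (b : Fin k → F), Good J b → x.1 = embM n (rot J b) →
      Mono e.1 ∨ e * (x * y) = x * y * e ∨ e * (x * y') = x * y' * e := by
    intro x b hb ex
    have cxy : x * y = y * x := Units.ext (by rw [Units.val_mul, Units.val_mul, ex, ey, embM_comm hni])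
    have cxy' : x * y' = y' * x := Units.ext (by rw [Units.val_mul, Units.val_mul, ex, ey', embM_comm hnm])
    have cx : x * (y * y') = y * y' * x := by rw [← mul_assoc, cxy, mul_assoc, cxy', mul_assoc]
    rcases H.cross_test (fun _ => ht) he hcomm hE hyy sy sy' hb ex cx (by
        rw [Units.val_mul, Units.val_mul, ex, ey, ey', ← Matrix.mul_assoc,
          sig_three h2 hni hnm him (rot_mul_self J hb.1) (rot_mul_self J hc.1) (rot_mul_self J hd.1),
          rk hb.1, rk hc.1, rk hd.1, hX, ← hP3]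
        intro e'; omega) with hm | ⟨p, g, hp, hg, x', ex', hec, hcz, hpar⟩
    · exact Or.inl hm
    refine Or.inr ?_
    rw [hX, H.card_eq, hP2,
      show sig (y * y').1 = 3 * P3 by
        rw [Units.val_mul, ey, ey', sig_two h2 him (rot_mul_self J hc.1) (rot_mul_self J hd.1), rk hc.1, rk hd.1,
          hP2]; ring,
      show sig (x * x').1 = 3 * P3 by
        rw [Units.val_mul, ex, ex', sig_two h2 (Ne.symm hp) (rot_mul_self J hb.1) (rot_mul_self J hg.1), rk hb.1,
          rk hg.1, hP2]; ring,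
      show (k : ℤ) = 3 by rw [hk]; norm_num] at hpar
    by_cases hpi : p = i
    · subst hpi
      have hyx : y * x' = x' * y := by
        have h6 : y' * x' = x' * y' := Units.ext (by rw [Units.val_mul, Units.val_mul, ey', ex', embM_comm him.symm])
        rw [mul_assoc, h6, ← mul_assoc, ← mul_assoc] at hcz
        exact mul_right_cancel hcz
      have hrot : rot J c * rot J g = rot J g * rot J c := embM_injective p (by
        rw [← embM_mul, ← embM_mul, ← ey, ← ex', ← Units.val_mul, hyx, Units.val_mul])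
      rcases hf.rot_commute hc.1 hg.1 hrot with h0 | h0
      · exfalso
        have hgc : bf J g c = 0 := by rw [h.bf_comm]; exact h0
        have q1 : (y * y' * x').1 = embM p (rot J c * rot J g) * embM m (rot J d) := by
          rw [Units.val_mul, Units.val_mul, ey, ey', ex', Matrix.mul_assoc, embM_comm him.symm, ← Matrix.mul_assoc,
            embM_mul]
        have q2 : (x * x' * (y * y')).1 = embM n (rot J b) * embM p (rot J g * rot J c) * embM m (rot J d) := by
          rw [Units.val_mul, Units.val_mul, Units.val_mul, ex, ex', ey, ey', ← Matrix.mul_assoc, Matrix.mul_assoc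
            (embM n (rot J b)), embM_mul]
        rw [q1, q2, sig_two h2 him (rot_two_sq h hc.1 hg.1 h0) (rot_mul_self J hd.1),
          sig_three h2 hni hnm him (rot_mul_self J hb.1) (rot_two_sq h hg.1 hc.1 hgc) (rot_mul_self J hd.1),
          rk2 hc.1 hg.1 h0, rk2 hg.1 hc.1 hgc, rk hb.1, rk hd.1, hP2, ← hP3] at hpar
        omega
      · left
        rwa [show x' = y from Units.ext (by rw [ex', ey, h0])] at hec
    by_cases hpm : p = m
    · subst hpm
      have hyx : y' * x' = x' * y' := by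
        have h6 : y * x' = x' * y := Units.ext (by rw [Units.val_mul, Units.val_mul, ey, ex', embM_comm him])
        rw [mul_assoc, ← mul_assoc x', ← h6, mul_assoc y x'] at hcz
        exact mul_left_cancel hcz
      have hrot : rot J d * rot J g = rot J g * rot J d := embM_injective p (by
        rw [← embM_mul, ← embM_mul, ← ey', ← ex', ← Units.val_mul, hyx, Units.val_mul])
      rcases hf.rot_commute hd.1 hg.1 hrot with h0 | h0
      · exfalso
        have hgd : bf J g d = 0 := by rw [h.bf_comm]; exact h0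
        have q1 : (y * y' * x').1 = embM i (rot J c) * embM p (rot J d * rot J g) := by
          rw [Units.val_mul, Units.val_mul, ey, ey', ex', Matrix.mul_assoc, embM_mul]
        have q2 : (x * x' * (y * y')).1 = embM n (rot J b) * embM i (rot J c) * embM p (rot J g * rot J d) := by
          rw [Units.val_mul, Units.val_mul, Units.val_mul, ex, ex', ey, ey', ← embM_mul p (rot J g),
            Matrix.mul_assoc, ← Matrix.mul_assoc (embM p (rot J g)), embM_comm him.symm]
          simp only [Matrix.mul_assoc]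
        rw [q1, q2, sig_two h2 him (rot_mul_self J hc.1) (rot_two_sq h hd.1 hg.1 h0),
          sig_three h2 hni hnm him (rot_mul_self J hb.1) (rot_mul_self J hc.1) (rot_two_sq h hg.1 hd.1 hgd),
          rk2 hd.1 hg.1 h0, rk2 hg.1 hd.1 hgd, rk hb.1, rk hc.1, hP2, ← hP3] at hpar
        omega
      · right
        rwa [show x' = y' from Units.ext (by rw [ex', ey', h0])] at hec
    exfalso
    obtain ⟨P4, hP4⟩ : ∃ P4 : ℤ, P4 = (k : ℤ) ^ (Fintype.card τ - 4) := ⟨_, rfl⟩
    have hP40 : 0 < P4 := by rw [hP4]; exact pow_pos (by omega) _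
    have h4 : 4 ≤ Fintype.card τ := by
      have : ({i, m, n, p} : Finset τ).card ≤ Fintype.card τ := Finset.card_le_univ _
      rwa [Finset.card_insert_of_notMem (by simp [him, Ne.symm hni, Ne.symm hpi]),
        Finset.card_insert_of_notMem (by simp [Ne.symm hnm, Ne.symm hpm]), Finset.card_pair (Ne.symm hp)] at this
    have hP34 : P3 = 3 * P4 := by
      rw [hP3, hP4, show Fintype.card τ - 3 = Fintype.card τ - 4 + 1 by omega, pow_succ, hk]; push_cast; ring
    have q1 : (y * y' * x').1 = embM i (rot J c) * embM m (rot J d) * embM p (rot J g) := by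
      rw [Units.val_mul, Units.val_mul, ey, ey', ex']
    have q2 : (x * x' * (y * y')).1 =
        embM n (rot J b) * embM p (rot J g) * embM i (rot J c) * embM m (rot J d) := by
      rw [Units.val_mul, Units.val_mul, Units.val_mul, ex, ex', ey, ey', ← Matrix.mul_assoc]
    rw [q1, q2,
      sig_three h2 him (Ne.symm hpi) (Ne.symm hpm) (rot_mul_self J hc.1) (rot_mul_self J hd.1) (rot_mul_self J hg.1),
      sig_four h2 (Ne.symm hp) hni hnm hpi hpm him (rot_mul_self J hb.1) (rot_mul_self J hg.1) (rot_mul_self J hc.1)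
        (rot_mul_self J hd.1), rk hb.1, rk hg.1, rk hc.1, rk hd.1, ← hP3, ← hP4, hP34] at hpar
    omega
  -- two lines with one partner
  have ex1 : x1.1 = embM n (rot J f0) := by rw [hx1]; rfl
  have d1 : IsDl J x1 := hx1 ▸ isDl_embG n hf0
  have s1 := (H.dl_props d1).1
  have s2 := (H.dl_props hx2).1
  have s3 := (H.dl_props hx3).1
  have i2 : x2⁻¹ = x2 := inv_eq_of_mul_eq_one_right s2
  have i1 : x1⁻¹ = x1 := inv_eq_of_mul_eq_one_right s1
  have i3 : x3⁻¹ = x3 := inv_eq_of_mul_eq_one_right s3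
  have fin : ∀ (xa xb xc : GL (Ix τ k) F) (yy : GL (Ix τ k) F), yy * yy = 1 → xb * yy = yy * xb → IsDl J xc →
      xa * xb = xc → e * (xa * yy) = xa * yy * e → e * (xb * yy) = xb * yy * e → Mono e.1 := by
    intro xa xb xc yy syy hcb hxc hab ha hb
    refine H.dl_cent hxc heM ?_
    have : e * (xa * yy * (xb * yy)) = xa * yy * (xb * yy) * e := by
      rw [← mul_assoc, ha, mul_assoc _ e, hb, ← mul_assoc]
    rwa [show xa * yy * (xb * yy) = xc by
      rw [mul_assoc, ← mul_assoc yy, ← hcb, mul_assoc xb, syy, mul_one, hab]] at this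
  have e12 : x1 * x2 = x3 := by rw [eq_inv_of_mul_eq_one_left hprod, i3]
  have e23 : x2 * x3 = x1 := by
    rw [mul_assoc] at hprod
    rw [← inv_eq_of_mul_eq_one_right hprod, i1]
  have e13 : x1 * x3 = x2 := by rw [← e12, ← mul_assoc, s1, one_mul]
  have cy : ∀ {x : GL (Ix τ k) F} {b : Fin k → F}, x.1 = embM n (rot J b) → x * y = y * x := fun {x b} ex =>
    Units.ext (by rw [Units.val_mul, Units.val_mul, ex, ey, embM_comm hni])
  have cy' : ∀ {x : GL (Ix τ k) F} {b : Fin k → F}, x.1 = embM n (rot J b) → x * y' = y' * x := fun {x b} ex =>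
    Units.ext (by rw [Units.val_mul, Units.val_mul, ex, ey', embM_comm hnm])
  rcases each x1 f0 hf0 ex1 with hm | a1
  · exact hm
  rcases each x2 b2 hb2 e2 with hm | a2
  · exact hm
  rcases each x3 b3 hb3 e3 with hm | a3
  · exact hm
  rcases a1 with a1 | a1 <;> rcases a2 with a2 | a2 <;> rcases a3 with a3 | a3
  all_goals first
    | exact fin x1 x2 x3 _ sy (cy e2) hx3 e12 a1 a2
    | exact fin x1 x2 x3 _ sy' (cy' e2) hx3 e12 a1 a2
    | exact fin x1 x3 x2 _ sy (cy e3) hx2 e13 a1 a3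
    | exact fin x1 x3 x2 _ sy' (cy' e3) hx2 e13 a1 a3
    | exact fin x2 x3 x1 _ sy (cy e3) d1 e23 a2 a3
    | exact fin x2 x3 x1 _ sy' (cy' e3) d1 e23 a2 a3

/-- An element of the class keeping a product of two commuting rotations. -/
theorem prod_mono [NeZero k] (h3 : k = 3 → 3 ≤ Fintype.card τ) {e y y' : GL (Ix τ k) F} (he : Cls J M e)
    (hy : IsDl J y) (hy' : IsDl J y') (hne : y' ≠ y) (hyy : y * y' = y' * y) (hcomm : e * (y * y') = y * y' * e)
    (hE : Cls J M (e * (y * y'))) : Mono e.1 := by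
  obtain ⟨i, c, hc, ey⟩ := hy
  obtain ⟨m, d, hd, ey'⟩ := hy'
  by_cases him : i = m
  · subst him
    exact H.plane_mono' he hc hd ey ey' hne hyy hcomm hE
  rcases (show k = 3 ∨ 4 ≤ k by have := H.fac.three; omega) with hk | hk
  · exact H.cross_three hk (h3 hk) he him hc hd ey ey' hcomm hE
  · exact H.cross_big hk he him hc hd ey ey' hcomm hE

/-- An element of the class told apart from a rotation by a commuting involution is monomial. -/
theorem key [NeZero k] (h3 : k = 3 → 3 ≤ Fintype.card τ) {e x z : GL (Ix τ k) F} (he : Cls J M e)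
    (hx : IsDl J x) (hz : z * z = 1) (c1 : x * z = z * x) (c2 : e * z = z * e)
    (hne : sig (x * z).1 ≠ sig (e * z).1) : Mono e.1 := by
  obtain ⟨x', hx', hne', hxc, hec, hcl, -, -⟩ := H.dihedral_dl h3 he hx hz c1 c2 hne
  exact H.prod_mono h3 he hx hx' hne' hxc hec hcl

end Ctx

end CfsgLib.Classical.TensorWreathOrth
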