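import Cfsg.Agent.Lib.Classical.TensorWreathOrth.Normal

set_option autoImplicit false
set_option linter.unusedSectionVars false

/-!
The elements commuting with the projection on a line of one factor, and their pieces on that line.
-/

namespace CfsgLib.Classical.TensorWreathOrth

open Matrix CfsgLib.Classical.TensorWreath
open scoped MatrixGroups

variable {F : Type*} [Field F] {τ : Type} [Fintype τ] [DecidableEq τ] {k : ℕ} {J : Matrix (Fin k) (Fin k) F}

theorem iv_left_injective (i : τ) {a : Fin k → F} (ha : bf J a a ≠ 0) {y y' : Ix (Rest i) k → F}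
    (h : iv i y a = iv i y' a) : y = y' := by
  have := congrArg (ctr J i a) h
  rw [ctr_iv, ctr_iv] at this
  exact smul_right_injective _ ha this

/-- Two maps agreeing on the products with a basis of the factor agree. -/
theorem OB.ext_iv {v : Fin k → Fin k → F} (hv : OB J v) (i : τ) {M N : Matrix (Ix τ k) (Ix τ k) F}
    (h : ∀ b y, M *ᵥ iv i y (v b) = N *ᵥ iv i y (v b)) : M = N := by
  refine Matrix.ext_iff_mulVec.2 fun x => ?_
  rw [← hv.sum_iv i x, Matrix.mulVec_sum, Matrix.mulVec_sum]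
  exact Finset.sum_congr rfl fun b _ => h b _

/-- The elements commuting with the projection on a line of the factor `i`. -/
def comG (J : Matrix (Fin k) (Fin k) F) (i : τ) (a : Fin k → F) : Subgroup (GL (Ix τ k) F) where
  carrier := {g | g.1 * embM i (pr J a) = embM i (pr J a) * g.1}
  one_mem' := by simp
  mul_mem' := fun {g h} hg hh => by
    simp only [Set.mem_setOf_eq, Units.val_mul] at hg hh ⊢
    rw [Matrix.mul_assoc, hh, ← Matrix.mul_assoc, hg, Matrix.mul_assoc]
  inv_mem' := fun {g} hg => by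
    simp only [Set.mem_setOf_eq] at hg ⊢
    calc (g⁻¹).1 * embM i (pr J a) = (g⁻¹).1 * (embM i (pr J a) * g.1) * (g⁻¹).1 := by
          rw [Matrix.mul_assoc, Matrix.mul_assoc, g.mul_inv, Matrix.mul_one]
      _ = _ := by rw [← hg, ← Matrix.mul_assoc, g.inv_mul, Matrix.one_mul]

theorem mem_comG {i : τ} {a : Fin k → F} {g : GL (Ix τ k) F} :
    g ∈ comG J i a ↔ g.1 * embM i (pr J a) = embM i (pr J a) * g.1 := Iff.rfl

theorem mem_comG_of_rot (h : Frm J) {i : τ} {a : Fin k → F} {g : GL (Ix τ k) F}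
    (hg : g.1 * embM i (rot J a) = embM i (rot J a) * g.1) : g ∈ comG J i a := by
  rw [rot, embM_sub, embM_smul, embM_one, Matrix.mul_sub, Matrix.sub_mul, Matrix.mul_one, Matrix.one_mul,
    sub_left_inj, Matrix.mul_smul, Matrix.smul_mul] at hg
  exact smul_right_injective _ h.two hg

theorem comG_rot {i : τ} {a : Fin k → F} {g : GL (Ix τ k) F} (hg : g ∈ comG J i a) :
    g.1 * embM i (rot J a) = embM i (rot J a) * g.1 := by
  rw [rot, embM_sub, embM_smul, embM_one, Matrix.mul_sub, Matrix.sub_mul, Matrix.mul_one, Matrix.one_mul,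
    Matrix.mul_smul, Matrix.smul_mul, mem_comG.1 hg]

theorem lift_comG [NeZero k] (i : τ) (a : Fin k → F) (u : GL (Ix (Rest i) k) F) : lift i u ∈ comG J i a := by
  rw [mem_comG, lift_val, embM_eq_ins, ins_mul, ins_mul, Matrix.one_mul, Matrix.mul_one, Matrix.one_mul,
    Matrix.mul_one]

/-- The piece on a line. -/
noncomputable def pieceM (J : Matrix (Fin k) (Fin k) F) (i : τ) (a : Fin k → F) (g : Matrix (Ix τ k) (Ix τ k) F) :
    Matrix (Ix (Rest i) k) (Ix (Rest i) k) F :=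
  Matrix.of fun r r' => (bf J a a)⁻¹ * ctr J i a (g *ᵥ iv i (Pi.single r' 1) a) r

theorem ctr_add (i : τ) (a : Fin k → F) (x y : Ix τ k → F) : ctr J i a (x + y) = ctr J i a x + ctr J i a y := by
  funext r
  simp only [ctr, Pi.add_apply, mul_add, Finset.sum_add_distrib]

theorem ctr_smul (i : τ) (a : Fin k → F) (c : F) (x : Ix τ k → F) : ctr J i a (c • x) = c • ctr J i a x := by
  funext r
  simp only [ctr, Pi.smul_apply, smul_eq_mul, Finset.mul_sum, mul_left_comm c]

theorem pieceM_mulVec {i : τ} {a : Fin k → F} (ha : bf J a a ≠ 0) {g : GL (Ix τ k) F} (hg : g ∈ comG J i a)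
    (y : Ix (Rest i) k → F) : g.1 *ᵥ iv i y a = iv i (pieceM J i a g.1 *ᵥ y) a := by
  have key : ∀ r', g.1 *ᵥ iv i (Pi.single r' (1 : F)) a =
      iv i (pieceM J i a g.1 *ᵥ Pi.single r' (1 : F)) a := by
    intro r'
    have h1 : embM i (pr J a) *ᵥ (g.1 *ᵥ iv i (Pi.single r' (1 : F)) a) = g.1 *ᵥ iv i (Pi.single r' (1 : F)) a := by
      rw [Matrix.mulVec_mulVec, ← mem_comG.1 hg, ← Matrix.mulVec_mulVec, embM_mulVec_iv, pr_self J ha]
    rw [← h1, ins_pr_mulVec]
    congr 1
    funext r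
    rw [Matrix.mulVec_single_one]
    rfl
  have hy : y = ∑ r, y r • Pi.single r (1 : F) := by
    funext r
    simp [Finset.sum_apply, Pi.single_apply]
  let L : (Ix (Rest i) k → F) →ₗ[F] (Ix τ k → F) :=
    { toFun := fun z => iv i z a
      map_add' := fun z z' => iv_add_left i z z' a
      map_smul' := fun c z => iv_smul_left i c z a }
  show g.1.mulVecLin (L y) = L ((pieceM J i a g.1).mulVecLin y)
  rw [hy, map_sum, map_sum, map_sum, map_sum]
  refine Finset.sum_congr rfl fun r _ => ?_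
  rw [map_smul, map_smul, map_smul, map_smul]
  exact congrArg (y r • ·) (key r)

theorem pieceM_eq {i : τ} {a : Fin k → F} (ha : bf J a a ≠ 0) {g : GL (Ix τ k) F} (hg : g ∈ comG J i a)
    {X : Matrix (Ix (Rest i) k) (Ix (Rest i) k) F} (h : ∀ y, g.1 *ᵥ iv i y a = iv i (X *ᵥ y) a) :
    pieceM J i a g.1 = X :=
  Matrix.ext_iff_mulVec.2 fun y => iv_left_injective i ha ((pieceM_mulVec ha hg y).symm.trans (h y))

/-- The piece as a homomorphism. -/
noncomputable def pieceG (i : τ) (a : Fin k → F) (ha : bf J a a ≠ 0) :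
    comG J i a →* GL (Ix (Rest i) k) F :=
  MonoidHom.toHomUnits
    { toFun := fun g => pieceM J i a g.1.1
      map_one' := pieceM_eq ha (comG J i a).one_mem fun y => by
        rw [Matrix.one_mulVec]; exact Matrix.one_mulVec _
      map_mul' := fun g h => pieceM_eq ha (g * h).2 fun y => by
        rw [Subgroup.coe_mul, Units.val_mul, ← Matrix.mulVec_mulVec, pieceM_mulVec ha h.2, pieceM_mulVec ha g.2,
          Matrix.mulVec_mulVec] }

theorem pieceG_val {i : τ} {a : Fin k → F} (ha : bf J a a ≠ 0) (g : comG J i a) :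
    (pieceG i a ha g).1 = pieceM J i a g.1.1 := rfl

theorem pieceG_mulVec {i : τ} {a : Fin k → F} (ha : bf J a a ≠ 0) (g : comG J i a) (y : Ix (Rest i) k → F) :
    g.1.1 *ᵥ iv i y a = iv i ((pieceG i a ha g).1 *ᵥ y) a := pieceM_mulVec ha g.2 y

theorem pieceG_lift [NeZero k] (i : τ) {a : Fin k → F} (ha : bf J a a ≠ 0) (u : GL (Ix (Rest i) k) F) :
    pieceG i a ha ⟨lift i u, lift_comG i a u⟩ = u :=
  Units.ext (pieceM_eq ha (lift_comG i a u) fun y => by rw [lift_val, ins_mulVec_iv, Matrix.one_mulVec])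

theorem pieceG_iso (h : Frm J) {i : τ} {a : Fin k → F} (ha : bf J a a ≠ 0) {g : comG J i a}
    (hg : g.1 ∈ iso (JJ J τ)) : pieceG i a ha g ∈ iso (JJ J (Rest i)) := by
  refine (h.pow (Rest i)).iso_of_bf fun x y => ?_
  have := (h.pow τ).bf_iso hg (iv i x a) (iv i y a)
  rw [pieceG_mulVec ha g, pieceG_mulVec ha g, bf_iv, bf_iv] at this
  exact mul_right_cancel₀ ha this

theorem eq_of_pieces {v : Fin k → Fin k → F} (hv : OB J v) {i : τ} {g h : GL (Ix τ k) F}
    (hg : ∀ b, g ∈ comG J i (v b)) (hh : ∀ b, h ∈ comG J i (v b))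
    (e : ∀ b, pieceM J i (v b) g.1 = pieceM J i (v b) h.1) : g = h :=
  Units.ext (hv.ext_iv i fun b y => by
    rw [pieceM_mulVec (hv.aniso b) (hg b), pieceM_mulVec (hv.aniso b) (hh b), e])

/-- A matrix with proportional pieces is a product. -/
theorem eq_ins_of_pieces {v : Fin k → Fin k → F} (hv : OB J v) {i : τ} {g : GL (Ix τ k) F}
    (hg : ∀ b, g ∈ comG J i (v b)) {A : Matrix (Ix (Rest i) k) (Ix (Rest i) k) F} {c : Fin k → F}
    (e : ∀ b, pieceM J i (v b) g.1 = c b • A) : g.1 = ins i A (∑ b, c b • pr J (v b)) := by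
  refine hv.ext_iv i fun b y => ?_
  rw [pieceM_mulVec (hv.aniso b) (hg b), e, ins_mulVec_iv, Matrix.sum_mulVec, Finset.sum_eq_single b,
    Matrix.smul_mulVec, Matrix.smul_mulVec, pr_self J (hv.aniso b), iv_smul_left, iv_smul_right]
  · intro b' _ hb'
    rw [Matrix.smul_mulVec, pr_perp J (hv.orth b' b hb'), smul_zero]
  · exact fun hb => absurd (Finset.mem_univ _) hb

theorem mono_ins_pure [NeZero k] {i : τ} {A : Matrix (Ix (Rest i) k) (Ix (Rest i) k) F} (hA : Mono A)
    (R : Matrix (Fin k) (Fin k) F) : Mono (ins i A R) := by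
  have e : ins i A R = ins i A 1 * embM i R := by rw [embM_eq_ins, ins_mul, Matrix.mul_one, Matrix.one_mul]
  rw [e]
  exact (mono_ins i hA).mul (mono_pure _)

/-- The pieces of a monomial element are proportional. -/
theorem pieces_prop_of_mono [Finite F] (hf : Fac J) {v : Fin k → Fin k → F} (hv : OB J v) (hg₀ : ∀ b, Good J (v b))
    {i : τ} {g : GL (Ix τ k) F} (hg : g ∈ iso (JJ J τ)) (hm : Mono g.1) (hc : ∀ b, g ∈ comG J i (v b)) :
    ∃ (A : Matrix (Ix (Rest i) k) (Ix (Rest i) k) F) (c : Fin k → F), Mono A ∧ ∀ b, c b ≠ 0 ∧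
      pieceM J i (v b) g.1 = c b • A := by
  classical
  haveI := hf.neZero
  obtain ⟨gs, σ, e, -, hconj⟩ := mono_iso_data hf hm hg
  obtain ⟨b₀⟩ : Nonempty (Fin k) := ⟨⟨0, Nat.pos_of_ne_zero (NeZero.ne k)⟩⟩
  have hσ : σ i = i := by
    by_contra hne
    have h1 := hconj i (rot J (v b₀))
    rw [comG_rot (hc b₀), Matrix.mul_assoc, g.mul_inv, Matrix.mul_one] at h1
    obtain ⟨x, hx⟩ : ∃ x, x = (gs (σ i)).1 * rot J (v b₀) * ((gs (σ i))⁻¹).1 := ⟨_, rfl⟩
    rw [← hx] at h1
    -- a rotation is not scalar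
    obtain ⟨s, hs⟩ : ∃ s : F, rot J (v b₀) = s • 1 := hf.scalar_rot fun d _ => embM_injective i (by
      rw [← embM_mul, ← embM_mul, h1, embM_comm hne])
    have h3 := hf.three
    obtain ⟨b₁, hb₁⟩ : ∃ b₁ : Fin k, b₁ ≠ b₀ :=
      ⟨if b₀.val = 0 then ⟨1, by omega⟩ else ⟨0, by omega⟩, by
        intro e; split_ifs at e with h <;> simp [Fin.ext_iff] at e <;> omega⟩
    have e0 := rot_self J (hv.aniso b₀)
    have e1 := rot_perp J (hv.orth b₀ b₁ (Ne.symm hb₁))
    rw [hs, Matrix.smul_mulVec, Matrix.one_mulVec] at e0 e1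
    have f0 := congrArg (bf J (v b₀)) e0
    have f1 := congrArg (bf J (v b₁)) e1
    rw [bf_smul_right] at f0
    rw [bf_smul_right, ← neg_one_smul F (v b₁), bf_smul_right] at f1
    have s0 : s = 1 := mul_right_cancel₀ (hv.aniso b₀) (by rw [f0, one_mul])
    have s1 : s = -1 := mul_right_cancel₀ (hv.aniso b₁) f1
    exact hf.frm.two (by linear_combination s0.symm.trans s1)
  obtain ⟨σ', hσ'⟩ : ∃ σ' : Equiv.Perm (Rest i), Equiv.Perm.ofSubtype σ' = σ := by
    refine ⟨σ.subtypePerm (fun x => σ.injective.ne_iff' hσ), ?_⟩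
    exact Equiv.Perm.ofSubtype_subtypePerm _ fun x hx e => hx (by rw [e, hσ])
  obtain ⟨A, hA⟩ : ∃ A, A = pureM (fun j : Rest i => (gs j).1) * permM F k σ' := ⟨_, rfl⟩
  have e2 : g.1 = ins i A (gs i).1 := by
    rw [e, hA, ← Matrix.mul_one (gs i).1, ← ins_mul, ins_permM, hσ', ins_pureM]
    refine congrArg (· * permM F k σ) (congrArg pureM (funext fun j => ?_))
    by_cases hj : j = i
    · subst hj; rw [Function.update_self]
    · rw [Function.update_of_ne hj, extend, dif_neg hj]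
  refine ⟨A, fun b => (bf J (v b) (v b))⁻¹ * bf J (v b) ((gs i).1 *ᵥ v b), hA ▸ (mono_pure _).mul (mono_perm _),
    fun b => ?_⟩
  have hpc : ∀ y, g.1 *ᵥ iv i y (v b) =
      iv i ((((bf J (v b) (v b))⁻¹ * bf J (v b) ((gs i).1 *ᵥ v b)) • A) *ᵥ y) (v b) := by
    intro y
    have h1 := congrArg (fun Z => Z *ᵥ iv i y (v b)) (mem_comG.1 (hc b))
    simp only [← Matrix.mulVec_mulVec, embM_mulVec_iv, pr_self J (hv.aniso b)] at h1
    rw [h1, e2, ins_mulVec_iv, embM_mulVec_iv, pr_mulVec, iv_smul_right, Matrix.smul_mulVec, iv_smul_left]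
  refine ⟨fun h0 => ?_, pieceM_eq (hv.aniso b) (hc b) hpc⟩
  have h2 := pieceM_eq (hv.aniso b) (hc b) hpc
  dsimp only at h0
  rw [h0, zero_smul] at h2
  have h3 : (pieceG i (v b) (hv.aniso b) ⟨g, hc b⟩).1 = 0 := h2
  have h4 := (pieceG i (v b) (hv.aniso b) ⟨g, hc b⟩).mul_inv
  rw [h3, Matrix.zero_mul] at h4
  exact zero_ne_one h4

end CfsgLib.Classical.TensorWreathOrth
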