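import Cfsg.Agent.Lib.Classical.TensorWreathOrth.DZero

set_option autoImplicit false
set_option linter.unusedSectionVars false

/-!
An element of prime order with a short polynomial acts unipotently on an abelian group it normalises; commuting
nilpotents have a common kernel; the projections on good lines act irreducibly.
-/

namespace CfsgLib.Classical.TensorWreathOrth

open Matrix CfsgLib.Classical.TensorWreath
open scoped MatrixGroups commutatorElement

variable {F : Type*} [Field F]

section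

variable {γ : Type} [Fintype γ] [DecidableEq γ]

/-- An element of prime order annihilated by a shorter polynomial moves an abelian group by unipotent elements. -/
theorem nilpotent_of_poly {u : GL γ F} {r : ℕ} {p : Polynomial F} (hr : r.Prime) (hu : u ^ r = 1) (hp : p ≠ 0)
    (hdeg : p.natDegree < r) (he : Polynomial.aeval u.1 p = 0) {C : Subgroup (GL γ F)}
    (hn : ∀ v ∈ C, u * v * u⁻¹ ∈ C) (hab : ∀ v ∈ C, ∀ w ∈ C, v * w = w * v) {v : GL γ F} (hv : v ∈ C) :
    IsNilpotent ((u * v * u⁻¹ * v⁻¹).1 - 1) := by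
  classical
  obtain ⟨σ, hσ⟩ : ∃ σ : ℕ → GL γ F → GL γ F, σ = fun n w => u ^ n * w * (u ^ n)⁻¹ := ⟨_, rfl⟩
  have hσv : ∀ n w, σ n w = u ^ n * w * (u ^ n)⁻¹ := fun n w => by rw [hσ]
  have hmem : ∀ n, ∀ w ∈ C, σ n w ∈ C := by
    intro n
    induction n with
    | zero => intro w hw; simpa [hσv] using hw
    | succ n ih =>
      intro w hw
      have := hn _ (ih w hw)
      rw [hσv] at this ⊢
      rw [pow_succ']
      simpa [mul_assoc] using this
  have hmod : ∀ a b, a % r = b % r → ∀ w, σ a w = σ b w := fun a b e w => by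
    have hpow : ∀ c, u ^ c = u ^ (c % r) := fun c => by
      conv_lhs => rw [← Nat.mod_add_div c r, pow_add, pow_mul, hu, one_pow, mul_one]
    rw [hσv, hσv, hpow a, hpow b, e]
  have hadd : ∀ a b w, σ a (σ b w) = σ (a + b) w := fun a b w => by rw [hσv, hσv, hσv, pow_add]; group
  have hpast : ∀ n w, (u ^ n).1 * w.1 = (σ n w).1 * (u ^ n).1 := fun n w => by
    rw [← Units.val_mul, ← Units.val_mul, hσv, inv_mul_cancel_right]
  obtain ⟨N, hN⟩ : ∃ N, p.coeff N ≠ 0 := by
    by_contra hcon
    push Not at hcon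
    exact hp (Polynomial.ext fun n => by rw [hcon n, Polynomial.coeff_zero])
  have hNr : N < r := lt_of_le_of_lt (Polynomial.le_natDegree_of_ne_zero hN) hdeg
  obtain ⟨X, hX⟩ : ∃ X : Matrix γ γ F, X = (σ N v).1 - (σ (N + 1) v).1 := ⟨_, rfl⟩
  -- remove the other exponents one at a time
  have key : ∀ T : Finset ℕ, T ⊆ (Finset.range r).erase N → ∃ P : ℕ → Matrix γ γ F,
      (∀ n, ∀ w ∈ C, w.1 * P n = P n * w.1) ∧ P N = X ^ T.card ∧ (∀ m ∈ T, P m = 0) ∧
      ∑ n ∈ Finset.range r, p.coeff n • (P n * (u ^ n).1) = 0 := by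
    intro T
    induction T using Finset.induction_on with
    | empty =>
      intro _
      refine ⟨fun _ => 1, fun n w _ => by rw [Matrix.mul_one, Matrix.one_mul], by simp, by simp, ?_⟩
      rw [Polynomial.aeval_eq_sum_range' hdeg] at he
      simpa [Units.val_pow_eq_pow_val] using he
    | insert m T hmT ih =>
      intro hsub
      obtain ⟨P, hPc, hPN, hPT, hsum⟩ := ih fun x hx => hsub (Finset.mem_insert_of_mem hx)
      have hm := hsub (Finset.mem_insert_self m T)
      rw [Finset.mem_erase, Finset.mem_range] at hm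
      -- a multiple of the difference congruent to one
      obtain ⟨d, hd⟩ : ∃ d, d = m + r - N := ⟨_, rfl⟩
      obtain ⟨e, he1⟩ : ∃ e, e * d % r = 1 := by
        haveI : Fact r.Prime := ⟨hr⟩
        have hd0 : (d : ZMod r) ≠ 0 := by
          rw [Ne, ZMod.natCast_eq_zero_iff]
          intro hdvd
          obtain ⟨c, hc⟩ := hdvd
          have h2 : c = 1 := by
            rcases Nat.lt_trichotomy c 1 with h | h | h
            · obtain rfl : c = 0 := by omega
              omega
            · exact h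
            · have : r * 2 ≤ r * c := Nat.mul_le_mul_left _ h
              omega
          rw [h2, mul_one] at hc
          omega
        refine ⟨((d : ZMod r)⁻¹).val, ?_⟩
        have h1 : ((((d : ZMod r)⁻¹).val * d : ℕ) : ZMod r) = ((1 : ℕ) : ZMod r) := by
          rw [Nat.cast_mul, ZMod.natCast_zmod_val, inv_mul_cancel₀ hd0, Nat.cast_one]
        rw [ZMod.natCast_eq_natCast_iff'] at h1
        rw [h1, Nat.mod_eq_of_lt hr.one_lt]
      obtain ⟨Q, hQ⟩ : ∃ Q : ℕ → Matrix γ γ F, Q = fun n =>
          ∑ i ∈ Finset.range e, ((σ n (σ (i * d) v)).1 - (σ m (σ (i * d) v)).1) := ⟨_, rfl⟩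
      have hQc : ∀ n, ∀ w ∈ C, w.1 * Q n = Q n * w.1 := by
        intro n w hw
        rw [hQ, Finset.mul_sum, Finset.sum_mul]
        refine Finset.sum_congr rfl fun i _ => ?_
        rw [Matrix.mul_sub, Matrix.sub_mul, ← Units.val_mul, ← Units.val_mul, ← Units.val_mul, ← Units.val_mul,
          hab w hw _ (hmem n _ (hmem _ v hv)), hab w hw _ (hmem m _ (hmem _ v hv))]
      refine ⟨fun n => Q n * P n, fun n w hw => by
        rw [← Matrix.mul_assoc, hQc n w hw, Matrix.mul_assoc, hPc n w hw, Matrix.mul_assoc], ?_, ?_, ?_⟩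
      · have hQN : Q N = X := by
          rw [hQ]
          dsimp only
          rw [Finset.sum_congr rfl fun i _ => show (σ N (σ (i * d) v)).1 - (σ m (σ (i * d) v)).1 =
            (fun j => (σ (N + j * d) v).1) i - (fun j => (σ (N + j * d) v).1) (i + 1) from by
            rw [hadd, hadd, hmod (m + i * d) (N + (i + 1) * d) (by
              rw [show N + (i + 1) * d = m + i * d + r by rw [hd, add_mul, one_mul]; omega, Nat.add_mod_right])],
            Finset.sum_range_sub', hX]
          congr 1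
          · rw [zero_mul, add_zero]
          · rw [hmod (N + e * d) (N + 1) (by rw [Nat.add_mod, he1, Nat.add_mod N 1, Nat.mod_eq_of_lt hr.one_lt])]
        show Q N * P N = _
        rw [hQN, hPN, Finset.card_insert_of_notMem hmT, pow_succ']
      · intro m' hm'
        rcases Finset.mem_insert.1 hm' with rfl | h
        · show Q m' * P m' = 0
          rw [hQ]
          simp
        · show Q m' * P m' = 0
          rw [hPT m' h, Matrix.mul_zero]
      · have h1 : ∀ w : GL γ F, w ∈ C → ∑ n ∈ Finset.range r, p.coeff n • ((σ n w).1 * P n * (u ^ n).1) = 0 := by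
          intro w hw
          have := congrArg (· * w.1) hsum
          simp only [Finset.sum_mul, Matrix.zero_mul, Matrix.smul_mul] at this
          refine Eq.trans (Finset.sum_congr rfl fun n _ => ?_) this
          rw [Matrix.mul_assoc (P n), hpast, ← Matrix.mul_assoc (P n), ← hPc n _ (hmem n w hw)]
        have h2 : ∀ w : GL γ F, w ∈ C → ∑ n ∈ Finset.range r, p.coeff n • ((σ m w).1 * P n * (u ^ n).1) = 0 := by
          intro w hw
          have := congrArg ((σ m w).1 * ·) hsum
          simp only [Finset.mul_sum, Matrix.mul_zero, Matrix.mul_smul, ← Matrix.mul_assoc] at this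
          exact this
        rw [hQ]
        simp only [Finset.sum_mul, Finset.smul_sum]
        rw [Finset.sum_comm]
        refine Finset.sum_eq_zero fun i _ => ?_
        simp only [Matrix.sub_mul, smul_sub, Finset.sum_sub_distrib]
        rw [h1 _ (hmem _ v hv), h2 _ (hmem _ v hv), sub_zero]
  obtain ⟨P, -, hPN, hP0, hsum⟩ := key _ subset_rfl
  rw [Finset.sum_eq_single N (fun n hn hne => by
      rw [hP0 n (Finset.mem_erase.2 ⟨hne, hn⟩), Matrix.zero_mul, smul_zero])
      (fun h => absurd (Finset.mem_range.2 hNr) h), smul_eq_zero, or_iff_right hN, hPN] at hsum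
  have hnil : IsNilpotent X := by
    refine ⟨((Finset.range r).erase N).card, ?_⟩
    rw [← Matrix.mul_one (X ^ _), ← (u ^ N).mul_inv, ← Matrix.mul_assoc, hsum, Matrix.zero_mul]
  -- back to the first exponent
  have hX' : X = (u ^ N).1 * (v.1 - (u * v * u⁻¹).1) * ((u ^ N)⁻¹).1 := by
    rw [hX, Matrix.mul_sub, Matrix.sub_mul, ← Units.val_mul, ← Units.val_mul, ← Units.val_mul, ← Units.val_mul,
      hσv, hσv, pow_succ]
    congr 2
    group
  have hnil' : IsNilpotent (v.1 - (u * v * u⁻¹).1) := by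
    obtain ⟨n, hn'⟩ := hnil
    refine ⟨n, ?_⟩
    have h3 := hn'
    rw [hX', Units.conj_pow] at h3
    have h4 := congrArg (fun Z => ((u ^ N)⁻¹).1 * Z * (u ^ N).1) h3
    simpa only [Matrix.mul_assoc, Units.inv_mul, Units.inv_mul_cancel_left, Matrix.mul_one, Matrix.zero_mul,
      Matrix.mul_zero] using h4
  obtain ⟨w, hw⟩ : ∃ w, w = u * v * u⁻¹ := ⟨_, rfl⟩
  have hwC : w ∈ C := hw ▸ hn v hv
  rw [← hw] at hnil'
  have e : (w * v⁻¹).1 - 1 = -((v.1 - w.1) * (v⁻¹).1) := by
    rw [Matrix.sub_mul, v.mul_inv, neg_sub, Units.val_mul]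
  rw [← hw, e]
  refine (Commute.isNilpotent_mul_right ?_ hnil').neg
  show (v.1 - w.1) * (v⁻¹).1 = (v⁻¹).1 * (v.1 - w.1)
  rw [Matrix.sub_mul, Matrix.mul_sub, v.mul_inv, v.inv_mul, ← Units.val_mul, ← Units.val_mul,
    hab w hwC _ (C.inv_mem hv)]

/-- A unipotent involution is the identity. -/
theorem eq_one_of_nilpotent (h2 : (2 : F) ≠ 0) {X : Matrix γ γ F} (hX : X * X = 1) (hn : IsNilpotent (X - 1)) :
    X = 1 := by
  have hu : IsUnit ((2 : F) • (1 : Matrix γ γ F) + (X - 1)) := by
    refine hn.isUnit_add_left_of_commute ?_ ?_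
    · exact isUnit_iff_exists.2 ⟨(2 : F)⁻¹ • 1, by simp [smul_smul, h2], by simp [smul_smul, h2]⟩
    · rw [Commute, SemiconjBy, Matrix.mul_smul, Matrix.smul_mul, Matrix.mul_one, Matrix.one_mul]
  refine sub_eq_zero.1 (hu.mul_left_eq_zero.1 ?_)
  rw [Matrix.mul_add, Matrix.mul_smul, Matrix.mul_one, Matrix.mul_sub, Matrix.sub_mul, hX, Matrix.one_mul,
    Matrix.mul_one]
  module

/-- Commuting nilpotents keeping the image of a projection kill a common vector of it. -/
theorem exists_common_kernel {P : Matrix γ γ F} (hP : ∃ x, P *ᵥ x ≠ 0) (hPP : P * P = P)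
    (S : Finset (Matrix γ γ F)) (hn : ∀ N ∈ S, IsNilpotent N) (hc : ∀ N ∈ S, ∀ N' ∈ S, N * N' = N' * N)
    (hp : ∀ N ∈ S, P * N = N * P) : ∃ x, x ≠ 0 ∧ P *ᵥ x = x ∧ ∀ N ∈ S, N *ᵥ x = 0 := by
  classical
  induction S using Finset.induction_on with
  | empty =>
    obtain ⟨x, hx⟩ := hP
    exact ⟨P *ᵥ x, hx, by rw [Matrix.mulVec_mulVec, hPP], by simp⟩
  | insert N S _ ih =>
    obtain ⟨x, hx0, hxP, hxS⟩ := ih (fun M hM => hn M (Finset.mem_insert_of_mem hM))
      (fun M hM M' hM' => hc M (Finset.mem_insert_of_mem hM) M' (Finset.mem_insert_of_mem hM'))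
      (fun M hM => hp M (Finset.mem_insert_of_mem hM))
    obtain ⟨n, hn'⟩ := hn N (Finset.mem_insert_self _ _)
    have hex : ∃ i, (N ^ i) *ᵥ x = 0 := ⟨n, by rw [hn', Matrix.zero_mulVec]⟩
    have h0 : Nat.find hex ≠ 0 := fun e => by
      have := Nat.find_spec hex
      rw [e, pow_zero, Matrix.one_mulVec] at this
      exact hx0 this
    obtain ⟨i, hi⟩ := Nat.exists_eq_succ_of_ne_zero h0
    have hspec := Nat.find_spec hex
    rw [hi, pow_succ', ← Matrix.mulVec_mulVec] at hspec
    refine ⟨(N ^ i) *ᵥ x, Nat.find_min hex (by omega), ?_, fun M hM => ?_⟩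
    · have : P * N ^ i = N ^ i * P := (Commute.pow_right (hp N (Finset.mem_insert_self _ _)) i).eq
      rw [Matrix.mulVec_mulVec, this, ← Matrix.mulVec_mulVec, hxP]
    · rcases Finset.mem_insert.1 hM with rfl | h
      · exact hspec
      · have : M * N ^ i = N ^ i * M := (Commute.pow_right (hc M hM N (Finset.mem_insert_self _ _)) i).eq
        rw [Matrix.mulVec_mulVec, this, ← Matrix.mulVec_mulVec, hxS M h, Matrix.mulVec_zero]

end

variable [Finite F] {k : ℕ} {J : Matrix (Fin k) (Fin k) F}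

/-- The projections on the good lines of the factors have no invariant subspace. -/
theorem Fac.eq_top_of_pr (hf : Fac J) : ∀ (n : ℕ) {σ : Type} [Fintype σ] [DecidableEq σ], Fintype.card σ = n →
    ∀ T : Submodule F (Ix σ k → F), (∀ o c, Good J c → ∀ x ∈ T, embM o (pr J c) *ᵥ x ∈ T) →
      (∃ x ∈ T, x ≠ 0) → T = ⊤ := by
  intro n
  haveI := hf.neZero
  induction n with
  | zero =>
    intro σ _ _ hσ T _ ⟨x, hx, hx0⟩
    haveI : IsEmpty σ := Fintype.card_eq_zero_iff.1 hσ
    refine eq_top_iff.2 fun y _ => ?_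
    obtain ⟨p₀, hp₀⟩ : ∃ p, x p ≠ 0 := by
      by_contra hcon
      push Not at hcon
      exact hx0 (funext hcon)
    have e : y = (y p₀ * (x p₀)⁻¹) • x := funext fun p => by
      rw [Subsingleton.elim p p₀, Pi.smul_apply, smul_eq_mul, inv_mul_cancel_right₀ hp₀]
    rw [e]
    exact T.smul_mem _ hx
  | succ n ih =>
    intro σ _ _ hσ T hst ⟨x, hx, hx0⟩
    obtain ⟨o⟩ : Nonempty σ := Fintype.card_pos_iff.1 (by omega)
    obtain ⟨c₀, hc₀⟩ := hf.frm.exists_good (A := J) (by rw [Fintype.card_fin]; have := hf.three; omega)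
    obtain ⟨w, hw, hwg, -, -⟩ := hf.frm.exists_frame_eq hc₀ (Fintype.card_fin k) (by have := hf.three; omega)
    obtain ⟨b₀, hb₀⟩ : ∃ b, embM o (pr J (w b)) *ᵥ x ≠ 0 := by
      by_contra hcon
      push Not at hcon
      refine hx0 ?_
      rw [← hw.sum_iv o x]
      exact Finset.sum_eq_zero fun b _ => (ins_pr_mulVec o (w b) x).symm.trans (hcon b)
    obtain ⟨La, hLa⟩ : ∃ La : (Fin k → F) → ((Ix (Rest o) k → F) →ₗ[F] (Ix σ k → F)), ∀ a y, La a y = iv o y a :=
      ⟨fun a =>
        { toFun := fun y => iv o y a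
          map_add' := fun y y' => iv_add_left o y y' a
          map_smul' := fun c y => iv_smul_left o c y a }, fun _ _ => rfl⟩
    have htop : T.comap (La (w b₀)) = ⊤ := by
      refine ih (by rw [Fintype.card_subtype_compl, Fintype.card_subtype_eq, hσ]; rfl) _ (fun o' c hc y hy => ?_) ?_
      · rw [Submodule.mem_comap, hLa] at hy ⊢
        rw [← embM_rest_iv o o']
        exact hst o'.1 c hc _ hy
      · refine ⟨(bf J (w b₀) (w b₀))⁻¹ • ctr J o (w b₀) x, ?_, fun e => hb₀ ?_⟩
        · rw [Submodule.mem_comap, hLa, ← ins_pr_mulVec]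
          exact hst o _ (hwg b₀) x hx
        · rw [ins_pr_mulVec, e, iv_zero_left]
    have hall : ∀ b y, iv o y (w b) ∈ T := by
      intro b y
      have h0 : ∀ y, iv o y (w b₀) ∈ T := fun y => by
        have : y ∈ T.comap (La (w b₀)) := by rw [htop]; exact Submodule.mem_top
        rwa [Submodule.mem_comap, hLa] at this
      by_cases hb : b = b₀
      · rw [hb]; exact h0 y
      obtain ⟨z, hz, hz1, hz2⟩ := hf.exists_link (hwg b₀) (hwg b) (hw.orth _ _ (Ne.symm hb))
      have h1 := hst o z hz _ (h0 y)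
      rw [embM_mulVec_iv, pr_mulVec, iv_smul_right] at h1
      have hne : (bf J z z)⁻¹ * bf J z (w b₀) ≠ 0 :=
        mul_ne_zero (inv_ne_zero hz.1) (by rwa [hf.frm.bf_comm])
      have h2 : iv o y z ∈ T := by
        have := T.smul_mem ((bf J z z)⁻¹ * bf J z (w b₀))⁻¹ h1
        rwa [smul_smul, inv_mul_cancel₀ hne, one_smul] at this
      have h3 := hst o (w b) (hwg b) _ h2
      rw [embM_mulVec_iv, pr_mulVec, iv_smul_right] at h3
      have := T.smul_mem ((bf J (w b) (w b))⁻¹ * bf J (w b) z)⁻¹ h3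
      rwa [smul_smul, inv_mul_cancel₀ (mul_ne_zero (inv_ne_zero (hw.aniso b)) hz2), one_smul] at this
    refine eq_top_iff.2 fun z _ => ?_
    rw [← hw.sum_iv o z]
    exact T.sum_mem fun b _ => hall b _

end CfsgLib.Classical.TensorWreathOrth
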