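import Cfsg.Agent.Lib.Classical.TensorWreathOrth.Frame
import Cfsg.Agent.Lib.Classical.TensorWreathOrth.Poly
import Mathlib.GroupTheory.FixedPointFree
import Mathlib.LinearAlgebra.Matrix.SchurComplement

set_option autoImplicit false
set_option linter.unusedSectionVars false

/-!
The elements trivial on all lines but a plane of one factor and commuting with the rotations of the plane are in
that factor.
-/

namespace CfsgLib.Classical.TensorWreathOrth

open Matrix CfsgLib.Classical.TensorWreath
open scoped MatrixGroups commutatorElement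

variable {F : Type*} [Field F] [Finite F]

section

variable {γ : Type} [Fintype γ] [DecidableEq γ] {A : Matrix γ γ F}

/-- The determinant of a rotation on a line in odd dimension. -/
theorem det_rot_odd (hn : Odd (Fintype.card γ)) {c : γ → F} (hc : bf A c c ≠ 0) : (rot A c).det = 1 := by
  have e : rot A c = (-1 : F) • (1 + replicateCol Unit ((-2 * (bf A c c)⁻¹) • c) * replicateRow Unit (A *ᵥ c)) := by
    ext a b
    simp only [rot, pr, Matrix.sub_apply, Matrix.smul_apply, Matrix.add_apply, Matrix.mul_apply, Matrix.vecMulVec_apply,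
      replicateCol_apply, replicateRow_apply, Finset.univ_unique, Finset.sum_singleton, Pi.smul_apply, smul_eq_mul]
    ring
  rw [e, Matrix.det_smul, Matrix.det_one_add_replicateCol_mul_replicateRow, hn.neg_one_pow, dotProduct_smul]
  have : (A *ᵥ c) ⬝ᵥ c = bf A c c := rfl
  rw [this, smul_eq_mul, mul_assoc, inv_mul_cancel₀ hc]
  ring

/-- The commutator group has determinant one. -/
theorem det_of_mem_Om {g : GL γ F} (hg : g ∈ Om A) : g.1.det = 1 := by
  have hle : Om A ≤ (Matrix.GeneralLinearGroup.det : GL γ F →* Fˣ).ker := by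
    refine Subgroup.commutator_le.2 fun a _ b _ => ?_
    rw [MonoidHom.mem_ker, map_commutatorElement, commutatorElement_eq_one_iff_mul_comm, mul_comm]
  exact congrArg Units.val (hle hg)

/-- Commutators of elements changed by commuting ones. -/
theorem commutator_mul_commute {G : Type*} [Group G] {z w a b : G} (hzw : Commute z w) (hza : Commute z a)
    (hzb : Commute z b) (hwa : Commute w a) (hwb : Commute w b) : ⁅z * a, w * b⁆ = ⁅a, b⁆ := by
  have e1 : z * a * (w * b) = z * w * (a * b) := hwa.symm.mul_mul_mul_comm z b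
  have e2 : w * b * (z * a) = w * z * (b * a) := hzb.symm.mul_mul_mul_comm w a
  have h : ∀ x y : G, ⁅x, y⁆ = x * y * (y * x)⁻¹ := fun x y => by rw [commutatorElement_def]; group
  have hc : Commute (z * w) (a * b * (b * a)⁻¹) :=
    ((hza.mul_left hwa).mul_right (hzb.mul_left hwb)).mul_right
      (((hzb.mul_left hwb).mul_right (hza.mul_left hwa)).inv_right)
  rw [h, h, e1, e2, ← hzw.eq, _root_.mul_inv_rev, mul_assoc (z * w), ← mul_assoc (a * b), ← mul_assoc, hc.eq,
    mul_inv_cancel_right]

end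

variable {τ : Type} [Fintype τ] [DecidableEq τ] {k : ℕ} {J : Matrix (Fin k) (Fin k) F}

/-- A plane with two lines in general position. -/
def Linked (J : Matrix (Fin k) (Fin k) F) (f : Fin k → Fin k → F) (n : ℕ) : Prop :=
  ∃ x y, Good J x ∧ Good J y ∧ (∀ b : Fin k, b.val < n → bf J (f b) x = 0) ∧
    (∀ b : Fin k, b.val < n → bf J (f b) y = 0) ∧ bf J x y ≠ 0 ∧ ∀ c : F, y ≠ c • x

namespace Ctx

variable {M : Subgroup (GL (Ix τ k) F)} (H : Ctx J M)
include H

set_option maxHeartbeats 1600000 in
/-- An element trivial outside a plane and commuting with its rotations is in the factor. -/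
theorem plane_eq [NeZero k] {i : τ} {f : Fin k → Fin k → F} (hfr : Fr J f) {n : ℕ} (hn : n + 2 = k) (hn1 : 1 ≤ n)
    {a : Fin k → F} (ha : Good J a) (hao : ∀ b : Fin k, b.val < n → bf J (f b) a = 0)
    (hlk : Even k → Linked J f n)
    (hup : ∀ g ∈ M, (∀ b : Fin k, b.val < n → g ∈ comG J i (f b)) → g ∈ comG J i a → Mono g.1)
    {q : GL (Ix τ k) F} (hq : q ∈ M)
    (hS : ∀ b : Fin k, b.val < n → q.1 * embM i (pr J (f b)) = embM i (pr J (f b)) ∧
      embM i (pr J (f b)) * q.1 = embM i (pr J (f b)))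
    (hρ : ∀ x y, Good J x → Good J y → (∀ b : Fin k, b.val < n → bf J (f b) x = 0) →
      (∀ b : Fin k, b.val < n → bf J (f b) y = 0) →
      q.1 * embM i (rot J x * rot J y) = embM i (rot J x * rot J y) * q.1) :
    ∃ R : Matrix (Fin k) (Fin k) F, q.1 = embM i R := by
  classical
  have hf := H.fac
  have h := hf.frm
  have hk3 := hf.three
  haveI := H.rest_nonempty i
  -- a frame through the line
  obtain ⟨nn, hnn⟩ : ∃ nn : Fin k, nn.val = n := ⟨⟨n, by omega⟩, rfl⟩
  obtain ⟨f', hfr', hf'⟩ := hf.exists_frame_on (Finset.univ.filter fun x : Fin k => x.val ≤ n)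
    (Function.update f nn a) (fun p hp p' hp' hne => by
      rw [Finset.mem_filter] at hp hp'
      by_cases h1 : p = nn
      · subst h1
        rw [Function.update_self, Function.update_of_ne (Ne.symm hne), h.bf_comm]
        exact hao p' (lt_of_le_of_ne (hnn ▸ hp'.2) fun e => hne (Fin.ext (hnn.trans e.symm)))
      · by_cases h2 : p' = nn
        · subst h2
          rw [Function.update_self, Function.update_of_ne h1]
          exact hao p (lt_of_le_of_ne hp.2 fun e => h1 (Fin.ext (e.trans hnn.symm)))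
        · rw [Function.update_of_ne h1, Function.update_of_ne h2]
          exact hfr.ob.orth p p' hne)
    (fun p _ => by
      by_cases h1 : p = nn
      · subst h1; rw [Function.update_self]; exact ha
      · rw [Function.update_of_ne h1]; exact hfr.good p)
  have hfb : ∀ b : Fin k, b.val < n → f' b = f b := fun b hb => by
    rw [hf' b (Finset.mem_filter.2 ⟨Finset.mem_univ _, hb.le⟩),
      Function.update_of_ne (fun e : b = nn => by rw [e] at hb; omega)]
  have hfa : f' nn = a := by
    rw [hf' nn (Finset.mem_filter.2 ⟨Finset.mem_univ _, hnn.le⟩), Function.update_self]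
  obtain ⟨mm, hmm⟩ : ∃ mm : Fin k, mm.val = n + 1 := ⟨⟨n + 1, by omega⟩, rfl⟩
  have hcases : ∀ b : Fin k, b.val < n ∨ b = nn ∨ b = mm := fun b => by
    have := b.isLt
    rcases Nat.lt_trichotomy b.val n with h1 | h1 | h1
    · exact Or.inl h1
    · exact Or.inr (Or.inl (Fin.ext (h1.trans hnn.symm)))
    · exact Or.inr (Or.inr (Fin.ext (by omega)))
  have hnm : nn ≠ mm := fun e => by rw [Fin.ext_iff] at e; omega
  have hmo : ∀ b : Fin k, b.val < n → bf J (f b) (f' mm) = 0 := fun b hb => by
    rw [← hfb b hb]; exact hfr'.ob.orth b mm fun e => by rw [e] at hb; omega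
  -- the group
  obtain ⟨E, memE⟩ : ∃ E : Subgroup (GL (Ix τ k) F), ∀ g, g ∈ E ↔ g ∈ M ∧
      (∀ b : Fin k, b.val < n → g.1 * embM i (pr J (f b)) = embM i (pr J (f b)) ∧
        embM i (pr J (f b)) * g.1 = embM i (pr J (f b))) ∧
      ∀ x y, Good J x → Good J y → (∀ b : Fin k, b.val < n → bf J (f b) x = 0) →
        (∀ b : Fin k, b.val < n → bf J (f b) y = 0) →
        g.1 * embM i (rot J x * rot J y) = embM i (rot J x * rot J y) * g.1 := by
    refine ⟨
    { carrier := {g | g ∈ M ∧ (∀ b : Fin k, b.val < n → g.1 * embM i (pr J (f b)) = embM i (pr J (f b)) ∧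
        embM i (pr J (f b)) * g.1 = embM i (pr J (f b))) ∧
        ∀ x y, Good J x → Good J y → (∀ b : Fin k, b.val < n → bf J (f b) x = 0) →
          (∀ b : Fin k, b.val < n → bf J (f b) y = 0) →
          g.1 * embM i (rot J x * rot J y) = embM i (rot J x * rot J y) * g.1}
      one_mem' := ⟨M.one_mem, fun b _ => ⟨Matrix.one_mul _, Matrix.mul_one _⟩,
        fun x y _ _ _ _ => by rw [Units.val_one, Matrix.one_mul, Matrix.mul_one]⟩
      mul_mem' := fun {g g'} hg hg' => ⟨M.mul_mem hg.1 hg'.1, fun b hb => ⟨by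
          rw [Units.val_mul, Matrix.mul_assoc, (hg'.2.1 b hb).1, (hg.2.1 b hb).1], by
          rw [Units.val_mul, ← Matrix.mul_assoc, (hg.2.1 b hb).2, (hg'.2.1 b hb).2]⟩,
        fun x y h1 h2 h3 h4 => by
          rw [Units.val_mul, Matrix.mul_assoc, hg'.2.2 x y h1 h2 h3 h4, ← Matrix.mul_assoc, hg.2.2 x y h1 h2 h3 h4,
            Matrix.mul_assoc]⟩
      inv_mem' := fun {g} hg => ⟨M.inv_mem hg.1, fun b hb => ⟨by
          conv_lhs => rw [← (hg.2.1 b hb).1]
          rw [← Matrix.mul_assoc, g.inv_mul, Matrix.one_mul], by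
          conv_lhs => rw [← (hg.2.1 b hb).2]
          rw [Matrix.mul_assoc, g.mul_inv, Matrix.mul_one]⟩,
        fun x y h1 h2 h3 h4 => by
          have e := hg.2.2 x y h1 h2 h3 h4
          generalize embM i (rot J x * rot J y) = P at e ⊢
          calc (g⁻¹).1 * P = (g⁻¹).1 * (P * g.1) * (g⁻¹).1 := by
                rw [Matrix.mul_assoc, Matrix.mul_assoc, g.mul_inv, Matrix.mul_one]
            _ = _ := by rw [← e, ← Matrix.mul_assoc, g.inv_mul, Matrix.one_mul]⟩ }, fun g => Iff.rfl⟩
  have hcomS : ∀ g ∈ E, ∀ b : Fin k, b.val < n → g ∈ comG J i (f b) := fun g hg b hb => by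
    obtain ⟨e1, e2⟩ := ((memE g).1 hg).2.1 b hb
    rw [mem_comG, e1, e2]
  obtain ⟨Y, hY⟩ : ∃ Y, Y = embG (τ := τ) i (rotG J a ha.1) := ⟨_, rfl⟩
  have hYv : Y.1 = embM i (rot J a) := hY ▸ rfl
  have hYM : Y ∈ M := hY ▸ H.toHyp.emb_rot i ha
  have hYY : Y * Y = 1 := Units.ext (by rw [Units.val_mul, hYv, embM_mul, rot_mul_self J ha.1, embM_one, Units.val_one])
  have hYi : Y⁻¹ = Y := inv_eq_of_mul_eq_one_right hYY
  -- commuting with the rotation means being in the factor
  have small : ∀ g ∈ E, Y * g = g * Y → ∃ R : GL (Fin k) F, g = embG i R ∧ R ∈ iso J ∧ R * R = 1 := by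
    intro g hg hgy
    have hga : g ∈ comG J i a := mem_comG_of_rot h (by
      rw [← hYv, ← Units.val_mul, ← Units.val_mul, hgy])
    have hall : ∀ b, g ∈ comG J i (f' b) := by
      intro b
      rcases hcases b with hb | rfl | rfl
      · rw [hfb b hb]; exact hcomS g hg b hb
      · rw [hfa]; exact hga
      · rw [mem_comG]
        have e : pr J (f' b) = 1 - ∑ c ∈ Finset.univ.erase b, pr J (f' c) := by
          rw [← hfr'.ob.sum_pr, ← Finset.add_sum_erase _ _ (Finset.mem_univ b), add_sub_cancel_right]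
        rw [e, embM_sub, embM_one, embM_sum, Matrix.mul_sub, Matrix.sub_mul, Matrix.mul_one, Matrix.one_mul,
          Finset.mul_sum, Finset.sum_mul]
        congr 1
        refine Finset.sum_congr rfl fun c hc => ?_
        rcases hcases c with hc' | rfl | rfl
        · rw [hfb c hc']; exact hcomS g hg c hc'
        · rw [hfa]; exact hga
        · exact absurd rfl (Finset.ne_of_mem_erase hc)
    have hm := hup g ((memE g).1 hg).1 (hcomS g hg) hga
    obtain ⟨A, cs, -, hA⟩ := pieces_prop_of_mono hf hfr'.ob hfr'.good (H.toHyp.iso_mem ((memE g).1 hg).1) hm hall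
    obtain ⟨b₀, hb₀⟩ : ∃ b₀ : Fin k, b₀.val = 0 := ⟨⟨0, by omega⟩, rfl⟩
    have h1 : pieceM J i (f' b₀) g.1 = 1 := pieceM_eq (hfr'.ne b₀) (hall b₀) fun y => by
      rw [Matrix.one_mulVec, hfb b₀ (by omega)]
      have := congrArg (· *ᵥ iv i y (f b₀)) (((memE g).1 hg).2.1 b₀ (by omega)).1
      simpa only [← Matrix.mulVec_mulVec, embM_mulVec_iv, pr_self J (hfr.ne b₀)] using this
    obtain ⟨hc0, e0⟩ := hA b₀
    rw [h1] at e0
    have hA1 : A = (cs b₀)⁻¹ • 1 := by rw [e0, smul_smul, inv_mul_cancel₀ hc0, one_smul]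
    obtain ⟨R, hR⟩ : ∃ R, R = ∑ b, (cs b * (cs b₀)⁻¹) • pr J (f' b) := ⟨_, rfl⟩
    have eg : g.1 = embM i R := by
      rw [embM_eq_ins, hR]
      exact eq_ins_of_pieces hfr'.ob hall fun b => by rw [(hA b).2, hA1, smul_smul]
    have hd : R.det ≠ 0 := fun h0 => by
      have h2 := ((Matrix.isUnit_iff_isUnit_det _).1 g.isUnit).ne_zero
      rw [eg, det_embM, h0] at h2
      exact h2 (zero_pow Fintype.card_ne_zero)
    obtain ⟨u, hu⟩ : ∃ u : GL (Fin k) F, u.1 = R := ⟨Matrix.GeneralLinearGroup.mkOfDetNeZero _ hd, rfl⟩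
    have e : g = embG i u := Units.ext (by rw [embG_val, hu, eg])
    have hui : u ∈ iso J := h.iso_of_emb (j := i) (e ▸ H.toHyp.iso_mem ((memE g).1 hg).1)
    refine ⟨u, e, hui, Units.ext (hfr'.ob.ext fun b => ?_)⟩
    have hub : u.1 *ᵥ f' b = (cs b * (cs b₀)⁻¹) • f' b := by
      rw [hu, hR, Matrix.sum_mulVec, Finset.sum_eq_single b, Matrix.smul_mulVec, pr_self J (hfr'.ne b)]
      · intro c _ hc; rw [Matrix.smul_mulVec, pr_perp J (hfr'.ob.orth c b hc), smul_zero]
      · exact fun hb => absurd (Finset.mem_univ _) hb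
    have hsq := h.bf_iso hui (f' b) (f' b)
    rw [hub, bf_smul_left, bf_smul_right, ← mul_assoc] at hsq
    rw [Units.val_mul, ← Matrix.mulVec_mulVec, hub, Matrix.mulVec_smul, hub, smul_smul,
      mul_right_cancel₀ (hfr'.ne b) (hsq.trans (one_mul _).symm), Units.val_one, Matrix.one_mulVec, one_smul]
  -- the part in the factor is central
  have central : ∀ R : GL (Fin k) F, embG i R ∈ E → ∀ g ∈ E, g.1 * embM i R.1 = embM i R.1 * g.1 := by
    intro R hRE g hg
    obtain ⟨hRM, hRS, hRρ⟩ := (memE _).1 hRE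
    have hRi : R ∈ iso J := h.iso_of_emb (j := i) (H.toHyp.iso_mem hRM)
    have hRf : ∀ b : Fin k, b.val < n → R.1 *ᵥ f b = f b := fun b hb => by
      have e := (hRS b hb).1
      rw [embG_val, embM_mul] at e
      have := congrArg (· *ᵥ f b) (embM_injective i e)
      simpa only [← Matrix.mulVec_mulVec, pr_self J (hfr.ne b)] using this
    have hgS := fun b hb => mem_comG.1 (hcomS g hg b hb)
    have hgρ := ((memE g).1 hg).2.2
    by_cases hl : Linked J f n
    · -- a polynomial in one rotation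
      obtain ⟨x, y, hx, hy, hxo, hyo, hxy, hyx⟩ := hl
      obtain ⟨f2, hfr2, hf2⟩ := hf.exists_frame_on (Finset.univ.filter fun c : Fin k => c.val ≤ n)
        (Function.update f nn x) (fun p hp p' hp' hne => by
          rw [Finset.mem_filter] at hp hp'
          by_cases h1 : p = nn
          · subst h1
            rw [Function.update_self, Function.update_of_ne (Ne.symm hne), h.bf_comm]
            exact hxo p' (lt_of_le_of_ne (hnn ▸ hp'.2) fun e => hne (Fin.ext (hnn.trans e.symm)))
          · by_cases h2 : p' = nn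
            · subst h2
              rw [Function.update_self, Function.update_of_ne h1]
              exact hxo p (lt_of_le_of_ne hp.2 fun e => h1 (Fin.ext (e.trans hnn.symm)))
            · rw [Function.update_of_ne h1, Function.update_of_ne h2]
              exact hfr.ob.orth p p' hne)
        (fun p _ => by
          by_cases h1 : p = nn
          · subst h1; rw [Function.update_self]; exact hx
          · rw [Function.update_of_ne h1]; exact hfr.good p)
      have h2b : ∀ b : Fin k, b.val < n → f2 b = f b := fun b hb => by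
        rw [hf2 b (Finset.mem_filter.2 ⟨Finset.mem_univ _, hb.le⟩),
          Function.update_of_ne (fun e : b = nn => by rw [e] at hb; omega)]
      have h2x : f2 nn = x := by rw [hf2 nn (Finset.mem_filter.2 ⟨Finset.mem_univ _, hnn.le⟩), Function.update_self]
      have hplane : ∀ v, (∀ b : Fin k, b.val < n → bf J (f b) v = 0) →
          ∃ p r : F, v = p • x + r • f2 mm := by
        intro v hv
        refine ⟨(bf J x x)⁻¹ * bf J x v, (bf J (f2 mm) (f2 mm))⁻¹ * bf J (f2 mm) v, ?_⟩
        conv_lhs => rw [← Matrix.one_mulVec v, ← hfr2.ob.sum_pr, Matrix.sum_mulVec]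
        rw [← Finset.sum_subset (Finset.subset_univ {nn, mm}) fun b _ hb => ?_, Finset.sum_pair hnm, pr_mulVec,
          pr_mulVec, h2x]
        simp only [Finset.mem_insert, Finset.mem_singleton, not_or] at hb
        rcases hcases b with hb' | rfl | rfl
        · rw [h2b b hb', pr_perp J (hv b hb')]
        · exact absurd rfl hb.1
        · exact absurd rfl hb.2
      obtain ⟨P, hP⟩ : ∃ P, P = rot J x * rot J y := ⟨_, rfl⟩
      have hPo : ∀ v, (∀ b : Fin k, b.val < n → bf J (f b) v = 0) → ∀ b : Fin k, b.val < n → bf J (f b) (P *ᵥ v) = 0 := by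
        intro v hv b hb
        have hPi : P.transpose * J * P = J := by
          rw [hP]; exact mem_iso.1 ((iso J).mul_mem (h.rotG_mem hx.1) (h.rotG_mem hy.1))
        have hPf : P *ᵥ f b = f b := by
          rw [hP, ← Matrix.mulVec_mulVec, rot_perp J (c := y) (x := f b) (by rw [h.bf_comm]; exact hyo b hb),
            Matrix.mulVec_neg, rot_perp J (c := x) (x := f b) (by rw [h.bf_comm]; exact hxo b hb), neg_neg]
        conv_lhs => rw [← hPf]
        rw [h.bf_iso hPi]; exact hv b hb
      have hPS : ∀ b : Fin k, b.val < n → P *ᵥ f b = f b := fun b hb => by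
        rw [hP, ← Matrix.mulVec_mulVec, rot_perp J (c := y) (x := f b) (by rw [h.bf_comm]; exact hyo b hb),
          Matrix.mulVec_neg, rot_perp J (c := x) (x := f b) (by rw [h.bf_comm]; exact hxo b hb), neg_neg]
      obtain ⟨p, r, hpr⟩ := hplane _ (hPo x hxo)
      have hr : r ≠ 0 := by
        intro e
        rw [e, zero_smul, add_zero] at hpr
        have hwy : bf J (f2 mm) y ≠ 0 := by
          intro e0
          obtain ⟨p', r', e'⟩ := hplane y hyo
          have hr' : r' = 0 := by
            have h5 := congrArg (bf J (f2 mm)) e'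
            rw [e0, bf_add_right, bf_smul_right, bf_smul_right,
              show bf J (f2 mm) x = 0 by rw [← h2x]; exact hfr2.ob.orth mm nn hnm.symm, mul_zero, zero_add] at h5
            exact (mul_eq_zero.1 h5.symm).resolve_right (hfr2.ne mm)
          exact hyx p' (by rw [e', hr', zero_smul, add_zero])
        have hxw : bf J x (f2 mm) = 0 := by rw [← h2x]; exact hfr2.ob.orth nn mm hnm
        have h5 := congrArg (bf J (f2 mm)) hpr
        rw [bf_smul_right, h.bf_comm (f2 mm) x, hxw, mul_zero, hP, ← Matrix.mulVec_mulVec] at h5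
        have h6 := h.bf_iso (h.rot_mem hx.1) (f2 mm) (rot J y *ᵥ x)
        rw [rot_perp J hxw, ← neg_one_smul F (f2 mm), bf_smul_left, h5, mul_zero, rot, Matrix.sub_mulVec,
          Matrix.smul_mulVec, Matrix.one_mulVec, pr_mulVec, smul_smul, bf_sub_right, bf_smul_right,
          h.bf_comm (f2 mm) x, hxw, sub_zero] at h6
        have h7 : (2 : F) * ((bf J y y)⁻¹ * bf J y x) * bf J (f2 mm) y = 0 := h6.symm
        exact (mul_ne_zero (mul_ne_zero h.two (mul_ne_zero (inv_ne_zero hy.1) (by rwa [h.bf_comm]))) hwy) h7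
      have hRo : ∀ v, (∀ b : Fin k, b.val < n → bf J (f b) v = 0) → ∀ b : Fin k, b.val < n → bf J (f b) (R.1 *ᵥ v) = 0 := by
        intro v hv b hb
        conv_lhs => rw [← hRf b hb]
        rw [h.bf_iso hRi]; exact hv b hb
      have hRP : R.1 * P = P * R.1 := by
        have e := hRρ x y hx hy hxo hyo
        rw [embG_val, embM_mul, embM_mul, ← hP] at e
        exact embM_injective i e
      obtain ⟨p', r', hpr'⟩ := hplane _ (hRo x hxo)
      obtain ⟨β, hβ⟩ : ∃ β, β = r' * r⁻¹ := ⟨_, rfl⟩
      obtain ⟨α, hα⟩ : ∃ α, α = p' - β * p := ⟨_, rfl⟩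
      obtain ⟨G, hG⟩ : ∃ G, G = α • (1 : Matrix (Fin k) (Fin k) F) + β • P +
          (1 - α - β) • ∑ b ∈ Finset.univ.filter (fun b : Fin k => b.val < n), pr J (f b) := ⟨_, rfl⟩
      have hGS : ∀ v, (∀ b : Fin k, b.val < n → bf J (f b) v = 0) → G *ᵥ v = α • v + β • (P *ᵥ v) := by
        intro v hv
        rw [hG, Matrix.add_mulVec, Matrix.add_mulVec, Matrix.smul_mulVec, Matrix.smul_mulVec, Matrix.smul_mulVec,
          Matrix.one_mulVec, Matrix.sum_mulVec, Finset.sum_eq_zero (fun b hb => pr_perp J (hv b (Finset.mem_filter.1 hb).2)),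
          smul_zero, add_zero]
      have hGx : G *ᵥ x = R.1 *ᵥ x := by
        rw [hGS x hxo, hpr', hpr, smul_add, smul_smul, smul_smul, ← add_assoc, ← add_smul,
          show α + β * p = p' by rw [hα]; ring, show β * r = r' by rw [hβ, inv_mul_cancel_right₀ hr]]
      have hGP : G * P = P * G := by
        rw [hG, Matrix.add_mul, Matrix.add_mul, Matrix.mul_add, Matrix.mul_add]
        congr 1
        · simp only [Matrix.smul_mul, Matrix.mul_smul, Matrix.one_mul, Matrix.mul_one]
        · rw [Matrix.smul_mul, Matrix.mul_smul, Finset.sum_mul, Finset.mul_sum]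
          refine congrArg _ (Finset.sum_congr rfl fun b hb => ?_)
          refine hfr2.ob.ext fun c => ?_
          rw [← Matrix.mulVec_mulVec, ← Matrix.mulVec_mulVec]
          have hb' := (Finset.mem_filter.1 hb).2
          rw [show pr J (f b) = pr J (f2 b) by rw [h2b b hb']]
          rcases hcases c with hc | rfl | rfl
          · rw [h2b c hc, hPS c hc, ← h2b c hc, hfr2.ob.pr_apply]
            split_ifs
            · rw [h2b c hc, hPS c hc]
            · rw [Matrix.mulVec_zero]
          all_goals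
            rw [h2b b hb', pr_perp J (hPo _ (fun d hd => by
              rw [← h2b d hd]; exact hfr2.ob.orth _ _ fun e => by rw [e] at hd; omega) b hb'),
              pr_perp J (by rw [← h2b b hb']; exact hfr2.ob.orth _ _ fun e => by rw [e] at hb'; omega),
              Matrix.mulVec_zero]
      have eR : R.1 = G := by
        refine hfr2.ob.ext fun c => ?_
        rcases hcases c with hc | rfl | rfl
        · rw [h2b c hc, hRf c hc, hG, Matrix.add_mulVec, Matrix.add_mulVec, Matrix.smul_mulVec, Matrix.smul_mulVec,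
            Matrix.smul_mulVec, Matrix.one_mulVec, hPS c hc, Matrix.sum_mulVec, Finset.sum_eq_single c,
            pr_self J (hfr.ne c), ← add_smul, ← add_smul, show α + β + (1 - α - β) = 1 by ring, one_smul]
          · intro b _ hbc; exact pr_perp J (hfr.ob.orth b c hbc)
          · exact fun hb => absurd (show c ∈ Finset.univ.filter (fun b : Fin k => b.val < n) by simp [hc]) hb
        · rw [h2x, hGx]
        · have hw : r • (R.1 *ᵥ f2 c) = r • (G *ᵥ f2 c) := by
            have e1 : R.1 *ᵥ (P *ᵥ x) = G *ᵥ (P *ᵥ x) := by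
              rw [Matrix.mulVec_mulVec, hRP, ← Matrix.mulVec_mulVec, ← hGx, Matrix.mulVec_mulVec, ← hGP,
                ← Matrix.mulVec_mulVec]
            rw [hpr, Matrix.mulVec_add, Matrix.mulVec_add, Matrix.mulVec_smul, Matrix.mulVec_smul, Matrix.mulVec_smul,
              Matrix.mulVec_smul, hGx, add_right_inj] at e1
            exact e1
          exact smul_right_injective _ hr hw
      rw [eR, hG, embM_add, embM_add, embM_smul, embM_smul, embM_smul, embM_one, embM_sum, Matrix.mul_add,
        Matrix.mul_add, Matrix.add_mul, Matrix.add_mul]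
      simp only [Matrix.mul_smul, Matrix.smul_mul, Matrix.mul_one, Matrix.one_mul, Finset.mul_sum, Finset.sum_mul]
      rw [hP, hgρ x y hx hy hxo hyo]
      refine congrArg _ (congrArg _ (Finset.sum_congr rfl fun b hb => hgS b (Finset.mem_filter.1 hb).2))
    · -- odd dimension: a rotation of the plane
      have ho : Odd k := Nat.not_even_iff_odd.1 fun he => hl (hlk he)
      obtain ⟨Rm, hRm⟩ : ∃ Rm, Rm = R.1 *ᵥ a := ⟨_, rfl⟩
      have hRa : bf J Rm Rm = bf J a a := by rw [hRm]; exact h.bf_iso hRi a a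
      have hRao : ∀ b : Fin k, b.val < n → bf J (f b) Rm = 0 := fun b hb => by
        rw [hRm]
        conv_lhs => rw [← hRf b hb]
        rw [h.bf_iso hRi]; exact hao b hb
      have hρa : ∀ x, (∀ b : Fin k, b.val < n → bf J (f b) x = 0) → ∀ b : Fin k, b.val < n →
          rot J x *ᵥ f b = -f b := fun x hx b hb => rot_perp J (by rw [h.bf_comm]; exact hx b hb)
      -- the rotation moving the line and a sign
      obtain ⟨x, hx0, hxo, W, hW, hWa, hWS⟩ : ∃ x, bf J x x ≠ 0 ∧ (∀ b : Fin k, b.val < n → bf J (f b) x = 0) ∧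
          ∃ W : GL (Fin k) F, (W = 1 ∨ W = rotG J a ha.1 * rotG J (f' mm) (hfr'.ne mm)) ∧
            rot J x *ᵥ (rot J a *ᵥ (W.1 *ᵥ a)) = Rm ∧ ∀ b : Fin k, b.val < n → W.1 *ᵥ f b = f b := by
        have hsum : bf J (a + Rm) (a + Rm) + bf J (a - Rm) (a - Rm) = 4 * bf J a a := by
          simp only [bf_add_left, bf_add_right, bf_sub_left, bf_sub_right]
          rw [hRa]; ring
        by_cases hp : bf J (a + Rm) (a + Rm) = 0
        · have hm : bf J (a - Rm) (a - Rm) ≠ 0 := by
            intro e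
            rw [hp, e, add_zero] at hsum
            exact mul_ne_zero (by rw [show (4 : F) = 2 * 2 by norm_num]; exact mul_ne_zero h.two h.two) ha.1 hsum.symm
          refine ⟨a - Rm, hm, fun b hb => by rw [bf_sub_right, hao b hb, hRao b hb, sub_zero],
            _, Or.inr rfl, ?_, fun b hb => ?_⟩
          · show rot J _ *ᵥ (rot J a *ᵥ ((rot J a * rot J (f' mm)) *ᵥ a)) = Rm
            rw [← Matrix.mulVec_mulVec, rot_perp J (c := f' mm) (x := a) (by
              rw [← hfa]; exact hfr'.ob.orth mm nn hnm.symm), Matrix.mulVec_neg, rot_self J ha.1, Matrix.mulVec_neg,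
              rot_self J ha.1, Matrix.mulVec_neg, rot, Matrix.sub_mulVec, Matrix.smul_mulVec, Matrix.one_mulVec,
              pr_mulVec, smul_smul]
            have e2 : 2 * ((bf J (a - Rm) (a - Rm))⁻¹ * bf J (a - Rm) a) = 1 := by
              have e3 : bf J (a - Rm) (a - Rm) = 2 * bf J (a - Rm) a := by
                simp only [bf_sub_left, bf_sub_right]
                rw [hRa, h.bf_comm a Rm]; ring
              rw [e3]
              field_simp [left_ne_zero_of_mul (e3 ▸ hm), right_ne_zero_of_mul (e3 ▸ hm)]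
            rw [e2, one_smul]
            abel
          · show (rot J a * rot J (f' mm)) *ᵥ f b = f b
            rw [← Matrix.mulVec_mulVec, hρa _ hmo b hb, Matrix.mulVec_neg, hρa _ hao b hb, neg_neg]
        · refine ⟨a + Rm, hp, fun b hb => by rw [bf_add_right, hao b hb, hRao b hb, add_zero],
            1, Or.inl rfl, ?_, fun b _ => Matrix.one_mulVec _⟩
          rw [Units.val_one, Matrix.one_mulVec, rot_self J ha.1, rot, Matrix.sub_mulVec, Matrix.smul_mulVec,
            Matrix.one_mulVec, pr_mulVec, smul_smul]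
          have e2 : 2 * ((bf J (a + Rm) (a + Rm))⁻¹ * bf J (a + Rm) a) = 1 := by
            have e3 : bf J (a + Rm) (a + Rm) = 2 * bf J (a + Rm) a := by
              simp only [bf_add_left, bf_add_right]
              rw [hRa, h.bf_comm a Rm]; ring
            rw [e3]
            field_simp [left_ne_zero_of_mul (e3 ▸ hp), right_ne_zero_of_mul (e3 ▸ hp)]
          rw [e2, one_smul, add_sub_cancel_left]
      have hmg := hfr'.good mm
      have hWM : embG i W ∈ M := by
        rcases hW with rfl | rfl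
        · rw [map_one]; exact M.one_mem
        · rw [map_mul]; exact M.mul_mem (H.toHyp.emb_rot i ha) (H.toHyp.emb_rot i hmg)
      obtain ⟨U, hU⟩ : ∃ U, U = rotG J x hx0 * rotG J a ha.1 * W := ⟨_, rfl⟩
      have hUi : U ∈ iso J := hU ▸ (iso J).mul_mem ((iso J).mul_mem (h.rotG_mem hx0) (h.rotG_mem ha.1)) (by
        rcases hW with rfl | rfl
        · exact (iso J).one_mem
        · exact (iso J).mul_mem (h.rotG_mem ha.1) (h.rotG_mem hmg.1))
      have hdU : U.1.det = 1 := by
        have hd := fun c hc => det_rot_odd (A := J) (c := c) (by rwa [Fintype.card_fin]) hc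
        rw [hU, Units.val_mul, Units.val_mul, Matrix.det_mul, Matrix.det_mul]
        rcases hW with rfl | rfl
        · show (rot J x).det * (rot J a).det * (1 : Matrix (Fin k) (Fin k) F).det = 1
          rw [hd x hx0, hd a ha.1, Matrix.det_one, one_mul, one_mul]
        · show (rot J x).det * (rot J a).det * (rot J a * rot J (f' mm)).det = 1
          simp only [Matrix.det_mul, hd x hx0, hd a ha.1, hd _ hmg.1, one_mul]
      obtain ⟨T, hT⟩ : ∃ T, T = U⁻¹ * R := ⟨_, rfl⟩
      have hTi : T ∈ iso J := hT ▸ (iso J).mul_mem ((iso J).inv_mem hUi) hRi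
      have hfix : ∀ v, R.1 *ᵥ v = U.1 *ᵥ v → T.1 *ᵥ v = v := fun v e => by
        rw [hT, Units.val_mul, ← Matrix.mulVec_mulVec, e, Matrix.mulVec_mulVec, U.inv_mul, Matrix.one_mulVec]
      have hTS : ∀ b : Fin k, b.val < n → T.1 *ᵥ f' b = f' b := fun b hb => by
        refine hfix _ ?_
        rw [hfb b hb, hRf b hb, hU, Units.val_mul, Units.val_mul, ← Matrix.mulVec_mulVec, ← Matrix.mulVec_mulVec,
          hWS b hb]
        show _ = rot J x *ᵥ (rot J a *ᵥ f b)
        rw [hρa a hao b hb, Matrix.mulVec_neg, hρa x hxo b hb, neg_neg]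
      have hTa : T.1 *ᵥ f' nn = f' nn := hfix _ (by
        rw [hfa, ← hRm, ← hWa, hU, Units.val_mul, Units.val_mul, ← Matrix.mulVec_mulVec, ← Matrix.mulVec_mulVec]
        rfl)
      -- on the last line a sign, which is positive
      obtain ⟨ε, hε⟩ : ∃ ε, T.1 *ᵥ f' mm = ε • f' mm := by
        refine ⟨(bf J (f' mm) (f' mm))⁻¹ * bf J (f' mm) (T.1 *ᵥ f' mm), ?_⟩
        conv_lhs => rw [← Matrix.one_mulVec (T.1 *ᵥ f' mm), ← hfr'.ob.sum_pr, Matrix.sum_mulVec]
        rw [Finset.sum_eq_single mm, pr_mulVec]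
        · intro b _ hb
          refine pr_perp J ?_
          have hTb : T.1 *ᵥ f' b = f' b := by
            rcases hcases b with h1 | rfl | rfl
            exacts [hTS b h1, hTa, absurd rfl hb]
          conv_lhs => rw [← hTb]
          rw [h.bf_iso hTi]
          exact hfr'.ob.orth b mm hb
        · exact fun hb => absurd (Finset.mem_univ _) hb
      have hε2 : ε * ε = 1 := by
        have := h.bf_iso hTi (f' mm) (f' mm)
        rw [hε, bf_smul_left, bf_smul_right, ← mul_assoc] at this
        exact mul_right_cancel₀ (hfr'.ne mm) (this.trans (one_mul _).symm)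
      have hdR : R.1.det = 1 := by
        have hd1 : (embM (τ := τ) i R.1).det = 1 := by
          have h1 := H.le hRM
          rw [amb, if_pos ho] at h1
          exact det_of_mem_Om h1
        rw [det_embM] at hd1
        have hRR : R.1.det * R.1.det = 1 := by
          have := congrArg Matrix.det (mem_iso.1 hRi)
          rw [Matrix.det_mul, Matrix.det_mul, Matrix.det_transpose] at this
          exact mul_right_cancel₀ h.det (by linear_combination this)
        have hodd : Odd (Fintype.card (Ix (Rest i) k)) := by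
          rw [Fintype.card_fun, Fintype.card_fin]; exact ho.pow
        obtain ⟨m, hm⟩ := hodd
        rw [hm, pow_succ, pow_mul, pow_two, hRR, one_pow, one_mul] at hd1
        exact hd1
      have hε1 : ε = 1 := by
        rcases mul_self_eq_one_iff.1 hε2 with e | e
        · exact e
        exfalso
        have hdT : T.1.det = 1 := by
          rw [hT, Units.val_mul, Matrix.det_mul, hdR, mul_one]
          have := congrArg Matrix.det U.inv_mul
          rw [Matrix.det_mul, hdU, mul_one, Matrix.det_one] at this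
          exact this
        have eT : T.1 = (-1 : F) • rot J (f' mm) := hfr'.ob.ext fun b => by
          rw [Matrix.smul_mulVec, neg_one_smul, hfr'.ob.rot_apply]
          rcases hcases b with h1 | rfl | rfl
          · rw [hTS b h1, if_neg (fun e' : mm = b => by rw [← e'] at h1; omega), neg_neg]
          · rw [hTa, if_neg hnm.symm, neg_neg]
          · rw [hε, e, if_pos rfl, neg_one_smul]
        rw [eT, Matrix.det_smul, Fintype.card_fin, ho.neg_one_pow,
          det_rot_odd (by rwa [Fintype.card_fin]) (hfr'.ne mm), mul_one] at hdT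
        exact h.two (by linear_combination -hdT)
      have hT1 : T = 1 := Units.ext (hfr'.ob.ext fun b => by
        rw [Units.val_one, Matrix.one_mulVec]
        rcases hcases b with h1 | rfl | rfl
        exacts [hTS b h1, hTa, by rw [hε, hε1, one_smul]])
      have hRU : R = U := by rw [← mul_one U, ← hT1, hT, mul_inv_cancel_left]
      have hxg : Good J x := H.toHyp.good_of_mem i hx0 (by
        have e : embG (τ := τ) i (rotG J x hx0) = embG i R * (embG i W)⁻¹ * (embG i (rotG J a ha.1))⁻¹ := by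
          rw [hRU, hU, map_mul, map_mul]; group
        rw [e]
        exact M.mul_mem (M.mul_mem hRM (M.inv_mem hWM)) (M.inv_mem (H.toHyp.emb_rot i ha)))
      have e1 := hgρ x a hxg ha hxo hao
      rw [hRU, hU, Units.val_mul, Units.val_mul]
      rcases hW with rfl | rfl
      · show g.1 * embM i (rot J x * rot J a * 1) = embM i (rot J x * rot J a * 1) * g.1
        rw [Matrix.mul_one]; exact e1
      · show g.1 * embM i (rot J x * rot J a * (rot J a * rot J (f' mm))) =
          embM i (rot J x * rot J a * (rot J a * rot J (f' mm))) * g.1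
        rw [← embM_mul i (rot J x * rot J a), ← Matrix.mul_assoc, e1, Matrix.mul_assoc,
          hgρ a (f' mm) ha hmg hao hmo, ← Matrix.mul_assoc]
  -- automorphisms
  have hnorm : ∀ X : GL (Ix τ k) F, X ∈ M →
      (∀ b : Fin k, b.val < n → X.1 * embM i (pr J (f b)) = embM i (pr J (f b)) * X.1) →
      (∀ x y, Good J x → Good J y → (∀ b : Fin k, b.val < n → bf J (f b) x = 0) →
        (∀ b : Fin k, b.val < n → bf J (f b) y = 0) →
        ∀ g ∈ E, g.1 * ((X⁻¹).1 * embM i (rot J x * rot J y) * X.1) =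
          (X⁻¹).1 * embM i (rot J x * rot J y) * X.1 * g.1) →
      ∀ g ∈ E, X * g * X⁻¹ ∈ E := by
    intro X hXM hXS hXρ g hg
    refine (memE _).2 ⟨M.mul_mem (M.mul_mem hXM ((memE g).1 hg).1) (M.inv_mem hXM), fun b hb => ?_,
      fun x y h1 h2 h3 h4 => ?_⟩
    · obtain ⟨e1, e2⟩ := ((memE g).1 hg).2.1 b hb
      have hX' := hXS b hb
      have hXi : (X⁻¹).1 * embM i (pr J (f b)) = embM i (pr J (f b)) * (X⁻¹).1 := by
        have := congrArg (fun Z => (X⁻¹).1 * Z * (X⁻¹).1) hX'
        simpa only [Matrix.mul_assoc, Units.mul_inv, Matrix.mul_one, Units.inv_mul_cancel_left] using this.symm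
      constructor
      · rw [Units.val_mul, Units.val_mul, Matrix.mul_assoc, hXi, Matrix.mul_assoc, ← Matrix.mul_assoc g.1, e1,
          ← Matrix.mul_assoc, hX', Matrix.mul_assoc, X.mul_inv, Matrix.mul_one]
      · rw [Units.val_mul, Units.val_mul, ← Matrix.mul_assoc, ← Matrix.mul_assoc, ← hX', Matrix.mul_assoc X.1,
          e2, hX', Matrix.mul_assoc, X.mul_inv, Matrix.mul_one]
    · have e := hXρ x y h1 h2 h3 h4 g hg
      generalize embM i (rot J x * rot J y) = P at e ⊢
      have := congrArg (fun Z => X.1 * Z * (X⁻¹).1) e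
      simpa only [Units.val_mul, Matrix.mul_assoc, Units.mul_inv, Matrix.mul_one, Units.mul_inv_cancel_left] using this
  have hnY : ∀ g ∈ E, Y * g * Y ∈ E := by
    intro g hg
    have := hnorm Y hYM (fun b hb => by
      rw [hYv, embM_mul, embM_mul]
      congr 1
      rw [rot, Matrix.sub_mul, Matrix.mul_sub, Matrix.smul_mul, Matrix.mul_smul, Matrix.one_mul, Matrix.mul_one,
        pr_mul_perp J (hao b hb), pr_mul_perp J (show bf J a (f b) = 0 by rw [h.bf_comm]; exact hao b hb)])
      (fun x y h1 h2 h3 h4 g' hg' => by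
        have hσ : ∀ z, (∀ b : Fin k, b.val < n → bf J (f b) z = 0) →
            ∀ b : Fin k, b.val < n → bf J (f b) (rot J a *ᵥ z) = 0 := by
          intro z hz b hb
          have hfb : rot J a *ᵥ (-f b) = f b := by
            rw [Matrix.mulVec_neg, rot_perp J (c := a) (x := f b) (by rw [h.bf_comm]; exact hao b hb), neg_neg]
          conv_lhs => rw [← hfb]
          rw [h.bf_iso (h.rot_mem ha.1), ← neg_one_smul F (f b), bf_smul_left, hz b hb, mul_zero]
        rw [hYi, hYv, embM_mul, embM_mul,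
          show rot J a * (rot J x * rot J y) * rot J a = rot J (rot J a *ᵥ x) * rot J (rot J a *ᵥ y) from ?_]
        · exact ((memE g').1 hg').2.2 _ _ (h1.map h (g := rotG J a ha.1) (h.rotG_mem ha.1))
            (h2.map h (g := rotG J a ha.1) (h.rotG_mem ha.1)) (hσ x h3) (hσ y h4)
        · have cx := h.conj_rot (g := rotG J a ha.1) (h.rotG_mem ha.1) x
          have cy := h.conj_rot (g := rotG J a ha.1) (h.rotG_mem ha.1) y
          change rot J a * rot J x * rot J a = rot J (rot J a *ᵥ x) at cx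
          change rot J a * rot J y * rot J a = rot J (rot J a *ᵥ y) at cy
          rw [← cx, ← cy]
          simp only [Matrix.mul_assoc]
          rw [← Matrix.mul_assoc (rot J a) (rot J a), rot_mul_self J ha.1, Matrix.one_mul]) g hg
    rwa [hYi] at this
  have hnoth : ∀ (o : τ), o ≠ i → ∀ l : GL (Fin k) F, embG o l ∈ M → ∀ g ∈ E, embG o l * g * (embG o l)⁻¹ ∈ E :=
    fun o ho l hl => hnorm _ hl (fun b _ => by rw [embG_val]; exact embM_comm ho _ _)
      fun x y h1 h2 h3 h4 g hg => by
        rw [show ((embG o l)⁻¹).1 * embM i (rot J x * rot J y) * (embG o l).1 = embM i (rot J x * rot J y) from ?_]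
        · exact ((memE g).1 hg).2.2 x y h1 h2 h3 h4
        · rw [← map_inv, embG_val, embG_val, embM_comm ho, Matrix.mul_assoc, embM_mul, l.inv_mul, embM_one,
            Matrix.mul_one]
  -- the central part and the centre
  obtain ⟨Z, hZ⟩ : ∃ Z : Subgroup E, Z = ((embG (F := F) (k := k) (τ := τ) i).range).comap E.subtype := ⟨_, rfl⟩
  have memZ : ∀ g : E, g ∈ Z ↔ ∃ R, embG i R = g.1 := fun g => by rw [hZ]; rfl
  have hZc : ∀ z ∈ Z, ∀ g : E, z * g = g * z := by
    intro z hz g
    obtain ⟨R, hR⟩ := (memZ z).1 hz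
    refine Subtype.ext (Units.ext ?_)
    show z.1.1 * g.1.1 = g.1.1 * z.1.1
    rw [← hR, embG_val, central R (hR ▸ z.2) g.1 g.2]
  haveI hZn : Z.Normal := ⟨fun z hz g => by rw [← hZc z hz, mul_inv_cancel_right]; exact hz⟩
  have hZfix : ∀ g : E, Y * g.1 = g.1 * Y → g ∈ Z := fun g hg => by
    obtain ⟨R, e, -, -⟩ := small g.1 g.2 hg
    exact (memZ g).2 ⟨R, e.symm⟩
  -- conjugation by the rotation
  let φ : E →* E :=
    { toFun := fun g => ⟨Y * g.1 * Y, hnY g.1 g.2⟩
      map_one' := Subtype.ext (by show Y * 1 * Y = 1; rw [mul_one, hYY])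
      map_mul' := fun g g' => Subtype.ext (by
        show Y * (g.1 * g'.1) * Y = Y * g.1 * Y * (Y * g'.1 * Y)
        calc Y * (g.1 * g'.1) * Y = Y * g.1 * (Y * Y) * g'.1 * Y := by rw [hYY]; group
          _ = _ := by group) }
  have hφv : ∀ g : E, (φ g).1 = Y * g.1 * Y := fun g => rfl
  have hφφ : ∀ g, φ (φ g) = g := fun g => Subtype.ext (by
    rw [hφv, hφv, ← mul_assoc, ← mul_assoc, hYY, one_mul, mul_assoc, hYY, mul_one])
  have hφZ : ∀ z ∈ Z, φ z ∈ Z := fun z hz => by
    obtain ⟨R, hR⟩ := (memZ z).1 hz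
    exact (memZ _).2 ⟨rotG J a ha.1 * R * rotG J a ha.1, by rw [map_mul, map_mul, hR, hφv, hY]⟩
  -- a fixed coset is central
  have hfixed : ∀ g : E, g⁻¹ * φ g ∈ Z → g ∈ Z := by
    intro g hg
    refine (memZ g).2 ?_
    have hcen : ∀ o : τ, o ≠ i → Cen o g.1.1 := by
      intro o ho
      refine cen_of_comm (S := {x | ∃ l ∈ Lc J, l.1 = x}) (fun X hX => hf.core.cent X fun l hl => hX _ ⟨l, hl, rfl⟩)
        fun x ⟨m, hm, hx⟩ => ?_
      subst hx
      have hlM : ∀ l ∈ Lc J, embG o l ∈ M := fun l hl => H.toHyp.emb_om o (lc_le _ hl)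
      have hstep : ∀ l ∈ Lc J, ∃ z : E, z ∈ Z ∧ g.1⁻¹ * embG o l * g.1 = z.1 * embG o l := by
        intro l hl
        obtain ⟨l', hl'⟩ : ∃ l', l' = embG (τ := τ) o l := ⟨_, rfl⟩
        have hc : l' * Y = Y * l' := by
          rw [hl', hY]; exact Units.ext (embM_comm ho _ _)
        obtain ⟨z, hzd⟩ : ∃ z : E, z = g⁻¹ * ⟨l' * g.1 * l'⁻¹, hl' ▸ hnoth o ho l (hlM l hl) g.1 g.2⟩ := ⟨_, rfl⟩
        refine ⟨z, hZfix z ?_, ?_⟩
        · obtain ⟨R, hR⟩ := (memZ _).1 hg
          have hYg : Y * g.1 * Y = g.1 * embG i R := by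
            rw [hR, Subgroup.coe_mul, Subgroup.coe_inv, hφv, mul_inv_cancel_left]
          have hlR : embG i R * l'⁻¹ = l'⁻¹ * embG i R := by
            rw [hl', ← map_inv]; exact Units.ext (embM_comm ho.symm _ _)
          have hl2 : Y * (l' * g.1 * l'⁻¹) * Y = l' * g.1 * l'⁻¹ * embG i R := by
            have hc' : l'⁻¹ * Y = Y * l'⁻¹ := ((show Commute l' Y from hc).inv_left).eq
            calc Y * (l' * g.1 * l'⁻¹) * Y = (Y * l') * g.1 * (l'⁻¹ * Y) := by group
              _ = l' * (Y * g.1 * Y) * l'⁻¹ := by rw [← hc, hc']; group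
              _ = l' * (g.1 * (embG i R * l'⁻¹)) := by rw [hYg]; group
              _ = _ := by rw [hlR]; group
          have key : Y * z.1 * Y = (embG i R)⁻¹ * z.1 * embG i R := by
            rw [hzd, Subgroup.coe_mul, Subgroup.coe_inv]
            calc Y * (g.1⁻¹ * (l' * g.1 * l'⁻¹)) * Y = (Y * g.1 * Y)⁻¹ * (Y * (l' * g.1 * l'⁻¹) * Y) := by
                  simp only [_root_.mul_inv_rev, hYi, mul_assoc]
                  rw [← mul_assoc Y Y, hYY, one_mul]
              _ = _ := by rw [hYg, hl2]; group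
          have hRz : embG i R * z.1 = z.1 * embG i R := by
            rw [hR]
            exact congrArg Subtype.val (hZc _ hg z)
          rw [mul_assoc ((embG i R)⁻¹), ← hRz, inv_mul_cancel_left] at key
          calc Y * z.1 = Y * z.1 * Y * Y := by rw [mul_assoc _ Y Y, hYY, mul_one]
            _ = _ := by rw [key]
        · rw [hzd, Subgroup.coe_mul, Subgroup.coe_inv]
          subst hl'
          group
      have hle : Lc J ≤ (Subgroup.centralizer {g.1}).comap (embG o) := by
        conv_lhs => rw [← hf.core.perf]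
        refine Subgroup.commutator_le.2 fun l1 hl1 l2 hl2 => ?_
        rw [Subgroup.mem_comap, Subgroup.mem_centralizer_singleton_iff]
        obtain ⟨z1, hz1, e1⟩ := hstep l1 hl1
        obtain ⟨z2, hz2, e2⟩ := hstep l2 hl2
        obtain ⟨R1, hR1⟩ := (memZ z1).1 hz1
        obtain ⟨R2, hR2⟩ := (memZ z2).1 hz2
        have cm : ∀ R l : GL (Fin k) F, Commute (embG (τ := τ) i R) (embG o l) := fun R l => Units.ext (embM_comm ho.symm _ _)
        have h5 : g.1⁻¹ * embG o ⁅l1, l2⁆ * g.1 = embG o ⁅l1, l2⁆ := by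
          calc g.1⁻¹ * embG o ⁅l1, l2⁆ * g.1 = ⁅g.1⁻¹ * embG o l1 * g.1, g.1⁻¹ * embG o l2 * g.1⁆ := by
                rw [map_commutatorElement]; simp only [commutatorElement_def]; group
            _ = _ := by
                rw [e1, e2, map_commutatorElement]
                refine commutator_mul_commute ?_ (hR1 ▸ cm R1 l1) (hR1 ▸ cm R1 l2) (hR2 ▸ cm R2 l1) (hR2 ▸ cm R2 l2)
                exact congrArg Subtype.val (hZc z1 hz1 z2)
        calc embG o ⁅l1, l2⁆ * g.1 = g.1 * (g.1⁻¹ * embG o ⁅l1, l2⁆ * g.1) := by group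
          _ = _ := by rw [h5]
      have h6 := Subgroup.mem_centralizer_singleton_iff.1 (hle hm)
      exact (congrArg Units.val h6).symm
    obtain ⟨R, hR⟩ := eq_embM_of_cen i hcen
    have hd : R.det ≠ 0 := fun h0 => by
      have h2 := ((Matrix.isUnit_iff_isUnit_det _).1 g.1.isUnit).ne_zero
      rw [hR, det_embM, h0] at h2
      exact h2 (zero_pow Fintype.card_ne_zero)
    exact ⟨Matrix.GeneralLinearGroup.mkOfDetNeZero _ hd, Units.ext hR.symm⟩
  -- the quotient is inverted
  haveI : Finite (E ⧸ Z) := inferInstance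
  let ψ : (E ⧸ Z) →* (E ⧸ Z) := QuotientGroup.map Z Z φ hφZ
  have hψ : ∀ g : E, ψ (g : E ⧸ Z) = ((φ g : E) : E ⧸ Z) := fun g => rfl
  have hfpf : MonoidHom.FixedPointFree ψ := by
    intro x hx
    induction x using QuotientGroup.induction_on with
    | _ g =>
      rw [hψ, eq_comm, QuotientGroup.eq] at hx
      exact (QuotientGroup.eq_one_iff g).2 (hfixed g hx)
  have hinv : Function.Involutive ψ := by
    intro x
    induction x using QuotientGroup.induction_on with
    | _ g => rw [hψ, hψ, hφφ]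
  have hneg : ∀ g : E, φ g * g ∈ Z := by
    intro g
    have h1 : ψ (g : E ⧸ Z) = ((g : E ⧸ Z))⁻¹ := congrFun (hfpf.coe_eq_inv_of_involutive hinv) _
    rw [hψ] at h1
    rw [← QuotientGroup.eq_one_iff, QuotientGroup.mk_mul, h1, inv_mul_cancel]
  have hcommZ : ∀ g g' : E, ⁅g, g'⁆ ∈ Z := fun g g' => by
    rw [← QuotientGroup.eq_one_iff, ← QuotientGroup.mk'_apply, map_commutatorElement,
      commutatorElement_eq_one_iff_mul_comm]
    exact (hfpf.commute_all_of_involutive hinv _ _).eq
  have hc2 : ∀ g g' : E, ⁅g, g'⁆ * ⁅g, g'⁆ = 1 := by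
    intro g g'
    have hfix : φ ⁅g, g'⁆ = ⁅g, g'⁆ := by
      have hz : ∀ x : E, ∃ z ∈ Z, φ x = z * x⁻¹ := fun x => ⟨φ x * x, hneg x, by rw [mul_inv_cancel_right]⟩
      obtain ⟨z, hz1, e1⟩ := hz g
      obtain ⟨z', hz2, e2⟩ := hz g'
      rw [map_commutatorElement, e1, e2,
        commutator_mul_commute (hZc z hz1 z') (hZc z hz1 _) (hZc z hz1 _) (hZc z' hz2 _) (hZc z' hz2 _)]
      calc ⁅g⁻¹, g'⁻¹⁆ = (g' * g)⁻¹ * ⁅g, g'⁆ * (g' * g) := by simp only [commutatorElement_def]; group
        _ = _ := by rw [mul_assoc, hZc _ (hcommZ g g'), inv_mul_cancel_left]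
    obtain ⟨c, hc⟩ : ∃ c, c = ⁅g, g'⁆ := ⟨_, rfl⟩
    rw [← hc] at hfix ⊢
    obtain ⟨R, e, -, hRR⟩ := small c.1 c.2 (by
      have := congrArg Subtype.val hfix
      rw [hφv] at this
      calc Y * c.1 = Y * c.1 * Y * Y := by rw [mul_assoc _ Y Y, hYY, mul_one]
        _ = _ := by rw [this])
    exact Subtype.ext (by rw [Subgroup.coe_mul, e, ← map_mul, hRR, map_one]; rfl)
  -- the centre is in the factor
  have hcenter : ∀ v : E, (∀ g : E, v * g = g * v) → v ∈ Z := by
    obtain ⟨C, hC⟩ : ∃ C : Subgroup (GL (Ix τ k) F), C = (Subgroup.center E).map E.subtype := ⟨_, rfl⟩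
    have memC : ∀ v, v ∈ C ↔ ∃ hv : v ∈ E, ∀ g ∈ E, v * g = g * v := by
      intro v
      rw [hC, Subgroup.mem_map]
      constructor
      · rintro ⟨⟨w, hw⟩, hwc, rfl⟩
        exact ⟨hw, fun g hg => (congrArg Subtype.val (Subgroup.mem_center_iff.1 hwc ⟨g, hg⟩)).symm⟩
      · rintro ⟨hv, hvc⟩
        exact ⟨⟨v, hv⟩, Subgroup.mem_center_iff.2 fun g => Subtype.ext (hvc g.1 g.2).symm, rfl⟩
    have hCconj : ∀ X : GL (Ix τ k) F, (∀ g ∈ E, X * g * X⁻¹ ∈ E) → (∀ g ∈ E, X⁻¹ * g * X ∈ E) →
        ∀ v ∈ C, X * v * X⁻¹ ∈ C := by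
      intro X h1 h2 v hv
      obtain ⟨hvE, hvc⟩ := (memC v).1 hv
      refine (memC _).2 ⟨h1 v hvE, fun g hg => ?_⟩
      calc X * v * X⁻¹ * g = X * (v * (X⁻¹ * g * X)) * X⁻¹ := by group
        _ = _ := by rw [hvc _ (h2 g hg)]; group
    have hCl : ∀ o : τ, o ≠ i → ∀ l : GL (Fin k) F, embG o l ∈ M → ∀ v ∈ C, embG o l * v * (embG o l)⁻¹ ∈ C :=
      fun o ho l hl => hCconj _ (hnoth o ho l hl) fun g hg => by
        have := hnoth o ho l⁻¹ (by rw [map_inv]; exact M.inv_mem hl) g hg
        rwa [map_inv, inv_inv] at this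
    -- no unipotent element
    have huni : ∀ v ∈ C, IsNilpotent (v.1 - 1) → v = 1 := by
      intro v hv hvn
      obtain ⟨P0, hP0⟩ : ∃ P0 : Set (GL (Ix τ k) F), P0 = {v | v ∈ C ∧ IsNilpotent (v.1 - 1)} := ⟨_, rfl⟩
      have hP0f : P0.Finite := Set.toFinite _
      obtain ⟨Pl, hPl⟩ : ∃ Pl : Matrix (Ix τ k) (Ix τ k) F, Pl = embM i (pr J a) + embM i (pr J (f' mm)) := ⟨_, rfl⟩
      have hsum : embM i (pr J a) + embM i (pr J (f' mm)) +
          ∑ b ∈ Finset.univ.filter (fun b : Fin k => b.val < n), embM i (pr J (f b)) = 1 := by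
        rw [← embM_one i, ← hfr'.ob.sum_pr, embM_sum,
          ← Finset.sum_filter_add_sum_filter_not Finset.univ (fun b : Fin k => b.val < n), add_comm]
        congr 1
        · exact Finset.sum_congr rfl fun b hb => by rw [hfb b (Finset.mem_filter.1 hb).2]
        · rw [show Finset.univ.filter (fun b : Fin k => ¬ b.val < n) = {nn, mm} from Finset.ext fun b => by
            simp only [Finset.mem_filter, Finset.mem_univ, true_and, Finset.mem_insert, Finset.mem_singleton,
              Fin.ext_iff, hnn, hmm]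
            have := b.isLt
            omega, Finset.sum_pair hnm, hfa]
      have hPlc : ∀ w ∈ E, Pl * w.1 = w.1 * Pl := by
        intro w hw
        rw [hPl, eq_sub_of_add_eq hsum, Matrix.mul_sub, Matrix.sub_mul, Matrix.one_mul, Matrix.mul_one, Finset.mul_sum,
          Finset.sum_mul]
        exact congrArg _ (Finset.sum_congr rfl fun b hb =>
          (mem_comG.1 (hcomS w hw b (Finset.mem_filter.1 hb).2)).symm)
      have hperp : pr J a * pr J (f' mm) = 0 ∧ pr J (f' mm) * pr J a = 0 := by
        rw [← hfa]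
        exact ⟨pr_mul_perp J (hfr'.ob.orth nn mm hnm), pr_mul_perp J (hfr'.ob.orth mm nn hnm.symm)⟩
      have hPlPl : Pl * Pl = Pl := by
        rw [hPl, ← embM_add, embM_mul, Matrix.add_mul, Matrix.mul_add, Matrix.mul_add, pr_mul_self J ha.1,
          pr_mul_self J (hfr'.ne mm), hperp.1, hperp.2, add_zero, zero_add]
      have hPa : (pr J a + pr J (f' mm)) *ᵥ a = a := by
        rw [Matrix.add_mulVec, pr_self J ha.1, pr_perp J (show bf J (f' mm) a = 0 by
          rw [← hfa]; exact hfr'.ob.orth mm nn hnm.symm), add_zero]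
      obtain ⟨x, hx0, hxPl, hxk⟩ := exists_common_kernel (P := Pl) ⟨iv i (fun _ => 1) a, fun e => by
          rw [hPl, ← embM_add, embM_mulVec_iv, hPa] at e
          have := iv_left_injective i ha.1 (e.trans (iv_zero_left i a).symm)
          exact one_ne_zero (congrFun this fun _ => (0 : Fin k))⟩ hPlPl
        (hP0f.toFinset.image fun w => w.1 - 1)
        (fun N hN => by
          obtain ⟨w, hw, rfl⟩ := Finset.mem_image.1 hN
          rw [Set.Finite.mem_toFinset, hP0] at hw
          exact hw.2)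
        (fun N hN N' hN' => by
          obtain ⟨w, hw, rfl⟩ := Finset.mem_image.1 hN
          obtain ⟨w', hw', rfl⟩ := Finset.mem_image.1 hN'
          rw [Set.Finite.mem_toFinset, hP0] at hw hw'
          have e := congrArg Units.val (((memC w).1 hw.1).2 w' ((memC w').1 hw'.1).1)
          rw [Units.val_mul, Units.val_mul] at e
          simp only [Matrix.sub_mul, Matrix.mul_sub, Matrix.one_mul, Matrix.mul_one, e]
          abel)
        (fun N hN => by
          obtain ⟨w, hw, rfl⟩ := Finset.mem_image.1 hN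
          rw [Set.Finite.mem_toFinset, hP0] at hw
          rw [Matrix.mul_sub, Matrix.sub_mul, Matrix.mul_one, Matrix.one_mul, hPlc w ((memC w).1 hw.1).1])
      obtain ⟨W, hW⟩ : ∃ W : Submodule F (Ix τ k → F), ∀ z, z ∈ W ↔ ∀ w ∈ P0, w.1 *ᵥ z = z :=
        ⟨{ carrier := {z | ∀ w ∈ P0, w.1 *ᵥ z = z}
           add_mem' := fun {a b} h1 h2 w hw => by rw [Matrix.mulVec_add, h1 w hw, h2 w hw]
           zero_mem' := fun w _ => Matrix.mulVec_zero _
           smul_mem' := fun c {a} h1 w hw => by rw [Matrix.mulVec_smul, h1 w hw] }, fun z => Iff.rfl⟩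
      have hxW : x ∈ W := (hW x).2 fun w hw => by
        have := hxk (w.1 - 1) (Finset.mem_image.2 ⟨w, hP0f.mem_toFinset.2 hw, rfl⟩)
        rwa [Matrix.sub_mulVec, Matrix.one_mulVec, sub_eq_zero] at this
      have hstab : ∀ X : GL (Ix τ k) F, (∀ w ∈ P0, X⁻¹ * w * X ∈ P0) → ∀ z ∈ W, X.1 *ᵥ z ∈ W := by
        intro X hX z hz
        refine (hW _).2 fun w hw => ?_
        have := (hW z).1 hz _ (hX w hw)
        have h2 := congrArg (X.1 *ᵥ ·) this
        simpa only [Units.val_mul, Matrix.mulVec_mulVec, ← Matrix.mul_assoc, Units.mul_inv, Matrix.one_mul] using h2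
      have hPconj : ∀ X : GL (Ix τ k) F, (∀ v ∈ C, X⁻¹ * v * X ∈ C) → ∀ w ∈ P0, X⁻¹ * w * X ∈ P0 := by
        intro X hX w hw
        rw [hP0] at hw ⊢
        refine ⟨hX w hw.1, ?_⟩
        obtain ⟨m, hm⟩ := hw.2
        refine ⟨m, ?_⟩
        rw [show (X⁻¹ * w * X).1 - 1 = (X⁻¹).1 * (w.1 - 1) * X.1 by
          rw [Matrix.mul_sub, Matrix.sub_mul, Matrix.mul_one, X.inv_mul, Units.val_mul, Units.val_mul],
          Units.conj_pow' X (w.1 - 1), hm, Matrix.mul_zero, Matrix.zero_mul]
      have hYC : ∀ v ∈ C, Y⁻¹ * v * Y ∈ C := fun v hv => by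
        rw [hYi]
        have := hCconj Y (fun g hg => by rw [hYi]; exact hnY g hg) (fun g hg => by rw [hYi]; exact hnY g hg) v hv
        rwa [hYi] at this
      have hrot2 : ∀ (j : τ) (c : Fin k → F), embM j (pr J c) = (2 : F)⁻¹ • (embM j (rot J c) + 1) := fun j c => by
        rw [← embM_one j, ← embM_add, ← embM_smul, rot, sub_add_cancel, smul_smul, inv_mul_cancel₀ h.two, one_smul]
      have hWrot : ∀ o : τ, o ≠ i → ∀ c, Good J c → ∀ z ∈ W, embM o (pr J c) *ᵥ z ∈ W := by
        intro o ho c hc z hz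
        have h1 := hstab (embG o (rotG J c hc.1)) (hPconj _ fun v hv => by
          have := hCl o ho (rotG J c hc.1)⁻¹ (by rw [map_inv]; exact M.inv_mem (H.toHyp.emb_rot o hc)) v hv
          rwa [map_inv, inv_inv] at this) z hz
        rw [hrot2, Matrix.smul_mulVec, Matrix.add_mulVec, Matrix.one_mulVec]
        exact W.smul_mem _ (W.add_mem h1 hz)
      have hWS : ∀ b : Fin k, b.val < n → ∀ z ∈ W, embM i (pr J (f b)) *ᵥ z ∈ W := fun b hb z _ => (hW _).2 fun w hw => by
        rw [hP0] at hw
        rw [Matrix.mulVec_mulVec, (((memE w).1 ((memC w).1 hw.1).1).2.1 b hb).1]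
      have hWa : ∀ z ∈ W, embM i (pr J a) *ᵥ z ∈ W := fun z hz => by
        have h1 := hstab Y (hPconj _ hYC) z hz
        rw [hYv] at h1
        rw [hrot2, Matrix.smul_mulVec, Matrix.add_mulVec, Matrix.one_mulVec]
        exact W.smul_mem _ (W.add_mem h1 hz)
      have hWm : ∀ z ∈ W, embM i (pr J (f' mm)) *ᵥ z ∈ W := fun z hz => by
        rw [eq_sub_of_add_eq' (eq_sub_of_add_eq hsum), Matrix.sub_mulVec, Matrix.sub_mulVec, Matrix.one_mulVec,
          Matrix.sum_mulVec]
        exact W.sub_mem (W.sub_mem hz (W.sum_mem fun b hb => hWS b (Finset.mem_filter.1 hb).2 z hz)) (hWa z hz)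
      -- a whole line
      obtain ⟨c, hc, hc0⟩ : ∃ c : Fin k → F, (c = a ∨ c = f' mm) ∧ embM i (pr J c) *ᵥ x ≠ 0 := by
        by_contra hcon
        push Not at hcon
        refine hx0 ?_
        rw [← hxPl, hPl, Matrix.add_mulVec, hcon a (Or.inl rfl), hcon (f' mm) (Or.inr rfl), add_zero]
      have hcne : bf J c c ≠ 0 := by
        rcases hc with rfl | rfl
        exacts [ha.1, hfr'.ne mm]
      obtain ⟨La, hLa⟩ : ∃ La : (Ix (Rest i) k → F) →ₗ[F] (Ix τ k → F), ∀ y, La y = iv i y c :=
        ⟨{ toFun := fun y => iv i y c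
           map_add' := fun y y' => iv_add_left i y y' c
           map_smul' := fun s y => iv_smul_left i s y c }, fun _ => rfl⟩
      have htop : W.comap La = ⊤ := hf.eq_top_of_pr _ rfl _ (fun o d hd y hy => by
          rw [Submodule.mem_comap, hLa] at hy ⊢
          rw [← embM_rest_iv i o]
          exact hWrot o.1 o.2 d hd _ hy)
        ⟨(bf J c c)⁻¹ • ctr J i c x, by
          rw [Submodule.mem_comap, hLa, ← ins_pr_mulVec]
          rcases hc with rfl | rfl
          exacts [hWa x hxW, hWm x hxW], fun e => hc0 (by rw [ins_pr_mulVec, e, iv_zero_left])⟩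
      have hvP : v ∈ P0 := by rw [hP0]; exact ⟨hv, hvn⟩
      have hvfix : ∀ y, v.1 *ᵥ iv i y c = iv i y c := fun y => by
        have : y ∈ W.comap La := by rw [htop]; exact Submodule.mem_top
        rw [Submodule.mem_comap, hLa] at this
        exact (hW _).1 this v hvP
      have hv1 : v.1 * embM i (pr J c) = embM i (pr J c) := by
        refine Matrix.ext_iff_mulVec.2 fun z => ?_
        rw [← Matrix.mulVec_mulVec, ins_pr_mulVec, hvfix]
      have hvE := ((memC v).1 hv).1
      have hvi := mem_iso.1 (H.toHyp.iso_mem ((memE v).1 hvE).1)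
      have hsym : (embM i (pr J c))ᵀ * JJ J τ = JJ J τ * embM i (pr J c) := by
        rw [embM_eq_ins, JJ_ins J i, ins_transpose, ins_mul, ins_mul, Matrix.transpose_one, Matrix.one_mul,
          Matrix.mul_one, h.pr_symm]
      have hv2 : embM i (pr J c) * v.1 = embM i (pr J c) := by
        have e3 := congrArg (fun Z => v.1ᵀ * JJ J τ * Z) hv1
        simp only [← Matrix.mul_assoc, hvi] at e3
        rw [← hsym, Matrix.mul_assoc (v.1ᵀ), ← hsym, ← Matrix.mul_assoc] at e3
        -- transpose
        have e4 : (embM i (pr J c) * v.1)ᵀ * JJ J τ = (embM i (pr J c))ᵀ * JJ J τ := by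
          rw [Matrix.transpose_mul]; exact e3.symm
        have hu : IsUnit (JJ J τ) := (Matrix.isUnit_iff_isUnit_det _).2 (h.pow τ).isUnit_det
        exact Matrix.transpose_injective (hu.mul_right_cancel e4)
      have hvY : Y * v = v * Y := by
        refine Units.ext ?_
        rw [Units.val_mul, Units.val_mul, hYv]
        have hca : embM i (pr J a) * v.1 = v.1 * embM i (pr J a) := by
          rcases hc with rfl | rfl
          · rw [hv1, hv2]
          · have hPlv := hPlc v hvE
            rw [hPl, Matrix.add_mul, Matrix.mul_add, hv1, hv2, add_left_inj] at hPlv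
            exact hPlv
        rw [rot, embM_sub, embM_smul, embM_one, Matrix.sub_mul, Matrix.mul_sub, Matrix.smul_mul, Matrix.mul_smul,
          hca, Matrix.one_mul, Matrix.mul_one]
      obtain ⟨R, e, -, hRR⟩ := small v hvE hvY
      have hvv : v.1 * v.1 = 1 := by
        rw [← Units.val_mul, e, ← map_mul, hRR, map_one, Units.val_one]
      exact Units.ext (eq_one_of_nilpotent h.two hvv hvn)
    intro v hv
    refine (memZ v).2 ?_
    have hvC : v.1 ∈ C := (memC _).2 ⟨v.2, fun g hg => congrArg Subtype.val (hv ⟨g, hg⟩)⟩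
    have hcen : ∀ o : τ, o ≠ i → Cen o v.1.1 := by
      intro o ho
      obtain ⟨u, hu, hus, r, p, hr, hur, hp, hdeg, hpu⟩ := h.exists_elt (by rw [Fintype.card_fin]; omega) hf.core
      obtain ⟨V, memV⟩ : ∃ V : Subgroup (GL (Fin k) F), ∀ l, l ∈ V ↔ l ∈ Lc J ∧ ∀ w ∈ C, embG o l * w = w * embG o l :=
        ⟨Lc J ⊓ (Subgroup.centralizer (C : Set (GL (Ix τ k) F))).comap (embG o), fun l => by
          rw [Subgroup.mem_inf, Subgroup.mem_comap, Subgroup.mem_centralizer_iff]
          exact and_congr_right fun _ => ⟨fun hc w hw => (hc w hw).symm, fun hc w hw => (hc w hw).symm⟩⟩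
      have hle : Lc J ≤ V := by
        refine hf.core.simp V (fun l hl => om_le _ (lc_le _ ((memV l).1 hl).1)) (fun g hg l hl => ?_)
          ⟨u, (memV u).2 ⟨hu, fun w hw => ?_⟩, hus⟩
        · obtain ⟨hl1, hl2⟩ := (memV l).1 hl
          refine (memV _).2 ⟨(Lc J).mul_mem ((Lc J).mul_mem hg hl1) ((Lc J).inv_mem hg), fun w hw => ?_⟩
          have hgM : embG o g ∈ M := H.toHyp.emb_om o (lc_le _ hg)
          have hw' : (embG o g)⁻¹ * w * embG o g ∈ C := by
            have := hCl o ho g⁻¹ (by rw [map_inv]; exact M.inv_mem hgM) w hw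
            rwa [map_inv, inv_inv] at this
          rw [map_mul, map_mul, map_inv]
          calc embG o g * embG o l * (embG o g)⁻¹ * w
              = embG o g * (embG o l * ((embG o g)⁻¹ * w * embG o g)) * (embG o g)⁻¹ := by group
            _ = _ := by rw [hl2 _ hw']; group
        · have hn' : IsNilpotent ((embG o u * w * (embG o u)⁻¹ * w⁻¹).1 - 1) := by
            let φA : Matrix (Fin k) (Fin k) F →ₐ[F] Matrix (Ix τ k) (Ix τ k) F :=
              AlgHom.ofLinearMap
                { toFun := fun b => embM o b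
                  map_add' := fun b b' => embM_add o b b'
                  map_smul' := fun c b => embM_smul o c b }
                (embM_one o) (fun b b' => (embM_mul o b b').symm)
            refine nilpotent_of_poly (u := embG o u) hr (by rw [← map_pow, hur, map_one]) hp hdeg ?_
              (fun w' hw' => hCl o ho u (H.toHyp.emb_om o (lc_le _ hu)) w' hw')
              (fun w' hw' w'' hw'' => ((memC w').1 hw').2 w'' ((memC w'').1 hw'').1) hw
            show Polynomial.aeval (φA u.1) p = 0
            rw [Polynomial.aeval_algHom_apply, hpu, map_zero]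
          have h1 := huni _ (C.mul_mem (hCl o ho u (H.toHyp.emb_om o (lc_le _ hu)) w hw) (C.inv_mem hw)) hn'
          calc embG o u * w = embG o u * w * (embG o u)⁻¹ * w⁻¹ * (w * embG o u) := by group
            _ = _ := by rw [h1, one_mul]
      refine cen_of_comm (S := {x | ∃ l ∈ Lc J, l.1 = x}) (fun X hX => hf.core.cent X fun l hl => hX _ ⟨l, hl, rfl⟩)
        fun x ⟨m, hm, hx⟩ => ?_
      subst hx
      exact (congrArg Units.val (((memV m).1 (hle hm)).2 v.1 hvC)).symm
    obtain ⟨R, hR⟩ := eq_embM_of_cen i hcen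
    have hd : R.det ≠ 0 := fun h0 => by
      have h2 := ((Matrix.isUnit_iff_isUnit_det _).1 v.1.isUnit).ne_zero
      rw [hR, det_embM, h0] at h2
      exact h2 (zero_pow Fintype.card_ne_zero)
    exact ⟨Matrix.GeneralLinearGroup.mkOfDetNeZero _ hd, Units.ext hR.symm⟩
  -- so everything is in the factor
  have hall : ∀ g : E, g ∈ Z := by
    intro g
    have hsq : g * g ∈ Z := by
      refine hcenter _ fun g' => ?_
      rw [← commutatorElement_eq_one_iff_mul_comm]
      calc ⁅g * g, g'⁆ = g * ⁅g, g'⁆ * g⁻¹ * ⁅g, g'⁆ := by simp only [commutatorElement_def]; group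
        _ = _ := by rw [← hZc _ (hcommZ g g') g, mul_inv_cancel_right, hc2]
    refine hfixed g ?_
    have e : g⁻¹ * φ g = (φ g * g) * (g * g)⁻¹ := by
      have h1 := hZc _ (hneg g) g⁻¹
      calc g⁻¹ * φ g = g⁻¹ * (φ g * g) * g⁻¹ := by group
        _ = (φ g * g) * g⁻¹ * g⁻¹ := by rw [← h1]
        _ = _ := by group
    rw [e]
    exact Z.mul_mem (hneg g) (Z.inv_mem hsq)
  obtain ⟨R, hR⟩ := (memZ ⟨q, (memE q).2 ⟨hq, hS, hρ⟩⟩).1 (hall _)
  exact ⟨R.1, by rw [← embG_val, hR]⟩

end Ctx

end CfsgLib.Classical.TensorWreathOrth
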