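import Cfsg.Agent.Lib.Classical.TensorWreathOrth.Groups

set_option autoImplicit false
set_option linter.unusedSectionVars false

/-!
The bilinear form of a symmetric matrix, orthogonal projections on lines, rotations about lines and orthogonal
bases; pure tensors of orthogonal bases.
-/

namespace CfsgLib.Classical.TensorWreathOrth

open Matrix
open scoped MatrixGroups

variable {F : Type*} [Field F] {γ : Type} [Fintype γ] [DecidableEq γ]

/-- The bilinear form with matrix `A`. -/
def bf (A : Matrix γ γ F) (x y : γ → F) : F := (A *ᵥ x) ⬝ᵥ y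

/-- A non-degenerate symmetric matrix in odd characteristic. -/
structure Frm (A : Matrix γ γ F) : Prop where
  two : (2 : F) ≠ 0
  symm : Aᵀ = A
  det : A.det ≠ 0

/-- The orthogonal projection on the line of `c`. -/
def pr (A : Matrix γ γ F) (c : γ → F) : Matrix γ γ F := (bf A c c)⁻¹ • Matrix.vecMulVec c (A *ᵥ c)

/-- One on the line of `c`, minus one on its orthogonal. -/
def rot (A : Matrix γ γ F) (c : γ → F) : Matrix γ γ F := (2 : F) • pr A c - 1

section bilin

variable (A : Matrix γ γ F)

theorem bf_add_left (x y z : γ → F) : bf A (x + y) z = bf A x z + bf A y z := by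
  rw [bf, Matrix.mulVec_add, add_dotProduct, bf, bf]
theorem bf_add_right (x y z : γ → F) : bf A x (y + z) = bf A x y + bf A x z := dotProduct_add _ _ _
theorem bf_sub_left (x y z : γ → F) : bf A (x - y) z = bf A x z - bf A y z := by
  rw [bf, Matrix.mulVec_sub, sub_dotProduct, bf, bf]
theorem bf_sub_right (x y z : γ → F) : bf A x (y - z) = bf A x y - bf A x z := dotProduct_sub _ _ _
theorem bf_smul_left (a : F) (x y : γ → F) : bf A (a • x) y = a * bf A x y := by
  rw [bf, Matrix.mulVec_smul, smul_dotProduct, smul_eq_mul, bf]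
theorem bf_smul_right (a : F) (x y : γ → F) : bf A x (a • y) = a * bf A x y := by
  rw [bf, dotProduct_smul, smul_eq_mul, bf]
theorem bf_zero_left (y : γ → F) : bf A 0 y = 0 := by rw [bf, Matrix.mulVec_zero, zero_dotProduct]
theorem bf_zero_right (x : γ → F) : bf A x 0 = 0 := dotProduct_zero _
theorem bf_sum_right {κ : Type*} (s : Finset κ) (x : γ → F) (f : κ → γ → F) :
    bf A x (∑ a ∈ s, f a) = ∑ a ∈ s, bf A x (f a) := dotProduct_sum _ _ _

theorem pr_mulVec (c x : γ → F) : pr A c *ᵥ x = ((bf A c c)⁻¹ * bf A c x) • c := by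
  rw [pr, Matrix.smul_mulVec, Matrix.vecMulVec_mulVec, op_smul_eq_smul, smul_smul, bf, bf]

theorem pr_perp {c x : γ → F} (h : bf A c x = 0) : pr A c *ᵥ x = 0 := by
  rw [pr_mulVec, h, mul_zero, zero_smul]

theorem pr_self {c : γ → F} (h : bf A c c ≠ 0) : pr A c *ᵥ c = c := by
  rw [pr_mulVec, inv_mul_cancel₀ h, one_smul]

theorem pr_mul_self {c : γ → F} (h : bf A c c ≠ 0) : pr A c * pr A c = pr A c :=
  Matrix.ext_iff_mulVec.2 fun x => by
    rw [← Matrix.mulVec_mulVec, pr_mulVec A c x, Matrix.mulVec_smul, pr_self A h]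

theorem pr_mul_perp {c d : γ → F} (h : bf A c d = 0) : pr A c * pr A d = 0 :=
  Matrix.ext_iff_mulVec.2 fun x => by
    rw [← Matrix.mulVec_mulVec, pr_mulVec A d x, Matrix.mulVec_smul, pr_perp A h, smul_zero, Matrix.zero_mulVec]

theorem pr_smul {c : γ → F} {a : F} (ha : a ≠ 0) : pr A (a • c) = pr A c :=
  Matrix.ext_iff_mulVec.2 fun x => by
    rw [pr_mulVec, pr_mulVec, bf_smul_left, bf_smul_left, bf_smul_right, smul_smul]
    by_cases hc : bf A c c = 0
    · simp [hc]
    · field_simp

theorem rot_smul {c : γ → F} {a : F} (ha : a ≠ 0) : rot A (a • c) = rot A c := by rw [rot, pr_smul A ha, rot]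

theorem rot_self {c : γ → F} (h : bf A c c ≠ 0) : rot A c *ᵥ c = c := by
  rw [rot, Matrix.sub_mulVec, Matrix.smul_mulVec, pr_self A h, Matrix.one_mulVec, two_smul, add_sub_cancel_right]

theorem rot_perp {c x : γ → F} (h : bf A c x = 0) : rot A c *ᵥ x = -x := by
  rw [rot, Matrix.sub_mulVec, Matrix.smul_mulVec, pr_perp A h, Matrix.one_mulVec, smul_zero, zero_sub]

theorem rot_mul_self {c : γ → F} (h : bf A c c ≠ 0) : rot A c * rot A c = 1 := by
  rw [rot, Matrix.sub_mul, Matrix.one_mul, Matrix.mul_sub, Matrix.mul_one, Matrix.smul_mul, Matrix.mul_smul,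
    pr_mul_self A h, two_smul, two_smul]
  abel

end bilin

namespace Frm

variable {A : Matrix γ γ F} (h : Frm A)
include h

theorem bf_comm (x y : γ → F) : bf A x y = bf A y x := by
  rw [bf, bf, dotProduct_comm, Matrix.dotProduct_mulVec, ← Matrix.mulVec_transpose, h.symm]

theorem nondeg {x : γ → F} (hx : ∀ y, bf A x y = 0) : x = 0 := by
  by_contra hx0
  refine h.det (Matrix.exists_mulVec_eq_zero_iff.1 ⟨x, hx0, funext fun i => ?_⟩)
  have := hx (Pi.single i 1)
  rwa [bf, dotProduct_single, mul_one] at this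

theorem isUnit_det : IsUnit A.det := Ne.isUnit h.det

theorem pr_symm (c : γ → F) : (pr A c)ᵀ * A = A * pr A c := by
  have hv : c ᵥ* A = A *ᵥ c := by rw [← Matrix.mulVec_transpose, h.symm]
  rw [pr, Matrix.transpose_smul, Matrix.transpose_vecMulVec, Matrix.smul_mul, Matrix.mul_smul,
    Matrix.vecMulVec_mul, Matrix.mul_vecMulVec, hv]

theorem rot_mem {c : γ → F} (hc : bf A c c ≠ 0) : (rot A c)ᵀ * A * rot A c = A := by
  have e : (rot A c)ᵀ * A = A * rot A c := by
    rw [rot, Matrix.transpose_sub, Matrix.transpose_smul, Matrix.transpose_one, Matrix.sub_mul, Matrix.mul_sub,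
      Matrix.smul_mul, Matrix.mul_smul, h.pr_symm, Matrix.one_mul, Matrix.mul_one]
  rw [e, Matrix.mul_assoc, rot_mul_self A hc, Matrix.mul_one]

theorem bf_iso {g : Matrix γ γ F} (hg : gᵀ * A * g = A) (x y : γ → F) : bf A (g *ᵥ x) (g *ᵥ y) = bf A x y := by
  rw [bf, bf, dotProduct_comm, ← Matrix.vecMul_transpose, ← Matrix.dotProduct_mulVec, Matrix.mulVec_mulVec,
    Matrix.mulVec_mulVec, hg, dotProduct_comm]

/-- Isometries are the maps keeping the form. -/
theorem iso_of_bf {g : Matrix γ γ F} (hg : ∀ x y, bf A (g *ᵥ x) (g *ᵥ y) = bf A x y) : gᵀ * A * g = A := by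
  refine CfsgLib.Classical.TensorSymp.matrix_ext_dot fun x y => ?_
  have := hg y x
  rw [bf, bf, dotProduct_comm, dotProduct_comm (A *ᵥ y)] at this
  rw [← this, ← Matrix.mulVec_mulVec, ← Matrix.mulVec_mulVec, Matrix.dotProduct_mulVec x gᵀ,
    Matrix.vecMul_transpose]

theorem conj_pr {g : GL γ F} (hg : g ∈ iso A) (c : γ → F) : g.1 * pr A c * (g⁻¹).1 = pr A (g.1 *ᵥ c) := by
  refine Matrix.ext_iff_mulVec.2 fun x => ?_
  have hx : g.1 *ᵥ ((g⁻¹).1 *ᵥ x) = x := by
    rw [Matrix.mulVec_mulVec, ← Units.val_mul, mul_inv_cancel, Units.val_one, Matrix.one_mulVec]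
  rw [← Matrix.mulVec_mulVec, ← Matrix.mulVec_mulVec, pr_mulVec, pr_mulVec, Matrix.mulVec_smul,
    h.bf_iso hg, ← h.bf_iso hg c ((g⁻¹).1 *ᵥ x), hx]

theorem conj_rot {g : GL γ F} (hg : g ∈ iso A) (c : γ → F) : g.1 * rot A c * (g⁻¹).1 = rot A (g.1 *ᵥ c) := by
  rw [rot, Matrix.mul_sub, Matrix.sub_mul, Matrix.mul_smul, Matrix.smul_mul, h.conj_pr hg, Matrix.mul_one,
    ← Units.val_mul, mul_inv_cancel, Units.val_one, rot]

end Frm

/-- The rotation as an element of the group. -/
noncomputable def rotG (A : Matrix γ γ F) (c : γ → F) (hc : bf A c c ≠ 0) : GL γ F :=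
  ⟨rot A c, rot A c, rot_mul_self A hc, rot_mul_self A hc⟩

theorem Frm.rotG_mem {A : Matrix γ γ F} (h : Frm A) {c : γ → F} (hc : bf A c c ≠ 0) : rotG A c hc ∈ iso A :=
  h.rot_mem hc

/-- An orthogonal basis. -/
structure OB (A : Matrix γ γ F) {κ : Type} [Fintype κ] (v : κ → γ → F) : Prop where
  orth : ∀ a b, a ≠ b → bf A (v a) (v b) = 0
  aniso : ∀ a, bf A (v a) (v a) ≠ 0
  card : Fintype.card κ = Fintype.card γ

namespace OB

variable {A : Matrix γ γ F} {κ : Type} [Fintype κ] [DecidableEq κ] {v : κ → γ → F} (hv : OB A v)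
include hv

theorem linearIndependent : LinearIndependent F v := by
  refine Fintype.linearIndependent_iff.2 fun g hg a => ?_
  have := congrArg (bf A (v a)) hg
  rw [bf_sum_right, bf_zero_right, Finset.sum_eq_single a (fun b _ hb => by
    rw [bf_smul_right, hv.orth a b hb.symm, mul_zero]) (fun h => absurd (Finset.mem_univ a) h),
    bf_smul_right] at this
  exact (mul_eq_zero.1 this).resolve_right (hv.aniso a)

theorem span_eq : Submodule.span F (Set.range v) = ⊤ := by
  rcases isEmpty_or_nonempty κ with hκ | hκ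
  · have : IsEmpty γ := Fintype.card_eq_zero_iff.1 (hv.card ▸ Fintype.card_eq_zero)
    exact Subsingleton.elim _ _
  · exact hv.linearIndependent.span_eq_top_of_card_eq_finrank (by rw [Module.finrank_fintype_fun_eq_card, hv.card])

/-- Two matrices agreeing on the basis are equal. -/
theorem ext {δ : Type} {M N : Matrix δ γ F} (e : ∀ a, M *ᵥ v a = N *ᵥ v a) : M = N := by
  refine Matrix.ext_iff_mulVec.2 fun x => ?_
  have hx : x ∈ Submodule.span F (Set.range v) := hv.span_eq ▸ Submodule.mem_top
  induction hx using Submodule.span_induction with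
  | mem s hs => obtain ⟨a, rfl⟩ := hs; exact e a
  | zero => rw [Matrix.mulVec_zero, Matrix.mulVec_zero]
  | add a b _ _ ha hb => rw [Matrix.mulVec_add, Matrix.mulVec_add, ha, hb]
  | smul c a _ ha => rw [Matrix.mulVec_smul, Matrix.mulVec_smul, ha]

theorem pr_apply (a b : κ) : pr A (v a) *ᵥ v b = if a = b then v b else 0 := by
  split_ifs with h
  · subst h; exact pr_self A (hv.aniso a)
  · exact pr_perp A (hv.orth a b h)

theorem rot_apply (a b : κ) : rot A (v a) *ᵥ v b = if a = b then v b else -v b := by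
  split_ifs with h
  · subst h; exact rot_self A (hv.aniso a)
  · exact rot_perp A (hv.orth a b h)

theorem sum_pr : ∑ a, pr A (v a) = 1 := hv.ext fun b => by
  rw [Matrix.sum_mulVec, Matrix.one_mulVec, Finset.sum_congr rfl (fun a _ => hv.pr_apply a b),
    Finset.sum_ite_eq' Finset.univ b, if_pos (Finset.mem_univ b)]

/-- The values multiply to the determinant up to a square. -/
theorem exists_prod_eq : ∃ d : F, d ≠ 0 ∧ ∏ a, bf A (v a) (v a) = A.det * (d * d) := by
  obtain ⟨e⟩ := Fintype.card_eq.1 hv.card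
  let P : Matrix γ γ F := Matrix.of fun x y => v (e.symm y) x
  have hcol : ∀ y, (fun x => P x y) = v (e.symm y) := fun y => rfl
  have hP : Pᵀ * A * P = Matrix.diagonal fun y => bf A (v (e.symm y)) (v (e.symm y)) := by
    ext i j
    have hij : (Pᵀ * A * P) i j = v (e.symm i) ⬝ᵥ A *ᵥ v (e.symm j) := by
      rw [Matrix.mul_assoc]
      simp only [Matrix.mul_apply, Matrix.transpose_apply, dotProduct, Matrix.mulVec, P, Matrix.of_apply]
    rw [hij, dotProduct_comm, Matrix.diagonal_apply]
    show bf A (v (e.symm j)) (v (e.symm i)) = _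
    split_ifs with h
    · subst h; rfl
    · exact hv.orth _ _ fun e' => h (e.symm.injective e').symm
  have hd := congrArg Matrix.det hP
  rw [Matrix.det_mul, Matrix.det_mul, Matrix.det_transpose, Matrix.det_diagonal,
    e.symm.prod_comp fun a => bf A (v a) (v a)] at hd
  refine ⟨P.det, fun h0 => ?_, by rw [← hd]; ring⟩
  rw [h0, zero_mul, zero_mul] at hd
  exact Finset.prod_ne_zero_iff.2 (fun a _ => hv.aniso a) hd.symm

theorem isSquare_prod_iff (x : F) : IsSquare (x * ∏ a, bf A (v a) (v a)) ↔ IsSquare (x * A.det) := by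
  obtain ⟨d, hd, e⟩ := hv.exists_prod_eq
  rw [e]
  constructor
  · rintro ⟨y, hy⟩
    exact ⟨y * d⁻¹, by field_simp; linear_combination hy⟩
  · rintro ⟨y, hy⟩
    exact ⟨y * d, by linear_combination (d * d) * hy⟩

/-- A map taking the basis to vectors with the same products is an isometry. -/
theorem iso_of_map (h : Frm A) {g : Matrix γ γ F} {w : κ → γ → F} (hg : ∀ a, g *ᵥ v a = w a)
    (hw : ∀ a b, bf A (w a) (w b) = bf A (v a) (v b)) : gᵀ * A * g = A := by
  have hall : ∀ M : Matrix γ γ F, (∀ a b, v a ⬝ᵥ M *ᵥ v b = v a ⬝ᵥ A *ᵥ v b) → M = A := by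
    intro M hM
    refine hv.ext fun b => ?_
    refine dotProduct_eq _ _ fun x => ?_
    have hx : x ∈ Submodule.span F (Set.range v) := hv.span_eq ▸ Submodule.mem_top
    rw [dotProduct_comm, dotProduct_comm _ x]
    induction hx using Submodule.span_induction with
    | mem s hs => obtain ⟨a, rfl⟩ := hs; exact hM a b
    | zero => rw [zero_dotProduct, zero_dotProduct]
    | add a b _ _ ha hb => rw [add_dotProduct, add_dotProduct, ha, hb]
    | smul c a _ ha => rw [smul_dotProduct, smul_dotProduct, ha]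
  refine hall _ fun a b => ?_
  rw [← Matrix.mulVec_mulVec, ← Matrix.mulVec_mulVec, Matrix.dotProduct_mulVec (v a) gᵀ, Matrix.vecMul_transpose,
    hg, hg, dotProduct_comm, dotProduct_comm (v a)]
  exact (hw b a).trans rfl

end OB

/-- Two orthogonal bases with the same values differ by an isometry. -/
theorem Frm.exists_iso_map {A : Matrix γ γ F} (h : Frm A) {κ : Type} [Fintype κ] [DecidableEq κ]
    {v w : κ → γ → F} (hv : OB A v) (hw : OB A w) (e : ∀ a, bf A (v a) (v a) = bf A (w a) (w a)) :
    ∃ g ∈ iso A, ∀ a, g.1 *ᵥ v a = w a := by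
  let G : Matrix γ γ F := ∑ a, (bf A (v a) (v a))⁻¹ • Matrix.vecMulVec (w a) (A *ᵥ v a)
  have hG : ∀ b, G *ᵥ v b = w b := fun b => by
    rw [Matrix.sum_mulVec, Finset.sum_eq_single b]
    · rw [Matrix.smul_mulVec, Matrix.vecMulVec_mulVec, op_smul_eq_smul, smul_smul]
      show ((bf A (v b) (v b))⁻¹ * bf A (v b) (v b)) • w b = w b
      rw [inv_mul_cancel₀ (hv.aniso b), one_smul]
    · intro a _ ha
      rw [Matrix.smul_mulVec, Matrix.vecMulVec_mulVec, op_smul_eq_smul, smul_smul]
      show ((bf A (v a) (v a))⁻¹ * bf A (v a) (v b)) • w a = 0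
      rw [hv.orth a b ha, mul_zero, zero_smul]
    · exact fun hb => absurd (Finset.mem_univ b) hb
  have hiso : Gᵀ * A * G = A := hv.iso_of_map h hG fun a b => by
    by_cases hab : a = b
    · subst hab; rw [e]
    · rw [hw.orth a b hab, hv.orth a b hab]
  have hdet : G.det ≠ 0 := fun h0 => h.det (by
    have := congrArg Matrix.det hiso
    rw [Matrix.det_mul, Matrix.det_mul, h0, mul_zero] at this
    exact this.symm)
  exact ⟨Matrix.GeneralLinearGroup.mkOfDetNeZero G hdet, hiso, hG⟩

/-- Orthogonal anisotropic vectors fewer than the dimension leave room for another one. -/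
theorem Frm.exists_perp_aniso {A : Matrix γ γ F} (h : Frm A) {κ : Type} [Fintype κ] [DecidableEq κ]
    {v : κ → γ → F} (ho : ∀ a b, a ≠ b → bf A (v a) (v b) = 0) (ha : ∀ a, bf A (v a) (v a) ≠ 0)
    (hc : Fintype.card κ < Fintype.card γ) :
    ∃ x, (∀ a, bf A (v a) x = 0) ∧ bf A x x ≠ 0 := by
  let L : (γ → F) →ₗ[F] (κ → F) :=
    { toFun := fun x a => bf A (v a) x
      map_add' := fun x y => funext fun a => bf_add_right A _ _ _
      map_smul' := fun c x => funext fun a => bf_smul_right A c _ _ }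
  obtain ⟨z, hz, hz0⟩ : ∃ z ∈ LinearMap.ker L, z ≠ 0 := by
    refine Submodule.exists_mem_ne_zero_of_ne_bot fun hb => ?_
    have := LinearMap.finrank_le_finrank_of_injective (LinearMap.ker_eq_bot.1 hb)
    rw [Module.finrank_fintype_fun_eq_card, Module.finrank_fintype_fun_eq_card] at this
    omega
  by_contra hcon
  push Not at hcon
  have hmem : ∀ x, x ∈ LinearMap.ker L ↔ ∀ a, bf A (v a) x = 0 := fun x => by
    rw [LinearMap.mem_ker, funext_iff]; rfl
  refine hz0 (h.nondeg fun y => ?_)
  let y' := y - ∑ a, ((bf A (v a) (v a))⁻¹ * bf A (v a) y) • v a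
  have hy' : y' ∈ LinearMap.ker L := (hmem _).2 fun b => by
    rw [bf_sub_right, bf_sum_right, Finset.sum_eq_single b (fun a _ hab => by
      rw [bf_smul_right, ho b a hab.symm, mul_zero]) (fun hb => absurd (Finset.mem_univ b) hb),
      bf_smul_right, mul_right_comm, inv_mul_cancel₀ (ha b), one_mul, sub_self]
  have h0 : ∀ x, x ∈ LinearMap.ker L → bf A x x = 0 := fun x hx => hcon x ((hmem x).1 hx)
  have e : bf A z y' = 0 := by
    have := h0 _ (add_mem hz hy')
    rw [bf_add_left, bf_add_right, bf_add_right, h0 z hz, h0 y' hy', h.bf_comm y' z, zero_add, add_zero,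
      ← two_mul] at this
    exact (mul_eq_zero.1 this).resolve_left h.two
  rw [show y = y' + ∑ a, ((bf A (v a) (v a))⁻¹ * bf A (v a) y) • v a from (sub_add_cancel _ _).symm,
    bf_add_right, e, zero_add, bf_sum_right]
  refine Finset.sum_eq_zero fun a _ => ?_
  rw [bf_smul_right, h.bf_comm z (v a), (hmem z).1 hz a, mul_zero]

/-- Orthogonal anisotropic vectors extend to an orthogonal basis. -/
theorem Frm.exists_ob_extend {A : Matrix γ γ F} (h : Frm A) {j : ℕ} {n : ℕ} (hn : Fintype.card γ = n)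
    (hjn : j ≤ n) (v : Fin j → γ → F) (ho : ∀ a b, a ≠ b → bf A (v a) (v b) = 0)
    (ha : ∀ a, bf A (v a) (v a) ≠ 0) :
    ∃ w : Fin n → γ → F, OB A w ∧ ∀ a : Fin j, w (Fin.castLE hjn a) = v a := by
  induction hd : n - j generalizing j with
  | zero =>
    have hj : j = n := by omega
    subst hj
    exact ⟨v, ⟨ho, ha, by rw [Fintype.card_fin, hn]⟩, fun a => rfl⟩
  | succ d ih =>
    obtain ⟨x, hx, hxx⟩ := h.exists_perp_aniso ho ha (by rw [Fintype.card_fin, hn]; omega)
    obtain ⟨w, hw, hwv⟩ := ih (by omega : j + 1 ≤ n) (Fin.snoc v x) (by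
      intro a b hab
      induction a using Fin.lastCases with
      | last =>
        induction b using Fin.lastCases with
        | last => exact absurd rfl hab
        | cast b => rw [Fin.snoc_last, Fin.snoc_castSucc, h.bf_comm]; exact hx b
      | cast a =>
        induction b using Fin.lastCases with
        | last => rw [Fin.snoc_last, Fin.snoc_castSucc]; exact hx a
        | cast b => rw [Fin.snoc_castSucc, Fin.snoc_castSucc]; exact ho a b fun e => hab (congrArg _ e)) (by
      intro a
      induction a using Fin.lastCases with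
      | last => rw [Fin.snoc_last]; exact hxx
      | cast a => rw [Fin.snoc_castSucc]; exact ha a) (by omega)
    refine ⟨w, hw, fun a => ?_⟩
    have := hwv a.castSucc
    rwa [Fin.snoc_castSucc] at this

/-- An anisotropic vector begins an orthogonal basis. -/
theorem Frm.exists_ob_of {A : Matrix γ γ F} (h : Frm A) {c : γ → F} (hc : bf A c c ≠ 0) :
    ∃ n, ∃ w : Fin n → γ → F, OB A w ∧ ∃ a, w a = c := by
  have hpos : 1 ≤ Fintype.card γ := by
    by_contra hlt
    have : IsEmpty γ := Fintype.card_eq_zero_iff.1 (by omega)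
    exact hc (by rw [Subsingleton.elim c 0, bf_zero_left])
  obtain ⟨w, hw, hwc⟩ := h.exists_ob_extend rfl hpos (fun _ : Fin 1 => c)
    (fun a b hab => absurd (Subsingleton.elim a b) hab) (fun _ => hc)
  exact ⟨_, w, hw, _, hwc 0⟩

/-! ### Pure tensors -/

section pure

open CfsgLib.Classical.TensorWreath

variable {τ : Type} [Fintype τ] [DecidableEq τ] {k : ℕ}

/-- The tensor product of vectors. -/
def pv (x : τ → Fin k → F) : Ix τ k → F := fun p => ∏ j, x j (p j)

theorem pureM_mulVec_pv (g : τ → Matrix (Fin k) (Fin k) F) (x : τ → Fin k → F) :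
    pureM g *ᵥ pv x = pv fun j => g j *ᵥ x j := by
  funext p
  simp only [Matrix.mulVec, dotProduct, pv, pureM_apply, Fintype.prod_sum, ← Finset.prod_mul_distrib]

theorem pv_dot (x y : τ → Fin k → F) : pv x ⬝ᵥ pv y = ∏ j, x j ⬝ᵥ y j := by
  simp only [dotProduct, pv, Fintype.prod_sum, ← Finset.prod_mul_distrib]

theorem pv_update_smul (x : τ → Fin k → F) (i : τ) (c : F) :
    pv (Function.update x i (c • x i)) = c • pv x := by
  funext p
  rw [Pi.smul_apply, smul_eq_mul, pv, pv, ← Finset.mul_prod_erase _ _ (Finset.mem_univ i),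
    ← Finset.mul_prod_erase Finset.univ (fun j => x j (p j)) (Finset.mem_univ i), Function.update_self,
    Pi.smul_apply, smul_eq_mul, mul_assoc]
  congr 2
  exact Finset.prod_congr rfl fun j hj => by rw [Function.update_of_ne (Finset.ne_of_mem_erase hj)]

theorem embM_mulVec_pv (i : τ) (b : Matrix (Fin k) (Fin k) F) (x : τ → Fin k → F) :
    embM i b *ᵥ pv x = pv (Function.update x i (b *ᵥ x i)) := by
  rw [embM, pureM_mulVec_pv]
  congr 1
  funext j
  by_cases hj : j = i
  · subst hj; rw [Function.update_self, Function.update_self]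
  · rw [Function.update_of_ne hj, Function.update_of_ne hj, Pi.one_apply, Matrix.one_mulVec]

variable (J : Matrix (Fin k) (Fin k) F)

/-- The form of the tensor power. -/
abbrev JJ (τ : Type) [Fintype τ] [DecidableEq τ] : Matrix (Ix τ k) (Ix τ k) F := pureM fun _ : τ => J

variable {J}

theorem bf_pv (x y : τ → Fin k → F) : bf (JJ J τ) (pv x) (pv y) = ∏ j, bf J (x j) (y j) := by
  rw [bf, pureM_mulVec_pv, pv_dot]; rfl

theorem Frm.pow (h : Frm J) (τ : Type) [Fintype τ] [DecidableEq τ] : Frm (JJ J τ) := by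
  refine ⟨h.two, ?_, fun h0 => ?_⟩
  · ext x y
    simp only [Matrix.transpose_apply, pureM_apply]
    exact Finset.prod_congr rfl fun j _ => by
      conv_rhs => rw [← h.symm]
      rfl
  · have e : JJ J τ * pureM (fun _ : τ => J⁻¹) = 1 := by
      rw [pureM_mul]
      convert pureM_one (F := F) (τ := τ) (m := k) using 2
      funext j
      exact Matrix.mul_nonsing_inv J h.isUnit_det
    have := congrArg Matrix.det e
    rw [Matrix.det_mul, h0, zero_mul, Matrix.det_one] at this
    exact zero_ne_one this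

/-- The tensor products of orthogonal bases. -/
theorem OB.pure {κ : Type} [Fintype κ] [DecidableEq κ] {v : τ → κ → Fin k → F} (hv : ∀ j, OB J (v j)) :
    OB (JJ J τ) fun r : τ → κ => pv fun j => v j (r j) where
  orth a b hab := by
    obtain ⟨j, hj⟩ := Function.ne_iff.1 hab
    rw [bf_pv]
    exact Finset.prod_eq_zero (Finset.mem_univ j) ((hv j).orth _ _ hj)
  aniso a := by
    rw [bf_pv]
    exact Finset.prod_ne_zero_iff.2 fun j _ => (hv j).aniso _
  card := by
    rw [Fintype.card_fun, Fintype.card_fun]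
    rcases isEmpty_or_nonempty τ with hτ | ⟨⟨j⟩⟩
    · rw [Fintype.card_eq_zero (α := τ), pow_zero, pow_zero]
    · rw [(hv j).card]

end pure

end CfsgLib.Classical.TensorWreathOrth
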