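import Cfsg.Agent.Lib.Classical.TensorWreathOrth.Gen
import Cfsg.Agent.Lib.Classical.TensorWreathOrth.Pieces

set_option autoImplicit false
set_option linter.unusedSectionVars false

/-!
The groups between the monomial part and the whole, their restriction to fewer factors, and the transport from
a full restriction to a full group.
-/

namespace CfsgLib.Classical.TensorWreathOrth

open Matrix CfsgLib.Classical.TensorWreath
open scoped MatrixGroups commutatorElement

variable {F : Type*} [Field F] [Finite F] {τ : Type} [Fintype τ] [DecidableEq τ] {k : ℕ}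
  {J : Matrix (Fin k) (Fin k) F}

/-- The ambient group. -/
def amb (J : Matrix (Fin k) (Fin k) F) (τ : Type) [Fintype τ] [DecidableEq τ] : Subgroup (GL (Ix τ k) F) :=
  if Odd k then Om (JJ J τ) else iso (JJ J τ)

theorem amb_le_iso : amb J τ ≤ iso (JJ J τ) := by
  rw [amb]; split_ifs
  exacts [om_le _, le_rfl]

theorem om_le_amb : Om (JJ J τ) ≤ amb J τ := by
  rw [amb]; split_ifs
  exacts [le_rfl, om_le _]

/-- An intermediate group. -/
structure Hyp (J : Matrix (Fin k) (Fin k) F) (M : Subgroup (GL (Ix τ k) F)) : Prop where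
  fac : Fac J
  le : M ≤ amb J τ
  mono : ∀ g ∈ Om (JJ J τ), Mono g.1 → g ∈ M
  even : Even k → ∀ (i : τ), ∀ R ∈ iso J, embG i R ∈ M

/-- All of `M` is monomial. -/
def AllMono (M : Subgroup (GL (Ix τ k) F)) : Prop := ∀ g ∈ M, Mono g.1

/-- `M` contains the commutator group. -/
def Full (J : Matrix (Fin k) (Fin k) F) (M : Subgroup (GL (Ix τ k) F)) : Prop := Om (JJ J τ) ≤ M

/-- The part of `M` on the other factors. -/
def dn [NeZero k] (J : Matrix (Fin k) (Fin k) F) (i : τ) (M : Subgroup (GL (Ix τ k) F)) :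
    Subgroup (GL (Ix (Rest i) k) F) :=
  M.comap (TensorWreath.lift i) ⊓ amb J (Rest i)

theorem Hyp.down [NeZero k] {M : Subgroup (GL (Ix τ k) F)} (H : Hyp J M) (i : τ) : Hyp J (dn J i M) where
  fac := H.fac
  le := inf_le_right
  mono g hg hm := ⟨H.mono _ (lift_om H.fac.frm i hg) (mono_ins i hm), om_le_amb hg⟩
  even hk j R hR := by
    refine ⟨?_, ?_⟩
    · show TensorWreath.lift i (embG j R) ∈ M
      rw [show TensorWreath.lift i (embG j R) = embG j.1 R from
        Units.ext (by rw [lift_val, embG_val, ins_embM, embG_val])]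
      exact H.even hk j.1 R hR
    · rw [amb, if_neg (Nat.not_odd_iff_even.2 hk)]
      exact embG_iso H.fac.frm j hR

namespace Hyp

variable {M : Subgroup (GL (Ix τ k) F)} (H : Hyp J M)
include H

theorem iso_mem {g : GL (Ix τ k) F} (hg : g ∈ M) : g ∈ iso (JJ J τ) := amb_le_iso (H.le hg)

theorem emb_om (i : τ) {g : GL (Fin k) F} (hg : g ∈ Om J) : embG i g ∈ M :=
  H.mono _ (embG_om H.fac.frm i hg) (mono_pure _)

theorem emb_rot (i : τ) {c : Fin k → F} (hc : Good J c) : embG i (rotG J c hc.1) ∈ M := by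
  rcases Nat.even_or_odd k with he | ho
  · exact H.even he i _ (H.fac.frm.rotG_mem hc.1)
  · refine H.mono _ ?_ (mono_pure _)
    have h3 := H.fac.three
    refine (embM_rot_mem_iff H.fac.frm ho (by omega) i hc.1 rfl).2 ?_
    exact hc.2.resolve_left (by rw [Fintype.card_fin]; exact Nat.not_even_iff_odd.2 ho)

theorem good_of_mem (i : τ) {c : Fin k → F} (hc : bf J c c ≠ 0) (hm : embG i (rotG J c hc) ∈ M) : Good J c := by
  refine ⟨hc, ?_⟩
  rw [Fintype.card_fin]
  rcases Nat.even_or_odd k with he | ho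
  · exact Or.inl he
  · refine Or.inr ?_
    have h3 := H.fac.three
    refine (embM_rot_mem_iff H.fac.frm ho (by omega) i hc (g := embG i (rotG J c hc)) rfl).1 ?_
    have := H.le hm
    rwa [amb, if_pos ho] at this

theorem lift_mem [NeZero k] (i : τ) {g : GL (Ix (Rest i) k) F} (hg : g ∈ Om (JJ J (Rest i))) (hm : Mono g.1) :
    TensorWreath.lift i g ∈ M := H.mono _ (lift_om H.fac.frm i hg) (mono_ins i hm)

end Hyp

/-! ### Transitivity of the commutator group -/

namespace Fac

variable (hf : Fac J)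
include hf

/-- The commutator group moves a line to every line of the same value. -/
theorem exists_om_move {a b : Fin k → F} (ha : bf J a a ≠ 0) (e : bf J b b = bf J a a) :
    ∃ g ∈ Om J, g.1 *ᵥ a = b := by
  classical
  have h := hf.frm
  have h3 := hf.three
  have hb : bf J b b ≠ 0 := by rw [e]; exact ha
  obtain ⟨Q, hQ, hQ2⟩ := exists_gram h
  have hd : 2 ≤ Module.finrank F (Fin k → F) := by rw [Module.finrank_fintype_fun_eq_card, Fintype.card_fin]; omega
  obtain ⟨hker, -, hsp⟩ := CfsgLib.Orth.omega_eq_ker_psi hQ.nd h.two hd (one_ne_zero (α := F))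
  -- some isometry
  obtain ⟨g, hg⟩ : ∃ g : CfsgLib.Orth.Grp Q, CfsgLib.Orth.ap g a = b := by
    obtain ⟨n, w, hw, a₀, ha₀⟩ := h.exists_ob_of ha
    obtain ⟨n', w', hw', b₀, hb₀⟩ := h.exists_ob_of hb
    have hQa : Q a = Q b := mul_left_cancel₀ h.two (by rw [hQ2, hQ2, e])
    by_cases hsub : Q (a - b) = 0
    · have hadd : Q (a + b) ≠ 0 := by
        rw [CfsgLib.Orth.q_sub] at hsub
        rw [CfsgLib.Orth.q_add,
          show Q a + Q b + QuadraticMap.polar (⇑Q) a b = 2 * (2 * Q b) by linear_combination -hsub + 2 * hQa]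
        exact mul_ne_zero h.two (mul_ne_zero h.two (q_ne hQ hb))
      obtain ⟨r, hr⟩ := CfsgLib.Orth.exists_refl hQ.nd hadd
      obtain ⟨r', hr'⟩ := CfsgLib.Orth.exists_refl hQ.nd (q_ne hQ hb)
      refine ⟨r' * r, ?_⟩
      have e1 : CfsgLib.Orth.ap r a = -b := by
        rw [hr.2, show QuadraticMap.polar (⇑Q) (a + b) a = Q (a + b) by
          rw [CfsgLib.Orth.b_add_left, CfsgLib.Orth.b_self, CfsgLib.Orth.q_add, CfsgLib.Orth.b_comm b a]
          linear_combination hQa, inv_mul_cancel₀ hadd, one_smul]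
        abel
      rw [CfsgLib.Orth.ap_mul, e1, hr'.2, CfsgLib.Orth.b_comm b (-b), ← neg_one_smul F b,
        CfsgLib.Orth.b_smul_left, CfsgLib.Orth.b_self]
      have := q_ne hQ hb
      match_scalars
      field_simp
      ring
    · obtain ⟨r, hr⟩ := CfsgLib.Orth.exists_refl hQ.nd hsub
      refine ⟨r, ?_⟩
      rw [hr.2, show QuadraticMap.polar (⇑Q) (a - b) a = Q (a - b) by
        rw [CfsgLib.Orth.b_sub_left, CfsgLib.Orth.b_self, CfsgLib.Orth.q_sub, CfsgLib.Orth.b_comm b a]
        linear_combination hQa, inv_mul_cancel₀ hsub, one_smul, sub_sub_cancel]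
  -- correct it by reflections fixing the target
  have refl : ∀ t : F, t ≠ 0 → ∃ r : CfsgLib.Orth.Grp Q, CfsgLib.Orth.ap r b = b ∧
      CfsgLib.Orth.dickson hQ.nd r = -1 ∧ ∃ x, CfsgLib.Orth.IsRefl x r ∧ Q x = t := by
    intro t ht
    obtain ⟨x, hx, hxx⟩ := h.exists_perp_value (κ := Fin 1) (v := fun _ => b)
      (fun p q hpq => absurd (Subsingleton.elim p q) hpq) (fun _ => hb)
      (by rw [Fintype.card_fin, Fintype.card_fin]; omega) (2 * t)
    have hxt : Q x = t := mul_left_cancel₀ h.two (by rw [hQ2, hxx])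
    obtain ⟨r, hr⟩ := CfsgLib.Orth.exists_refl hQ.nd (v := x) (by rw [hxt]; exact ht)
    refine ⟨r, ?_, CfsgLib.Orth.dickson_refl hQ.nd hr, x, hr, hxt⟩
    refine CfsgLib.Orth.refl_fix hr ?_
    rw [← hQ.dot_polar]
    exact (h.bf_comm x b).trans (hx 0)
  have hsurj : ∀ p : ℤˣ × ℤˣ, ∃ s : CfsgLib.Orth.Grp Q, CfsgLib.Orth.ap s b = b ∧
      CfsgLib.Orth.psi hQ.nd 1 s = p := by
    cases nonempty_fintype F
    obtain ⟨ns, hns⟩ := FiniteField.exists_nonsquare (F := F) (fun e2 => h.two (by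
      have := CharP.cast_eq_zero F (ringChar F)
      rwa [e2, Nat.cast_ofNat] at this))
    have hns0 : ns ≠ 0 := fun e0 => hns (by rw [e0]; exact IsSquare.zero)
    obtain ⟨r1, f1, d1, x1, hr1, hx1⟩ := refl 1 one_ne_zero
    obtain ⟨r2, f2, d2, x2, hr2, hx2⟩ := refl ns hns0
    have hne : CfsgLib.Orth.spinor Q 1 r1 ≠ CfsgLib.Orth.spinor Q 1 r2 := fun e' => hns (by
      have := (hsp _ _ _ _ hr1 hr2).1 e'
      rwa [hx1, hx2, one_mul] at this)
    intro p
    obtain ⟨p1, p2⟩ := p
    have hr1' : CfsgLib.Orth.spinor Q 1 r1 = p2 ∨ CfsgLib.Orth.spinor Q 1 r2 = p2 := by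
      rcases Int.units_eq_one_or (CfsgLib.Orth.spinor Q 1 r1) with h1 | h1 <;>
        rcases Int.units_eq_one_or (CfsgLib.Orth.spinor Q 1 r2) with h2 | h2 <;>
        rcases Int.units_eq_one_or p2 with h3' | h3' <;> simp_all
    rcases Int.units_eq_one_or p1 with rfl | rfl
    · rcases Int.units_eq_one_or p2 with rfl | rfl
      · exact ⟨1, CfsgLib.Orth.ap_one b, map_one _⟩
      · refine ⟨r1 * r2, by rw [CfsgLib.Orth.ap_mul, f2, f1], Prod.ext ?_ ?_⟩
        · show CfsgLib.Orth.dickson hQ.nd (r1 * r2) = 1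
          rw [map_mul, d1, d2]; rfl
        · show CfsgLib.Orth.spinor Q 1 (r1 * r2) = -1
          rw [map_mul, Int.units_ne_iff_eq_neg.1 hne, neg_mul, Int.units_mul_self]
    · rcases hr1' with hp | hp
      · exact ⟨r1, f1, Prod.ext d1 hp⟩
      · exact ⟨r2, f2, Prod.ext d2 hp⟩
  obtain ⟨s, hs, hsp'⟩ := hsurj (CfsgLib.Orth.psi hQ.nd 1 g)
  refine ⟨((s * g : CfsgLib.Orth.Grp Q) : GL (Fin k) F), ?_, ?_⟩
  · rw [mem_Om_iff_omega hQ, hker, MonoidHom.mem_ker, map_mul, hsp']
    exact Prod.ext (Int.units_mul_self _) (Int.units_mul_self _)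
  · show CfsgLib.Orth.ap (s * g) a = b
    rw [CfsgLib.Orth.ap_mul, hg, hs]

/-- A homomorphism of isometries into those commuting with a factor sends commutators to lifts of commutators. -/
theorem exists_lift_om [NeZero k] {γ : Type} [Fintype γ] [DecidableEq γ] {A : Matrix γ γ F} {o : τ}
    (φ : GL γ F →* GL (Ix τ k) F) (hi : ∀ x ∈ iso A, φ x ∈ iso (JJ J τ))
    (hc : ∀ x ∈ iso A, Cen o (φ x).1) {x : GL γ F} (hx : x ∈ Om A) :
    ∃ g ∈ Om (JJ J (Rest o)), TensorWreath.lift o g = φ x := by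
  have h1 : (iso A).map φ ≤ (iso (JJ J (Rest o))).map (TensorWreath.lift o) := by
    rintro _ ⟨y, hy, rfl⟩
    have e := (hc y hy).eq_ins
    have hd : (restM o (φ y).1).det ≠ 0 := fun h0 => by
      have h2 := ((Matrix.isUnit_iff_isUnit_det _).1 (φ y).isUnit).ne_zero
      rw [e, det_ins, h0, zero_pow (NeZero.ne k), zero_mul] at h2
      exact h2 rfl
    obtain ⟨u, hu⟩ : ∃ u : GL (Ix (Rest o) k) F, u.1 = restM o (φ y).1 :=
      ⟨Matrix.GeneralLinearGroup.mkOfDetNeZero _ hd, rfl⟩
    have hlu : TensorWreath.lift o u = φ y := Units.ext (by rw [lift_val, hu, ← e])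
    exact ⟨u, (lift_mem_iso_iff hf.frm o u).1 (hlu ▸ hi y hy), hlu⟩
  have h2 := Subgroup.mem_map_of_mem φ hx
  rw [Om, Subgroup.map_commutator] at h2
  have h3 := Subgroup.commutator_mono h1 h1 h2
  rw [← Subgroup.map_commutator] at h3
  exact h3

theorem eHom_iso_mem (i : τ) {a : Fin k → F} (ha : bf J a a ≠ 0) {l : Rest i} {m : GL (Fin k) F} (hm : m ∈ iso J) :
    eHom (J := J) i a ha (embG l m) ∈ iso (JJ J τ) :=
  eHom_iso hf.frm i ha (embG_iso hf.frm l hm)

end Fac

set_option maxHeartbeats 600000 in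
/-- A full restriction gives a full group. -/
theorem Hyp.full_of_down [NeZero k] {M : Subgroup (GL (Ix τ k) F)} (H : Hyp J M) (ht : 3 ≤ Fintype.card τ) {o : τ}
    (h : Full J (dn J o M)) : Full J M := by
  classical
  have hf := H.fac
  have hF := hf.frm
  -- a third factor
  obtain ⟨i, hi⟩ : ∃ i, i ≠ o := Fintype.exists_ne_of_one_lt_card (by omega) o
  obtain ⟨l, hli, hlo⟩ : ∃ l, l ≠ i ∧ l ≠ o := by
    have hc : ({i, o} : Finset τ).card < Fintype.card τ := (Finset.card_le_two).trans_lt (by omega)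
    obtain ⟨l, hl⟩ : ∃ l, l ∉ ({i, o} : Finset τ) := by
      by_contra hcon
      push Not at hcon
      have : (Finset.univ : Finset τ) ⊆ {i, o} := fun x _ => hcon x
      have := Finset.card_le_card this
      rw [Finset.card_univ] at this
      omega
    rw [Finset.mem_insert, Finset.mem_singleton, not_or] at hl
    exact ⟨l, hl.1, hl.2⟩
  haveI : Nonempty (Rest i) := ⟨⟨o, Ne.symm hi⟩⟩
  -- a three-cycle in the commutator group
  let P : Equiv.Perm τ → GL (Ix τ k) F := fun σ =>
    ⟨permM F k σ, permM F k σ⁻¹, permM_mul_inv σ, permM_inv_mul σ⟩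
  have hPi : ∀ σ, P σ ∈ iso (JJ J τ) := fun σ => by
    have ht' : (permM F k σ)ᵀ = permM F k σ⁻¹ := by
      ext x y
      simp only [Matrix.transpose_apply, permM, Matrix.of_apply]
      exact if_congr ⟨fun e => by subst e; ext; simp, fun e => by subst e; ext; simp⟩ rfl rfl
    rw [mem_iso]
    show (permM F k σ)ᵀ * JJ J τ * permM F k σ = JJ J τ
    rw [ht', permM_mul_pureM, Matrix.mul_assoc, permM_inv_mul, Matrix.mul_one]
  obtain ⟨s1, hs1⟩ : ∃ s1, s1 = Equiv.swap o i := ⟨_, rfl⟩
  obtain ⟨s2, hs2⟩ : ∃ s2, s2 = Equiv.swap i l := ⟨_, rfl⟩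
  obtain ⟨c, hcdef⟩ : ∃ c, c = s2 * s1 * s2 * s1 := ⟨_, rfl⟩
  have hcP : P c ∈ M := by
    refine H.mono _ ?_ (mono_perm _)
    have e : P c = ⁅P s2, P s1⁆ := by
      refine Units.ext ?_
      rw [commutatorElement_def, Units.val_mul, Units.val_mul, Units.val_mul]
      show permM F k c = permM F k s2 * permM F k s1 * permM F k s2⁻¹ * permM F k s1⁻¹
      rw [permM_mul, permM_mul, permM_mul, hcdef, hs1, hs2, Equiv.swap_inv, Equiv.swap_inv]
    rw [e]
    exact Subgroup.commutator_mem_commutator (hPi s2) (hPi s1)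
  have hco : c o = i := by
    rw [hcdef, hs1, hs2, Equiv.Perm.mul_apply, Equiv.Perm.mul_apply, Equiv.Perm.mul_apply, Equiv.swap_apply_left,
      Equiv.swap_apply_left, Equiv.swap_apply_of_ne_of_ne hlo hli, Equiv.swap_apply_right]
  have hci : c⁻¹ i = o := by rw [Equiv.Perm.inv_def, Equiv.symm_apply_eq, hco]
  -- the restriction at `i` is full as well
  have hdi : ∀ g ∈ Om (JJ J (Rest i)), TensorWreath.lift i g ∈ M := by
    intro g hg
    obtain ⟨g', hg', e⟩ := hf.exists_lift_om (o := o)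
      ((MulAut.conj (P c)⁻¹).toMonoidHom.comp (TensorWreath.lift i))
      (fun x hx => (iso (JJ J τ)).mul_mem ((iso _).mul_mem ((iso _).inv_mem (hPi c)) ((lift_mem_iso_iff hF i x).2 hx))
        ((iso _).inv_mem ((iso _).inv_mem (hPi c))))
      (fun x _ b => by
        show embM o b * ((P c)⁻¹ * TensorWreath.lift i x * (P c)⁻¹⁻¹).1 =
          ((P c)⁻¹ * TensorWreath.lift i x * (P c)⁻¹⁻¹).1 * embM o b
        rw [Units.val_mul, Units.val_mul, inv_inv]
        show embM o b * (permM F k c⁻¹ * (TensorWreath.lift i x).1 * permM F k c) =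
          permM F k c⁻¹ * (TensorWreath.lift i x).1 * permM F k c * embM o b
        have e2 : permM F k c * embM o b = embM i b * permM F k c := by rw [permM_conj_embM, hco]
        have e3 : permM F k c⁻¹ * embM i b = embM o b * permM F k c⁻¹ := by rw [permM_conj_embM, hci]
        calc embM o b * (permM F k c⁻¹ * (TensorWreath.lift i x).1 * permM F k c)
            = permM F k c⁻¹ * (embM i b * (TensorWreath.lift i x).1) * permM F k c := by
              simp only [← Matrix.mul_assoc, e3]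
          _ = permM F k c⁻¹ * ((TensorWreath.lift i x).1 * embM i b) * permM F k c := by
              rw [lift_val, cen_ins_one i x.1 b]
          _ = permM F k c⁻¹ * (TensorWreath.lift i x).1 * (embM i b * permM F k c) := by
              simp only [Matrix.mul_assoc]
          _ = _ := by rw [← e2]; simp only [Matrix.mul_assoc]) hg
    have h1 : (P c)⁻¹ * TensorWreath.lift i g * (P c)⁻¹⁻¹ ∈ M := by
      have := (h hg').1
      exact Eq.subst (motive := fun z => z ∈ M) e this
    have h2 := M.mul_mem (M.mul_mem hcP h1) (M.inv_mem hcP)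
    rwa [inv_inv, ← mul_assoc, ← mul_assoc, mul_inv_cancel, one_mul, mul_inv_cancel_right] at h2
  -- the lines at `i`
  obtain ⟨a₀, ha₀⟩ := hF.exists_good (A := J) (by rw [Fintype.card_fin]; have := hf.three; omega)
  refine hf.full_of_lines i ha₀ fun a ha T hT => ?_
  have haa : bf J a a ≠ 0 := by rw [ha]; exact ha₀.1
  obtain ⟨U, hU⟩ : ∃ U, U = M.comap (eHom (J := J) i a haa) ⊓ iso (JJ J (Rest i)) := ⟨_, rfl⟩
  have hle : Lc (JJ J (Rest i)) ≤ U := by
    refine hf.core_pow.simp U (hU ▸ inf_le_right) (fun g hg u hu => ?_) ?_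
    · rw [hU] at hu ⊢
      refine ⟨?_, (iso _).mul_mem ((iso _).mul_mem (om_le _ (lc_le _ hg)) hu.2)
        ((iso _).inv_mem (om_le _ (lc_le _ hg)))⟩
      have hl := hdi g (lc_le _ hg)
      have e : eHom (J := J) i a haa (g * u * g⁻¹) =
          TensorWreath.lift i g * eHom (J := J) i a haa u * (TensorWreath.lift i g)⁻¹ := by
        refine Units.ext ?_
        rw [Units.val_mul, Units.val_mul, ← map_inv, lift_val, lift_val, eHom_val, eHom_val, Ea, Ea, Units.val_mul,
          Units.val_mul, Matrix.mul_add, Matrix.add_mul, ins_mul, ins_mul, ins_mul, ins_mul, Matrix.one_mul,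
          Matrix.mul_one, Matrix.mul_one, Matrix.one_mul, Matrix.mul_one, g.mul_inv]
      show eHom (J := J) i a haa (g * u * g⁻¹) ∈ M
      rw [e]
      exact M.mul_mem (M.mul_mem hl hu.1) (M.inv_mem hl)
    · obtain ⟨m, hm, hms⟩ := hf.exists_nonscal
      refine ⟨embG ⟨l, hli⟩ m, ?_, fun s e => hms s (hf.scalar_emb e)⟩
      rw [hU]
      refine ⟨?_, embG_iso hF _ (om_le _ (lc_le _ hm))⟩
      obtain ⟨g', hg', e⟩ := hf.exists_lift_om (o := o) ((eHom (J := J) i a haa).comp (embG ⟨l, hli⟩))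
        (fun x hx => hf.eHom_iso_mem i haa hx)
        (fun x _ => by
          show Cen o (eHom (J := J) i a haa (embG (⟨l, hli⟩ : Rest i) x)).1
          have e1 : ins i (embM (⟨l, hli⟩ : Rest i) x.1) (pr J a) = embM l x.1 * embM i (pr J a) := by
            rw [embM_eq_ins i, ← ins_embM i ⟨l, hli⟩ x.1, ins_mul, Matrix.mul_one, Matrix.one_mul]
          rw [eHom_val, Ea, embG_val, e1, ← embM_eq_ins]
          exact ((cen_embM (Ne.symm hlo) _).mul (cen_embM (Ne.symm hi) _)).add (cen_embM (Ne.symm hi) _))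
        (lc_le _ hm)
      rw [MonoidHom.comp_apply] at e
      have h1 : TensorWreath.lift o g' ∈ M := Subgroup.mem_comap.1 (h hg').1
      rw [e] at h1
      exact h1
  have := hle hT
  rw [hU] at this
  exact this.1

end CfsgLib.Classical.TensorWreathOrth
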