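import Cfsg.Agent.Lib.Classical.TensorWreathOrth.Pairs

set_option autoImplicit false
set_option linter.unusedSectionVars false

/-!
The elements of the class are monomial, when there are three factors or the factors have dimension at least five.
-/

namespace CfsgLib.Classical.TensorWreathOrth

open Matrix CfsgLib.Classical.TensorWreath
open CfsgLib.Classical.TensorOrthNine (eig mem_eig finrank_eig_add)
open scoped MatrixGroups

variable {F : Type*} [Field F] [Finite F] {τ : Type} [Fintype τ] [DecidableEq τ] {k : ℕ}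
  {J : Matrix (Fin k) (Fin k) F}

theorem sig_conj_gl {γ : Type} [Fintype γ] [DecidableEq γ] {h a b : GL γ F} (e : h * a * h⁻¹ = b) :
    sig b.1 = sig a.1 := by rw [← e, Units.val_mul, Units.val_mul, sig_conj h.inv_mul]

namespace Fac

variable (hf : Fac J)
include hf

theorem rk {v : Fin k → F} (hv : bf J v v ≠ 0) : sig (rot J v) = 2 - (k : ℤ) := by
  rw [sig_rot hf.frm hv, Fintype.card_fin]

theorem rk2 {u v : Fin k → F} (hu : bf J u u ≠ 0) (hv : bf J v v ≠ 0) (huv : bf J u v = 0) :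
    sig (rot J u * rot J v) = (k : ℤ) - 4 := by
  rw [sig_rot_two hf.frm hu hv huv, Fintype.card_fin]

theorem rk3 {u c b : Fin k → F} (hu : bf J u u ≠ 0) (hc : bf J c c ≠ 0) (hb : bf J b b ≠ 0) (hcb : bf J c b = 0)
    (huc : bf J u c = 0) (hub : bf J u b = 0) :
    rot J c * rot J b * rot J u * (rot J c * rot J b * rot J u) = 1 ∧
      sig (rot J c * rot J b * rot J u) = 6 - (k : ℤ) := by
  have h := hf.frm
  have hcu : bf J c u = 0 := by rw [h.bf_comm]; exact huc
  have hbu : bf J b u = 0 := by rw [h.bf_comm]; exact hub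
  have hc' : rot J c * rot J b * rot J u = rot J u * (rot J c * rot J b) := by
    rw [mul_assoc, rot_comm_orth h hbu, ← mul_assoc, rot_comm_orth h hcu, mul_assoc]
  have hR := rot_two_sq h hc hb hcb
  constructor
  · conv_lhs => arg 2; rw [hc']
    rw [mul_assoc, ← mul_assoc (rot J u), rot_mul_self J hu, one_mul, hR]
  · rw [(sig_mul_rot h hR hu hc').1 (by
      rw [← Matrix.mulVec_mulVec, rot_perp J hbu, Matrix.mulVec_neg, rot_perp J hcu, neg_neg]),
      hf.rk2 hc hb hcb]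
    ring

/-- A rotation commuting with another in a product across two factors commutes with it. -/
theorem cancel_two [NeZero k] {i n : τ} (hin : i ≠ n) {A B : Matrix (Fin k) (Fin k) F} (hB : B * B = 1) {v : Fin k → F}
    (h : embM i (rot J v) * (embM i A * embM n B) = embM i A * embM n B * embM i (rot J v)) :
    rot J v * A = A * rot J v := by
  rw [← Matrix.mul_assoc, embM_mul, Matrix.mul_assoc _ (embM n B), embM_comm hin.symm, ← Matrix.mul_assoc,
    embM_mul] at h
  have h2 := congrArg (· * embM n B) h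
  simp only [Matrix.mul_assoc, embM_sq n hB, Matrix.mul_one] at h2
  exact embM_injective i h2

/-- The same for three factors. -/
theorem cancel_three [NeZero k] {i n p : τ} (hin : i ≠ n) (hip : i ≠ p) {A B C : Matrix (Fin k) (Fin k) F}
    (hB : B * B = 1) (hC : C * C = 1) {v : Fin k → F}
    (h : embM i (rot J v) * (embM i A * embM n B * embM p C) = embM i A * embM n B * embM p C * embM i (rot J v)) :
    rot J v * A = A * rot J v := by
  refine hf.cancel_two hin hB ?_
  rw [← Matrix.mul_assoc, Matrix.mul_assoc _ (embM p C), embM_comm hip.symm, ← Matrix.mul_assoc] at h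
  have h2 := congrArg (· * embM p C) h
  simp only [Matrix.mul_assoc, embM_sq p hC, Matrix.mul_one] at h2
  simp only [Matrix.mul_assoc]
  exact h2

/-- A rotation commuting with a product of two orthogonal ones. -/
theorem sig_rot_with {c b v : Fin k → F} (hc : bf J c c ≠ 0) (hb : bf J b b ≠ 0) (hcb : bf J c b = 0)
    (hv : bf J v v ≠ 0) (hcomm : rot J v * (rot J c * rot J b) = rot J c * rot J b * rot J v) :
    rot J c * rot J b * rot J v * (rot J c * rot J b * rot J v) = 1 ∧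
      (sig (rot J c * rot J b * rot J v) = 2 - (k : ℤ) ∨ sig (rot J c * rot J b * rot J v) = 6 - (k : ℤ)) := by
  have h := hf.frm
  obtain ⟨P, hP⟩ : ∃ P, P = rot J c * rot J b := ⟨_, rfl⟩
  have hR : P * P = 1 := hP ▸ rot_two_sq h hc hb hcb
  have hsP : sig P = (k : ℤ) - 4 := hP ▸ hf.rk2 hc hb hcb
  rw [← hP] at hcomm ⊢
  refine ⟨by
    conv_lhs => arg 2; rw [← hcomm]
    rw [mul_assoc, ← mul_assoc (rot J v), rot_mul_self J hv, one_mul, hR], ?_⟩
  have hm : P *ᵥ v ∈ eig (rot J v) 1 := by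
    rw [mem_eig, one_smul, Matrix.mulVec_mulVec, hcomm, ← Matrix.mulVec_mulVec, rot_self J hv]
  rw [eig_rot_one h hv, Submodule.mem_span_singleton] at hm
  obtain ⟨t, ht⟩ := hm
  have ht1 : t * t = 1 := by
    have h5 : (t * t) • v = v := by
      calc (t * t) • v = t • (P *ᵥ v) := by rw [← smul_smul, ht]
        _ = P *ᵥ (t • v) := (Matrix.mulVec_smul _ _ _).symm
        _ = v := by rw [ht, Matrix.mulVec_mulVec, hR, Matrix.one_mulVec]
    have h6 := congrArg (bf J v) h5
    rw [bf_smul_right] at h6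
    exact mul_right_cancel₀ hv (h6.trans (one_mul _).symm)
  obtain ⟨q1, q2⟩ := sig_mul_rot h hR hv hcomm.symm
  rcases mul_self_eq_one_iff.1 ht1 with rfl | rfl
  · exact Or.inr (by rw [q1 (by rw [← ht, one_smul]), hsP]; ring)
  · exact Or.inl (by rw [q2 (by rw [← ht, neg_one_smul]), hsP]; ring)

/-- A line orthogonal to two orthogonal lines. -/
theorem third {c b : Fin k → F} (hc : Good J c) (hb : Good J b) (hcb : bf J c b = 0) :
    ∃ a, Good J a ∧ bf J a c = 0 ∧ bf J a b = 0 := by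
  classical
  have h3 := hf.three
  obtain ⟨p0, p1, p2, h01, h02, h12⟩ : ∃ p0 p1 p2 : Fin k, p0 ≠ p1 ∧ p0 ≠ p2 ∧ p1 ≠ p2 :=
    ⟨⟨0, by omega⟩, ⟨1, by omega⟩, ⟨2, by omega⟩, by simp [Fin.ext_iff], by simp [Fin.ext_iff], by simp [Fin.ext_iff]⟩
  obtain ⟨f, hfr, hff⟩ := hf.exists_frame_on {p0, p1} (fun a => if a = p0 then c else b)
    (fun a ha a' ha' hne => by
      rw [Finset.mem_insert, Finset.mem_singleton] at ha ha'
      rcases ha with rfl | rfl <;> rcases ha' with rfl | rfl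
      · exact absurd rfl hne
      · rw [if_pos rfl, if_neg h01.symm]; exact hcb
      · rw [if_pos rfl, if_neg h01.symm, hf.frm.bf_comm]; exact hcb
      · exact absurd rfl hne)
    (fun a _ => by by_cases ha : a = p0 <;> simp only [ha, if_true, if_false] <;> first | exact hc | exact hb)
  refine ⟨f p2, hfr.good p2, ?_, ?_⟩
  · rw [show c = f p0 from ((hff p0 (by simp)).trans (if_pos rfl)).symm]; exact hfr.ob.orth _ _ h02.symm
  · rw [show b = f p1 from ((hff p1 (by simp)).trans (if_neg h01.symm)).symm]; exact hfr.ob.orth _ _ h12.symm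

/-- A line orthogonal to a line. -/
theorem second {c : Fin k → F} (hc : Good J c) : ∃ b, Good J b ∧ bf J c b = 0 := by
  classical
  have h3 := hf.three
  obtain ⟨f, hfr, hf0⟩ := hf.exists_frame_on {⟨0, by omega⟩} (fun _ => c) (fun a ha b hb hne => absurd
    ((Finset.mem_singleton.1 ha).trans (Finset.mem_singleton.1 hb).symm) hne) fun _ _ => hc
  refine ⟨f ⟨1, by omega⟩, hfr.good _, ?_⟩
  rw [← hf0 _ (Finset.mem_singleton_self _)]
  exact hfr.ob.orth _ _ (by simp [Fin.ext_iff])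

end Fac

namespace Ctx

variable {M : Subgroup (GL (Ix τ k) F)} (H : Ctx J M)
include H

/-- The centraliser of an involution which tells two rotations apart. -/
theorem cent_f [NeZero k] (h3 : k = 3 → 3 ≤ Fintype.card τ) {f x y g : GL (Ix τ k) F} (hf2 : f * f = 1)
    (hx : IsDl J x) (hy : IsDl J y) (cx : x * f = f * x) (cy : y * f = f * y)
    (hne : sig (y * f).1 ≠ sig (x * f).1) (hg : g ∈ M) (cg : g * f = f * g) :
    Mono g.1 ∧ IsDl J (g * x * g⁻¹) := by
  have hw : Cls J M (g * x * g⁻¹) := ⟨g, hg, x, hx, rfl⟩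
  have hgi : g⁻¹ * f = f * g⁻¹ := (Commute.inv_left (show Commute g f from cg)).eq
  have e : g * x * g⁻¹ * f = g * (x * f) * g⁻¹ := by rw [mul_assoc, hgi, ← mul_assoc, mul_assoc g x]
  have cw : g * x * g⁻¹ * f = f * (g * x * g⁻¹) := by
    rw [e, cx, ← mul_assoc, cg]; group
  have hd := H.cls_mono h3 hw (H.key h3 hw hy hf2 cy cw (by rw [sig_conj_gl e.symm]; exact hne))
  exact ⟨H.conn hg hx hd, hd⟩

/-- The central involution against an element of another signature. -/
theorem dihedral_f [NeZero k] {e f : GL (Ix τ k) F} (he : Cls J M e) (hfM : f ∈ M) (hf2 : f * f = 1)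
    (hfs : sig f.1 ≠ xsig τ k) :
    ∃ ζ ∈ M, ζ ≠ 1 ∧ ζ * ζ = 1 ∧ f * ζ = ζ * f ∧ e * ζ = ζ * e ∧
      (∀ z, f * z = z * f → e * z = z * e → z * ζ = ζ * z) ∧
      ((Cls J M (e * ζ) ∧ (∃ m, Even m ∧ (f * e) ^ m = ζ) ∧
          ∀ z, f * z = z * f → e * z = z * e → z * z = 1 → ∃ h ∈ M, h * (e * z) * h⁻¹ = e * z * ζ) ∨
        (Cls J M (f * ζ) ∧ sig (e * ζ).1 = sig f.1)) := by
  obtain ⟨heM, hee, hes⟩ := H.cls_props he
  obtain ⟨ζ, hζM, hζ, cf, ce, cz, hcase⟩ := dihedral_conj M hfM heM hf2 hee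
  have one_comm : ∀ a : GL (Ix τ k) F, a * 1 = 1 * a := fun a => by rw [mul_one, one_mul]
  refine ⟨ζ, hζM, fun e1 => ?_, hζ, cf, ce, cz, ?_⟩
  · rcases hcase with ⟨hn, -⟩ | hz'
    · exact hn e1
    · obtain ⟨⟨h, -, e2⟩, -⟩ := hz' 1 (one_comm f) (one_comm e) (one_mul 1)
      rw [e1] at e2
      simp only [mul_one] at e2
      exact hfs ((sig_conj_gl e2).trans hes)
  · rcases hcase with ⟨-, hm, hz'⟩ | hz'
    · refine Or.inl ⟨?_, hm, fun z c1 c2 hz => (hz' z c1 c2 hz).2⟩
      obtain ⟨-, h, hh, e2⟩ := hz' 1 (one_comm f) (one_comm e) (one_mul 1)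
      simp only [mul_one] at e2
      exact e2 ▸ H.cls_conj hh he
    · obtain ⟨⟨h, hh, e2⟩, h', -, e3⟩ := hz' 1 (one_comm f) (one_comm e) (one_mul 1)
      simp only [mul_one] at e2 e3
      exact Or.inr ⟨e2 ▸ H.cls_conj hh he, sig_conj_gl e3⟩

set_option maxHeartbeats 400000 in
/-- The even alternative. -/
theorem even_finish [NeZero k] (h3 : k = 3 → 3 ≤ Fintype.card τ) {e x ζ : GL (Ix τ k) F} (he : Cls J M e)
    (hx : IsDl J x) (hζM : ζ ∈ M) (hζ1 : ζ ≠ 1) (hζ : ζ * ζ = 1) (cx : x * ζ = ζ * x) (ce : e * ζ = ζ * e)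
    (hE : Cls J M (e * ζ)) : Mono e.1 := by
  obtain ⟨hxx, -, hxm⟩ := H.dl_props hx
  obtain ⟨-, -, hEs⟩ := H.cls_props hE
  by_cases hs : sig (x * ζ).1 = xsig τ k
  swap
  · exact H.key h3 he hx hζ cx ce (by rw [hEs]; exact hs)
  have hww : x * ζ * (x * ζ) = 1 := by rw [mul_assoc, ← mul_assoc ζ, ← cx, mul_assoc x ζ, hζ, mul_one, hxx]
  have ex : x * (x * ζ) = ζ := by rw [← mul_assoc, hxx, one_mul]
  rcases H.mono_class (M.mul_mem (H.dl_mem hx) hζM)
      ((monoGroup F τ k).mul_mem hxm (H.dl_cent hx hζM cx.symm)) hww hs with hw | ⟨hk, g, p, q, hpq, ew, hc⟩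
  · refine H.prod_mono h3 he hx hw (fun e1 => hζ1 ?_) (by rw [ex, mul_assoc, ← cx, ex]) (by rw [ex]; exact ce)
      (by rw [ex]; exact hE)
    exact mul_left_cancel (e1.trans (mul_one x).symm)
  -- an exchange
  have hf := H.fac
  have h := hf.frm
  obtain ⟨n, d, hd, exv⟩ := hx
  have hnp : n ≠ p ∧ n ≠ q := by
    have hcomm : (x * ζ).1 * embM n (rot J d) = embM n (rot J d) * (x * ζ).1 := by
      rw [← exv, ← Units.val_mul, ← Units.val_mul, show x * ζ * x = x * (x * ζ) by rw [mul_assoc, ← cx]]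
    have h1 := mono_mul_embM (g := g) (g' := fun l => (g l)⁻¹) (Equiv.swap p q) n
      (nonsing_inv_of_pureM (hf.det_pureM_ne ew) _) (rot J d)
    rw [← ew, hcomm] at h1
    have h2 := (x * ζ).isUnit.mul_right_cancel h1
    refine ⟨?_, ?_⟩ <;> rintro rfl
    · rw [Equiv.swap_apply_left] at h2; exact hf.embM_rot_ne hpq hd.1 _ h2
    · rw [Equiv.swap_apply_right] at h2; exact hf.embM_rot_ne hpq.symm hd.1 _ h2
  obtain ⟨b, hb, hdb⟩ := hf.second hd
  obtain ⟨A, eA⟩ : ∃ A, (x * ζ).1 = ins n A 1 := ⟨_, (hc n hnp.1 hnp.2).eq_ins⟩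
  have hAA : A * A = 1 := by
    refine ins_one_injective n ?_
    show ins n (A * A) 1 = ins n 1 1
    rw [ins_one_one, ← Matrix.one_mul (1 : Matrix (Fin k) (Fin k) F), ← ins_mul, ← eA, ← Units.val_mul, hww,
      Units.val_one]
  have hbd : bf J b d = 0 := by rw [h.bf_comm]; exact hdb
  obtain ⟨y, hy⟩ : ∃ y, y = embG n (rotG J b hb.1) := ⟨_, rfl⟩
  have ey : y.1 = embM n (rot J b) := by rw [hy]; rfl
  have eζ : ζ.1 = ins n A (rot J d) := by
    rw [← ex, Units.val_mul, exv, eA, embM_eq_ins, ins_mul, Matrix.one_mul, Matrix.mul_one]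
  refine H.key h3 he (hy ▸ isDl_embG n hb : IsDl J y) hζ (Units.ext ?_) ce ?_
  · rw [Units.val_mul, Units.val_mul, ey, eζ, embM_eq_ins, ins_mul, ins_mul, Matrix.one_mul, Matrix.mul_one,
      rot_comm_orth h hbd]
  · rw [hEs, Units.val_mul, ey, eζ, embM_eq_ins, ins_mul, Matrix.one_mul,
      sig_ins h.two n hAA (rot_two_sq h hb.1 hd.1 hbd), hf.rk2 hb.1 hd.1 hbd]
    rw [eA, sig_ins h.two n hAA (one_mul 1), sig_one h.two, Fintype.card_fin] at hs
    intro e'
    have hX := xsig_lt (τ := τ) hf.three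
    subst hk
    push_cast at e' hs
    linarith

set_option maxHeartbeats 800000 in
/-- The odd alternative for three factors, with a commuting rotation at one of them. -/
theorem odd_three [NeZero k] (h3 : k = 3 → 3 ≤ Fintype.card τ) {e f u : GL (Ix τ k) F} (he : Cls J M e)
    {i n p : τ} (hin : i ≠ n) (hip : i ≠ p) (hnp : n ≠ p) {c d g : Fin k → F} (hc : Good J c) (hd : Good J d)
    (hg : Good J g) (ef : f.1 = embM i (rot J c) * embM n (rot J d) * embM p (rot J g)) {v : Fin k → F}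
    (hv : Good J v) (eu : u.1 = embM i (rot J v)) (hfu : f * u = u * f) (ce : e * (f * u) = f * u * e)
    (hs : sig (e * (f * u)).1 = sig f.1) : Mono e.1 := by
  have hf := H.fac
  have h := hf.frm
  have h2 := h.two
  have hk := hf.three
  have hcv : rot J v * rot J c = rot J c * rot J v := by
    refine hf.cancel_three hin hip (rot_mul_self J hd.1) (rot_mul_self J hg.1) ?_
    rw [← ef, ← eu, ← Units.val_mul, ← Units.val_mul, hfu]
  obtain ⟨y, hy⟩ : ∃ y, y = embG n (rotG J d hd.1) := ⟨_, rfl⟩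
  have ey : y.1 = embM n (rot J d) := by rw [hy]; rfl
  have hyd : IsDl J y := hy ▸ isDl_embG n hd
  have hQ : (f * u).1 = embM i (rot J c * rot J v) * embM n (rot J d) * embM p (rot J g) := by
    rw [Units.val_mul, ef, eu, Matrix.mul_assoc, embM_comm (Ne.symm hip), ← Matrix.mul_assoc,
      Matrix.mul_assoc (embM i (rot J c)), embM_comm (Ne.symm hin), ← Matrix.mul_assoc, embM_mul]
  obtain ⟨R, hR⟩ : ∃ R, R = rot J c * rot J v := ⟨_, rfl⟩
  have hRR : R * R = 1 := by
    rw [hR]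
    conv_lhs => arg 2; rw [← hcv]
    rw [mul_assoc, ← mul_assoc (rot J v), rot_mul_self J hv.1, one_mul, rot_mul_self J hc.1]
  rw [← hR] at hQ
  have hyQ : (y * (f * u)).1 = embM i R * embM p (rot J g) := by
    rw [Units.val_mul, ey, hQ, ← Matrix.mul_assoc, ← Matrix.mul_assoc, embM_comm (Ne.symm hin),
      Matrix.mul_assoc _ (embM n (rot J d)) (embM n (rot J d)), embM_sq n (rot_mul_self J hd.1), Matrix.mul_one]
  have hfuu : f * u * (f * u) = 1 := Units.ext (by
    rw [Units.val_mul, hQ, three_sq hin hip hnp hRR (rot_mul_self J hd.1) (rot_mul_self J hg.1), Units.val_one])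
  refine H.key h3 he hyd hfuu (Units.ext ?_) ce ?_
  · rw [Units.val_mul, Units.val_mul (f * u), ey, hQ, ← Matrix.mul_assoc, ← Matrix.mul_assoc,
      embM_comm (Ne.symm hin), Matrix.mul_assoc (embM i R * embM n (rot J d)) (embM p (rot J g)),
      embM_comm (Ne.symm hnp), ← Matrix.mul_assoc]
  have hsR : sig R = (k : ℤ) ∨ sig R = (k : ℤ) - 4 := by
    rcases hf.rot_commute hc.1 hv.1 hcv.symm with h0 | h0
    · exact Or.inr (by rw [hR, hf.rk2 hc.1 hv.1 h0])
    · exact Or.inl (by rw [hR, h0, rot_mul_self J hc.1, sig_one h2, Fintype.card_fin])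
  rw [hs, hyQ, sig_two h2 hip hRR (rot_mul_self J hg.1), hf.rk hg.1, ef,
    sig_three h2 hin hip hnp (rot_mul_self J hc.1) (rot_mul_self J hd.1) (rot_mul_self J hg.1), hf.rk hc.1,
    hf.rk hd.1, hf.rk hg.1]
  have hc3 : 3 ≤ Fintype.card τ := by
    have : ({i, n, p} : Finset τ).card ≤ Fintype.card τ := Finset.card_le_univ _
    rwa [Finset.card_insert_of_notMem (by simp [hin, hip]), Finset.card_pair hnp] at this
  rw [show Fintype.card τ - 2 = Fintype.card τ - 3 + 1 by omega, pow_succ]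
  intro e'
  have hP : (k : ℤ) ^ (Fintype.card τ - 3) ≠ 0 := pow_ne_zero _ (by omega)
  have e1 : (k : ℤ) * sig R * (2 - k) = (2 - k) * (2 - k) * (2 - k) := mul_left_cancel₀ hP (by linear_combination e')
  have e2 := mul_right_cancel₀ (show (2 : ℤ) - k ≠ 0 by omega) e1
  rcases hsR with hsR | hsR <;> rw [hsR] at e2 <;> nlinarith

set_option maxHeartbeats 800000 in
/-- An involution keeping a product of three rotations permutes them. -/
theorem three_image [NeZero k] (ht : 3 ≤ Fintype.card τ) {f ζ : GL (Ix τ k) F} {i n p : τ} (hin : i ≠ n) (hip : i ≠ p)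
    (hnp : n ≠ p) {c : Fin k → F} (hc : Good J c)
    (ef : f.1 = embM i (rot J c) * embM n (rot J c) * embM p (rot J c)) (hζM : ζ ∈ M) (hζ : ζ * ζ = 1)
    (cf : f * ζ = ζ * f) :
    Mono ζ.1 ∧ ∃ q, (q = i ∨ q = n ∨ q = p) ∧
      (ζ * embG i (rotG J c hc.1) * ζ⁻¹).1 = embM q (rot J c) := by
  classical
  have hf := H.fac
  have h := hf.frm
  have h2 := h.two
  have hk := hf.three
  have h3 : k = 3 → 3 ≤ Fintype.card τ := fun _ => ht
  have hsq := rot_mul_self J hc.1
  obtain ⟨x, hx⟩ : ∃ x, x = embG i (rotG J c hc.1) := ⟨_, rfl⟩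
  have ex : x.1 = embM i (rot J c) := by rw [hx]; rfl
  have dx : IsDl J x := hx ▸ isDl_embG i hc
  rw [← hx]
  obtain ⟨b, hb, hcb⟩ := hf.second hc
  have hbc : bf J b c = 0 := by rw [h.bf_comm]; exact hcb
  have hP3 : (0 : ℤ) < (k : ℤ) ^ (Fintype.card τ - 3) := pow_pos (by omega) _
  have hpow : (k : ℤ) ^ (Fintype.card τ - 2) = (k : ℤ) ^ (Fintype.card τ - 3) * k := by
    rw [show Fintype.card τ - 2 = Fintype.card τ - 3 + 1 by omega, pow_succ]
  have hne : ((2 : ℤ) - k) * (2 - k) ≠ 0 := mul_ne_zero (by omega) (by omega)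
  obtain ⟨F', hF'⟩ : ∃ F' : ℤ, F' = (k : ℤ) ^ (Fintype.card τ - 3) * (k * ((2 - (k : ℤ)) * (2 - k))) := ⟨_, rfl⟩
  have comm : ∀ {R : Matrix (Fin k) (Fin k) F}, R * rot J c = rot J c * R →
      embM i R * (embM i (rot J c) * embM n (rot J c) * embM p (rot J c)) =
        embM i (rot J c) * embM n (rot J c) * embM p (rot J c) * embM i R := by
    intro R hR
    rw [Matrix.mul_assoc _ (embM p (rot J c)) (embM i R), embM_comm (Ne.symm hip), ← Matrix.mul_assoc
      (embM i (rot J c) * embM n (rot J c)), Matrix.mul_assoc (embM i (rot J c)) (embM n (rot J c)) (embM i R),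
      embM_comm (Ne.symm hin), ← Matrix.mul_assoc (embM i (rot J c)), ← Matrix.mul_assoc (embM i R),
      ← Matrix.mul_assoc (embM i R), embM_mul, embM_mul, hR]
  have hxf : x * f = f * x := Units.ext (by rw [Units.val_mul, Units.val_mul, ex, ef, comm rfl])
  have sx : sig (x * f).1 = F' := by
    rw [Units.val_mul, ex, ef, ← Matrix.mul_assoc, ← Matrix.mul_assoc, embM_sq i hsq, Matrix.one_mul,
      sig_two h2 hnp hsq hsq, hf.rk hc.1, hpow, hF']
    ring
  obtain ⟨y, hy⟩ : ∃ y, y = embG i (rotG J b hb.1) := ⟨_, rfl⟩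
  have ey : y.1 = embM i (rot J b) := by rw [hy]; rfl
  have hyf : y * f = f * y := Units.ext (by
    rw [Units.val_mul, Units.val_mul, ey, ef, comm (rot_comm_orth h hbc)])
  have hf2 : f * f = 1 := Units.ext (by
    rw [Units.val_mul, ef, three_sq hin hip hnp hsq hsq hsq, Units.val_one])
  obtain ⟨hm, hd⟩ := H.cent_f h3 hf2 dx (hy ▸ isDl_embG i hb : IsDl J y) hxf hyf (by
    rw [sx, Units.val_mul, ey, ef, ← Matrix.mul_assoc, ← Matrix.mul_assoc, embM_mul,
      sig_three h2 hin hip hnp (rot_two_sq h hb.1 hc.1 hbc) hsq hsq, hf.rk2 hb.1 hc.1 hbc, hf.rk hc.1, hF']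
    intro e'
    have e2 : (k : ℤ) - 4 = k := mul_left_cancel₀ (mul_ne_zero hP3.ne' hne) (by linear_combination e')
    omega) hζM cf.symm
  refine ⟨hm, ?_⟩
  obtain ⟨w, hw⟩ : ∃ w, w = ζ * x * ζ⁻¹ := ⟨_, rfl⟩
  rw [← hw] at hd ⊢
  have hwf : w * f = ζ * (x * f) * ζ⁻¹ := by
    rw [hw, inv_eq_of_mul_eq_one_right hζ, mul_assoc _ ζ f, ← cf, ← mul_assoc, mul_assoc ζ x f]
  have hwc : w * f = f * w := by
    rw [hwf, hxf, hw, ← mul_assoc, ← cf]; group
  have hws : sig (w * f).1 = F' := by rw [sig_conj_gl hwf.symm, sx]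
  obtain ⟨q, v, hv, ew⟩ := hd
  have p12 : f.1 = embM n (rot J c) * embM i (rot J c) * embM p (rot J c) := by rw [ef, embM_comm hin]
  have p13 : f.1 = embM p (rot J c) * embM i (rot J c) * embM n (rot J c) := by
    rw [ef, Matrix.mul_assoc, embM_comm hnp, ← Matrix.mul_assoc, embM_comm hip]
  have one : ∀ {q l o : τ}, q ≠ l → q ≠ o → l ≠ o →
      f.1 = embM q (rot J c) * embM l (rot J c) * embM o (rot J c) → w.1 = embM q (rot J v) →
      w.1 = embM q (rot J c) := by
    intro q l o hql hqo hlo ef' ew'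
    have h1 := congrArg Units.val hwc
    rw [Units.val_mul, Units.val_mul, ew', ef'] at h1
    rcases hf.rot_commute hc.1 hv.1 (hf.cancel_three hql hqo hsq hsq h1).symm with h0 | h0
    · exfalso
      have hvc : bf J v c = 0 := by rw [h.bf_comm]; exact h0
      rw [Units.val_mul, ew', ef', ← Matrix.mul_assoc, ← Matrix.mul_assoc, embM_mul,
        sig_three h2 hql hqo hlo (rot_two_sq h hv.1 hc.1 hvc) hsq hsq, hf.rk2 hv.1 hc.1 hvc, hf.rk hc.1,
        hF'] at hws
      have e2 : (k : ℤ) - 4 = k := mul_left_cancel₀ (mul_ne_zero hP3.ne' hne) (by linear_combination hws)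
      omega
    · rw [ew', h0]
  by_cases hqi : q = i
  · subst hqi; exact ⟨q, Or.inl rfl, one hin hip hnp ef ew⟩
  by_cases hqn : q = n
  · subst hqn; exact ⟨q, Or.inr (Or.inl rfl), one hin.symm hnp hip p12 ew⟩
  by_cases hqp : q = p
  · subst hqp; exact ⟨q, Or.inr (Or.inr rfl), one hip.symm hnp.symm hin p13 ew⟩
  exfalso
  have h4 : 4 ≤ Fintype.card τ := by
    have : ({q, i, n, p} : Finset τ).card ≤ Fintype.card τ := Finset.card_le_univ _
    rwa [Finset.card_insert_of_notMem (by simp [hqi, hqn, hqp]),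
      Finset.card_insert_of_notMem (by simp [hin, hip]), Finset.card_pair hnp] at this
  rw [Units.val_mul, ew, ef, ← Matrix.mul_assoc, ← Matrix.mul_assoc,
    sig_four h2 hqi hqn hqp hin hip hnp (rot_mul_self J hv.1) hsq hsq hsq, hf.rk hv.1, hf.rk hc.1, hF',
    show Fintype.card τ - 3 = Fintype.card τ - 4 + 1 by omega, pow_succ] at hws
  have e2 : ((2 : ℤ) - k) * (2 - k) = k * k :=
    mul_left_cancel₀ (mul_ne_zero (pow_ne_zero (Fintype.card τ - 4) (show (k : ℤ) ≠ 0 by omega)) hne)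
      (by linear_combination hws)
  nlinarith

set_option maxHeartbeats 800000 in
/-- The elements of the class, three factors or more. -/
theorem top_three [NeZero k] (ht : 3 ≤ Fintype.card τ) {e : GL (Ix τ k) F} (he : Cls J M e) : Mono e.1 := by
  classical
  have hf := H.fac
  have h := hf.frm
  have h2 := h.two
  have hk := hf.three
  have h3 : k = 3 → 3 ≤ Fintype.card τ := fun _ => ht
  obtain ⟨i, n, hin⟩ := Fintype.exists_pair_of_one_lt_card (α := τ) (by omega)
  obtain ⟨p, hp⟩ : ∃ p, p ∉ ({i, n} : Finset τ) := by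
    by_contra hcon
    push Not at hcon
    have := Finset.card_le_card (show (Finset.univ : Finset τ) ⊆ {i, n} from fun x _ => hcon x)
    rw [Finset.card_univ, Finset.card_pair hin] at this
    omega
  rw [Finset.mem_insert, Finset.mem_singleton, not_or] at hp
  obtain ⟨hpi, hpn⟩ := hp
  obtain ⟨c, hc⟩ := h.exists_good (A := J) (by rw [Fintype.card_fin]; omega)
  obtain ⟨b, hb, hcb⟩ := hf.second hc
  obtain ⟨X, hX⟩ : ∃ X : τ → GL (Ix τ k) F, X = fun j => embG j (rotG J c hc.1) := ⟨_, rfl⟩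
  have eX : ∀ j, (X j).1 = embM j (rot J c) := fun j => by rw [hX]; rfl
  have dX : ∀ j, IsDl J (X j) := fun j => hX ▸ isDl_embG j hc
  have sX : ∀ j, X j * X j = 1 := fun j => (H.dl_props (dX j)).1
  have cX : ∀ j l, X j * X l = X l * X j := fun j l => by
    by_cases hjl : j = l
    · rw [hjl]
    · exact Units.ext (by rw [Units.val_mul, Units.val_mul, eX, eX, embM_comm hjl])
  obtain ⟨f, hfdef⟩ : ∃ f, f = X i * X n * X p := ⟨_, rfl⟩
  have ef : f.1 = embM i (rot J c) * embM n (rot J c) * embM p (rot J c) := by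
    rw [hfdef, Units.val_mul, Units.val_mul, eX, eX, eX]
  have hsq := rot_mul_self J hc.1
  have hf2 : f * f = 1 := Units.ext (by
    rw [Units.val_mul, ef, three_sq hin (Ne.symm hpi) (Ne.symm hpn) hsq hsq hsq, Units.val_one])
  have hfM : f ∈ M := hfdef ▸ M.mul_mem (M.mul_mem (H.dl_mem (dX i)) (H.dl_mem (dX n))) (H.dl_mem (dX p))
  have hfsig : sig f.1 = (k : ℤ) ^ (Fintype.card τ - 3) * ((2 - (k : ℤ)) * (2 - k) * (2 - k)) := by
    rw [ef, sig_three h2 hin (Ne.symm hpi) (Ne.symm hpn) hsq hsq hsq, hf.rk hc.1]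
  have hpow : (k : ℤ) ^ (Fintype.card τ - 2) = (k : ℤ) ^ (Fintype.card τ - 3) * k := by
    rw [show Fintype.card τ - 2 = Fintype.card τ - 3 + 1 by omega, pow_succ]
  have hP3 : (0 : ℤ) < (k : ℤ) ^ (Fintype.card τ - 3) := pow_pos (by omega) _
  obtain ⟨ζ, hζM, hζ1, hζ, cf, ce, -, hcase⟩ := H.dihedral_f he hfM hf2 (by
    rw [hfsig, H.xsig_eq, hpow]
    intro e'
    have e2 : ((2 : ℤ) - k) * (2 - k) = k * k :=
      mul_left_cancel₀ (mul_ne_zero hP3.ne' (show (2 : ℤ) - k ≠ 0 by omega)) (by linear_combination e')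
    nlinarith)
  have mem3 : ∀ j, j = i ∨ j = n ∨ j = p → X j * f = f * X j := fun j _ =>
    hfdef ▸ (((show Commute (X j) (X i) from cX j i).mul_right (cX j n)).mul_right (cX j p)).eq
  have ev : ∀ a b d, (X a * X b * X d).1 = embM a (rot J c) * embM b (rot J c) * embM d (rot J c) :=
    fun a b d => by rw [Units.val_mul, Units.val_mul, eX, eX, eX]
  have s12 : ∀ a b d, X a * X b * X d = X b * X a * X d := fun a b d => by rw [cX a b]
  have s23 : ∀ a b d, X a * X b * X d = X a * X d * X b := fun a b d => by rw [mul_assoc, cX b d, ← mul_assoc]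
  -- products with the involution
  have perm3 : ∀ {j l o : τ}, j ≠ l → j ≠ o → l ≠ o → (j = i ∨ j = n ∨ j = p) → (l = i ∨ l = n ∨ l = p) →
      (o = i ∨ o = n ∨ o = p) → f.1 = embM j (rot J c) * embM l (rot J c) * embM o (rot J c) := by
    intro j l o hjl hjo hlo hj hl ho
    rw [← ev, hfdef]
    refine congrArg Units.val ?_
    rcases hj with rfl | rfl | rfl <;> rcases hl with rfl | rfl | rfl <;> rcases ho with rfl | rfl | rfl <;>
      first
      | exact absurd rfl hjl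
      | exact absurd rfl hjo
      | exact absurd rfl hlo
      | rfl
      | exact s12 _ _ _
      | exact s23 _ _ _
      | exact (s12 _ _ _).trans (s23 _ _ _)
      | exact (s23 _ _ _).trans (s12 _ _ _)
      | exact ((s12 _ _ _).trans (s23 _ _ _)).trans (s12 _ _ _)
  have others : ∀ {q : τ}, (q = i ∨ q = n ∨ q = p) → ∃ l o : τ, q ≠ l ∧ q ≠ o ∧ l ≠ o ∧
      (l = i ∨ l = n ∨ l = p) ∧ (o = i ∨ o = n ∨ o = p) := by
    rintro q (rfl | rfl | rfl)
    · exact ⟨n, p, hin, Ne.symm hpi, Ne.symm hpn, Or.inr (Or.inl rfl), Or.inr (Or.inr rfl)⟩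
    · exact ⟨i, p, hin.symm, Ne.symm hpn, Ne.symm hpi, Or.inl rfl, Or.inr (Or.inr rfl)⟩
    · exact ⟨i, n, hpi, hpn, hin, Or.inl rfl, Or.inr (Or.inl rfl)⟩
  have fix : ∀ j, (j = i ∨ j = n ∨ j = p) →
      Mono ζ.1 ∧ ∃ l, (l = i ∨ l = n ∨ l = p) ∧ ζ * X j * ζ⁻¹ = X l := by
    intro j hj
    obtain ⟨l, o, hjl, hjo, hlo, hl, ho⟩ := others hj
    obtain ⟨hm, q, hq, hq'⟩ := H.three_image ht hjl hjo hlo hc (perm3 hjl hjo hlo hj hl ho) hζM hζ cf
    refine ⟨hm, ?_⟩
    rcases hq with rfl | rfl | rfl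
    · exact ⟨q, hj, Units.ext (by rw [eX q, hX]; exact hq')⟩
    · exact ⟨q, hl, Units.ext (by rw [eX q, hX]; exact hq')⟩
    · exact ⟨q, ho, Units.ext (by rw [eX q, hX]; exact hq')⟩
  -- one of the three rotations is fixed
  obtain ⟨j, hj, hfix⟩ : ∃ j, (j = i ∨ j = n ∨ j = p) ∧ ζ * X j * ζ⁻¹ = X j := by
    have inj : ∀ a b, X a = X b → a = b := fun a b e => by
      by_contra hne
      exact hf.embM_rot_ne hne hc.1 _ ((eX a).symm.trans ((congrArg Units.val e).trans (eX b)))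
    have back : ∀ a b, ζ * X a * ζ⁻¹ = X b → ζ * X b * ζ⁻¹ = X a := fun a b e => by
      rw [← e, inv_eq_of_mul_eq_one_right hζ, ← mul_assoc, ← mul_assoc, hζ, one_mul, mul_assoc, hζ, mul_one]
    have cinj : ∀ a b, ζ * X a * ζ⁻¹ = ζ * X b * ζ⁻¹ → a = b := fun a b e =>
      inj a b (mul_left_cancel (mul_right_cancel e))
    obtain ⟨li, hli, ei⟩ := (fix i (Or.inl rfl)).2
    obtain ⟨ln, hln, en⟩ := (fix n (Or.inr (Or.inl rfl))).2
    obtain ⟨lp, hlp, ep⟩ := (fix p (Or.inr (Or.inr rfl))).2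
    by_contra hcon
    push Not at hcon
    have a1 : li ≠ i := fun e' => hcon i (Or.inl rfl) (e' ▸ ei)
    have a2 : ln ≠ n := fun e' => hcon n (Or.inr (Or.inl rfl)) (e' ▸ en)
    have a3 : lp ≠ p := fun e' => hcon p (Or.inr (Or.inr rfl)) (e' ▸ ep)
    have b1 := back _ _ ei
    have b2 := back _ _ en
    have b3 := back _ _ ep
    rcases hli with rfl | rfl | rfl
    · exact a1 rfl
    · have := inj _ _ (en.symm.trans b1); subst this
      rcases hlp with rfl | rfl | rfl
      · exact hpn (cinj _ _ (ep.trans b1.symm))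
      · exact hpi (cinj _ _ (ep.trans ei.symm))
      · exact a3 rfl
    · have := inj _ _ (ep.symm.trans b1); subst this
      rcases hln with rfl | rfl | rfl
      · exact hpn (cinj _ _ (en.trans b1.symm)).symm
      · exact a2 rfl
      · exact hin (cinj _ _ (en.trans ei.symm)).symm
  obtain ⟨hζm, -⟩ := fix i (Or.inl rfl)
  have cxj : X j * ζ = ζ * X j := by
    conv_lhs => rw [← hfix]
    rw [inv_mul_cancel_right]
  rcases hcase with ⟨hE, -, -⟩ | ⟨hu, hEs⟩
  · exact H.even_finish h3 he (dX j) hζM hζ1 hζ cxj ce hE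
  -- the odd alternative
  obtain ⟨u, hud⟩ : ∃ u, u = f * ζ := ⟨_, rfl⟩
  have hum : IsDl J u := hud ▸ H.cls_mono h3 hu ((monoGroup F τ k).mul_mem
    (hfdef ▸ (monoGroup F τ k).mul_mem ((monoGroup F τ k).mul_mem (H.dl_props (dX i)).2.2 (H.dl_props (dX n)).2.2)
      (H.dl_props (dX p)).2.2) hζm)
  have eζ : f * u = ζ := by rw [hud, ← mul_assoc, hf2, one_mul]
  have hfu : f * u = u * f := by
    rw [eζ, hud, mul_assoc, ← cf, ← mul_assoc, hf2, one_mul]
  obtain ⟨q, v, hv, eu⟩ := hum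
  by_cases hq : q = i ∨ q = n ∨ q = p
  · obtain ⟨l, o, hql, hqo, hlo, hl, ho⟩ := others hq
    exact H.odd_three h3 he hql hqo hlo hc hc hc (perm3 hql hqo hlo hq hl ho) hv eu hfu (by rw [eζ]; exact ce)
      (by rw [eζ]; exact hEs)
  rw [not_or, not_or] at hq
  have h4 : 4 ≤ Fintype.card τ := by
    have : ({q, i, n, p} : Finset τ).card ≤ Fintype.card τ := Finset.card_le_univ _
    rwa [Finset.card_insert_of_notMem (by simp [hq.1, hq.2.1, hq.2.2]),
      Finset.card_insert_of_notMem (by simp [hin, Ne.symm hpi]), Finset.card_pair (Ne.symm hpn)] at this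
  have hbc : bf J b c = 0 := by rw [h.bf_comm]; exact hcb
  obtain ⟨y, hy⟩ : ∃ y, y = embG i (rotG J b hb.1) := ⟨_, rfl⟩
  have ey : y.1 = embM i (rot J b) := by rw [hy]; rfl
  have eu' : ζ.1 = embM i (rot J c) * embM n (rot J c) * embM p (rot J c) * embM q (rot J v) := by
    rw [← eζ, Units.val_mul, ef, eu]
  refine H.key h3 he (hy ▸ isDl_embG i hb : IsDl J y) hζ ?_ ce ?_
  · have cy : ∀ a : τ, Commute y (X a) := fun a => Units.ext (by
      rw [Units.val_mul, Units.val_mul, ey, eX]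
      by_cases ha : i = a
      · subst ha; rw [embM_mul, embM_mul, rot_comm_orth h hbc]
      · exact embM_comm ha _ _)
    have cu : Commute y u := Units.ext (by
      rw [Units.val_mul, Units.val_mul, ey, eu, embM_comm (Ne.symm hq.1)])
    rw [← eζ, hfdef]
    exact ((((cy i).mul_right (cy n)).mul_right (cy p)).mul_right cu).eq
  · rw [hEs, hfsig, Units.val_mul, ey, eu']
    simp only [← Matrix.mul_assoc, embM_mul]
    rw [sig_four h2 hin (Ne.symm hpi) (Ne.symm hq.1) (Ne.symm hpn) (Ne.symm hq.2.1) (Ne.symm hq.2.2)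
      (rot_two_sq h hb.1 hc.1 hbc) hsq hsq (rot_mul_self J hv.1), hf.rk2 hb.1 hc.1 hbc, hf.rk hc.1, hf.rk hv.1,
      show Fintype.card τ - 3 = Fintype.card τ - 4 + 1 by omega, pow_succ]
    intro e'
    have e2 : (k : ℤ) - 4 = k :=
      mul_left_cancel₀ (mul_ne_zero (mul_ne_zero (pow_ne_zero (Fintype.card τ - 4) (show (k : ℤ) ≠ 0 by omega))
        (mul_ne_zero (show (2 : ℤ) - k ≠ 0 by omega) (show (2 : ℤ) - k ≠ 0 by omega)))
        (show (2 : ℤ) - k ≠ 0 by omega)) (by linear_combination e')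
    omega

set_option maxHeartbeats 800000 in
/-- The elements of the class, two factors of dimension five or more. -/
theorem top_two [NeZero k] (ht : Fintype.card τ = 2) (hk : 5 ≤ k) {e : GL (Ix τ k) F} (he : Cls J M e) :
    Mono e.1 := by
  classical
  have hf := H.fac
  have h := hf.frm
  have h2 := h.two
  have h3 : k = 3 → 3 ≤ Fintype.card τ := fun e => by omega
  have hk5 : (5 : ℤ) ≤ k := by exact_mod_cast hk
  obtain ⟨i, l, hil⟩ := Fintype.exists_pair_of_one_lt_card (α := τ) (by omega)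
  have two : ∀ q : τ, q = i ∨ q = l := fun q => by
    by_contra hc
    rw [not_or] at hc
    have : ({q, i, l} : Finset τ).card ≤ Fintype.card τ := Finset.card_le_univ _
    rw [Finset.card_insert_of_notMem (by simp [hc.1, hc.2]), Finset.card_pair hil, ht] at this
    omega
  obtain ⟨c, hc⟩ := h.exists_good (A := J) (by rw [Fintype.card_fin]; omega)
  obtain ⟨b, hb, hcb⟩ := hf.second hc
  obtain ⟨a, ha, hac, hab⟩ := hf.third hc hb hcb
  obtain ⟨xc, hxc⟩ : ∃ x, x = embG i (rotG J c hc.1) := ⟨_, rfl⟩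
  obtain ⟨xb, hxb⟩ : ∃ x, x = embG i (rotG J b hb.1) := ⟨_, rfl⟩
  obtain ⟨xa, hxa⟩ : ∃ x, x = embG i (rotG J a ha.1) := ⟨_, rfl⟩
  obtain ⟨xd, hxd⟩ : ∃ x, x = embG l (rotG J c hc.1) := ⟨_, rfl⟩
  have ec : xc.1 = embM i (rot J c) := by rw [hxc]; rfl
  have eb : xb.1 = embM i (rot J b) := by rw [hxb]; rfl
  have ea : xa.1 = embM i (rot J a) := by rw [hxa]; rfl
  have ed : xd.1 = embM l (rot J c) := by rw [hxd]; rfl
  obtain ⟨P, hP⟩ : ∃ P, P = rot J c * rot J b := ⟨_, rfl⟩
  have hPP : P * P = 1 := hP ▸ rot_two_sq h hc.1 hb.1 hcb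
  have hsP : sig P = (k : ℤ) - 4 := hP ▸ hf.rk2 hc.1 hb.1 hcb
  have hsq := rot_mul_self J hc.1
  obtain ⟨f, hfdef⟩ : ∃ f, f = xc * xb * xd := ⟨_, rfl⟩
  have ef : f.1 = embM i P * embM l (rot J c) := by
    rw [hfdef, Units.val_mul, Units.val_mul, ec, eb, ed, embM_mul, ← hP]
  have hf2 : f * f = 1 := Units.ext (by rw [Units.val_mul, ef, two_sq hil hPP hsq, Units.val_one])
  have dc : IsDl J xc := hxc ▸ isDl_embG i hc
  have db : IsDl J xb := hxb ▸ isDl_embG i hb
  have dd : IsDl J xd := hxd ▸ isDl_embG l hc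
  have hfM : f ∈ M := hfdef ▸ M.mul_mem (M.mul_mem (H.dl_mem dc) (H.dl_mem db)) (H.dl_mem dd)
  have hX : xsig τ k = (2 - (k : ℤ)) * k := by rw [xsig, ht]; ring
  have ht2 : Fintype.card τ - 2 = 0 := by omega
  have st : ∀ {R S : Matrix (Fin k) (Fin k) F}, R * R = 1 → S * S = 1 →
      sig (embM i R * embM l S) = sig R * sig S := fun hR hS => by
    rw [sig_two h2 hil hR hS, ht2, pow_zero, one_mul]
  have hfsig : sig f.1 = ((k : ℤ) - 4) * (2 - k) := by rw [ef, st hPP hsq, hsP, hf.rk hc.1]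
  obtain ⟨ζ, hζM, hζ1, hζ, cf, ce, -, hcase⟩ := H.dihedral_f he hfM hf2 (by
    rw [hfsig, hX]; intro e'; nlinarith)
  -- the rotation of the second factor is fixed
  have cdf : xd * f = f * xd := Units.ext (by
    rw [Units.val_mul, Units.val_mul, ed, ef, ← Matrix.mul_assoc, embM_comm hil.symm, Matrix.mul_assoc])
  have cPc : rot J c * P = P * rot J c := by rw [hP, mul_assoc, ← rot_comm_orth h hcb]
  have ccf : xc * f = f * xc := Units.ext (by
    rw [Units.val_mul, Units.val_mul, ec, ef, ← Matrix.mul_assoc, embM_mul, cPc, ← embM_mul, Matrix.mul_assoc,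
      embM_comm hil, ← Matrix.mul_assoc])
  have sd : sig (xd * f).1 = ((k : ℤ) - 4) * k := by
    rw [Units.val_mul, ed, ef, ← Matrix.mul_assoc, embM_comm hil.symm, Matrix.mul_assoc, embM_sq l hsq,
      Matrix.mul_one, sig_embM h2 i hPP, ht, pow_one, hsP]
    ring
  have sc : sig (xc * f).1 = (2 - (k : ℤ)) * (2 - k) := by
    rw [Units.val_mul, ec, ef, ← Matrix.mul_assoc, embM_mul, hP, ← mul_assoc, hsq, one_mul,
      st (rot_mul_self J hb.1) hsq, hf.rk hb.1, hf.rk hc.1]
  obtain ⟨hζm, hwd⟩ := H.cent_f h3 hf2 dd dc cdf ccf (by rw [sd, sc]; intro e'; nlinarith) hζM cf.symm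
  have hζi : ζ⁻¹ = ζ := inv_eq_of_mul_eq_one_right hζ
  have hwf : ζ * xd * ζ⁻¹ * f = ζ * (xd * f) * ζ⁻¹ := by
    rw [hζi, mul_assoc _ ζ f, ← cf, ← mul_assoc, mul_assoc ζ xd f]
  have hwc : ζ * xd * ζ⁻¹ * f = f * (ζ * xd * ζ⁻¹) := by
    rw [hwf, cdf]
    calc ζ * (f * xd) * ζ⁻¹ = ζ * f * xd * ζ⁻¹ := by rw [mul_assoc ζ f xd]
      _ = _ := by rw [← cf]; group
  have hws : sig (ζ * xd * ζ⁻¹ * f).1 = ((k : ℤ) - 4) * k := by rw [sig_conj_gl hwf.symm, sd]
  -- a rotation commuting with the involution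
  have at_l : ∀ {v : Fin k → F}, Good J v → ∀ {w : GL (Ix τ k) F}, w.1 = embM l (rot J v) → w * f = f * w →
      rot J c * rot J v = rot J v * rot J c := by
    intro v _ w ew hw
    have h1 := congrArg Units.val hw
    rw [Units.val_mul, Units.val_mul, ew, ef, embM_comm hil] at h1
    exact (hf.cancel_two hil.symm hPP h1).symm
  have at_i : ∀ {v : Fin k → F}, Good J v → ∀ {w : GL (Ix τ k) F}, w.1 = embM i (rot J v) → w * f = f * w →
      rot J v * (rot J c * rot J b) = rot J c * rot J b * rot J v := by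
    intro v _ w ew hw
    have h1 := congrArg Units.val hw
    rw [Units.val_mul, Units.val_mul, ew, ef] at h1
    rw [← hP]
    exact hf.cancel_two hil hsq h1
  have cxd : xd * ζ = ζ * xd := by
    obtain ⟨q, v, hv, ew⟩ := hwd
    have hq : ζ * xd * ζ⁻¹ = xd := by
      refine Units.ext ?_
      rcases two q with rfl | rfl
      · exfalso
        obtain ⟨hR, hs⟩ := hf.sig_rot_with hc.1 hb.1 hcb hv.1 (at_i hv ew hwc)
        rw [hwc, Units.val_mul, ef, ew, Matrix.mul_assoc, embM_comm hil.symm, ← Matrix.mul_assoc, embM_mul, hP,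
          st hR hsq, hf.rk hc.1] at hws
        rcases hs with hs | hs <;> rw [hs] at hws <;> nlinarith
      · rcases hf.rot_commute hc.1 hv.1 (at_l hv ew hwc) with h0 | h0
        · exfalso
          rw [hwc, Units.val_mul, ef, ew, Matrix.mul_assoc, embM_mul, st hPP (rot_two_sq h hc.1 hv.1 h0), hsP,
            hf.rk2 hc.1 hv.1 h0] at hws
          nlinarith
        · rw [ew, ed, h0]
    conv_lhs => rw [← hq]
    rw [inv_mul_cancel_right]
  rcases hcase with ⟨hE, -, -⟩ | ⟨hu, hEs⟩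
  · exact H.even_finish h3 he dd hζM hζ1 hζ cxd ce hE
  -- the odd alternative
  obtain ⟨u, hud⟩ : ∃ u, u = f * ζ := ⟨_, rfl⟩
  have hum : IsDl J u := hud ▸ H.cls_mono h3 hu ((monoGroup F τ k).mul_mem
    (show Mono f.1 by rw [ef]; exact (mono_pure _).mul (mono_pure _)) hζm)
  have eζ : f * u = ζ := by rw [hud, ← mul_assoc, hf2, one_mul]
  have hfu : u * f = f * u := by
    rw [eζ, hud, mul_assoc, ← cf, ← mul_assoc, hf2, one_mul]
  obtain ⟨q, v, hv, eu⟩ := hum
  rcases two q with rfl | rfl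
  · obtain ⟨hR, hs⟩ := hf.sig_rot_with hc.1 hb.1 hcb hv.1 (at_i hv eu hfu)
    refine H.key h3 he dd hζ cxd ce ?_
    rw [hEs, hfsig, ← eζ, Units.val_mul, Units.val_mul, ed, ef, eu, ← Matrix.mul_assoc, ← Matrix.mul_assoc,
      embM_comm hil.symm, Matrix.mul_assoc (embM q P), embM_sq l hsq, Matrix.mul_one, embM_mul, hP,
      sig_embM h2 q hR, ht, pow_one]
    rcases hs with hs | hs <;> rw [hs] <;> intro e' <;> nlinarith
  · have hcv := at_l hv eu hfu
    obtain ⟨S, hS⟩ : ∃ S, S = rot J c * rot J v := ⟨_, rfl⟩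
    have hSS : S * S = 1 := by
      rw [hS]
      conv_lhs => arg 2; rw [hcv]
      rw [mul_assoc, ← mul_assoc (rot J v), rot_mul_self J hv.1, one_mul, hsq]
    have eζ' : ζ.1 = embM i P * embM q S := by
      rw [← eζ, Units.val_mul, ef, eu, Matrix.mul_assoc, embM_mul, ← hS]
    have hca : bf J c a = 0 := by rw [h.bf_comm]; exact hac
    have hba : bf J b a = 0 := by rw [h.bf_comm]; exact hab
    obtain ⟨hR, hRs⟩ := hf.rk3 ha.1 hc.1 hb.1 hcb hac hab
    have hPa : rot J a * P = P * rot J a := by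
      rw [hP, ← mul_assoc, rot_comm_orth h hac, mul_assoc, rot_comm_orth h hab, ← mul_assoc]
    have hyz : (xa * ζ).1 = embM i (rot J c * rot J b * rot J a) * embM q S := by
      rw [Units.val_mul, ea, eζ', ← Matrix.mul_assoc, embM_mul, hPa, hP]
    refine H.key h3 he (hxa ▸ isDl_embG i ha : IsDl J xa) hζ (Units.ext ?_) ce ?_
    · rw [hyz, Units.val_mul, ea, eζ', Matrix.mul_assoc (embM i P), embM_comm hil.symm, ← Matrix.mul_assoc, embM_mul, hP]
    · rw [hEs, hfsig, hyz, st hR hSS, hRs]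
      rcases hf.rot_commute hc.1 hv.1 hcv with h0 | h0
      · rw [hS, hf.rk2 hc.1 hv.1 h0]; intro e'; nlinarith
      · rw [hS, h0, hsq, sig_one h2, Fintype.card_fin]; intro e'; nlinarith

end Ctx

end CfsgLib.Classical.TensorWreathOrth
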