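import Cfsg.Agent.Lib.ZStar.Main
import Cfsg.Agent.Lib.Coprime.Generation
import Mathlib.GroupTheory.FixedPointFree

set_option autoImplicit false
set_option linter.style.haveILetI false

/-!
Group theory for two factors: two involutions with no fusion outside a subgroup, the consequence of the Z*-theorem
for a subgroup containing the centraliser of an involution, and generation by the centralisers of a four-group.
-/

namespace CfsgLib.Classical.TensorWreathOrth.Two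

variable {G : Type*} [Group G] [Finite G]

/-- Two involutions whose conjugates in `H` come from `H`, with products having powers with centraliser in `H`. -/
theorem le_of_pair (K H : Subgroup G) {x y : G} (hx : x ∈ K) (hy : y ∈ K) (hxH : x ∈ H) (hx2 : x * x = 1)
    (hy2 : y * y = 1) (ox : ∀ g ∈ K, g * x * g⁻¹ ∈ H → g ∈ H) (oy : ∀ g ∈ K, g * y * g⁻¹ ∈ H → g ∈ H)
    (hprod : ∀ h ∈ K, h ∈ H → ∃ n : ℕ, ∀ g ∈ K, Commute g ((x * (h * y * h⁻¹)) ^ n) → g ∈ H) : K ≤ H := by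
  intro k hk
  obtain ⟨δ, hδ⟩ : ∃ δ, δ = x * (k * y * k⁻¹) := ⟨_, rfl⟩
  have hδK : δ ∈ K := hδ ▸ K.mul_mem hx (K.mul_mem (K.mul_mem hk hy) (K.inv_mem hk))
  have hxi : x⁻¹ = x := inv_eq_of_mul_eq_one_right hx2
  have hyi : (k * y * k⁻¹)⁻¹ = k * y * k⁻¹ := by
    rw [mul_inv_rev, mul_inv_rev, inv_inv, inv_eq_of_mul_eq_one_right hy2, mul_assoc]
  have hc : ∀ j : ℤ, x * δ ^ j * x⁻¹ = δ ^ (-j) := by
    intro j
    rw [← conj_zpow, zpow_neg, ← inv_zpow]
    congr 1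
    rw [hδ, mul_inv_rev, hyi, hxi, ← mul_assoc, hx2, one_mul]
  obtain ⟨a, m, hm, hN⟩ := Nat.exists_eq_pow_mul_and_not_dvd (orderOf_pos δ).ne' 2 (by norm_num)
  obtain ⟨l, hl⟩ : Odd m := Nat.not_even_iff_odd.1 fun he => hm (even_iff_two_dvd.1 he)
  have hd : ∀ i, i ≤ a → δ ^ ((2 : ℤ) ^ (a - i) * m) ∈ H := by
    intro i
    induction i with
    | zero =>
      intro _
      have e : (2 : ℤ) ^ (a - 0) * m = ((orderOf δ : ℕ) : ℤ) := by rw [hN]; push_cast; simp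
      rw [e, zpow_natCast, pow_orderOf_eq_one]
      exact H.one_mem
    | succ i ih =>
      intro hi
      obtain ⟨j, hj⟩ : ∃ j : ℤ, j = 2 ^ (a - (i + 1)) * m := ⟨_, rfl⟩
      have h2j : δ ^ (2 * j) ∈ H := by
        have := ih (by omega)
        rwa [show (2 : ℤ) ^ (a - i) * m = 2 * j by
          rw [hj, show a - i = (a - (i + 1)) + 1 by omega, pow_succ]; ring] at this
      rw [← hj]
      refine ox _ (K.zpow_mem hδK j) ?_
      have h1 := hc j
      have e1 : δ ^ j * x = x * δ ^ (-j) := by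
        rw [← h1, hxi, ← mul_assoc, ← mul_assoc, hx2, one_mul]
      have e : δ ^ j * x * (δ ^ j)⁻¹ = x * (δ ^ (2 * j))⁻¹ := by
        rw [e1, mul_assoc, ← zpow_neg, ← zpow_neg, ← zpow_add, neg_mul_eq_mul_neg, two_mul]
      rw [e]
      exact H.mul_mem hxH (H.inv_mem h2j)
  have hdH : δ ^ (m : ℤ) ∈ H := by simpa using hd a le_rfl
  obtain ⟨g, hg⟩ : ∃ g, g = δ ^ (-(l : ℤ)) := ⟨_, rfl⟩
  have hgK : g ∈ K := hg ▸ K.zpow_mem hδK _
  have ey : g * k * y * (g * k)⁻¹ = x * δ ^ (m : ℤ) := by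
    have e0 : k * y * k⁻¹ = x * δ := by rw [hδ, ← mul_assoc, hx2, one_mul]
    have e1 : g * k * y * (g * k)⁻¹ = g * (k * y * k⁻¹) * g⁻¹ := by group
    have e2 : g * x = x * δ ^ (l : ℤ) := by
      have := hc (l : ℤ)
      rw [← hg] at this
      rw [← this, hxi, mul_assoc, hx2, mul_one]
    rw [e1, e0, ← mul_assoc, e2, hg, ← zpow_neg, neg_neg, mul_assoc, mul_assoc, hl]
    congr 1
    rw [← zpow_one_add, ← zpow_add]
    congr 1
    push_cast
    ring
  have hgk : g * k ∈ H := oy _ (K.mul_mem hgK hk) (ey ▸ H.mul_mem hxH hdH)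
  obtain ⟨n, hn⟩ := hprod _ (K.mul_mem hgK hk) hgk
  have hgH : g ∈ H := by
    refine hn g hgK ?_
    rw [ey, ← mul_assoc, hx2, one_mul, hg, ← zpow_natCast (δ ^ (m : ℤ)) n, ← zpow_mul]
    exact Commute.zpow_zpow_self δ _ _
  simpa using H.mul_mem (H.inv_mem hgH) hgk

omit [Finite G] in
theorem mem_of_conj_mem {Z L : Subgroup G} {x g : G} (hZL : Z ≤ L) (hxL : x ∈ L) (h1 : ∀ g, g * x * g⁻¹ ∈ L → g ∈ L)
    (h : g * x * g⁻¹ * x⁻¹ ∈ Z) : g ∈ L := by
  refine h1 g ?_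
  simpa using L.mul_mem (hZL h) hxL

/-- An involution isolated modulo `Z` with centraliser in `L`: `G` is `L` times a normal subgroup odd modulo `Z`. -/
theorem exists_core (L Z : Subgroup G) [Z.Normal] {x : G} (hZL : Z ≤ L) (hxL : x ∈ L) (hx2 : x * x = 1)
    (hxZ : x ∉ Z) (h1 : ∀ g, g * x * g⁻¹ ∈ L → g ∈ L) (h2 : ∀ g ∈ L, g * x * g⁻¹ * x⁻¹ ∈ Z) :
    ∃ N : Subgroup G, N.Normal ∧ Z ≤ N ∧ (∀ n ∈ N, ∃ m, Odd m ∧ n ^ m ∈ Z) ∧ ∀ g, ∃ n ∈ N, n * g ∈ L := by
  have hx2' : (x : G ⧸ Z) * x = 1 := by rw [← QuotientGroup.mk_mul, hx2, QuotientGroup.mk_one]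
  have hiso : Cfsg.IsIsolatedInvolution (x : G ⧸ Z) := by
    refine ⟨Invol.orderOf_two_of_mul_self hx2' fun e => hxZ ((QuotientGroup.eq_one_iff x).1 e), fun q hq => ?_⟩
    obtain ⟨g, rfl⟩ := QuotientGroup.mk_surjective q
    rw [← QuotientGroup.mk_inv, ← QuotientGroup.mk_mul, ← QuotientGroup.mk_mul] at hq ⊢
    have h3 : (g * x * g⁻¹) * x * (g * x * g⁻¹)⁻¹ * x⁻¹ ∈ Z := by
      refine (QuotientGroup.eq_one_iff _).1 ?_
      rw [QuotientGroup.mk_mul, QuotientGroup.mk_mul, QuotientGroup.mk_mul, QuotientGroup.mk_inv, QuotientGroup.mk_inv,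
        ← hq.eq, mul_inv_cancel_right, mul_inv_cancel]
    have h4 := h2 g (h1 g (mem_of_conj_mem hZL hxL h1 h3))
    refine mul_inv_eq_one.1 ?_
    rw [← QuotientGroup.mk_inv, ← QuotientGroup.mk_mul]
    exact (QuotientGroup.eq_one_iff _).2 h4
  have hcore := ZStar.commutatorsInCore_of_isolated hiso
  haveI := Transfer.pPrimeCore_normal 2 (G ⧸ Z)
  obtain ⟨N, hN⟩ : ∃ N, N = (Cfsg.pPrimeCore 2 (G ⧸ Z)).comap (QuotientGroup.mk' Z) := ⟨_, rfl⟩
  subst hN
  refine ⟨(Cfsg.pPrimeCore 2 (G ⧸ Z)).comap (QuotientGroup.mk' Z), inferInstance, fun z hz => ?_, fun n hn => ?_, fun g => ?_⟩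
  · rw [Subgroup.mem_comap, QuotientGroup.mk'_apply, (QuotientGroup.eq_one_iff z).2 hz]
    exact one_mem _
  · refine ⟨orderOf (n : G ⧸ Z), ?_, (QuotientGroup.eq_one_iff _).1 ?_⟩
    · refine (ZStar.odd_card_core (G := G ⧸ Z)).of_dvd_nat ?_
      have := orderOf_dvd_natCard (⟨_, hn⟩ : Cfsg.pPrimeCore 2 (G ⧸ Z))
      rwa [← Subgroup.orderOf_coe] at this
    · rw [QuotientGroup.mk_pow, pow_orderOf_eq_one]
  · have hu : g * x * g⁻¹ * x ∈ (Cfsg.pPrimeCore 2 (G ⧸ Z)).comap (QuotientGroup.mk' Z) := by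
      rw [Subgroup.mem_comap, QuotientGroup.mk'_apply, ← inv_mem_iff]
      have h := hcore (g : G ⧸ Z)
      rw [inv_eq_of_mul_eq_one_right hx2'] at h
      convert h using 1
      simp only [QuotientGroup.mk_mul, QuotientGroup.mk_inv, mul_inv_rev, inv_inv,
        inv_eq_of_mul_eq_one_right hx2', mul_assoc]
    obtain ⟨n₀, hn₀⟩ : ∃ n₀, n₀ = g * x * g⁻¹ * x := ⟨_, rfl⟩
    rw [← hn₀] at hu
    obtain ⟨m, ⟨l, hl⟩, hm⟩ : ∃ m, Odd m ∧ ((n₀ : G ⧸ Z)) ^ m = 1 := by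
      refine ⟨orderOf (n₀ : G ⧸ Z), (ZStar.odd_card_core (G := G ⧸ Z)).of_dvd_nat ?_, pow_orderOf_eq_one _⟩
      have := orderOf_dvd_natCard (⟨_, hu⟩ : Cfsg.pPrimeCore 2 (G ⧸ Z))
      rwa [← Subgroup.orderOf_coe] at this
    refine ⟨n₀ ^ l, pow_mem hu l, mem_of_conj_mem hZL hxL h1 ((QuotientGroup.eq_one_iff _).1 ?_)⟩
    obtain ⟨v, hv⟩ : ∃ v, v = (n₀ : G ⧸ Z) := ⟨_, rfl⟩
    rw [← hv] at hm
    have hgx : (g : G ⧸ Z) * x * (g : G ⧸ Z)⁻¹ = v * x := by
      rw [hv, hn₀]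
      simp only [QuotientGroup.mk_mul, QuotientGroup.mk_inv, mul_assoc, hx2', mul_one]
    have hxv : (x : G ⧸ Z) * v ^ l * (x : G ⧸ Z)⁻¹ = (v⁻¹) ^ l := by
      rw [← conj_pow]
      congr 1
      rw [hv, hn₀]
      simp only [QuotientGroup.mk_mul, QuotientGroup.mk_inv, mul_inv_rev, inv_inv,
        inv_eq_of_mul_eq_one_right hx2', mul_assoc, hx2', mul_one]
    simp only [QuotientGroup.mk_mul, QuotientGroup.mk_inv, QuotientGroup.mk_pow, ← hv, mul_inv_rev]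
    calc v ^ l * (g : G ⧸ Z) * x * ((g : G ⧸ Z)⁻¹ * (v ^ l)⁻¹) * (x : G ⧸ Z)⁻¹
        = v ^ l * ((g : G ⧸ Z) * x * (g : G ⧸ Z)⁻¹) * (v⁻¹) ^ l * (x : G ⧸ Z)⁻¹ := by rw [inv_pow]; group
      _ = v ^ l * v * ((x : G ⧸ Z) * (x * v ^ l * (x : G ⧸ Z)⁻¹) * (x : G ⧸ Z)⁻¹) := by
          rw [hgx, ← hxv]; group
      _ = v ^ l * v * v ^ l := by
          rw [inv_eq_of_mul_eq_one_right hx2']
          congr 1
          rw [← mul_assoc, ← mul_assoc, hx2', one_mul, mul_assoc, hx2', mul_one]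
      _ = 1 := by rw [← pow_succ, ← pow_add, show l + 1 + l = m by omega, hm]

/-- An involution with no fixed points in a section of odd order inverts it. -/
theorem inverts (Z N : Subgroup G) [Z.Normal] [N.Normal] {x : G} (hx2 : x * x = 1)
    (hfix : ∀ n ∈ N, x * n * x⁻¹ * n⁻¹ ∈ Z → n ∈ Z) : ∀ n ∈ N, x * n * x⁻¹ * n ∈ Z := by
  intro n hn
  haveI : (N.map (QuotientGroup.mk' Z)).Normal := Subgroup.Normal.map inferInstance _ (QuotientGroup.mk'_surjective Z)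
  obtain ⟨φ, hφ⟩ : ∃ φ : N.map (QuotientGroup.mk' Z) →* N.map (QuotientGroup.mk' Z),
      φ = (MulAut.conjNormal (x : G ⧸ Z)).toMonoidHom := ⟨_, rfl⟩
  have hx2' : (x : G ⧸ Z) * x = 1 := by rw [← QuotientGroup.mk_mul, hx2, QuotientGroup.mk_one]
  have hval : ∀ q, (φ q : G ⧸ Z) = x * q * (x : G ⧸ Z)⁻¹ := fun q => by rw [hφ]; exact MulAut.conjNormal_apply _ _
  have hfpf : MonoidHom.FixedPointFree φ := by
    rintro ⟨q, hq⟩ e
    obtain ⟨p, hp, rfl⟩ := Subgroup.mem_map.1 hq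
    have e' := congrArg (Subtype.val) e
    rw [hval] at e'
    refine Subtype.ext ((QuotientGroup.eq_one_iff p).2 (hfix p hp ((QuotientGroup.eq_one_iff _).1 ?_)))
    simp only [QuotientGroup.mk_mul, QuotientGroup.mk_inv]
    rw [mul_inv_eq_one]
    exact e'
  have hinv : Function.Involutive φ := fun q => Subtype.ext (by
    rw [hval, hval, inv_eq_of_mul_eq_one_right hx2', ← mul_assoc, ← mul_assoc, hx2', one_mul, mul_assoc, hx2', mul_one])
  have h := congrArg Subtype.val (congrFun (hfpf.coe_eq_inv_of_involutive hinv)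
    ⟨(n : G ⧸ Z), Subgroup.mem_map_of_mem _ hn⟩)
  rw [hval] at h
  refine (QuotientGroup.eq_one_iff _).1 ?_
  simp only [QuotientGroup.mk_mul, QuotientGroup.mk_inv]
  rw [h]
  simp

/-- The subgroup of two commuting involutions. -/
theorem exists_four {Q : Type*} [Group Q] [Finite Q] {a b : Q} (ha : a * a = 1) (hb : b * b = 1) (hab : a * b = b * a)
    (ha1 : a ≠ 1) (hb1 : b ≠ 1) (hne : a ≠ b) : ∃ A : Subgroup Q, IsMulCommutative A ∧ ¬ IsCyclic A ∧
      Nat.card A = 4 ∧ ∀ q ∈ A, q = 1 ∨ q = a ∨ q = b ∨ q = a * b := by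
  classical
  have hab1 : a * b ≠ 1 := fun e => hne (by rw [← mul_one a, ← hb, ← mul_assoc, e, one_mul])
  have r1 : b * (a * b) = a := by rw [← mul_assoc, ← hab, mul_assoc, hb, mul_one]
  have r2 : a * (a * b) = b := by rw [← mul_assoc, ha, one_mul]
  have r3 : a * b * a = b := by rw [hab, mul_assoc, ha, mul_one]
  have r4 : a * b * b = a := by rw [mul_assoc, hb, mul_one]
  have r5 : a * b * (a * b) = 1 := by rw [← mul_assoc, r3, hb]
  let A : Subgroup Q :=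
    { carrier := {q | q = 1 ∨ q = a ∨ q = b ∨ q = a * b}
      one_mem' := Or.inl rfl
      mul_mem' := by
        rintro p q (rfl | rfl | rfl | rfl) (rfl | rfl | rfl | rfl) <;>
          simp [ha, hb, ← hab, r1, r2, r3, r4, r5]
      inv_mem' := by
        rintro p (rfl | rfl | rfl | rfl)
        · simp
        · exact Or.inr (Or.inl (inv_eq_of_mul_eq_one_right ha))
        · exact Or.inr (Or.inr (Or.inl (inv_eq_of_mul_eq_one_right hb)))
        · exact Or.inr (Or.inr (Or.inr (inv_eq_of_mul_eq_one_right r5))) }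
  have hmem : ∀ q, q ∈ A ↔ q = 1 ∨ q = a ∨ q = b ∨ q = a * b := fun _ => Iff.rfl
  have hcard : Nat.card A = 4 := by
    have e : (A : Set Q) = (({1, a, b, a * b} : Finset Q) : Set Q) := by
      ext q; simp [hmem]
    rw [← SetLike.coe_sort_coe, e]
    show Nat.card ({1, a, b, a * b} : Finset Q) = 4
    rw [Nat.card_eq_finsetCard]
    rw [Finset.card_insert_of_notMem (by simp [Ne.symm ha1, Ne.symm hb1, Ne.symm hab1]),
      Finset.card_insert_of_notMem (by simp [hne, hb1]), Finset.card_insert_of_notMem (by simp [ha1]),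
      Finset.card_singleton]
  refine ⟨A, ⟨⟨fun p q => ?_⟩⟩, ?_, hcard, fun q hq => (hmem q).1 hq⟩
  · obtain ⟨p, hp⟩ := p
    obtain ⟨q, hq⟩ := q
    refine Subtype.ext ?_
    show p * q = q * p
    rcases (hmem p).1 hp with rfl | rfl | rfl | rfl <;> rcases (hmem q).1 hq with rfl | rfl | rfl | rfl <;>
      simp [← hab, r1, r2, r3, r4]
  · refine Coprime.not_isCyclic_of_exponent (p := 2) (fun q hq => ?_) two_pos (by omega)
    rw [pow_two]
    rcases (hmem q).1 hq with rfl | rfl | rfl | rfl <;> simp [ha, hb, r5]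

/-- A section of odd order lies in `L` when the centralisers of the involutions of a four-group do. -/
theorem le_of_four (L Z N : Subgroup G) [Z.Normal] [N.Normal] (hZL : Z ≤ L) {v w : G} (hv2 : v * v ∈ Z)
    (hw2 : w * w ∈ Z) (hvw : v * w * v⁻¹ * w⁻¹ ∈ Z) (hv : v ∉ Z) (hw : w ∉ Z) (hne : v * w ∉ Z)
    (hodd : ∀ n ∈ N, ∃ m, Odd m ∧ n ^ m ∈ Z)
    (cv : ∀ n ∈ N, n * v * n⁻¹ * v⁻¹ ∈ Z → n ∈ L) (cw : ∀ n ∈ N, n * w * n⁻¹ * w⁻¹ ∈ Z → n ∈ L)
    (cvw : ∀ n ∈ N, n * (v * w) * n⁻¹ * (v * w)⁻¹ ∈ Z → n ∈ L) : N ≤ L := by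
  classical
  have one : ∀ g : G, (g : G ⧸ Z) = 1 ↔ g ∈ Z := fun g => QuotientGroup.eq_one_iff g
  have hA : (v : G ⧸ Z) * v = 1 := by rw [← QuotientGroup.mk_mul, one]; exact hv2
  have hB : (w : G ⧸ Z) * w = 1 := by rw [← QuotientGroup.mk_mul, one]; exact hw2
  have hAB : (v : G ⧸ Z) * w = w * v := by
    have h := (one _).2 hvw
    simp only [QuotientGroup.mk_mul, QuotientGroup.mk_inv] at h
    rwa [mul_inv_eq_one, mul_inv_eq_iff_eq_mul] at h
  obtain ⟨A, hAc, hAn, hA4, hAm⟩ := exists_four hA hB hAB (fun e => hv ((one _).1 e)) (fun e => hw ((one _).1 e))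
    (fun e => hne ((one _).1 (by rw [QuotientGroup.mk_mul, e, hB])))
  haveI := hAc
  haveI : (N.map (QuotientGroup.mk' Z)).Normal := Subgroup.Normal.map inferInstance _ (QuotientGroup.mk'_surjective Z)
  have hoddK : Odd (Nat.card (N.map (QuotientGroup.mk' Z))) := by
    by_contra he
    obtain ⟨⟨q, hq⟩, hq2⟩ := exists_prime_orderOf_dvd_card' (G := N.map (QuotientGroup.mk' Z)) 2
      (even_iff_two_dvd.1 (Nat.not_odd_iff_even.1 he))
    rw [← Subgroup.orderOf_coe] at hq2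
    obtain ⟨n, hn, rfl⟩ := Subgroup.mem_map.1 hq
    obtain ⟨m, hm, hmz⟩ := hodd n hn
    have h2 : orderOf ((QuotientGroup.mk' Z) n) ∣ m := orderOf_dvd_of_pow_eq_one (by
      rw [QuotientGroup.mk'_apply, ← QuotientGroup.mk_pow, one]; exact hmz)
    simp only at hq2
    rw [hq2] at h2
    exact Nat.not_even_iff_odd.2 hm (even_iff_two_dvd.2 h2)
  have key : N.map (QuotientGroup.mk' Z) ≤ L.map (QuotientGroup.mk' Z) := by
    refine Coprime.le_of_centralizer_le hAn ?_ ?_ fun q hq hq1 => ?_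
    · rw [Subgroup.normalizer_eq_top]; exact le_top
    · rw [hA4]
      exact (Nat.coprime_two_left.2 hoddK).pow_left 2
    · rintro r ⟨hr, hrc⟩
      obtain ⟨n, hn, rfl⟩ := Subgroup.mem_map.1 hr
      refine Subgroup.mem_map_of_mem _ ?_
      have hc := Subgroup.mem_centralizer_iff.1 hrc q rfl
      have step : ∀ t : G, (t : G ⧸ Z) = q → n * t * n⁻¹ * t⁻¹ ∈ Z := fun t ht => by
        rw [← one]
        simp only [QuotientGroup.mk_mul, QuotientGroup.mk_inv, ht]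
        rw [QuotientGroup.mk'_apply] at hc
        rw [← hc, mul_inv_cancel_right, mul_inv_cancel]
      rcases hAm q hq with h | h | h | h
      · exact absurd h hq1
      · exact cv n hn (step v h.symm)
      · exact cw n hn (step w h.symm)
      · exact cvw n hn (step (v * w) (by rw [QuotientGroup.mk_mul]; exact h.symm))
  intro n hn
  obtain ⟨l, hl, e⟩ := Subgroup.mem_map.1 (key (Subgroup.mem_map_of_mem _ hn))
  have := (QuotientGroup.eq).1 e
  simpa using L.mul_mem hl (hZL this)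

end CfsgLib.Classical.TensorWreathOrth.Two
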