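import Cfsg.Agent.Lib.Classical.TensorWreathOrth.TwoCalc
import Cfsg.Agent.Lib.Classical.TensorWreathOrth.Setup

set_option autoImplicit false
set_option linter.unusedSectionVars false

/-!
Two factors of even dimension with non-square discriminant: the monomial elements of the commutator group, and
the centralisers and fusion that a full group above the monomial part forbids.
-/

namespace CfsgLib.Classical.TensorWreathOrth.Two

open Matrix CfsgLib.Classical.TensorWreath
open CfsgLib.Classical.TensorWreathOrth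
open scoped MatrixGroups commutatorElement

variable {F : Type*} [Field F] [Finite F] {τ : Type} [Fintype τ] [DecidableEq τ] {k : ℕ}
  {J : Matrix (Fin k) (Fin k) F}

/-- The negative of a rotation. -/
noncomputable def refG (J : Matrix (Fin k) (Fin k) F) (u : Fin k → F) (hu : bf J u u ≠ 0) : GL (Fin k) F :=
  -rotG J u hu

theorem refG_val (u : Fin k → F) (hu : bf J u u ≠ 0) : (refG J u hu).1 = -rot J u := rfl

theorem isSim_of_iso {R : GL (Fin k) F} (hR : R ∈ iso J) : IsSim J R.1 1 := isSim_one_iff.2 hR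

theorem refG_mem (h : Frm J) {u : Fin k → F} (hu : bf J u u ≠ 0) : refG J u hu ∈ iso J := by
  rw [mem_iso, refG_val, Matrix.transpose_neg, Matrix.neg_mul, Matrix.neg_mul, Matrix.mul_neg, neg_neg]
  exact h.rot_mem hu

theorem refG_mul_self {u : Fin k → F} (hu : bf J u u ≠ 0) : refG J u hu * refG J u hu = 1 := Units.ext (by
  rw [Units.val_mul, refG_val, neg_mul_neg, Units.val_one, rot_mul_self J hu])

theorem det_iso (h : Frm J) {R : GL (Fin k) F} (hR : R ∈ iso J) : R.1.det = 1 ∨ R.1.det = -1 := by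
  have := congrArg Matrix.det (mem_iso.1 hR)
  rw [Matrix.det_mul, Matrix.det_mul, Matrix.det_transpose] at this
  refine mul_self_eq_one_iff.1 (mul_right_cancel₀ h.det ?_)
  linear_combination this

theorem det_rot (h : Frm J) (hk : Even k) {u : Fin k → F} (hu : bf J u u ≠ 0) : (rot J u).det = -1 := by
  have hk0 : 1 ≤ k := by
    by_contra hlt
    have : IsEmpty (Fin k) := by rw [show k = 0 by omega]; infer_instance
    exact hu (by rw [Subsingleton.elim u 0, bf_zero_left])
  obtain ⟨w, hw, hw0⟩ := h.exists_ob_extend (Fintype.card_fin k) hk0 (fun _ : Fin 1 => u)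
    (fun a b hab => absurd (Subsingleton.elim a b) hab) (fun _ => hu)
  obtain ⟨a₀, ha₀⟩ : ∃ a₀, w a₀ = u := ⟨_, hw0 0⟩
  have hs : ∀ a, rot J u *ᵥ w a = (if decide (a ≠ a₀) then (-1 : F) else 1) • w a := fun a => by
    rw [← ha₀, hw.rot_apply]
    by_cases e : a₀ = a
    · subst e; simp
    · simp [e, Ne.symm e]
  rw [(signs_data h hw hs).1]
  have hS : (Finset.univ.filter fun a => decide (a ≠ a₀) = true) = Finset.univ.erase a₀ := by ext a; simp
  rw [hS, Finset.card_erase_of_mem (Finset.mem_univ _), Finset.card_univ, Fintype.card_fin]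
  exact Odd.neg_one_pow (Nat.Even.sub_odd hk0 hk odd_one)

theorem det_refG (h : Frm J) (hk : Even k) {u : Fin k → F} (hu : bf J u u ≠ 0) : (refG J u hu).1.det = -1 := by
  rw [refG_val, Matrix.det_neg, Fintype.card_fin, hk.neg_one_pow, one_mul, det_rot h hk hu]

/-- The exchange of two factors. -/
noncomputable def swapG (i l : τ) : GL (Ix τ k) F :=
  ⟨permM F k (Equiv.swap i l), permM F k (Equiv.swap i l),
    by rw [permM_mul, Equiv.swap_mul_self, permM_one], by rw [permM_mul, Equiv.swap_mul_self, permM_one]⟩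

theorem swapG_mem (i l : τ) : swapG (F := F) (k := k) i l ∈ iso (JJ J τ) := by
  rw [mem_iso]
  show (permM F k (Equiv.swap i l))ᵀ * JJ J τ * permM F k (Equiv.swap i l) = JJ J τ
  have ht : (permM F k (Equiv.swap i l))ᵀ = permM F k (Equiv.swap i l) := by
    ext x y
    simp only [Matrix.transpose_apply, permM, Matrix.of_apply]
    exact if_congr ⟨fun e => by subst e; ext; simp, fun e => by subst e; ext; simp⟩ rfl rfl
  rw [ht, JJ, permM_mul_pureM, Matrix.mul_assoc, permM_mul, Equiv.swap_mul_self, permM_one, Matrix.mul_one]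

/-- The facts about the monomial isometries. -/
structure Env (J : Matrix (Fin k) (Fin k) F) (i l : τ) : Prop where
  pr : Pr2 i l
  fac : Fac J
  even : Even k
  four : 4 ≤ k
  nsq : ¬ IsSquare J.det

namespace Env

variable {i l : τ} (E : Env J i l)
include E

theorem symm : Env J l i := ⟨E.pr.symm, E.fac, E.even, E.four, E.nsq⟩

theorem frm : Frm J := E.fac.frm

theorem neZero : NeZero k := ⟨by have := E.four; omega⟩

theorem card_ix : 2 ≤ Fintype.card (Ix τ k) := by
  rw [Fintype.card_fun, Fintype.card_fin, E.pr.card]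
  have := E.four
  calc 2 ≤ k := by omega
    _ = k ^ 1 := (pow_one k).symm
    _ ≤ k ^ 2 := Nat.pow_le_pow_right (by omega) (by norm_num)

theorem good {u : Fin k → F} (hu : bf J u u ≠ 0) : Good J u := ⟨hu, Or.inl (by rw [Fintype.card_fin]; exact E.even)⟩

theorem embG_refG_not_mem (s : τ) {u : Fin k → F} (hu : bf J u u ≠ 0) :
    embG s (refG J u hu) ∉ Om (JJ J τ) := by
  have h := E.frm
  have hk4 := E.four
  obtain ⟨w, hw, hw0⟩ := h.exists_ob_extend (Fintype.card_fin k) (by omega : 1 ≤ k) (fun _ : Fin 1 => u)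
    (fun a b hab => absurd (Subsingleton.elim a b) hab) (fun _ => hu)
  obtain ⟨a₀, ha₀⟩ : ∃ a₀, w a₀ = u := ⟨_, hw0 0⟩
  have hb : ∀ a, (refG J u hu).1 *ᵥ w a = (if decide (a = a₀) then (-1 : F) else 1) • w a := by
    intro a
    rw [refG_val, ← ha₀, Matrix.neg_mulVec, hw.rot_apply a₀ a]
    by_cases e : a₀ = a
    · subst e; simp
    · simp [e, Ne.symm e]
  rw [embM_signs_mem_iff h E.card_ix s hw _ hb (embG_val s _)]
  have hS : (Finset.univ.filter fun a => decide (a = a₀) = true) = {a₀} := by ext a; simp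
  rw [hS, Finset.card_singleton, E.pr.card, Finset.prod_singleton]
  simp only [show (2 : ℕ) - 1 = 1 from rfl, pow_one, mul_one, one_mul, Nat.sub_self, pow_zero]
  rintro ⟨-, hsq⟩
  obtain ⟨d, hd, e⟩ := hw.exists_prod_eq
  obtain ⟨r, hr⟩ := E.even
  have hpow : ∀ z : F, z ^ k = z ^ r * z ^ r := fun z => by rw [← pow_add, ← hr]
  rw [e, hpow, mul_comm, isSquare_mul_sq (pow_ne_zero _ (hw.aniso a₀)), isSquare_mul_sq hd] at hsq
  exact E.nsq hsq

theorem pair_mem (s : τ) {u w : Fin k → F} (hu : bf J u u ≠ 0) (hw' : bf J w w ≠ 0) (huw : bf J u w = 0) :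
    embG s (refG J u hu) * embG s (refG J w hw') ∈ Om (JJ J τ) := by
  have h := E.frm
  have hk4 := E.four
  have hwu : bf J w u = 0 := by rw [h.bf_comm]; exact huw
  obtain ⟨f, hf, hf0⟩ := h.exists_ob_extend (Fintype.card_fin k) (by omega : 2 ≤ k) ![u, w]
    (by intro a b hab; fin_cases a <;> fin_cases b <;> simp_all)
    (by intro a; fin_cases a <;> simp [hu, hw'])
  obtain ⟨a₀, ha₀⟩ : ∃ a₀, f a₀ = u := ⟨_, hf0 0⟩
  obtain ⟨a₁, ha₁⟩ : ∃ a₁, f a₁ = w := ⟨_, hf0 1⟩
  have hne : a₀ ≠ a₁ := fun e => hu (by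
    have : u = w := by rw [← ha₀, e, ha₁]
    rw [← this] at huw
    exact huw)
  have hb : ∀ a, (refG J u hu * refG J w hw').1 *ᵥ f a =
      (if decide (a = a₀ ∨ a = a₁) then (-1 : F) else 1) • f a := by
    intro a
    rw [Units.val_mul, refG_val, refG_val, neg_mul_neg, ← ha₀, ← ha₁, ← Matrix.mulVec_mulVec, hf.rot_apply]
    by_cases e1 : a = a₁
    · subst e1; simp [hf.rot_apply, hne]
    by_cases e0 : a = a₀
    · subst e0; simp [Matrix.mulVec_neg, hf.rot_apply, hne.symm]
    · simp [Matrix.mulVec_neg, hf.rot_apply, e0, e1, Ne.symm e1, Ne.symm e0]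
  rw [← map_mul, embM_signs_mem_iff h E.card_ix s hf _ hb (embG_val s _)]
  have hS : (Finset.univ.filter fun a => decide (a = a₀ ∨ a = a₁) = true) = {a₀, a₁} := by ext a; simp
  rw [hS, Finset.card_pair hne, E.pr.card]
  simp only [show (2 : ℕ) - 1 = 1 from rfl, pow_one, one_mul, Nat.sub_self, pow_zero]
  refine ⟨even_two.mul_left k, ?_⟩
  obtain ⟨r, hr⟩ := E.even
  exact ⟨(∏ a ∈ {a₀, a₁}, bf J (f a) (f a)) ^ r * ∏ a, bf J (f a) (f a), by
    have hpow : ∀ z : F, z ^ k = z ^ r * z ^ r := fun z => by rw [← pow_add, ← hr]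
    rw [hpow, pow_two]; ring⟩

theorem same_mem (s : τ) {u w : Fin k → F} (hu : bf J u u ≠ 0) (hw : bf J w w ≠ 0) :
    embG s (refG J u hu) * embG s (refG J w hw) ∈ Om (JJ J τ) := by
  have h := E.frm
  have hk4 := E.four
  obtain ⟨x, hx, hxx⟩ := h.exists_perp_value (κ := Fin 1) (v := fun _ => u)
    (fun a b hab => absurd (Subsingleton.elim a b) hab) (fun _ => hu)
    (by rw [Fintype.card_fin, Fintype.card_fin]; omega) (bf J w w)
  have hx0 : bf J x x ≠ 0 := by rw [hxx]; exact hw
  obtain ⟨g, hg, hgx⟩ := E.fac.exists_om_move hx0 hxx.symm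
  have e : refG J w hw = g * refG J x hx0 * g⁻¹ := Units.ext (by
    rw [Units.val_mul, Units.val_mul, refG_val, refG_val, Matrix.mul_neg, Matrix.neg_mul, h.conj_rot (om_le _ hg),
      hgx])
  have e2 : embG s (refG J x hx0) * embG s (refG J w hw) ∈ Om (JJ J τ) := by
    rw [e, map_mul, map_mul, map_inv]
    have := Subgroup.commutator_mem_commutator (embG_iso h s (refG_mem h hx0)) (embG_iso (τ := τ) h s (om_le _ hg))
    rw [commutatorElement_def, ← map_inv, inv_eq_of_mul_eq_one_right (refG_mul_self hx0)] at this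
    have h3 := (Om (JJ J τ)).mul_mem this ((Om (JJ J τ)).one_mem)
    rw [mul_one] at h3
    have := (Om (JJ J τ)).inv_mem h3
    rw [_root_.mul_inv_rev, _root_.mul_inv_rev, _root_.mul_inv_rev, inv_inv, ← map_inv (embG s) (refG J x hx0),
      inv_eq_of_mul_eq_one_right (refG_mul_self hx0)] at this
    simpa [mul_assoc] using (conj_om (iso_conj (embG_iso (τ := τ) h s (refG_mem h hx0)))).1 _ this
  have e1 : embG s (refG J u hu) * embG s (refG J x hx0) ∈ Om (JJ J τ) := E.pair_mem s hu hx0 (hx 0)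
  have := (Om (JJ J τ)).mul_mem e1 e2
  rwa [mul_assoc, ← mul_assoc (embG s (refG J x hx0)), ← map_mul (embG s) (refG J x hx0), refG_mul_self, map_one,
    one_mul] at this

theorem any_mem (s s' : τ) {u w : Fin k → F} (hu : bf J u u ≠ 0) (hw : bf J w w ≠ 0) :
    embG s (refG J u hu) * embG s' (refG J w hw) ∈ Om (JJ J τ) := by
  rcases eq_or_ne s s' with rfl | hne
  · exact E.same_mem s hu hw
  have h := E.frm
  have e : swapG s s' * embG s (refG J u hu) * (swapG (F := F) (k := k) s s')⁻¹ = embG s' (refG J u hu) := by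
    rw [mul_inv_eq_iff_eq_mul]
    refine Units.ext ?_
    rw [Units.val_mul, Units.val_mul, embG_val, embG_val]
    show permM F k _ * _ = _ * permM F k _
    rw [permM_conj_embM, Equiv.swap_apply_left]
  have e2 : embG s (refG J u hu) * embG s' (refG J u hu) ∈ Om (JJ J τ) := by
    have := Subgroup.commutator_mem_commutator (embG_iso (τ := τ) h s (refG_mem h hu))
      (swapG_mem (J := J) (k := k) s s')
    rw [commutatorElement_def, ← map_inv, inv_eq_of_mul_eq_one_right (refG_mul_self hu)] at this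
    rw [← e]
    show _ ∈ ⁅iso (JJ J τ), iso (JJ J τ)⁆
    simpa only [mul_assoc] using this
  have := (Om (JJ J τ)).mul_mem e2 (E.same_mem s' hu hw)
  rwa [mul_assoc, ← mul_assoc (embG s' (refG J u hu)), ← map_mul, refG_mul_self, map_one, one_mul] at this

/-- The class of an isometry of one factor is its determinant. -/
theorem parity (s : τ) {R : GL (Fin k) F} (hR : R ∈ iso J) :
    (R.1.det = 1 → embG s R ∈ Om (JJ J τ)) ∧
      (R.1.det = -1 → ∀ (t : τ) (u : Fin k → F) (hu : bf J u u ≠ 0),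
        embG s R * embG t (refG J u hu) ∈ Om (JJ J τ)) := by
  have h := E.frm
  obtain ⟨u₀, hu₀⟩ := h.exists_good (A := J) (by rw [Fintype.card_fin]; have := E.four; omega)
  obtain ⟨e, he⟩ : ∃ e, e = embG s (refG J u₀ hu₀.1) := ⟨_, rfl⟩
  have hee : e * e = 1 := by rw [he, ← map_mul, refG_mul_self, map_one]
  have hep : ∀ n : ℕ, e ^ n * e ^ n = 1 := fun n => by
    rw [← (Commute.refl e).mul_pow, hee, one_pow]
  have hei : e ∈ iso (JJ J τ) := he ▸ embG_iso h s (refG_mem h hu₀.1)
  let U : Subgroup (GL (Fin k) F) :=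
    { carrier := {R | ∃ n : ℕ, R.1.det = (-1) ^ n ∧ embG s R * e ^ n ∈ Om (JJ J τ)}
      one_mem' := ⟨0, by simp, by simp⟩
      mul_mem' := by
        rintro a b ⟨n, hn, hna⟩ ⟨m, hm, hmb⟩
        refine ⟨n + m, by rw [Units.val_mul, Matrix.det_mul, hn, hm, pow_add], ?_⟩
        have h2 := (conj_om (iso_conj ((iso (JJ J τ)).inv_mem ((iso _).pow_mem hei n)))).1 _ hmb
        have := (Om (JJ J τ)).mul_mem hna h2
        convert this using 1
        rw [map_mul, pow_add]
        have c := Commute.pow_pow_self e m n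
        simp only [inv_inv, mul_assoc]
        rw [c.eq, mul_inv_cancel_left]
      inv_mem' := by
        rintro a ⟨n, hn, hna⟩
        refine ⟨n, ?_, ?_⟩
        · have h1 : a.1.det * (a⁻¹).1.det = 1 := by rw [← Matrix.det_mul, a.mul_inv, Matrix.det_one]
          rw [hn] at h1
          exact mul_left_cancel₀ (pow_ne_zero n (neg_ne_zero.2 one_ne_zero))
            (h1.trans (by rw [← mul_pow, neg_one_mul, neg_neg, one_pow]))
        · have h2 := (conj_om (iso_conj ((iso (JJ J τ)).pow_mem hei n))).1 _ ((Om (JJ J τ)).inv_mem hna)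
          convert h2 using 1
          rw [map_inv, _root_.mul_inv_rev, mul_assoc, mul_assoc, ← mul_assoc (e ^ n), mul_inv_cancel, one_mul,
            inv_eq_of_mul_eq_one_right (hep n)] }
  have hle : iso J ≤ U := iso_le_of_refl h fun u hu => ⟨1, by rw [pow_one]; exact det_refG h E.even hu, by
    rw [pow_one, he]; exact E.any_mem s s hu hu₀.1⟩
  obtain ⟨n, hn, hne⟩ := hle hR
  have hneg : (-1 : F) ≠ 1 := fun hh => h.two (by linear_combination -hh)
  refine ⟨fun hd => ?_, fun hd t u hu => ?_⟩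
  · rcases Nat.even_or_odd n with ⟨r, hr⟩ | ho
    · rwa [hr, pow_add, hep, mul_one] at hne
    · rw [hd, ho.neg_one_pow] at hn
      exact absurd hn.symm hneg
  · rcases Nat.even_or_odd n with he' | ⟨r, hr⟩
    · rw [hd, he'.neg_one_pow] at hn
      exact absurd hn hneg
    · rw [hr, pow_add, pow_one, two_mul, pow_add, hep, one_mul, he] at hne
      have := (Om (JJ J τ)).mul_mem hne (E.any_mem s t hu₀.1 hu)
      rwa [mul_assoc, ← mul_assoc (embG s (refG J u₀ _)), ← map_mul (embG s) (refG J u₀ _), refG_mul_self, map_one,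
        one_mul] at this

/-- A pair of isometries lies in the commutator group exactly for equal determinants. -/
theorem pair_mem_iff {A B : GL (Fin k) F} (hA : A ∈ iso J) (hB : B ∈ iso J) :
    embG i A * embG l B ∈ Om (JJ J τ) ↔ A.1.det = B.1.det := by
  have h := E.frm
  obtain ⟨u, hu⟩ := h.exists_good (A := J) (by rw [Fintype.card_fin]; have := E.four; omega)
  obtain ⟨e, he⟩ : ∃ e, e = embG l (refG J u hu.1) := ⟨_, rfl⟩
  have hee : e * e = 1 := by rw [he, ← map_mul, refG_mul_self, map_one]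
  have hei : e ∈ iso (JJ J τ) := he ▸ embG_iso h l (refG_mem h hu.1)
  have hno : e ∉ Om (JJ J τ) := he ▸ E.embG_refG_not_mem l hu.1
  have key : ∀ X, embG l B * e = X → X ∈ Om (JJ J τ) → e * embG l B ∈ Om (JJ J τ) := fun X hX hXm => by
    have := (conj_om (iso_conj hei)).1 _ (hX ▸ hXm)
    rwa [mul_assoc, mul_assoc, mul_inv_cancel, mul_one] at this
  rcases det_iso h hA with ha | ha <;> rcases det_iso h hB with hb | hb <;> rw [ha, hb]
  · exact iff_of_true ((Om _).mul_mem ((E.parity i hA).1 ha) ((E.parity l hB).1 hb)) rfl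
  · refine iff_of_false (fun hm => hno ?_) fun e => h.two (by linear_combination e)
    have h1 := (Om _).mul_mem ((Om _).inv_mem ((E.parity i hA).1 ha)) hm
    rw [inv_mul_cancel_left] at h1
    have h2 := (Om _).mul_mem ((Om _).inv_mem h1) ((E.parity l hB).2 hb l u hu.1)
    rwa [inv_mul_cancel_left, ← he] at h2
  · refine iff_of_false (fun hm => hno ?_) fun e => h.two (by linear_combination -e)
    have h1 := (Om _).mul_mem hm ((Om _).inv_mem ((E.parity l hB).1 hb))
    rw [mul_inv_cancel_right] at h1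
    have h2 := (Om _).mul_mem ((Om _).inv_mem h1) ((E.parity i hA).2 ha l u hu.1)
    rwa [inv_mul_cancel_left, ← he] at h2
  · refine iff_of_true ?_ rfl
    have h1 := (E.parity i hA).2 ha l u hu.1
    have h2 := key _ rfl (he ▸ (E.parity l hB).2 hb l u hu.1)
    rw [← he] at h1
    have := (Om (JJ J τ)).mul_mem h1 h2
    rwa [mul_assoc, ← mul_assoc e, hee, one_mul] at this

/-- The exchange of the factors is not in the commutator group. -/
theorem swap_not_mem : swapG (F := F) (k := k) i l ∉ Om (JJ J τ) := by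
  classical
  have h := E.frm
  have p := E.pr
  have hk4 := E.four
  haveI := E.neZero
  obtain ⟨u, hu⟩ := h.exists_good (A := J) (by rw [Fintype.card_fin]; omega)
  obtain ⟨f, hf, -⟩ := h.exists_ob_extend (Fintype.card_fin k) (by omega : 1 ≤ k) (fun _ : Fin 1 => u)
    (fun a b hab => absurd (Subsingleton.elim a b) hab) (fun _ => hu.1)
  obtain ⟨ε, hε⟩ : ∃ ε : Fin k × Fin k → F, ε = fun q =>
      if q.1 = q.2 then 0 else if q.1 < q.2 then 1 else -1 := ⟨_, rfl⟩
  obtain ⟨V, hV⟩ : ∃ V : Fin k × Fin k → Ix τ k → F, ∀ q,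
      V q = vv i (f q.1) (f q.2) + ε q • vv i (f q.2) (f q.1) := ⟨_, fun _ => rfl⟩
  have hb : ∀ a b c d, bf (JJ J τ) (vv i (f a) (f b)) (vv i (f c) (f d)) =
      if a = c ∧ b = d then bf J (f a) (f a) * bf J (f b) (f b) else 0 := fun a b c d => by
    rw [p.bf_vv]
    split_ifs with e
    · rw [e.1, e.2]
    · rcases not_and_or.1 e with e | e
      · rw [hf.orth a c e, zero_mul]
      · rw [hf.orth b d e, mul_zero]
  have hsv : ∀ x y, (swapG (F := F) (k := k) i l).1 *ᵥ vv i x y = vv i y x := by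
    intro x y
    funext q
    show (permM F k (Equiv.swap i l) *ᵥ vv i x y) q = _
    rw [Matrix.mulVec, dotProduct, Fintype.sum_eq_single (q ∘ Equiv.swap i l)]
    · simp [permM, p.vv_apply, mul_comm]
    · intro r hr
      simp [permM, hr]
  have hval : ∀ q, bf (JJ J τ) (V q) (V q) =
      (if q.1 = q.2 then 1 else 2) * (bf J (f q.1) (f q.1) * bf J (f q.2) (f q.2)) := by
    rintro ⟨a, b⟩
    rw [hV, hε, bf_add_left, bf_add_right, bf_add_right]
    simp only [bf_smul_left, bf_smul_right, hb]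
    rcases lt_trichotomy a b with e | e | e
    · simp [e.ne, e.ne', e]; ring
    · subst e; simp
    · simp [e.ne, e.ne', e.not_gt]; ring
  have hOB : OB (JJ J τ) V := by
    refine ⟨fun q q' hne => ?_, fun q => ?_, ?_⟩
    · obtain ⟨a, b⟩ := q
      obtain ⟨c, d⟩ := q'
      have n1 : ¬ (a = c ∧ b = d) := fun e => hne (Prod.ext e.1 e.2)
      have n4 : ¬ (b = d ∧ a = c) := fun e => n1 e.symm
      rw [hV, hV, bf_add_left, bf_add_right, bf_add_right]
      simp only [bf_smul_left, bf_smul_right, hb, if_neg n1, if_neg n4, mul_zero, add_zero, zero_add]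
      by_cases e : a = d ∧ b = c
      · obtain ⟨rfl, rfl⟩ := e
        rw [if_pos ⟨rfl, rfl⟩, if_pos ⟨rfl, rfl⟩, hε]
        have hab : a ≠ b := fun e => n1 ⟨e, e.symm⟩
        rcases lt_or_gt_of_ne hab with e | e <;> simp [hab, hab.symm, e, e.not_gt] <;> ring
      · rw [if_neg e, if_neg fun e' => e e'.symm, mul_zero, mul_zero, add_zero]
    · rw [hval]
      refine mul_ne_zero ?_ (mul_ne_zero (hf.aniso _) (hf.aniso _))
      split_ifs
      · exact one_ne_zero
      · exact h.two
    · rw [Fintype.card_prod, Fintype.card_fun, Fintype.card_fin, p.card, pow_two]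
  have hs : ∀ q, (swapG (F := F) (k := k) i l).1 *ᵥ V q = (if decide (q.2 < q.1) then (-1 : F) else 1) • V q := by
    rintro ⟨a, b⟩
    rw [hV, hε, Matrix.mulVec_add, Matrix.mulVec_smul, hsv, hsv]
    rcases lt_trichotomy a b with e | e | e
    · simp [e.ne, e, e.not_gt, add_comm]
    · subst e; simp
    · simp [e.ne', e, e.not_gt, add_comm]
  rw [mem_Om_iff_of_signs (h.pow τ) E.card_ix hOB _ hs]
  rintro ⟨hev, hsq⟩
  have hS : (Finset.univ.filter fun q : Fin k × Fin k => decide (q.2 < q.1) = true) =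
      Finset.univ.filter fun q : Fin k × Fin k => q.2 < q.1 := by ext; simp
  rw [hS] at hev hsq
  rw [Finset.prod_congr rfl fun q hq => (hval q).trans (by rw [if_neg (Finset.mem_filter.1 hq).2.ne']),
    Finset.prod_mul_distrib, Finset.prod_const] at hsq
  obtain ⟨t, ht⟩ := hev
  rw [ht, pow_add, mul_comm, isSquare_mul_sq (pow_ne_zero _ h.two), Finset.prod_mul_distrib] at hsq
  have e1 : ∏ q ∈ Finset.univ.filter (fun q : Fin k × Fin k => q.2 < q.1), bf J (f q.1) (f q.1) =
      ∏ a : Fin k, bf J (f a) (f a) ^ (a : ℕ) := by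
    rw [Finset.prod_filter, Fintype.prod_prod_type]
    refine Finset.prod_congr rfl fun a _ => ?_
    dsimp only
    rw [← Finset.prod_filter, Finset.prod_const, show (Finset.univ.filter fun b => b < a) = Finset.Iio a by
      ext; simp, Fin.card_Iio]
  have e2 : ∏ q ∈ Finset.univ.filter (fun q : Fin k × Fin k => q.2 < q.1), bf J (f q.2) (f q.2) =
      ∏ a : Fin k, bf J (f a) (f a) ^ (k - 1 - (a : ℕ)) := by
    rw [Finset.prod_filter, Fintype.prod_prod_type_right]
    refine Finset.prod_congr rfl fun a _ => ?_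
    dsimp only
    rw [← Finset.prod_filter, Finset.prod_const, show (Finset.univ.filter fun b => a < b) = Finset.Ioi a by
      ext; simp, Fin.card_Ioi]
  rw [e1, e2, ← Finset.prod_mul_distrib, Finset.prod_congr rfl fun a _ =>
    show bf J (f a) (f a) ^ (a : ℕ) * bf J (f a) (f a) ^ (k - 1 - (a : ℕ)) = bf J (f a) (f a) ^ (k - 1) by
      rw [← pow_add]; congr 1; have := a.isLt; omega, Finset.prod_pow] at hsq
  obtain ⟨d, hd, e⟩ := hf.exists_prod_eq
  rw [isSquare_pow_odd (Finset.prod_ne_zero_iff.2 fun a _ => hf.aniso a)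
    (Nat.Even.sub_odd (by omega) E.even odd_one), e, isSquare_mul_sq hd] at hsq
  exact E.nsq hsq

/-- Isometries of the factors give elements of the commutator group. -/
theorem exists_om {A B : Matrix (Fin k) (Fin k) F} (hA : IsSim J A 1) (hB : IsSim J B 1) (hd : A.det = B.det) :
    ∃ g ∈ Om (JJ J τ), g.1 = el i A B := by
  have h := E.frm
  obtain ⟨A', rfl⟩ : ∃ A' : GL (Fin k) F, A'.1 = A :=
    ⟨Matrix.GeneralLinearGroup.mkOfDetNeZero A (hA.det_ne_zero h), rfl⟩
  obtain ⟨B', rfl⟩ : ∃ B' : GL (Fin k) F, B'.1 = B :=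
    ⟨Matrix.GeneralLinearGroup.mkOfDetNeZero B (hB.det_ne_zero h), rfl⟩
  exact ⟨embG i A' * embG l B', (E.pair_mem_iff (isSim_one_iff.1 hA) (isSim_one_iff.1 hB)).2 hd,
    by rw [Units.val_mul, embG_val, embG_val, E.pr.el_eq_embM]⟩

theorem det_eq_of_om {A B : Matrix (Fin k) (Fin k) F} (hA : IsSim J A 1) (hB : IsSim J B 1) {g : GL (Ix τ k) F}
    (hg : g ∈ Om (JJ J τ)) (hv : g.1 = el i A B) : A.det = B.det := by
  have h := E.frm
  obtain ⟨A', rfl⟩ : ∃ A' : GL (Fin k) F, A'.1 = A :=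
    ⟨Matrix.GeneralLinearGroup.mkOfDetNeZero A (hA.det_ne_zero h), rfl⟩
  obtain ⟨B', rfl⟩ : ∃ B' : GL (Fin k) F, B'.1 = B :=
    ⟨Matrix.GeneralLinearGroup.mkOfDetNeZero B (hB.det_ne_zero h), rfl⟩
  have : g = embG i A' * embG l B' := Units.ext (by rw [hv, Units.val_mul, embG_val, embG_val, E.pr.el_eq_embM])
  exact (E.pair_mem_iff (isSim_one_iff.1 hA) (isSim_one_iff.1 hB)).1 (this ▸ hg)

/-- The factors of a pure isometry are similitudes. -/
theorem el_iso {A B : Matrix (Fin k) (Fin k) F} {g : GL (Ix τ k) F} (hg : g ∈ iso (JJ J τ)) (hv : g.1 = el i A B) :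
    ∃ μ, IsSim J A μ ∧ IsSim J B μ⁻¹ := by
  haveI := E.neZero
  have p := E.pr
  have h := mem_iso.1 hg
  rw [hv, p.JJ_el, p.el_transpose, el_mul, el_mul] at h
  have hJ0 : J ≠ 0 := fun e => E.frm.det (by rw [e, Matrix.det_zero])
  have hJJ : JJ J τ ≠ 0 := fun e => (E.frm.pow τ).det (by rw [e, Matrix.det_zero])
  rw [p.JJ_el] at hJJ
  have hA0 : Aᵀ * J * A ≠ 0 := fun e => by rw [e, p.el_zero_left] at h; exact hJJ h.symm
  have hB0 : Bᵀ * J * B ≠ 0 := fun e => by rw [e, p.el_zero_right] at h; exact hJJ h.symm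
  obtain ⟨s, hs, h1, h2⟩ := p.el_eq_el h hA0 hB0
  exact ⟨s, ⟨hs, h1⟩, inv_ne_zero hs, by conv_rhs => rw [h2, smul_smul, inv_mul_cancel₀ hs, one_smul]⟩

/-- A monomial involution of the commutator group keeps the factors. -/
theorem invol_cases {g : GL (Ix τ k) F} (hg : g ∈ Om (JJ J τ)) (hm : Mono g.1) (h2 : g * g = 1) :
    ∃ (A B : Matrix (Fin k) (Fin k) F) (μ c : F), g.1 = el i A B ∧ IsSim J A μ ∧ IsSim J B μ⁻¹ ∧ c ≠ 0 ∧ A * A = c • 1 ∧ B * B = c⁻¹ • 1 := by
  haveI := E.neZero
  have h := E.frm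
  have p := E.pr
  have h2' : g.1 * g.1 = 1 := by rw [← Units.val_mul, h2, Units.val_one]
  rcases p.mono_cases hm with ⟨A, B, e⟩ | ⟨A, B, e⟩
  · obtain ⟨μ, hA, hB⟩ := E.el_iso (om_le _ hg) e
    rw [e, el_mul] at h2'
    obtain ⟨c, hc, h1, h3⟩ := p.el_eq_one h2'
    exact ⟨A, B, μ, c, e, hA, hB, hc, h1, h3⟩
  · exfalso
    have hS : (swapG (F := F) (k := k) i l).1 = permM F k (Equiv.swap i l) := rfl
    have hiso : g * swapG i l ∈ iso (JJ J τ) := (iso _).mul_mem (om_le _ hg) (swapG_mem i l)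
    have ev : (g * swapG i l).1 = el i A B := by
      rw [Units.val_mul, e, hS, Matrix.mul_assoc, permM_mul, Equiv.swap_mul_self, permM_one, Matrix.mul_one]
    obtain ⟨μ, hA, hB⟩ := E.el_iso hiso ev
    rw [e, Matrix.mul_assoc, ← Matrix.mul_assoc (permM F k _), p.swap_mul_el, ← Matrix.mul_assoc,
      ← Matrix.mul_assoc, el_mul, Matrix.mul_assoc, permM_mul, Equiv.swap_mul_self, permM_one, Matrix.mul_one] at h2'
    obtain ⟨c, hc, h1, h3⟩ := p.el_eq_one h2'
    obtain ⟨A', hA'⟩ : ∃ A' : GL (Fin k) F, A'.1 = A :=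
      ⟨Matrix.GeneralLinearGroup.mkOfDetNeZero A (hA.det_ne_zero h), rfl⟩
    obtain ⟨u, hu⟩ : ∃ u : GL (Ix τ k) F, u = embG i A' := ⟨_, rfl⟩
    have hBe : B = c • (A'⁻¹).1 := by
      have : (A'⁻¹).1 * (A * B) = (A'⁻¹).1 * (c • 1) := by rw [h1]
      rwa [← Matrix.mul_assoc, ← hA', A'.inv_mul, Matrix.one_mul, Matrix.mul_smul, Matrix.mul_one] at this
    have hcc : c * c = 1 := by
      rw [hBe, ← hA', Matrix.smul_mul, A'.inv_mul] at h3
      have := congrArg (fun X : Matrix (Fin k) (Fin k) F => X 0 0) h3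
      simp only [Matrix.smul_apply, Matrix.one_apply_eq, smul_eq_mul, mul_one] at this
      exact (mul_eq_one_iff_eq_inv₀ hc).2 this
    have hnorm : ∀ x ∈ iso (JJ J τ), u⁻¹ * x * u⁻¹⁻¹ ∈ iso (JJ J τ) := by
      intro x hx
      have hu1 : u.1ᵀ * JJ J τ * u.1 = μ • JJ J τ := by
        rw [hu, embG_val, hA', embM_eq_el, p.JJ_el, p.el_transpose, el_mul, el_mul, hA.2, Matrix.transpose_one,
          Matrix.one_mul, Matrix.mul_one, p.el_smul_left]
      rw [mem_iso, inv_inv]
      have hx' := mem_iso.1 hx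
      have hui : (u⁻¹).1ᵀ * JJ J τ * (u⁻¹).1 = μ⁻¹ • JJ J τ := by
        have h4 := congrArg (fun Z => (u⁻¹).1ᵀ * Z * (u⁻¹).1) hu1
        rw [show (u⁻¹).1ᵀ * (u.1ᵀ * JJ J τ * u.1) * (u⁻¹).1 = (u.1 * (u⁻¹).1)ᵀ * JJ J τ * (u.1 * (u⁻¹).1) by
          rw [Matrix.transpose_mul]; simp only [Matrix.mul_assoc], u.mul_inv, Matrix.transpose_one, Matrix.one_mul,
          Matrix.mul_one, Matrix.mul_smul, Matrix.smul_mul] at h4
        conv_rhs => rw [h4, smul_smul, inv_mul_cancel₀ hA.1, one_smul]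
      calc (u⁻¹ * x * u).1ᵀ * JJ J τ * (u⁻¹ * x * u).1
          = u.1ᵀ * (x.1ᵀ * ((u⁻¹).1ᵀ * JJ J τ * (u⁻¹).1) * x.1) * u.1 := by
            simp only [Units.val_mul, Matrix.transpose_mul, Matrix.mul_assoc]
        _ = JJ J τ := by
            rw [hui, Matrix.mul_smul, Matrix.smul_mul, hx', Matrix.mul_smul, Matrix.smul_mul, hu1, smul_smul,
              inv_mul_cancel₀ hA.1, one_smul]
    have hconj := (conj_om hnorm).1 _ hg
    rw [inv_inv] at hconj
    have hval : (u⁻¹ * g * u).1 = c • (swapG (F := F) (k := k) i l).1 := by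
      rw [Units.val_mul, Units.val_mul, hu, ← map_inv, embG_val, embG_val, e, embM_eq_el, embM_eq_el, hS,
        ← Matrix.mul_assoc, el_mul, Matrix.mul_assoc, p.swap_mul_el, ← Matrix.mul_assoc, el_mul,
        ← hA', A'.inv_mul, Matrix.one_mul, Matrix.one_mul, hBe, Matrix.smul_mul, A'.inv_mul, p.el_smul_right,
        el_one, Matrix.smul_mul, Matrix.one_mul]
    refine E.swap_not_mem ?_
    rcases mul_self_eq_one_iff.1 hcc with rfl | rfl
    · rw [one_smul] at hval
      rwa [← Units.ext hval]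
    · obtain ⟨n, hn, hnv⟩ := E.exists_om (A := -1) (B := 1)
        (isSim_one_iff.2 (by simp [Matrix.transpose_neg])) isSim_one
        (by rw [Matrix.det_neg, Fintype.card_fin, E.even.neg_one_pow, one_mul])
      have : n * (u⁻¹ * g * u) = swapG i l := Units.ext (by
        rw [Units.val_mul, hnv, p.el_neg_left, el_one, hval, neg_one_smul, neg_mul_neg, Matrix.one_mul])
      rw [← this]
      exact (Om _).mul_mem hn hconj

end Env

end CfsgLib.Classical.TensorWreathOrth.Two
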