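import Cfsg.Agent.Lib.Classical.TensorWreathOrth.Sig
import Cfsg.Agent.Lib.Classical.TensorWreathOrth.Diag
import Cfsg.Agent.Lib.Classical.TensorWreathOrth.Normal

set_option autoImplicit false
set_option linter.unusedSectionVars false

/-!
Calculus for two tensor factors, and involutive isometries of one of them.
-/

namespace CfsgLib.Classical.TensorWreathOrth.Two

open Matrix CfsgLib.Classical.TensorWreath
open CfsgLib.Classical.TensorWreathOrth
open scoped MatrixGroups Kronecker

variable {F : Type*} [Field F] {τ : Type} [Fintype τ] [DecidableEq τ] {k : ℕ}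

/-- The two factors. -/
structure Pr2 (i l : τ) : Prop where
  ne : i ≠ l
  cover : ∀ j, j = i ∨ j = l

theorem Pr2.symm {i l : τ} (p : Pr2 i l) : Pr2 l i := ⟨p.ne.symm, fun j => (p.cover j).symm⟩

/-- The product of `A` at the factor `i` and `B` at the other one. -/
def el (i : τ) (A B : Matrix (Fin k) (Fin k) F) : Matrix (Ix τ k) (Ix τ k) F :=
  pureM fun j => if j = i then A else B

/-- The tensor product of two vectors. -/
def vv (i : τ) (x y : Fin k → F) : Ix τ k → F := pv fun j => if j = i then x else y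

variable {i l : τ}

theorem el_mul (A B A' B' : Matrix (Fin k) (Fin k) F) : el i A B * el i A' B' = el i (A * A') (B * B') := by
  rw [el, el, el, pureM_mul]
  congr 1
  funext j
  by_cases h : j = i <;> simp [h]

theorem el_one : el i (1 : Matrix (Fin k) (Fin k) F) 1 = 1 := by
  rw [el]; simp only [ite_self]; exact pureM_one

theorem embM_eq_el (A : Matrix (Fin k) (Fin k) F) : embM i A = el i A 1 := by
  rw [embM, el]
  congr 1
  funext j
  by_cases h : j = i
  · subst h; simp
  · simp [h]

theorem mono_el (A B : Matrix (Fin k) (Fin k) F) : Mono (el i A B) := mono_pure _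

namespace Pr2

variable (p : Pr2 i l)
include p

theorem el_swap (A B : Matrix (Fin k) (Fin k) F) : el l A B = el i B A := by
  rw [el, el]
  congr 1
  funext j
  rcases p.cover j with rfl | rfl <;> simp [p.ne, p.ne.symm]

theorem embM_other (B : Matrix (Fin k) (Fin k) F) : embM l B = el i 1 B := by
  rw [embM_eq_el, p.el_swap]

theorem el_eq_embM (A B : Matrix (Fin k) (Fin k) F) : el i A B = embM i A * embM l B := by
  rw [embM_eq_el, p.embM_other, el_mul, Matrix.mul_one, Matrix.one_mul]

theorem prod_two {α : Type*} [CommMonoid α] (f : τ → α) : ∏ j, f j = f i * f l := by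
  classical
  rw [show (Finset.univ : Finset τ) = {i, l} from
    (Finset.eq_univ_iff_forall.2 fun j => by simpa using p.cover j).symm, Finset.prod_pair p.ne]

theorem el_apply (A B : Matrix (Fin k) (Fin k) F) (x y : Ix τ k) : el i A B x y = A (x i) (y i) * B (x l) (y l) := by
  rw [el, pureM_apply, p.prod_two]
  simp [p.ne.symm]

theorem vv_apply (x y : Fin k → F) (q : Ix τ k) : vv i x y q = x (q i) * y (q l) := by
  rw [vv, pv, p.prod_two]
  simp [p.ne.symm]

theorem card : Fintype.card τ = 2 := by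
  classical
  rw [← Finset.card_univ, show (Finset.univ : Finset τ) = {i, l} from
    (Finset.eq_univ_iff_forall.2 fun j => by simpa using p.cover j).symm, Finset.card_pair p.ne]

/-- The index set as a product. -/
def ixEquiv (k : ℕ) : Ix τ k ≃ Fin k × Fin k where
  toFun x := (x i, x l)
  invFun q j := if j = i then q.1 else q.2
  left_inv x := funext fun j => by
    rcases p.cover j with rfl | rfl <;> simp [p.ne.symm]
  right_inv q := by simp [p.ne.symm]

theorem el_kron (A B : Matrix (Fin k) (Fin k) F) :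
    el i A B = (A ⊗ₖ B).submatrix (p.ixEquiv k) (p.ixEquiv k) := by
  ext x y
  rw [p.el_apply]
  rfl

theorem el_add_left (A A' B : Matrix (Fin k) (Fin k) F) : el i (A + A') B = el i A B + el i A' B := by
  ext x y; simp [p.el_apply, add_mul]

theorem el_add_right (A B B' : Matrix (Fin k) (Fin k) F) : el i A (B + B') = el i A B + el i A B' := by
  ext x y; simp [p.el_apply, mul_add]

theorem el_sub_left (A A' B : Matrix (Fin k) (Fin k) F) : el i (A - A') B = el i A B - el i A' B := by
  ext x y; simp [p.el_apply, sub_mul]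

theorem el_sub_right (A B B' : Matrix (Fin k) (Fin k) F) : el i A (B - B') = el i A B - el i A B' := by
  ext x y; simp [p.el_apply, mul_sub]

theorem el_smul_left (c : F) (A B : Matrix (Fin k) (Fin k) F) : el i (c • A) B = c • el i A B := by
  ext x y; simp [p.el_apply, mul_assoc]

theorem el_smul_right (c : F) (A B : Matrix (Fin k) (Fin k) F) : el i A (c • B) = c • el i A B := by
  ext x y; simp [p.el_apply, mul_left_comm]

theorem el_zero_left (B : Matrix (Fin k) (Fin k) F) : el i 0 B = 0 := by ext x y; simp [p.el_apply]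

theorem el_zero_right (A : Matrix (Fin k) (Fin k) F) : el i A 0 = 0 := by ext x y; simp [p.el_apply]

theorem el_neg_left (A B : Matrix (Fin k) (Fin k) F) : el i (-A) B = -el i A B := by ext x y; simp [p.el_apply]

theorem el_neg_right (A B : Matrix (Fin k) (Fin k) F) : el i A (-B) = -el i A B := by ext x y; simp [p.el_apply]

theorem el_smul_swap (c : F) (A B : Matrix (Fin k) (Fin k) F) : el i (c • A) B = el i A (c • B) := by
  rw [p.el_smul_left, p.el_smul_right]

theorem el_neg_neg (A B : Matrix (Fin k) (Fin k) F) : el i (-A) (-B) = el i A B := by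
  rw [p.el_neg_left, p.el_neg_right, neg_neg]

theorem trace_el (A B : Matrix (Fin k) (Fin k) F) : (el i A B).trace = A.trace * B.trace := by
  rw [p.el_kron, ← Matrix.trace_kronecker]
  exact (p.ixEquiv k).sum_comp fun q => (A ⊗ₖ B) q q

theorem det_el (A B : Matrix (Fin k) (Fin k) F) : (el i A B).det = A.det ^ k * B.det ^ k := by
  rw [p.el_kron, Matrix.det_submatrix_equiv_self, Matrix.det_kronecker, Fintype.card_fin]

theorem el_eq_el {A B A' B' : Matrix (Fin k) (Fin k) F} (h : el i A B = el i A' B') (hA : A ≠ 0) (hB : B ≠ 0) :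
    ∃ s : F, s ≠ 0 ∧ A = s • A' ∧ B' = s • B := by
  obtain ⟨a, b, hab⟩ : ∃ a b, A a b ≠ 0 := by
    by_contra hc; push Not at hc; exact hA (Matrix.ext hc)
  obtain ⟨c, d, hcd⟩ : ∃ c d, B c d ≠ 0 := by
    by_contra hc; push Not at hc; exact hB (Matrix.ext hc)
  have e : ∀ a b c d, A a b * B c d = A' a b * B' c d := fun a b c d => by
    have := congrFun₂ h ((p.ixEquiv k).symm (a, c)) ((p.ixEquiv k).symm (b, d))
    simpa [p.el_apply, ixEquiv, p.ne.symm] using this
  have hA' : A' a b ≠ 0 := fun h0 => mul_ne_zero hab hcd (by rw [e, h0, zero_mul])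
  have hB' : B' c d ≠ 0 := fun h0 => mul_ne_zero hab hcd (by rw [e, h0, mul_zero])
  refine ⟨B' c d / B c d, div_ne_zero hB' hcd, ?_, ?_⟩
  · ext x y
    rw [Matrix.smul_apply, smul_eq_mul, div_mul_eq_mul_div, eq_div_iff hcd, e x y c d, mul_comm]
  · ext x y
    rw [Matrix.smul_apply, smul_eq_mul, div_mul_eq_mul_div, eq_div_iff hcd]
    refine mul_left_cancel₀ hA' ?_
    calc A' a b * (B' x y * B c d) = A a b * B x y * B c d := by rw [e a b x y]; ring
      _ = A a b * B c d * B x y := by ring
      _ = _ := by rw [e a b c d]; ring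

theorem el_eq_zero {A B : Matrix (Fin k) (Fin k) F} (h : el i A B = 0) : A = 0 ∨ B = 0 := by
  by_contra hc
  push Not at hc
  obtain ⟨a, b, hab⟩ : ∃ a b, A a b ≠ 0 := by
    by_contra hc'; push Not at hc'; exact hc.1 (Matrix.ext hc')
  obtain ⟨c, d, hcd⟩ : ∃ c d, B c d ≠ 0 := by
    by_contra hc'; push Not at hc'; exact hc.2 (Matrix.ext hc')
  have := congrFun₂ h ((p.ixEquiv k).symm (a, c)) ((p.ixEquiv k).symm (b, d))
  simp [p.el_apply, ixEquiv, p.ne.symm, hab, hcd] at this

theorem el_eq_one [NeZero k] {A B : Matrix (Fin k) (Fin k) F} (h : el i A B = 1) :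
    ∃ s : F, s ≠ 0 ∧ A = s • 1 ∧ B = s⁻¹ • 1 := by
  have hA0 : A ≠ 0 := fun h0 => by rw [h0, p.el_zero_left] at h; exact zero_ne_one h
  have hB0 : B ≠ 0 := fun h0 => by rw [h0, p.el_zero_right] at h; exact zero_ne_one h
  rw [← el_one (i := i)] at h
  obtain ⟨s, hs, hA, hB⟩ := p.el_eq_el h hA0 hB0
  exact ⟨s, hs, hA, by rw [hB, smul_smul, inv_mul_cancel₀ hs, one_smul]⟩

theorem vv_smul_left (c : F) (x y : Fin k → F) : vv i (c • x) y = c • vv i x y := by
  funext q; simp [p.vv_apply, mul_assoc]

theorem vv_smul_right (c : F) (x y : Fin k → F) : vv i x (c • y) = c • vv i x y := by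
  funext q; simp [p.vv_apply, mul_left_comm]

theorem vv_add_left (x x' y : Fin k → F) : vv i (x + x') y = vv i x y + vv i x' y := by
  funext q; simp [p.vv_apply, add_mul]

theorem vv_add_right (x y y' : Fin k → F) : vv i x (y + y') = vv i x y + vv i x y' := by
  funext q; simp [p.vv_apply, mul_add]

theorem el_mulVec (A B : Matrix (Fin k) (Fin k) F) (x y : Fin k → F) :
    el i A B *ᵥ vv i x y = vv i (A *ᵥ x) (B *ᵥ y) := by
  rw [el, vv, pureM_mulVec_pv, vv]
  congr 1
  funext j
  by_cases h : j = i <;> simp [h]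

theorem bf_vv (J : Matrix (Fin k) (Fin k) F) (x y x' y' : Fin k → F) :
    bf (JJ J τ) (vv i x y) (vv i x' y') = bf J x x' * bf J y y' := by
  rw [vv, vv, bf_pv, p.prod_two]
  simp [p.ne.symm]

theorem JJ_el (J : Matrix (Fin k) (Fin k) F) : JJ J τ = el i J J := by
  rw [JJ, el]; simp only [ite_self]

theorem el_transpose (A B : Matrix (Fin k) (Fin k) F) : (el i A B)ᵀ = el i Aᵀ Bᵀ := by
  ext x y; simp [p.el_apply]

theorem sig_el (h2 : (2 : F) ≠ 0) {A B : Matrix (Fin k) (Fin k) F} (hA : A * A = 1) (hB : B * B = 1) :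
    sig (el i A B) = sig A * sig B := by
  rw [p.el_kron, sig_submatrix, sig_kron h2 hA hB]

/-- The exchange of the factors. -/
theorem swap_mul_el (A B : Matrix (Fin k) (Fin k) F) :
    permM F k (Equiv.swap i l) * el i A B = el i B A * permM F k (Equiv.swap i l) := by
  rw [el, permM_mul_pureM, el]
  congr 2
  funext j
  rcases p.cover j with rfl | rfl <;> simp [p.ne, p.ne.symm]

theorem perm_cases (σ : Equiv.Perm τ) : σ = 1 ∨ σ = Equiv.swap i l := by
  rcases p.cover (σ i) with h | h
  · left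
    ext j
    rcases p.cover j with rfl | rfl
    · rw [h]; rfl
    · rcases p.cover (σ j) with h' | h'
      · exact absurd (σ.injective (h'.trans h.symm)) p.ne.symm
      · rw [h']; rfl
  · right
    ext j
    rcases p.cover j with rfl | rfl
    · rw [h, Equiv.swap_apply_left]
    · rcases p.cover (σ j) with h' | h'
      · rw [h', Equiv.swap_apply_right]
      · exact absurd (σ.injective (h'.trans h.symm)) p.ne.symm

theorem mono_cases {X : Matrix (Ix τ k) (Ix τ k) F} (h : Mono X) :
    (∃ A B, X = el i A B) ∨ ∃ A B, X = el i A B * permM F k (Equiv.swap i l) := by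
  obtain ⟨g, σ, rfl⟩ := h
  have e : pureM g = el i (g i) (g l) := by
    rw [el]
    congr 1
    funext j
    rcases p.cover j with rfl | rfl <;> simp [p.ne.symm]
  rcases p.perm_cases σ with rfl | rfl
  · exact Or.inl ⟨g i, g l, by rw [permM_one, Matrix.mul_one, e]⟩
  · exact Or.inr ⟨g i, g l, by rw [e]⟩

end Pr2

/-! ### One factor -/

variable [Finite F] {J : Matrix (Fin k) (Fin k) F}

/-- A similitude. -/
def IsSim (J : Matrix (Fin k) (Fin k) F) (A : Matrix (Fin k) (Fin k) F) (μ : F) : Prop := μ ≠ 0 ∧ Aᵀ * J * A = μ • J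

theorem IsSim.bf {A : Matrix (Fin k) (Fin k) F} {μ : F} (hA : IsSim J A μ) (x y : Fin k → F) :
    bf J (A *ᵥ x) (A *ᵥ y) = μ * TensorWreathOrth.bf J x y := by
  rw [TensorWreathOrth.bf, TensorWreathOrth.bf, ← smul_eq_mul, ← smul_dotProduct, ← Matrix.smul_mulVec, ← hA.2,
    Matrix.dotProduct_mulVec, ← Matrix.mulVec_transpose, Matrix.mulVec_mulVec, Matrix.mulVec_mulVec, Matrix.mul_assoc]

theorem isSim_one_iff {A : Matrix (Fin k) (Fin k) F} : IsSim J A 1 ↔ Aᵀ * J * A = J := by
  rw [IsSim, one_smul]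
  exact and_iff_right one_ne_zero

theorem isSim_one : IsSim J (1 : Matrix (Fin k) (Fin k) F) 1 := isSim_one_iff.2 (by simp)

theorem IsSim.mul {A B : Matrix (Fin k) (Fin k) F} {μ ν : F} (hA : IsSim J A μ) (hB : IsSim J B ν) :
    IsSim J (A * B) (μ * ν) :=
  ⟨mul_ne_zero hA.1 hB.1, by
    rw [Matrix.transpose_mul, show Bᵀ * Aᵀ * J * (A * B) = Bᵀ * (Aᵀ * J * A) * B by simp only [Matrix.mul_assoc],
      hA.2, Matrix.mul_smul, Matrix.smul_mul, hB.2, smul_smul]⟩

theorem IsSim.smul {A : Matrix (Fin k) (Fin k) F} {μ c : F} (hA : IsSim J A μ) (hc : c ≠ 0) :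
    IsSim J (c • A) (c * c * μ) :=
  ⟨mul_ne_zero (mul_ne_zero hc hc) hA.1, by
    rw [Matrix.transpose_smul, Matrix.smul_mul, Matrix.smul_mul, Matrix.mul_smul, smul_smul, hA.2, smul_smul]⟩

theorem IsSim.det_ne_zero {A : Matrix (Fin k) (Fin k) F} {μ : F} (hA : IsSim J A μ) (h : Frm J) : A.det ≠ 0 := by
  intro h0
  have := congrArg Matrix.det hA.2
  rw [Matrix.det_mul, h0, mul_zero, Matrix.det_smul] at this
  exact mul_ne_zero (pow_ne_zero _ hA.1) h.det this.symm

theorem IsSim.ne_zero [NeZero k] {A : Matrix (Fin k) (Fin k) F} {μ : F} (hA : IsSim J A μ) (h : Frm J) : A ≠ 0 :=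
  fun h0 => hA.det_ne_zero h (by rw [h0, Matrix.det_zero])

theorem IsSim.mulVec_inj {A : Matrix (Fin k) (Fin k) F} {μ : F} (hA : IsSim J A μ) (h : Frm J) {x y : Fin k → F}
    (e : A *ᵥ x = A *ᵥ y) : x = y :=
  Matrix.mulVec_injective_iff_isUnit.2 ((Matrix.isUnit_iff_isUnit_det _).2 (hA.det_ne_zero h).isUnit) e

theorem IsSim.exists_mulVec {A : Matrix (Fin k) (Fin k) F} {μ : F} (hA : IsSim J A μ) (h : Frm J) (y : Fin k → F) :
    ∃ x, A *ᵥ x = y :=
  Matrix.mulVec_surjective_iff_isUnit.2 ((Matrix.isUnit_iff_isUnit_det _).2 (hA.det_ne_zero h).isUnit) y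

theorem IsSim.pr {A : Matrix (Fin k) (Fin k) F} {μ : F} (hA : IsSim J A μ) (c : Fin k → F) :
    A * TensorWreathOrth.pr J c = TensorWreathOrth.pr J (A *ᵥ c) * A := by
  refine Matrix.ext_iff_mulVec.2 fun x => ?_
  rw [← Matrix.mulVec_mulVec, ← Matrix.mulVec_mulVec, pr_mulVec, pr_mulVec, Matrix.mulVec_smul, hA.bf, hA.bf,
    mul_inv, mul_mul_mul_comm, inv_mul_cancel₀ hA.1, one_mul]

theorem IsSim.rot {A : Matrix (Fin k) (Fin k) F} {μ : F} (hA : IsSim J A μ) (c : Fin k → F) :
    A * TensorWreathOrth.rot J c = TensorWreathOrth.rot J (A *ᵥ c) * A := by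
  rw [TensorWreathOrth.rot, TensorWreathOrth.rot, Matrix.mul_sub, Matrix.sub_mul, Matrix.mul_smul, Matrix.smul_mul,
    hA.pr, Matrix.mul_one, Matrix.one_mul]

/-- An orthogonal pair of anisotropic vectors. -/
structure Pl (J : Matrix (Fin k) (Fin k) F) (c d : Fin k → F) : Prop where
  left : bf J c c ≠ 0
  right : bf J d d ≠ 0
  orth : bf J c d = 0

/-- The involution with minus eigenspace spanned by `c` and `d`. -/
def pl (J : Matrix (Fin k) (Fin k) F) (c d : Fin k → F) : Matrix (Fin k) (Fin k) F := rot J c * rot J d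

theorem pl_eq (h : Frm J) {c d : Fin k → F} (q : Pl J c d) : pl J c d = 1 - (2 : F) • (pr J c + pr J d) :=
  h.rot_mul_eq q.orth

theorem Pl.symm (h : Frm J) {c d : Fin k → F} (q : Pl J c d) : Pl J d c :=
  ⟨q.right, q.left, by rw [h.bf_comm]; exact q.orth⟩

theorem pl_comm (h : Frm J) {c d : Fin k → F} (q : Pl J c d) : pl J c d = pl J d c := by
  rw [pl_eq h q, pl_eq h (q.symm h), add_comm]

theorem isSim_rot (h : Frm J) {c : Fin k → F} (hc : bf J c c ≠ 0) : IsSim J (rot J c) 1 :=
  isSim_one_iff.2 (h.rot_mem hc)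

theorem isSim_pl (h : Frm J) {c d : Fin k → F} (q : Pl J c d) : IsSim J (pl J c d) 1 := by
  have := (isSim_rot h q.left).mul (isSim_rot h q.right)
  rwa [one_mul] at this

theorem pl_mul_self (h : Frm J) {c d : Fin k → F} (q : Pl J c d) : pl J c d * pl J c d = 1 := by
  have e : rot J d * rot J c = rot J c * rot J d := (pl_comm h q).symm
  rw [pl, Matrix.mul_assoc, ← Matrix.mul_assoc (rot J d), e, Matrix.mul_assoc, rot_mul_self J q.right, Matrix.mul_one,
    rot_mul_self J q.left]

theorem pl_mulVec_mem (h : Frm J) {c d : Fin k → F} (q : Pl J c d) : pl J c d *ᵥ c = -c := by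
  rw [pl_comm h q, pl, ← Matrix.mulVec_mulVec, rot_self J q.left, rot_perp J (by rw [h.bf_comm]; exact q.orth)]

theorem pl_mulVec_perp (h : Frm J) {c d x : Fin k → F} (q : Pl J c d) (hc : bf J c x = 0) (hd : bf J d x = 0) :
    pl J c d *ᵥ x = x := by
  rw [pl, ← Matrix.mulVec_mulVec, rot_perp J hd, Matrix.mulVec_neg, rot_perp J hc, neg_neg]

theorem rot_inj {a b : Fin k → F} (hb : bf J b b ≠ 0) (hk : 2 ≤ k) (h : Frm J) (e : rot J a = rot J b) :
    ∃ s : F, b = s • a := by
  have h1 := congrArg (· *ᵥ b) e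
  simp only [rot_self J hb] at h1
  rw [TensorWreathOrth.rot, Matrix.sub_mulVec, Matrix.one_mulVec, Matrix.smul_mulVec, pr_mulVec, sub_eq_iff_eq_add,
    ← two_smul F] at h1
  exact ⟨_, ((smul_right_injective _ h.two) h1).symm⟩

/-- An involutive isometry has an orthogonal eigenbasis. -/
theorem exists_ob_signs (h : Frm J) {X : Matrix (Fin k) (Fin k) F} (hX : IsSim J X 1) (hX2 : X * X = 1) :
    ∃ (f : Fin k → Fin k → F) (s : Fin k → Bool), OB J f ∧ ∀ a, X *ᵥ f a = (if s a then (-1 : F) else 1) • f a := by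
  classical
  have key : ∀ n, n ≤ k → ∃ (f : Fin n → Fin k → F), (∀ a b, a ≠ b → bf J (f a) (f b) = 0) ∧
      (∀ a, bf J (f a) (f a) ≠ 0) ∧ ∀ a, X *ᵥ f a = f a ∨ X *ᵥ f a = -f a := by
    intro n
    induction n with
    | zero => exact fun _ => ⟨fun a => a.elim0, fun a => a.elim0, fun a => a.elim0, fun a => a.elim0⟩
    | succ n ih =>
      intro hn
      obtain ⟨f, f1, f2, f3⟩ := ih (by omega)
      obtain ⟨w, hw, hww⟩ := h.exists_perp_aniso f1 f2 (by rw [Fintype.card_fin, Fintype.card_fin]; omega)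
      have hwX : ∀ a, bf J (f a) (X *ᵥ w) = 0 := fun a => by
        have := hX.bf (f a) w
        rw [hw a, mul_zero] at this
        rcases f3 a with e | e
        · rwa [e] at this
        · rw [e, ← neg_one_smul F (f a), bf_smul_left] at this
          exact (mul_eq_zero.1 this).resolve_left (neg_ne_zero.2 one_ne_zero)
      have hXX : bf J (X *ᵥ w) (X *ᵥ w) = bf J w w := by rw [hX.bf, one_mul]
      obtain ⟨x, hx, hxx, hXx⟩ : ∃ x, (∀ a, bf J (f a) x = 0) ∧ bf J x x ≠ 0 ∧ (X *ᵥ x = x ∨ X *ᵥ x = -x) := by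
        by_cases hs : bf J (w + X *ᵥ w) (w + X *ᵥ w) = 0
        · refine ⟨w - X *ᵥ w, fun a => by rw [bf_sub_right, hw a, hwX a, sub_zero], fun e0 => ?_, Or.inr ?_⟩
          · apply hww
            simp only [bf_add_left, bf_add_right, bf_sub_left, bf_sub_right, hXX] at hs e0
            have h4 : (2 : F) * 2 * bf J w w = 0 := by linear_combination hs + e0
            exact (mul_eq_zero.1 h4).resolve_left (mul_ne_zero h.two h.two)
          · rw [Matrix.mulVec_sub, Matrix.mulVec_mulVec, hX2, Matrix.one_mulVec, neg_sub]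
        · exact ⟨w + X *ᵥ w, fun a => by rw [bf_add_right, hw a, hwX a, add_zero], hs, Or.inl (by
            rw [Matrix.mulVec_add, Matrix.mulVec_mulVec, hX2, Matrix.one_mulVec, add_comm])⟩
      refine ⟨Fin.snoc f x, fun a b hab => ?_, fun a => ?_, fun a => ?_⟩
      · induction a using Fin.lastCases with
        | last =>
          induction b using Fin.lastCases with
          | last => exact absurd rfl hab
          | cast b => rw [Fin.snoc_last, Fin.snoc_castSucc, h.bf_comm]; exact hx b
        | cast a =>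
          induction b using Fin.lastCases with
          | last => rw [Fin.snoc_last, Fin.snoc_castSucc]; exact hx a
          | cast b => rw [Fin.snoc_castSucc, Fin.snoc_castSucc]; exact f1 a b fun e => hab (congrArg _ e)
      · induction a using Fin.lastCases with
        | last => rw [Fin.snoc_last]; exact hxx
        | cast a => rw [Fin.snoc_castSucc]; exact f2 a
      · induction a using Fin.lastCases with
        | last => rw [Fin.snoc_last]; exact hXx
        | cast a => rw [Fin.snoc_castSucc]; exact f3 a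
  obtain ⟨f, f1, f2, f3⟩ := key k le_rfl
  refine ⟨f, fun a => decide (X *ᵥ f a = -f a), ⟨f1, f2, rfl⟩, fun a => ?_⟩
  by_cases e : X *ᵥ f a = -f a
  · simp [e]
  · simp [e, (f3 a).resolve_right e]

/-- Determinant, trace and signature from an eigenbasis. -/
theorem signs_data (h : Frm J) {X : Matrix (Fin k) (Fin k) F} {f : Fin k → Fin k → F} {s : Fin k → Bool}
    (hf : OB J f) (hs : ∀ a, X *ᵥ f a = (if s a then (-1 : F) else 1) • f a) :
    X.det = (-1) ^ (Finset.univ.filter fun a => s a = true).card ∧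
      X.trace = (k : F) - 2 * ((Finset.univ.filter fun a => s a = true).card : F) ∧
      sig X = (k : ℤ) - 2 * ((Finset.univ.filter fun a => s a = true).card : ℤ) := by
  classical
  obtain ⟨P, hP⟩ : ∃ P : Matrix (Fin k) (Fin k) F, P = Matrix.of fun x a => f a x := ⟨_, rfl⟩
  have hPv : ∀ a, P *ᵥ Pi.single a 1 = f a := fun a => by funext x; simp [hP]
  have hdet : P.det ≠ 0 := fun h0 => by
    obtain ⟨v, hv0, hv⟩ := Matrix.exists_mulVec_eq_zero_iff.2 h0
    refine hv0 (funext fun a => ?_)
    have e : ∑ b, v b • f b = 0 := by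
      rw [← hv]; funext x; simp [hP, Matrix.mulVec, dotProduct, mul_comm]
    exact Fintype.linearIndependent_iff.1 hf.linearIndependent v e a
  have hI : P * P⁻¹ = 1 := Matrix.mul_nonsing_inv _ hdet.isUnit
  have hI' : P⁻¹ * P = 1 := Matrix.nonsing_inv_mul _ hdet.isUnit
  have e1 : X * P = P * dg F s := Matrix.ext_of_mulVec_single fun a => by
    rw [← Matrix.mulVec_mulVec, hPv, hs, ← Matrix.mulVec_mulVec, dg, Matrix.diagonal_mulVec_single, mul_one,
      show Pi.single a (if s a then (-1 : F) else 1) = (if s a then (-1 : F) else 1) • Pi.single a (1 : F) by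
        rw [← Pi.single_smul, smul_eq_mul, mul_one], Matrix.mulVec_smul, hPv]
  have hX : X = P * dg F s * P⁻¹ := by rw [← e1, Matrix.mul_assoc, hI, Matrix.mul_one]
  obtain ⟨p, hp⟩ : ∃ p, p = (Finset.univ.filter fun a => s a = true).card := ⟨_, rfl⟩
  have hp' : (Finset.univ.filter fun a => ¬ s a = true).card + p = k := by
    rw [hp, add_comm, Finset.card_filter_add_card_filter_not, Finset.card_univ, Fintype.card_fin]
  rw [← hp]
  refine ⟨?_, ?_, ?_⟩
  · rw [hX, Matrix.det_mul, Matrix.det_mul, mul_comm P.det, mul_assoc, ← Matrix.det_mul, hI, Matrix.det_one, mul_one,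
      dg, Matrix.det_diagonal, Finset.prod_ite, Finset.prod_const, Finset.prod_const, one_pow, mul_one, hp]
  · rw [hX, Matrix.trace_mul_comm, ← Matrix.mul_assoc, hI', Matrix.one_mul, dg, Matrix.trace_diagonal,
      Finset.sum_ite, Finset.sum_const, Finset.sum_const, ← hp, nsmul_eq_mul, nsmul_eq_mul, mul_one]
    have : ((Finset.univ.filter fun a => ¬ s a = true).card : F) + p = k := by exact_mod_cast congrArg (Nat.cast : ℕ → F) hp'
    linear_combination this
  · rw [hX, sig_conj hI', sig_dg h.two, Finset.sum_ite, Finset.sum_const, Finset.sum_const, ← hp, nsmul_eq_mul,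
      nsmul_eq_mul, mul_one]
    have : ((Finset.univ.filter fun a => ¬ s a = true).card : ℤ) + p = k := by exact_mod_cast hp'
    linear_combination this

theorem eq_one_of_signs {X : Matrix (Fin k) (Fin k) F} {f : Fin k → Fin k → F} {s : Fin k → Bool}
    (hf : OB J f) (hs : ∀ a, X *ᵥ f a = (if s a then (-1 : F) else 1) • f a)
    (hp : (Finset.univ.filter fun a => s a = true).card = 0) : X = 1 := by
  refine hf.ext fun a => ?_
  rw [hs, Matrix.one_mulVec]
  have : ¬ s a = true := fun e => by
    rw [Finset.card_eq_zero] at hp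
    exact Finset.notMem_empty a (hp ▸ Finset.mem_filter.2 ⟨Finset.mem_univ a, e⟩)
  simp [this]

theorem eq_refl_of_signs {X : Matrix (Fin k) (Fin k) F} {f : Fin k → Fin k → F} {s : Fin k → Bool}
    (hf : OB J f) (hs : ∀ a, X *ᵥ f a = (if s a then (-1 : F) else 1) • f a)
    (hp : (Finset.univ.filter fun a => s a = true).card = 1) : ∃ c, bf J c c ≠ 0 ∧ X = -rot J c := by
  obtain ⟨a₀, ha₀⟩ := Finset.card_eq_one.1 hp
  refine ⟨f a₀, hf.aniso a₀, hf.ext fun a => ?_⟩
  rw [hs, Matrix.neg_mulVec, hf.rot_apply]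
  have : s a = true ↔ a = a₀ := by
    have := Finset.ext_iff.1 ha₀ a
    simpa using this
  by_cases e : a = a₀
  · subst e; simp [this.2 rfl]
  · have e' : ¬ s a = true := fun h => e (this.1 h)
    simp [e', Ne.symm e]

theorem eq_pl_of_signs {X : Matrix (Fin k) (Fin k) F} {f : Fin k → Fin k → F} {s : Fin k → Bool}
    (hf : OB J f) (hs : ∀ a, X *ᵥ f a = (if s a then (-1 : F) else 1) • f a)
    (hp : (Finset.univ.filter fun a => s a = true).card = 2) : ∃ c d, Pl J c d ∧ X = pl J c d := by
  obtain ⟨a, b, hab, hS⟩ := Finset.card_eq_two.1 hp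
  refine ⟨f a, f b, ⟨hf.aniso a, hf.aniso b, hf.orth a b hab⟩, hf.ext fun x => ?_⟩
  have : s x = true ↔ x = a ∨ x = b := by
    have := Finset.ext_iff.1 hS x
    simpa using this
  rw [hs, pl, ← Matrix.mulVec_mulVec, hf.rot_apply]
  by_cases e1 : x = a
  · subst e1
    simp [this.2 (Or.inl rfl), Ne.symm hab, Matrix.mulVec_neg, hf.rot_apply]
  by_cases e2 : x = b
  · subst e2
    simp [this.2 (Or.inr rfl), hf.rot_apply, Ne.symm e1]
  · have e' : ¬ s x = true := fun h => (this.1 h).elim e1 e2
    simp [e', Ne.symm e2, Matrix.mulVec_neg, hf.rot_apply, Ne.symm e1]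


/-- A square root of a non-square is similar to its negative. -/
theorem exists_anticomm {A : Matrix (Fin k) (Fin k) F} {c : F} (hA : A * A = c • 1) (hc : ¬ IsSquare c) :
    ∃ Q : GL (Fin k) F, Q.1 * A = -A * Q.1 := by
  classical
  obtain ⟨L, hL⟩ : ∃ L : (Fin k → F) →ₗ[F] (Fin k → F), L = A.mulVecLin := ⟨_, rfl⟩
  have hLL : ∀ x, L (L x) = c • x := fun x => by
    rw [hL, Matrix.mulVecLin_apply, Matrix.mulVecLin_apply, Matrix.mulVec_mulVec, hA, Matrix.smul_mulVec,
      Matrix.one_mulVec]
  -- a largest family independent with its image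
  let P : ℕ → Prop := fun r => ∃ v : Fin r → Fin k → F, LinearIndependent F (Sum.elim v fun a => L (v a))
  obtain ⟨r, hr, hmax⟩ : ∃ r, P r ∧ ∀ r', P r' → r' ≤ r := by
    have hbd : ∀ r, P r → r ≤ k := fun r ⟨v, hv⟩ => by
      have := hv.fintype_card_le_finrank
      rw [Fintype.card_sum, Fintype.card_fin, Module.finrank_fintype_fun_eq_card, Fintype.card_fin] at this
      omega
    refine ⟨Nat.findGreatest P k, Nat.findGreatest_spec (P := P) (Nat.zero_le k)
      ⟨Fin.elim0, linearIndependent_empty_type⟩, fun r' hr' => Nat.le_findGreatest (hbd r' hr') hr'⟩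
  obtain ⟨v, hv⟩ := hr
  obtain ⟨S, hS⟩ : ∃ S, S = Submodule.span F (Set.range (Sum.elim v fun a => L (v a))) := ⟨_, rfl⟩
  have hLS : ∀ x ∈ S, L x ∈ S := by
    subst hS
    intro x hx
    induction hx using Submodule.span_induction with
    | mem y hy =>
      obtain ⟨a | a, rfl⟩ := hy
      · exact Submodule.subset_span ⟨Sum.inr a, rfl⟩
      · rw [Sum.elim_inr, hLL]
        exact Submodule.smul_mem _ _ (Submodule.subset_span ⟨Sum.inl a, rfl⟩)
    | zero => rw [map_zero]; exact zero_mem _
    | add a b _ _ ha hb => rw [map_add]; exact add_mem ha hb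
    | smul t a _ ha => rw [map_smul]; exact Submodule.smul_mem _ _ ha
  have htop : S = ⊤ := by
    by_contra hne
    obtain ⟨x, -, hx⟩ := SetLike.exists_of_lt (lt_top_iff_ne_top.2 hne)
    have hind : ∀ a b : F, a • x + b • L x ∈ S → a = 0 ∧ b = 0 := by
      intro a b h1
      have h2 := hLS _ h1
      rw [map_add, map_smul, map_smul, hLL] at h2
      have h3 : (a * a - b * b * c) • x ∈ S := by
        have h4 := S.sub_mem (S.smul_mem a h1) (S.smul_mem b h2)
        convert h4 using 1
        module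
      by_cases hb : b = 0
      · subst hb
        simp only [zero_mul, sub_zero] at h3
        refine ⟨?_, rfl⟩
        by_contra ha
        exact hx ((S.smul_mem_iff (mul_ne_zero ha ha)).1 h3)
      · exfalso
        refine hx ((S.smul_mem_iff fun h0 => hc ⟨a / b, ?_⟩).1 h3)
        field_simp
        linear_combination -h0
    have hP : P (r + 1) := by
      refine ⟨Fin.snoc v x, Fintype.linearIndependent_iff.2 fun g hg => ?_⟩
      rw [Fintype.sum_sum_type, Fin.sum_univ_castSucc, Fin.sum_univ_castSucc] at hg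
      simp only [Sum.elim_inl, Sum.elim_inr, Fin.snoc_castSucc, Fin.snoc_last] at hg
      have hmem : g (Sum.inl (Fin.last r)) • x + g (Sum.inr (Fin.last r)) • L x ∈ S := by
        have e : g (Sum.inl (Fin.last r)) • x + g (Sum.inr (Fin.last r)) • L x =
            -(∑ a : Fin r, g (Sum.inl a.castSucc) • v a + ∑ a : Fin r, g (Sum.inr a.castSucc) • L (v a)) := by
          rw [eq_neg_iff_add_eq_zero, ← hg]; abel
        rw [e, hS]
        exact neg_mem (add_mem (Submodule.sum_mem _ fun a _ => Submodule.smul_mem _ _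
          (Submodule.subset_span ⟨Sum.inl a, rfl⟩)) (Submodule.sum_mem _ fun a _ => Submodule.smul_mem _ _
          (Submodule.subset_span ⟨Sum.inr a, rfl⟩)))
      obtain ⟨e1, e2⟩ := hind _ _ hmem
      have hz := Fintype.linearIndependent_iff.1 hv
        (Sum.elim (fun a => g (Sum.inl a.castSucc)) fun a => g (Sum.inr a.castSucc)) (by
          rw [Fintype.sum_sum_type]
          simp only [Sum.elim_inl, Sum.elim_inr]
          rw [e1, e2, zero_smul, zero_smul, add_zero, add_zero] at hg
          exact hg)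
      rintro (a | a)
      · induction a using Fin.lastCases with
        | last => exact e1
        | cast a => exact hz (Sum.inl a)
      · induction a using Fin.lastCases with
        | last => exact e2
        | cast a => exact hz (Sum.inr a)
    exact absurd (hmax _ hP) (by omega)
  obtain ⟨b, hb⟩ : ∃ b : Module.Basis (Fin r ⊕ Fin r) F (Fin k → F), ⇑b = Sum.elim v fun a => L (v a) :=
    ⟨Module.Basis.mk hv (by rw [← hS, htop]), Module.Basis.coe_mk _ _⟩
  obtain ⟨T, hT⟩ : ∃ T, T = b.constr F (Sum.elim v fun a => -L (v a)) := ⟨_, rfl⟩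
  have hTv : ∀ a, T (v a) = v a ∧ T (L (v a)) = -L (v a) := fun a => by
    constructor
    · have := b.constr_basis F (Sum.elim v fun a => -L (v a)) (Sum.inl a)
      rwa [hb, Sum.elim_inl, Sum.elim_inl, ← hT] at this
    · have := b.constr_basis F (Sum.elim v fun a => -L (v a)) (Sum.inr a)
      rwa [hb, Sum.elim_inr, Sum.elim_inr, ← hT] at this
  have hTT : T.comp T = LinearMap.id := b.ext fun a => by
    rw [hb]
    rcases a with a | a
    · simp [(hTv a).1]
    · simp [(hTv a).2]
  have hTL : T.comp L = -(L.comp T) := b.ext fun a => by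
    rw [hb]
    rcases a with a | a
    · simp [(hTv a).1, (hTv a).2]
    · simp [(hTv a).2, hLL, (hTv a).1]
  refine ⟨⟨LinearMap.toMatrix' T, LinearMap.toMatrix' T, by rw [← LinearMap.toMatrix'_comp, hTT, LinearMap.toMatrix'_id],
    by rw [← LinearMap.toMatrix'_comp, hTT, LinearMap.toMatrix'_id]⟩, ?_⟩
  have e : LinearMap.toMatrix' L = A := by rw [hL]; exact LinearMap.toMatrix'_toLin' A
  show LinearMap.toMatrix' T * A = -A * LinearMap.toMatrix' T
  rw [← e, ← LinearMap.toMatrix'_comp, hTL, map_neg, LinearMap.toMatrix'_comp, Matrix.neg_mul]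

end CfsgLib.Classical.TensorWreathOrth.Two
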