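import Cfsg.Agent.Lib.Classical.TensorWreathOrth.TwoFourImage

set_option autoImplicit false
set_option linter.unusedSectionVars false

/-!
Dimension four: the restriction of a similitude to one plane, the rotations of the two planes, and isometries of
odd order keeping sixteen lines in pairs.
-/

namespace CfsgLib.Classical.TensorWreathOrth.Two

open Matrix CfsgLib.Classical.TensorWreath
open CfsgLib.Classical.TensorWreathOrth
open scoped MatrixGroups

variable {F : Type*} [Field F] [Finite F] {τ : Type} [Fintype τ] [DecidableEq τ] {k : ℕ}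
  {J : Matrix (Fin k) (Fin k) F}

namespace Fr4

variable {a a' e e' : Fin k → F}

/-- The part of a matrix on one plane. -/
def blk (_ : Fr4 J a a' e e') (A : Matrix (Fin k) (Fin k) F) : Matrix (Fin k) (Fin k) F :=
  A * pp J a a' + pp J e e'

/-- A rotation of one of the two planes. -/
def PlRot (_ : Fr4 J a a' e e') (S : Matrix (Fin k) (Fin k) F) : Prop :=
  IsSim J S 1 ∧ S.det = 1 ∧ ((S *ᵥ a = a ∧ S *ᵥ a' = a') ∨ (S *ᵥ e = e ∧ S *ᵥ e' = e'))

variable (f : Fr4 J a a' e e')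
include f

theorem blk_one : f.blk 1 = 1 := by rw [blk, Matrix.one_mul, f.sum_pp]

theorem comm_pp' {A : Matrix (Fin k) (Fin k) F} (hA : A * pl J a a' = pl J a a' * A) :
    A * pp J e e' = pp J e e' * A :=
  f.swap.comm_pp (by rw [f.pl_neg, Matrix.mul_neg, Matrix.neg_mul, hA])

theorem blk_mul {A : Matrix (Fin k) (Fin k) F} (B : Matrix (Fin k) (Fin k) F)
    (hB : B * pl J a a' = pl J a a' * B) : f.blk (A * B) = f.blk A * f.blk B := by
  rw [blk, blk, blk, Matrix.add_mul, Matrix.mul_add, Matrix.mul_add, Matrix.mul_assoc A (pp J a a'),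
    ← Matrix.mul_assoc (pp J a a') B, ← f.comm_pp hB, Matrix.mul_assoc B, f.pp_sq,
    Matrix.mul_assoc A (pp J a a') (pp J e e'), f.pp_mul_zero, Matrix.mul_zero, add_zero, f.swap.pp_sq,
    ← Matrix.mul_assoc (pp J e e') B, ← f.comm_pp' hB, Matrix.mul_assoc B, f.swap.pp_mul_zero, Matrix.mul_zero,
    zero_add, Matrix.mul_assoc A B]

theorem blk_smul_one (t : F) : f.blk (t • 1) = t • pp J a a' + pp J e e' := by
  rw [blk, Matrix.smul_mul, Matrix.one_mul]

theorem pp_symm : (pp J a a')ᵀ * J = J * pp J a a' := by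
  rw [pp, Matrix.transpose_add, Matrix.add_mul, f.frm.pr_symm, f.frm.pr_symm, Matrix.mul_add]

theorem blk_sim {A : Matrix (Fin k) (Fin k) F} {μ : F} (hA : IsSim J A μ) (hc : A * pl J a a' = pl J a a' * A) :
    (f.blk A)ᵀ * J * f.blk A = J * f.blk (μ • 1) := by
  have e1 : (pp J e e')ᵀ * J * (A * pp J a a') = 0 := by
    rw [f.swap.pp_symm, f.comm_pp hc, Matrix.mul_assoc J, ← Matrix.mul_assoc (pp J e e'), f.swap.pp_mul_zero,
      Matrix.zero_mul, Matrix.mul_zero]
  have e2 : (A * pp J a a')ᵀ * J * pp J e e' = 0 := by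
    have := congrArg Matrix.transpose e1
    rw [Matrix.transpose_mul ((pp J e e')ᵀ * J), Matrix.transpose_mul (pp J e e')ᵀ J, Matrix.transpose_transpose,
      f.frm.symm, Matrix.transpose_zero, ← Matrix.mul_assoc] at this
    exact this
  have e3 : (A * pp J a a')ᵀ * J * (A * pp J a a') = μ • (J * pp J a a') := by
    rw [Matrix.transpose_mul, show (pp J a a')ᵀ * Aᵀ * J * (A * pp J a a') =
      (pp J a a')ᵀ * (Aᵀ * J * A) * pp J a a' by simp only [Matrix.mul_assoc], hA.2, Matrix.mul_smul,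
      Matrix.smul_mul, f.pp_symm, Matrix.mul_assoc, f.pp_sq]
  have e4 : (pp J e e')ᵀ * J * pp J e e' = J * pp J e e' := by
    rw [f.swap.pp_symm, Matrix.mul_assoc, f.swap.pp_sq]
  rw [blk, Matrix.transpose_add, Matrix.add_mul, Matrix.add_mul, Matrix.mul_add, Matrix.mul_add, e1, e2, e3, e4,
    add_zero, zero_add, f.blk_smul_one, Matrix.mul_add, Matrix.mul_smul]

theorem blk_det_sq {A : Matrix (Fin k) (Fin k) F} {μ : F} (hA : IsSim J A μ)
    (hc : A * pl J a a' = pl J a a' * A) : (f.blk A).det * (f.blk A).det = (f.blk (μ • 1)).det := by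
  have := congrArg Matrix.det (f.blk_sim hA hc)
  rw [Matrix.det_mul, Matrix.det_mul, Matrix.det_mul, Matrix.det_transpose] at this
  refine mul_left_cancel₀ f.frm.det ?_
  linear_combination this

theorem blk_mulVec (A : Matrix (Fin k) (Fin k) F) :
    f.blk A *ᵥ a = A *ᵥ a ∧ f.blk A *ᵥ a' = A *ᵥ a' ∧ f.blk A *ᵥ e = e ∧ f.blk A *ᵥ e' = e' := by
  refine ⟨?_, ?_, ?_, ?_⟩ <;> rw [blk, Matrix.add_mulVec, ← Matrix.mulVec_mulVec]
  · rw [f.pp_a, f.swap.pp_e, add_zero]
  · rw [f.pp_a', f.swap.pp_e', add_zero]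
  · rw [f.pp_e, f.swap.pp_a, Matrix.mulVec_zero, zero_add]
  · rw [f.pp_e', f.swap.pp_a', Matrix.mulVec_zero, zero_add]

theorem blk_rot {A : Matrix (Fin k) (Fin k) F} (hA : IsSim J A 1) (hc : A * pl J a a' = pl J a a' * A)
    (hd : (f.blk A).det = 1) : f.PlRot (f.blk A) := by
  refine ⟨isSim_one_iff.2 ?_, hd, Or.inr ⟨(f.blk_mulVec A).2.2.1, (f.blk_mulVec A).2.2.2⟩⟩
  rw [f.blk_sim hA hc, one_smul, f.blk_one, Matrix.mul_one]

theorem blk_split {A : Matrix (Fin k) (Fin k) F} (hc : A * pl J a a' = pl J a a' * A) :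
    A = f.blk A * f.swap.blk A := by
  rw [blk, blk, Matrix.add_mul, Matrix.mul_add, Matrix.mul_add, ← Matrix.mul_assoc (A * pp J a a') A,
    Matrix.mul_assoc A (pp J a a') A, ← f.comm_pp hc, ← Matrix.mul_assoc A A, Matrix.mul_assoc (A * A),
    f.pp_mul_zero, Matrix.mul_zero, zero_add, Matrix.mul_assoc A, f.pp_sq, ← Matrix.mul_assoc (pp J e e') A,
    ← f.comm_pp' hc, Matrix.mul_assoc A, f.swap.pp_sq, f.swap.pp_mul_zero, add_zero, ← Matrix.mul_add, f.sum_pp,
    Matrix.mul_one]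

theorem plRot_swap {S : Matrix (Fin k) (Fin k) F} : f.swap.PlRot S ↔ f.PlRot S := by
  constructor <;> rintro ⟨h1, h2, h3⟩ <;> exact ⟨h1, h2, h3.symm⟩

theorem PlRot_comm_plane {S : Matrix (Fin k) (Fin k) F} (hS : f.PlRot S) : S * pl J a a' = pl J a a' * S := by
  have key : ∀ {a a' e e' : Fin k → F} (f : Fr4 J a a' e e'), IsSim J S 1 → S.det = 1 → S *ᵥ e = e → S *ᵥ e' = e' →
      S * pl J a a' = pl J a a' * S := by
    intro a a' e e' f h1 h2 he he'
    obtain ⟨x, y, ea, ea', -⟩ := f.rotation_form h1 h2 he he'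
    refine f.ext ?_ ?_ ?_ ?_ <;> rw [← Matrix.mulVec_mulVec, ← Matrix.mulVec_mulVec]
    · rw [f.pl_a, Matrix.mulVec_neg, ea, Matrix.mulVec_add, Matrix.mulVec_smul, Matrix.mulVec_smul, f.pl_a, f.pl_a']
      module
    · rw [f.pl_a', Matrix.mulVec_neg, ea', Matrix.mulVec_add, Matrix.mulVec_smul, Matrix.mulVec_smul, f.pl_a,
        f.pl_a']
      module
    · rw [f.pl_e, he, f.pl_e]
    · rw [f.pl_e', he', f.pl_e']
  obtain ⟨h1, h2, ⟨ha, ha'⟩ | ⟨he, he'⟩⟩ := hS
  · have := key f.swap h1 h2 ha ha'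
    rwa [f.pl_neg, Matrix.mul_neg, Matrix.neg_mul, neg_inj] at this
  · exact key f h1 h2 he he'

theorem PlRot_comm {S T : Matrix (Fin k) (Fin k) F} (hS : f.PlRot S) (hT : f.PlRot T) : S * T = T * S := by
  have same : ∀ {a a' e e' : Fin k → F} (f : Fr4 J a a' e e') {S T : Matrix (Fin k) (Fin k) F},
      IsSim J S 1 → S.det = 1 → S *ᵥ e = e → S *ᵥ e' = e' →
      IsSim J T 1 → T.det = 1 → T *ᵥ e = e → T *ᵥ e' = e' → S * T = T * S := by
    intro a a' e e' f S T h1 h2 he he' g1 g2 ge ge'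
    obtain ⟨x, y, ea, ea', -⟩ := f.rotation_form h1 h2 he he'
    obtain ⟨u, w, fa, fa', -⟩ := f.rotation_form g1 g2 ge ge'
    refine f.ext ?_ ?_ ?_ ?_ <;> rw [← Matrix.mulVec_mulVec, ← Matrix.mulVec_mulVec]
    · rw [fa, ea]
      simp only [Matrix.mulVec_add, Matrix.mulVec_smul, ea, ea', fa, fa']
      module
    · rw [fa', ea']
      simp only [Matrix.mulVec_add, Matrix.mulVec_smul, ea, ea', fa, fa']
      module
    · rw [ge, he, ge]
    · rw [ge', he', ge']
  have diff : ∀ {a a' e e' : Fin k → F} (f : Fr4 J a a' e e') {S T : Matrix (Fin k) (Fin k) F},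
      IsSim J S 1 → S.det = 1 → S *ᵥ e = e → S *ᵥ e' = e' →
      IsSim J T 1 → T.det = 1 → T *ᵥ a = a → T *ᵥ a' = a' → S * T = T * S := by
    intro a a' e e' f S T h1 h2 he he' g1 g2 ga ga'
    obtain ⟨x, y, ea, ea', -⟩ := f.rotation_form h1 h2 he he'
    obtain ⟨u, w, fe, fe', -⟩ := f.swap.rotation_form g1 g2 ga ga'
    refine f.ext ?_ ?_ ?_ ?_ <;> rw [← Matrix.mulVec_mulVec, ← Matrix.mulVec_mulVec]
    · rw [ga, ea, Matrix.mulVec_add, Matrix.mulVec_smul, Matrix.mulVec_smul, ga, ga']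
    · rw [ga', ea', Matrix.mulVec_add, Matrix.mulVec_smul, Matrix.mulVec_smul, ga, ga']
    · rw [he, fe, Matrix.mulVec_add, Matrix.mulVec_smul, Matrix.mulVec_smul, he, he']
    · rw [he', fe', Matrix.mulVec_add, Matrix.mulVec_smul, Matrix.mulVec_smul, he, he']
  obtain ⟨h1, h2, ⟨ha, ha'⟩ | ⟨he, he'⟩⟩ := hS <;> obtain ⟨g1, g2, ⟨ga, ga'⟩ | ⟨ge, ge'⟩⟩ := hT
  · exact same f.swap h1 h2 ha ha' g1 g2 ga ga'
  · exact diff f.swap h1 h2 ha ha' g1 g2 ge ge'
  · exact diff f h1 h2 he he' g1 g2 ga ga'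
  · exact same f h1 h2 he he' g1 g2 ge ge'

/-- A plane involution through lines of both planes inverts their rotations. -/
theorem PlRot_flip {S : Matrix (Fin k) (Fin k) F} (hS : f.PlRot S) : pl J a e * S * pl J a e * S = 1 := by
  have key : ∀ {a a' e e' : Fin k → F} (f : Fr4 J a a' e e'), IsSim J S 1 → S.det = 1 → S *ᵥ e = e → S *ᵥ e' = e' →
      pl J a e * S * pl J a e * S = 1 := by
    intro a a' e e' f h1 h2 he he'
    obtain ⟨x, y, ea, ea', hxy⟩ := f.rotation_form h1 h2 he he'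
    refine f.ext ?_ ?_ ?_ ?_ <;> simp only [← Matrix.mulVec_mulVec, Matrix.one_mulVec]
    · simp only [ea, ea', Matrix.mulVec_add, Matrix.mulVec_smul, Matrix.mulVec_neg, f.mix.pl_a, f.mix.pl_e]
      match_scalars
      · linear_combination hxy
      · ring
    · simp only [ea, ea', Matrix.mulVec_add, Matrix.mulVec_smul, Matrix.mulVec_neg, f.mix.pl_a, f.mix.pl_e]
      match_scalars
      · ring
      · linear_combination hxy
    · simp only [he, Matrix.mulVec_neg, f.mix.pl_a', neg_neg]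
    · simp only [he', f.mix.pl_e']
  obtain ⟨h1, h2, ⟨ha, ha'⟩ | ⟨he, he'⟩⟩ := hS
  · rw [pl_comm f.frm f.mid]
    exact key f.swap h1 h2 ha ha'
  · exact key f h1 h2 he he'

/-- A rotation with a given trace. -/
theorem rot_of_trace {S T : Matrix (Fin k) (Fin k) F} (hS : IsSim J S 1) (hdS : S.det = 1) (he : S *ᵥ e = e)
    (he' : S *ᵥ e' = e') (hT : IsSim J T 1) (hdT : T.det = 1) (ge : T *ᵥ e = e) (ge' : T *ᵥ e' = e')
    (htr : T.trace = S.trace) : T = S ∨ T * S = 1 := by
  obtain ⟨x, y, ea, ea', hxy⟩ := f.rotation_form hS hdS he he'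
  obtain ⟨u, w, fa, fa', huw⟩ := f.rotation_form hT hdT ge ge'
  have h := f.frm
  have hδ : bf J a' a' / bf J a a ≠ 0 := div_ne_zero f.qa' f.qa
  rw [f.trace_eq, f.trace_eq, ge, ge', he, he', fa, fa', ea, ea'] at htr
  simp only [bf_add_right, bf_smul_right, f.aa', f.a'a, mul_zero, add_zero, zero_add] at htr
  have hu : u = x := by
    have i1 : (bf J a a)⁻¹ * bf J a a = 1 := inv_mul_cancel₀ f.qa
    have i2 : (bf J a' a')⁻¹ * bf J a' a' = 1 := inv_mul_cancel₀ f.qa'
    exact mul_left_cancel₀ h.two (by linear_combination htr + (x - u) * i1 + (x - u) * i2)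
  subst hu
  have hw : w * w = y * y := mul_left_cancel₀ hδ (by linear_combination huw - hxy)
  rcases mul_self_eq_mul_self_iff.1 hw with rfl | rfl
  · exact Or.inl (f.ext (by rw [fa, ea]) (by rw [fa', ea']) (by rw [ge, he]) (by rw [ge', he']))
  · refine Or.inr (f.ext ?_ ?_ ?_ ?_) <;> rw [← Matrix.mulVec_mulVec, Matrix.one_mulVec]
    · rw [ea, Matrix.mulVec_add, Matrix.mulVec_smul, Matrix.mulVec_smul, fa, fa']
      match_scalars
      · linear_combination hxy
      · ring
    · rw [ea', Matrix.mulVec_add, Matrix.mulVec_smul, Matrix.mulVec_smul, fa, fa']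
      match_scalars
      · ring
      · linear_combination hxy
    · rw [he, ge]
    · rw [he', ge']

/-- A rotation other than an involution, unless the field has three elements. -/
theorem exists_rotation (hk : Even k) (h3 : Nat.card F ≠ 3) :
    ∃ (S : Matrix (Fin k) (Fin k) F) (x y : F), IsSim J S 1 ∧ S.det = 1 ∧ S *ᵥ e = e ∧ S *ᵥ e' = e' ∧
      S *ᵥ a = x • a + y • a' ∧ y ≠ 0 ∧ S *ᵥ a' = (-(bf J a' a' / bf J a a) * y) • a + x • a' := by
  classical
  cases nonempty_fintype F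
  have h := f.frm
  obtain ⟨t, ht0, ht⟩ : ∃ t : F, t ≠ 0 ∧ bf J a a + t * t * bf J a' a' ≠ 0 := by
    by_contra hcon
    push Not at hcon
    have h1 : ∀ t : F, t ≠ 0 → t = 1 ∨ t = -1 := fun t ht => by
      refine mul_self_eq_one_iff.1 (mul_right_cancel₀ f.qa' ?_)
      linear_combination hcon t ht - hcon 1 one_ne_zero
    have hsub : (Finset.univ : Finset F) ⊆ {0, 1, -1} := fun t _ => by
      by_cases ht : t = 0
      · simp [ht]
      · rcases h1 t ht with rfl | rfl <;> simp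
    have hle : Fintype.card F ≤ 3 := (Finset.card_le_card hsub).trans Finset.card_le_three
    have h2 : 1 < Fintype.card F := Fintype.one_lt_card
    rw [Nat.card_eq_fintype_card] at h3
    have : Fintype.card F = 2 := by omega
    refine h.two ?_
    have h4 := FiniteField.cast_card_eq_zero F
    rwa [this, Nat.cast_ofNat] at h4
  obtain ⟨c, hc⟩ : ∃ c, c = a + t • a' := ⟨_, rfl⟩
  have hcc : bf J c c = bf J a a + t * t * bf J a' a' := by
    rw [hc]
    simp only [bf_add_left, bf_add_right, bf_smul_left, bf_smul_right, f.aa', f.a'a]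
    ring
  have hc0 : bf J c c ≠ 0 := hcc ▸ ht
  have hS : IsSim J (rot J a * rot J c) 1 := by
    have := (isSim_rot h f.qa).mul (isSim_rot h hc0)
    rwa [one_mul] at this
  have hd : (rot J a * rot J c).det = 1 := by
    rw [Matrix.det_mul, det_rot h hk f.qa, det_rot h hk hc0, neg_mul_neg, one_mul]
  have fixed : ∀ v, bf J a v = 0 → bf J a' v = 0 → (rot J a * rot J c) *ᵥ v = v := by
    intro v h1 h2
    rw [← Matrix.mulVec_mulVec, rot_perp J (show bf J c v = 0 by
      rw [hc, bf_add_left, bf_smul_left, h1, h2, mul_zero, add_zero]), Matrix.mulVec_neg, rot_perp J h1, neg_neg]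
  have he1 := fixed e f.ae f.a'e
  have he2 := fixed e' f.ae' f.a'e'
  obtain ⟨x, y, ea, ea', -⟩ := f.rotation_form hS hd he1 he2
  refine ⟨_, x, y, hS, hd, he1, he2, ea, fun hy => ?_, ea'⟩
  have h1 := congrArg (fun v => bf J a' v) ea
  have hca : bf J c a = bf J a a := by
    rw [hc, bf_add_left, bf_smul_left, f.a'a, mul_zero, add_zero]
  have h2 : rot J c *ᵥ a = ((2 : F) * ((bf J c c)⁻¹ * bf J a a)) • c - a := by
    rw [rot, Matrix.sub_mulVec, Matrix.one_mulVec, Matrix.smul_mulVec, pr_mulVec, hca, smul_smul]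
  have h3' : rot J a *ᵥ c = a - t • a' := by
    rw [hc, Matrix.mulVec_add, Matrix.mulVec_smul, rot_self J f.qa, rot_perp J f.aa', smul_neg, ← sub_eq_add_neg]
  simp only [← Matrix.mulVec_mulVec, h2, Matrix.mulVec_sub, Matrix.mulVec_smul, h3', rot_self J f.qa, bf_sub_right,
    bf_add_right, bf_smul_right, f.a'a, hy, mul_zero, zero_mul, zero_sub, sub_zero, add_zero, mul_neg, neg_eq_zero,
    mul_eq_zero, inv_eq_zero, h.two, hc0, f.qa, ht0, f.qa', or_false, false_or] at h1

end Fr4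

/-- An isometry of odd order keeping a pair of orthogonal lines up to mixing. -/
theorem block_fix {G : Type} [Fintype G] [DecidableEq G] {A : Matrix G G F} (hA : Frm A) {n : Matrix G G F}
    (hn : nᵀ * A * n = A) {m : ℕ} (hm : Odd m) (hnm : n ^ m = 1) {v v' : G → F} (hv : bf A v v ≠ 0)
    (hv' : bf A v' v' ≠ 0) (hvv : bf A v v' = 0) {α β γ ε : F} (e1 : n *ᵥ v = α • v + β • v')
    (e2 : n *ᵥ v' = γ • v + ε • v') (hαβ : α = 0 ∨ β = 0) : n *ᵥ v = v := by
  have hv'v : bf A v' v = 0 := by rw [hA.bf_comm]; exact hvv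
  have hv0 : v ≠ 0 := fun h => hv (by rw [h, bf_zero_left])
  have n11 := hA.bf_iso hn v v
  have n12 := hA.bf_iso hn v v'
  have n22 := hA.bf_iso hn v' v'
  rw [e1] at n11 n12
  rw [e2] at n12 n22
  simp only [bf_add_left, bf_add_right, bf_smul_left, bf_smul_right, hvv, hv'v, mul_zero, add_zero, zero_add]
    at n11 n12 n22
  obtain ⟨l, rfl⟩ := hm
  rcases hαβ with rfl | rfl
  · have hβ : β ≠ 0 := fun h => hv (by rw [← n11, h]; ring)
    have hε : ε = 0 := by
      have : β * ε * bf A v' v' = 0 := by linear_combination n12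
      simpa [hβ, hv'] using this
    subst hε
    rw [zero_smul, zero_add] at e1
    rw [zero_smul, add_zero] at e2
    have h2 : (n * n) *ᵥ v = (β * γ) • v := by
      rw [← Matrix.mulVec_mulVec, e1, Matrix.mulVec_smul, e2, smul_smul]
    have h3 : ∀ j : ℕ, ((n * n) ^ j) *ᵥ v = (β * γ) ^ j • v := by
      intro j
      induction j with
      | zero => rw [pow_zero, pow_zero, Matrix.one_mulVec, one_smul]
      | succ j ih => rw [pow_succ, ← Matrix.mulVec_mulVec, h2, Matrix.mulVec_smul, ih, smul_smul, pow_succ,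
          mul_comm]
    have h4 : (n ^ (2 * l + 1)) *ᵥ v = (β * γ) ^ l • β • v' := by
      rw [pow_succ', pow_mul, pow_two, ← Matrix.mulVec_mulVec, h3, Matrix.mulVec_smul, e1]
    rw [hnm, Matrix.one_mulVec] at h4
    have := congrArg (bf A v) h4
    rw [bf_smul_right, bf_smul_right, hvv, mul_zero, mul_zero] at this
    exact absurd this hv
  · rw [zero_smul, add_zero] at e1
    have hα : α * α = 1 := mul_right_cancel₀ hv (by linear_combination n11)
    have h3 : ∀ j : ℕ, (n ^ j) *ᵥ v = α ^ j • v := by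
      intro j
      induction j with
      | zero => rw [pow_zero, pow_zero, Matrix.one_mulVec, one_smul]
      | succ j ih => rw [pow_succ, ← Matrix.mulVec_mulVec, e1, Matrix.mulVec_smul, ih, smul_smul, pow_succ,
          mul_comm]
    have h4 := h3 (2 * l + 1)
    rw [hnm, Matrix.one_mulVec, pow_succ, pow_mul, pow_two, hα, one_pow, one_mul] at h4
    rw [e1, ← h4]

end CfsgLib.Classical.TensorWreathOrth.Two
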