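import Cfsg.Agent.Lib.Classical.TensorWreathOrth.TwoPlane

set_option autoImplicit false
set_option linter.unusedSectionVars false

/-!
One factor of dimension four with non-square discriminant: planes, their rotations and their similitudes.
-/

namespace CfsgLib.Classical.TensorWreathOrth.Two

open Matrix CfsgLib.Classical.TensorWreath
open CfsgLib.Classical.TensorWreathOrth
open scoped MatrixGroups

variable {F : Type*} [Field F] [Finite F] {k : ℕ} {J : Matrix (Fin k) (Fin k) F}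

theorem eq_zero_of_eq_neg {V : Type*} [AddCommGroup V] [Module F V] (h2 : (2 : F) ≠ 0) {v : V} (h : v = -v) :
    v = 0 := by
  have : (2 : F) • v = 0 := by rw [two_smul]; nth_rw 1 [h]; exact neg_add_cancel v
  exact (smul_eq_zero.1 this).resolve_left h2

/-- The projection on a plane. -/
def pp (J : Matrix (Fin k) (Fin k) F) (a b : Fin k → F) : Matrix (Fin k) (Fin k) F := pr J a + pr J b

/-- A frame in dimension four. -/
structure Fr4 (J : Matrix (Fin k) (Fin k) F) (a a' e e' : Fin k → F) : Prop where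
  ob : OB J ![a, a', e, e']
  frm : Frm J

theorem Fr4.of_pairs (h : Frm J) (hk : k = 4) {a a' e e' : Fin k → F} (qa : bf J a a ≠ 0) (qa' : bf J a' a' ≠ 0)
    (qe : bf J e e ≠ 0) (qe' : bf J e' e' ≠ 0) (aa : bf J a a' = 0) (ae : bf J a e = 0) (ae' : bf J a e' = 0)
    (a'e : bf J a' e = 0) (a'e' : bf J a' e' = 0) (ee : bf J e e' = 0) : Fr4 J a a' e e' := by
  refine ⟨⟨fun x y hxy => ?_, fun x => ?_, by simp [hk]⟩, h⟩
  · fin_cases x <;> fin_cases y
    all_goals first
      | exact absurd rfl hxy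
      | assumption
      | exact (h.bf_comm _ _).trans (by assumption)
  · fin_cases x <;> assumption

namespace Fr4

variable {a a' e e' : Fin k → F} (f : Fr4 J a a' e e')
include f

theorem qa : bf J a a ≠ 0 := f.ob.aniso 0
theorem qa' : bf J a' a' ≠ 0 := f.ob.aniso 1
theorem qe : bf J e e ≠ 0 := f.ob.aniso 2
theorem qe' : bf J e' e' ≠ 0 := f.ob.aniso 3
theorem aa' : bf J a a' = 0 := f.ob.orth 0 1 (by decide)
theorem ae : bf J a e = 0 := f.ob.orth 0 2 (by decide)
theorem ae' : bf J a e' = 0 := f.ob.orth 0 3 (by decide)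
theorem a'e : bf J a' e = 0 := f.ob.orth 1 2 (by decide)
theorem a'e' : bf J a' e' = 0 := f.ob.orth 1 3 (by decide)
theorem ee' : bf J e e' = 0 := f.ob.orth 2 3 (by decide)
theorem a'a : bf J a' a = 0 := f.ob.orth 1 0 (by decide)
theorem ea : bf J e a = 0 := f.ob.orth 2 0 (by decide)
theorem ea' : bf J e a' = 0 := f.ob.orth 2 1 (by decide)
theorem e'a : bf J e' a = 0 := f.ob.orth 3 0 (by decide)
theorem e'a' : bf J e' a' = 0 := f.ob.orth 3 1 (by decide)
theorem e'e : bf J e' e = 0 := f.ob.orth 3 2 (by decide)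

theorem dim : k = 4 := by simpa using f.ob.card.symm

theorem left : Pl J a a' := ⟨f.qa, f.qa', f.aa'⟩
theorem right : Pl J e e' := ⟨f.qe, f.qe', f.ee'⟩
theorem mid : Pl J a e := ⟨f.qa, f.qe, f.ae⟩
theorem mid' : Pl J a' e' := ⟨f.qa', f.qe', f.a'e'⟩

theorem ext {X Y : Matrix (Fin k) (Fin k) F} (h1 : X *ᵥ a = Y *ᵥ a) (h2 : X *ᵥ a' = Y *ᵥ a')
    (h3 : X *ᵥ e = Y *ᵥ e) (h4 : X *ᵥ e' = Y *ᵥ e') : X = Y := by
  refine f.ob.ext fun x => ?_
  fin_cases x <;> assumption

theorem expand (v : Fin k → F) :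
    v = pr J a *ᵥ v + pr J a' *ᵥ v + (pr J e *ᵥ v + pr J e' *ᵥ v) := by
  conv_lhs => rw [← Matrix.one_mulVec v, ← f.ob.sum_pr, Matrix.sum_mulVec]
  simp [Fin.sum_univ_four, add_assoc]

theorem sum_pp : pp J a a' + pp J e e' = 1 := by
  rw [← f.ob.sum_pr, pp, pp]
  simp [Fin.sum_univ_four, add_assoc]

theorem swap : Fr4 J e e' a a' :=
  of_pairs f.frm f.dim f.qe f.qe' f.qa f.qa' f.ee' f.ea f.ea' f.e'a f.e'a' f.aa'

theorem mix : Fr4 J a e a' e' :=
  of_pairs f.frm f.dim f.qa f.qe f.qa' f.qe' f.ae f.aa' f.ae' f.ea' f.ee' f.a'e'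

theorem pl_a : pl J a a' *ᵥ a = -a := pl_mulVec_mem f.frm f.left
theorem pl_a' : pl J a a' *ᵥ a' = -a' := by rw [pl_comm f.frm f.left]; exact pl_mulVec_mem f.frm (f.left.symm f.frm)
theorem pl_e : pl J a a' *ᵥ e = e := pl_mulVec_perp f.frm f.left f.ae f.a'e
theorem pl_e' : pl J a a' *ᵥ e' = e' := pl_mulVec_perp f.frm f.left f.ae' f.a'e'

theorem pl_neg : pl J e e' = -pl J a a' := by
  refine f.ext ?_ ?_ ?_ ?_ <;> rw [Matrix.neg_mulVec]
  · rw [f.pl_a, f.swap.pl_e, neg_neg]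
  · rw [f.pl_a', f.swap.pl_e', neg_neg]
  · rw [f.pl_e, f.swap.pl_a]
  · rw [f.pl_e', f.swap.pl_a']

theorem pl_eq_pp : pl J a a' = 1 - (2 : F) • pp J a a' := pl_eq f.frm f.left

theorem pp_eq : pp J a a' = (2 : F)⁻¹ • (1 - pl J a a') := by
  rw [f.pl_eq_pp, sub_sub_cancel, smul_smul, inv_mul_cancel₀ f.frm.two, one_smul]

theorem pp_sq : pp J a a' * pp J a a' = pp J a a' := by
  rw [pp, Matrix.add_mul, Matrix.mul_add, Matrix.mul_add, pr_mul_self J f.qa, pr_mul_self J f.qa',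
    pr_mul_perp J f.aa', pr_mul_perp J f.a'a, add_zero, zero_add]

theorem pp_mul_zero : pp J a a' * pp J e e' = 0 := by
  rw [pp, pp, Matrix.add_mul, Matrix.mul_add, Matrix.mul_add, pr_mul_perp J f.ae, pr_mul_perp J f.ae',
    pr_mul_perp J f.a'e, pr_mul_perp J f.a'e', add_zero, add_zero]

theorem pp_a : pp J a a' *ᵥ a = a := by
  rw [pp, Matrix.add_mulVec, pr_self J f.qa, pr_perp J f.a'a, add_zero]

theorem pp_a' : pp J a a' *ᵥ a' = a' := by
  rw [pp, Matrix.add_mulVec, pr_self J f.qa', pr_perp J f.aa', zero_add]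

theorem pp_e : pp J a a' *ᵥ e = 0 := by
  rw [pp, Matrix.add_mulVec, pr_perp J f.ae, pr_perp J f.a'e, add_zero]

theorem pp_e' : pp J a a' *ᵥ e' = 0 := by
  rw [pp, Matrix.add_mulVec, pr_perp J f.ae', pr_perp J f.a'e', add_zero]

/-- Commuting with the plane involution means commuting with the projection. -/
theorem comm_pp {A : Matrix (Fin k) (Fin k) F} (hA : A * pl J a a' = pl J a a' * A) :
    A * pp J a a' = pp J a a' * A := by
  rw [f.pp_eq, Matrix.mul_smul, Matrix.smul_mul, Matrix.mul_sub, Matrix.sub_mul, hA, Matrix.mul_one, Matrix.one_mul]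

/-- Commuting with the plane involution keeps the planes. -/
theorem mulVec_span {A : Matrix (Fin k) (Fin k) F} (hA : A * pl J a a' = pl J a a' * A) {v : Fin k → F}
    (hv : pp J a a' *ᵥ v = v) : ∃ p s : F, A *ᵥ v = p • a + s • a' := by
  refine ⟨(bf J a a)⁻¹ * bf J a (A *ᵥ v), (bf J a' a')⁻¹ * bf J a' (A *ᵥ v), ?_⟩
  conv_lhs => rw [← hv, Matrix.mulVec_mulVec, f.comm_pp hA, ← Matrix.mulVec_mulVec, pp, Matrix.add_mulVec,
    pr_mulVec, pr_mulVec]

/-- The trace in the frame. -/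
theorem trace_eq (X : Matrix (Fin k) (Fin k) F) : X.trace =
    (bf J a a)⁻¹ * bf J a (X *ᵥ a) + (bf J a' a')⁻¹ * bf J a' (X *ᵥ a') +
      ((bf J e e)⁻¹ * bf J e (X *ᵥ e) + (bf J e' e')⁻¹ * bf J e' (X *ᵥ e')) := by
  have hc : ∀ c : Fin k → F, (X * pr J c).trace = (bf J c c)⁻¹ * bf J c (X *ᵥ c) := fun c => by
    rw [pr, Matrix.mul_smul, Matrix.trace_smul, Matrix.mul_vecMulVec, Matrix.trace_vecMulVec, smul_eq_mul,
      dotProduct_comm]
    rfl
  conv_lhs => rw [← Matrix.mul_one X, ← f.ob.sum_pr, Matrix.mul_sum, Matrix.trace_sum]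
  simp [Fin.sum_univ_four, hc, add_assoc]

theorem disc (hns : ¬ IsSquare J.det) :
    ¬ IsSquare (bf J a a * bf J a' a' * (bf J e e * bf J e' e')) := fun hs => hns (by
  obtain ⟨d, hd, eq⟩ := f.ob.exists_prod_eq
  rw [Fin.prod_univ_four] at eq
  simp only [Matrix.cons_val_zero, Matrix.cons_val_one, Matrix.cons_val] at eq
  rw [← isSquare_mul_sq hd, ← eq, mul_assoc]
  exact hs)

/-- A similitude does not exchange the planes. -/
theorem comm_plane (hns : ¬ IsSquare J.det) {A : Matrix (Fin k) (Fin k) F} {μ s : F} (hA : IsSim J A μ)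
    (hc : A * pl J a a' = s • (pl J a a' * A)) : s = 1 ∧ A * pl J a a' = pl J a a' * A := by
  suffices s = 1 by exact ⟨this, by rw [hc, this, one_smul]⟩
  have h := f.frm
  obtain ⟨b, hb⟩ : ∃ b, b = A *ᵥ a := ⟨_, rfl⟩
  obtain ⟨b', hb'⟩ : ∃ b', b' = A *ᵥ a' := ⟨_, rfl⟩
  have eb : -b = s • (pl J a a' *ᵥ b) := by
    have := congrArg (fun Z => Z *ᵥ a) hc
    simp only [← Matrix.mulVec_mulVec, f.pl_a, Matrix.mulVec_neg, Matrix.smul_mulVec] at this
    rw [hb]; exact this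
  have eb' : -b' = s • (pl J a a' *ᵥ b') := by
    have := congrArg (fun Z => Z *ᵥ a') hc
    simp only [← Matrix.mulVec_mulVec, f.pl_a', Matrix.mulVec_neg, Matrix.smul_mulVec] at this
    rw [hb']; exact this
  have qb : bf J b b ≠ 0 := hb ▸ hA.bf_ne f.qa
  have qb' : bf J b' b' ≠ 0 := hb' ▸ hA.bf_ne f.qa'
  have hb0 : b ≠ 0 := fun h0 => qb (by rw [h0, bf_zero_left])
  have hs2 : s * s = 1 := by
    have h0 := congrArg (fun v => pl J a a' *ᵥ v) eb
    simp only [Matrix.mulVec_neg, Matrix.mulVec_smul, Matrix.mulVec_mulVec, pl_mul_self h f.left,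
      Matrix.one_mulVec] at h0
    have h1 : (s * s) • b = b := by
      rw [mul_smul, ← h0, smul_neg, ← eb, neg_neg]
    have : (s * s - 1) • b = 0 := by rw [sub_smul, one_smul, h1, sub_self]
    exact sub_eq_zero.1 ((smul_eq_zero.1 this).resolve_right hb0)
  rcases mul_self_eq_one_iff.1 hs2 with rfl | rfl
  · rfl
  exfalso
  rw [neg_one_smul, neg_inj] at eb eb'
  have perp : ∀ v c : Fin k → F, v = pl J a a' *ᵥ v → pl J a a' *ᵥ c = -c → bf J c v = 0 := by
    intro v c hv hcn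
    have := (isSim_pl h f.left).bf c v
    rw [← hv, hcn, one_mul, ← neg_one_smul F c, bf_smul_left] at this
    exact (mul_eq_zero.1 (show (2 : F) * bf J c v = 0 by linear_combination -this)).resolve_left h.two
  have obb : bf J b b' = 0 := by rw [hb, hb', hA.bf, f.aa', mul_zero]
  have h1 := perp b a eb f.pl_a
  have h2 := perp b' a eb' f.pl_a
  have h3 := perp b a' eb f.pl_a'
  have h4 := perp b' a' eb' f.pl_a'
  have f' : Fr4 J a a' b b' := Fr4.of_pairs h f.dim f.qa f.qa' qb qb' f.aa' h1 h2 h3 h4 obb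
  refine f'.disc hns ⟨μ * (bf J a a * bf J a' a'), ?_⟩
  rw [hb, hb', hA.bf, hA.bf]
  ring

end Fr4

theorem exists_fr4 (h : Frm J) (hk : k = 4) {a a' : Fin k → F} (q : Pl J a a') :
    ∃ e e', Fr4 J a a' e e' := by
  subst hk
  obtain ⟨w, hw, hwv⟩ := h.exists_ob_extend (Fintype.card_fin 4) (by omega : 2 ≤ 4) ![a, a']
    (by intro x y hxy; fin_cases x <;> fin_cases y <;> simp_all [q.orth, (q.symm h).orth])
    (by intro x; fin_cases x <;> simp [q.left, q.right])
  refine ⟨w 2, w 3, ⟨?_, h⟩⟩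
  have e : ![a, a', w 2, w 3] = w := by
    funext x
    fin_cases x
    · exact (hwv 0).symm
    · exact (hwv 1).symm
    · rfl
    · rfl
  rw [e]
  exact hw

/-- A plane of square discriminant has an orthogonal frame of one value. -/
theorem exists_equal_values {e e' : Fin k → F} (q : Pl J e e') (hs : IsSquare (bf J e e * bf J e' e')) :
    ∃ s : F, s ≠ 0 ∧ bf J (s • e') (s • e') = bf J e e := by
  obtain ⟨r, hr⟩ := hs
  have hr0 : r ≠ 0 := fun h0 => mul_ne_zero q.left q.right (by rw [hr, h0, zero_mul])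
  refine ⟨r / bf J e' e', div_ne_zero hr0 q.right, ?_⟩
  have := q.right
  rw [bf_smul_left, bf_smul_right]
  field_simp
  linear_combination -hr

theorem Fr4.smul_last {a a' e e' : Fin k → F} (f : Fr4 J a a' e e') {s : F} (hs : s ≠ 0) :
    Fr4 J a a' e (s • e') := by
  have z : ∀ x, bf J x e' = 0 → bf J x (s • e') = 0 := fun x hx => by rw [bf_smul_right, hx, mul_zero]
  exact Fr4.of_pairs f.frm f.dim f.qa f.qa' f.qe
    (by rw [bf_smul_left, bf_smul_right]; exact mul_ne_zero hs (mul_ne_zero hs f.qe'))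
    f.aa' f.ae (z _ f.ae') f.a'e (z _ f.a'e') (z _ f.ee')

theorem pl_smul_right {a b : Fin k → F} {s : F} (hs : s ≠ 0) : pl J a (s • b) = pl J a b := by
  rw [pl, pl, rot_smul J hs]

/-! ### Rotations of a plane -/

/-- A quarter rotation of a plane with two lines of one value. -/
def qtr (J : Matrix (Fin k) (Fin k) F) (e e' : Fin k → F) : Matrix (Fin k) (Fin k) F := rot J e * rot J (e + e')

theorem qtr_spec (h : Frm J) {e e' : Fin k → F} (q : Pl J e e') (hq : bf J e' e' = bf J e e) :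
    bf J (e + e') (e + e') ≠ 0 ∧ IsSim J (qtr J e e') 1 ∧ qtr J e e' *ᵥ e = -e' ∧ qtr J e e' *ᵥ e' = e ∧
      ∀ v, bf J e v = 0 → bf J e' v = 0 → qtr J e e' *ᵥ v = v := by
  have hc : bf J (e + e') (e + e') = 2 * bf J e e := by
    rw [bf_add_left, bf_add_right, bf_add_right, hq, q.orth, (q.symm h).orth]; ring
  have hc0 : bf J (e + e') (e + e') ≠ 0 := by rw [hc]; exact mul_ne_zero h.two q.left
  have hval : ∀ v, bf J (e + e') v = bf J e e → rot J (e + e') *ᵥ v = e + e' - v := by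
    intro v hv
    rw [rot, Matrix.sub_mulVec, Matrix.one_mulVec, Matrix.smul_mulVec, pr_mulVec, hv, hc, smul_smul,
      show (2 : F) * ((2 * bf J e e)⁻¹ * bf J e e) = 1 by field_simp [h.two, q.left], one_smul]
  refine ⟨hc0, ?_, ?_, ?_, fun v h1 h2 => ?_⟩
  · have := (isSim_rot h q.left).mul (isSim_rot h hc0)
    rwa [one_mul] at this
  · rw [qtr, ← Matrix.mulVec_mulVec, hval e (by rw [bf_add_left, (q.symm h).orth, add_zero]), add_sub_cancel_left,
      rot_perp J q.orth]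
  · rw [qtr, ← Matrix.mulVec_mulVec, hval e' (by rw [bf_add_left, q.orth, zero_add, hq]), add_sub_cancel_right,
      rot_self J q.left]
  · rw [qtr, ← Matrix.mulVec_mulVec, rot_perp J (show bf J (e + e') v = 0 by rw [bf_add_left, h1, h2, add_zero]),
      Matrix.mulVec_neg, rot_perp J h1, neg_neg]

theorem det_qtr (h : Frm J) (hk : Even k) {e e' : Fin k → F} (q : Pl J e e') (hq : bf J e' e' = bf J e e) :
    (qtr J e e').det = 1 := by
  rw [qtr, Matrix.det_mul, det_rot h hk q.left, det_rot h hk (qtr_spec h q hq).1, neg_mul_neg, one_mul]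

namespace Fr4

variable {a a' e e' : Fin k → F} (f : Fr4 J a a' e e')
include f

theorem qtr_a (hq : bf J a' a' = bf J a a) : qtr J a a' *ᵥ a = -a' := (qtr_spec f.frm f.left hq).2.2.1
theorem qtr_a' (hq : bf J a' a' = bf J a a) : qtr J a a' *ᵥ a' = a := (qtr_spec f.frm f.left hq).2.2.2.1
theorem qtr_e (hq : bf J a' a' = bf J a a) : qtr J a a' *ᵥ e = e := (qtr_spec f.frm f.left hq).2.2.2.2 e f.ae f.a'e
theorem qtr_e' (hq : bf J a' a' = bf J a a) : qtr J a a' *ᵥ e' = e' :=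
  (qtr_spec f.frm f.left hq).2.2.2.2 e' f.ae' f.a'e'

theorem qtr_sq (hq : bf J a' a' = bf J a a) : qtr J a a' * qtr J a a' = pl J a a' := by
  refine f.ext ?_ ?_ ?_ ?_ <;> rw [← Matrix.mulVec_mulVec]
  · rw [f.qtr_a hq, Matrix.mulVec_neg, f.qtr_a' hq, f.pl_a]
  · rw [f.qtr_a' hq, f.qtr_a hq, f.pl_a']
  · rw [f.qtr_e hq, f.qtr_e hq, f.pl_e]
  · rw [f.qtr_e' hq, f.qtr_e' hq, f.pl_e']

/-- An isometry of determinant one fixing a plane is a rotation of the other one. -/
theorem rotation_form {S : Matrix (Fin k) (Fin k) F} (hS : IsSim J S 1) (hd : S.det = 1) (he : S *ᵥ e = e)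
    (he' : S *ᵥ e' = e') :
    ∃ p s : F, S *ᵥ a = p • a + s • a' ∧ S *ᵥ a' = (-(bf J a' a' / bf J a a) * s) • a + p • a' ∧
      p * p + bf J a' a' / bf J a a * (s * s) = 1 := by
  have h := f.frm
  have qa := f.qa
  have qa' := f.qa'
  have hfix : ∀ v, bf J a v = 0 → bf J a' v = 0 → S *ᵥ v = v := by
    intro v h1 h2
    rw [f.expand v, pr_perp J h1, pr_perp J h2, add_zero, zero_add, Matrix.mulVec_add, pr_mulVec, pr_mulVec,
      Matrix.mulVec_smul, Matrix.mulVec_smul, he, he']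
  have hin : ∀ v, bf J e v = 0 → bf J e' v = 0 →
      ∃ p s : F, S *ᵥ v = p • a + s • a' := by
    intro v h1 h2
    refine ⟨(bf J a a)⁻¹ * bf J a (S *ᵥ v), (bf J a' a')⁻¹ * bf J a' (S *ᵥ v), ?_⟩
    have t1 : bf J e (S *ᵥ v) = 0 := by
      have := hS.bf e v; rwa [he, h1, mul_zero] at this
    have t2 : bf J e' (S *ᵥ v) = 0 := by
      have := hS.bf e' v; rwa [he', h2, mul_zero] at this
    conv_lhs => rw [f.expand (S *ᵥ v), pr_perp J t1, pr_perp J t2, add_zero, add_zero, pr_mulVec, pr_mulVec]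
  obtain ⟨p, s, e1⟩ := hin a f.ea f.e'a
  obtain ⟨u, w, e2⟩ := hin a' f.ea' f.e'a'
  have n1 := hS.bf a a
  have n2 := hS.bf a a'
  have n3 := hS.bf a' a'
  rw [e1] at n1 n2
  rw [e2] at n2 n3
  simp only [bf_add_left, bf_add_right, bf_smul_left, bf_smul_right, f.aa', f.a'a, mul_zero, add_zero, zero_add,
    one_mul] at n1 n2 n3
  obtain ⟨δ, hδ⟩ : ∃ δ, δ = bf J a' a' / bf J a a := ⟨_, rfl⟩
  have hδa : bf J a' a' = δ * bf J a a := by rw [hδ, div_mul_cancel₀ _ qa]
  rw [hδa] at n1 n2 n3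
  have m1 : p * p + δ * (s * s) = 1 := mul_right_cancel₀ qa (by linear_combination n1)
  have m2 : p * u + δ * (s * w) = 0 := mul_right_cancel₀ qa (by rw [zero_mul]; linear_combination n2)
  have m3 : u * u + δ * (w * w) = δ := mul_right_cancel₀ qa (by linear_combination n3)
  have hδ0 : δ ≠ 0 := fun h0 => qa' (by rw [hδa, h0, zero_mul])
  refine ⟨p, s, e1, ?_, hδ ▸ m1⟩
  rw [← hδ]
  obtain ⟨ε, hε⟩ : ∃ ε : F, ε = p * w - s * u := ⟨_, rfl⟩
  have hu : u = -δ * s * ε := by rw [hε]; linear_combination -u * m1 + p * m2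
  have hw : w = p * ε := by rw [hε]; linear_combination -w * m1 + s * m2
  have hε2 : ε * ε = 1 := by
    refine mul_left_cancel₀ hδ0 ?_
    rw [hu, hw] at m3
    linear_combination m3 - δ * ε * ε * m1
  rcases mul_self_eq_one_iff.1 hε2 with e' | e'
  · subst e'
    rw [e2, hu, hw, mul_one, mul_one]
  exfalso
  subst e'
  have hSS : S * S = 1 := by
    refine f.ext ?_ ?_ ?_ ?_ <;> rw [← Matrix.mulVec_mulVec, Matrix.one_mulVec]
    · rw [e1, Matrix.mulVec_add, Matrix.mulVec_smul, Matrix.mulVec_smul, e1, e2, hu, hw]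
      match_scalars
      · linear_combination m1
      · ring
    · rw [e2, Matrix.mulVec_add, Matrix.mulVec_smul, Matrix.mulVec_smul, e1, e2, hu, hw]
      match_scalars
      · ring
      · linear_combination m1
    · rw [he, he]
    · rw [he', he']
  have hk : 2 ≤ k := by rw [f.dim]; omega
  have hne : ∀ c : F, S *ᵥ a = c • a → S *ᵥ a' = c • a' → False := by
    intro c c1 c2
    have p1 := congrArg (bf J a) c1
    have w1 := congrArg (bf J a') c2
    rw [e1] at p1
    rw [e2] at w1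
    simp only [bf_add_right, bf_smul_right, f.aa', f.a'a, mul_zero, add_zero, zero_add] at p1 w1
    have hp := mul_right_cancel₀ qa p1
    have hw' := mul_right_cancel₀ qa' w1
    have s1 := congrArg (bf J a') c1
    rw [e1] at s1
    simp only [bf_add_right, bf_smul_right, f.a'a, mul_zero, zero_add, mul_eq_zero, qa', or_false] at s1
    have hp0 : p = 0 := (mul_eq_zero.1 (show (2 : F) * p = 0 by
      linear_combination hp - hw' + hw)).resolve_left h.two
    rw [hp0, s1] at m1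
    simp at m1
  rcases pl_of_fix_plane h hk f.left hS hSS hd hfix with e0 | e0
  · exact hne 1 (by rw [e0, Matrix.one_mulVec, one_smul]) (by rw [e0, Matrix.one_mulVec, one_smul])
  · exact hne (-1) (by rw [e0, f.pl_a, neg_one_smul]) (by rw [e0, f.pl_a', neg_one_smul])

/-- An involutive isometry keeping a plane has an eigenframe there. -/
theorem eigen_pair {R : Matrix (Fin k) (Fin k) F} (hR : IsSim J R 1) (hR2 : R * R = 1)
    (hc : R * pl J a a' = pl J a a' * R) :
    R * pp J a a' = pp J a a' ∨ R * pp J a a' = -pp J a a' ∨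
      ∃ c c', Fr4 J c c' e e' ∧ pl J c c' = pl J a a' ∧ R *ᵥ c = -c ∧ R *ᵥ c' = c' := by
  have h := f.frm
  obtain ⟨p, s, e1⟩ := f.mulVec_span hc f.pp_a
  obtain ⟨u, w, e2⟩ := f.mulVec_span hc f.pp_a'
  have aux : ∀ c : F, R *ᵥ a = c • a → R *ᵥ a' = c • a' → R * pp J a a' = c • pp J a a' := by
    intro c c1 c2
    refine f.ext ?_ ?_ ?_ ?_ <;> rw [← Matrix.mulVec_mulVec, Matrix.smul_mulVec]
    · rw [f.pp_a, c1]
    · rw [f.pp_a', c2]
    · rw [f.pp_e, Matrix.mulVec_zero, smul_zero]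
    · rw [f.pp_e', Matrix.mulVec_zero, smul_zero]
  -- an anisotropic eigenvector
  obtain ⟨v, ε, hv, hRv, hε, hvs⟩ : ∃ (v : Fin k → F) (ε : F), bf J v v ≠ 0 ∧ R *ᵥ v = ε • v ∧ (ε = 1 ∨ ε = -1) ∧
      ∃ x y : F, v = x • a + y • a' := by
    by_cases hz : bf J (a + R *ᵥ a) (a + R *ᵥ a) = 0
    · refine ⟨a - R *ᵥ a, -1, fun h0 => f.qa ?_, ?_, Or.inr rfl, 1 - p, -s, ?_⟩
      · have hRR : bf J (R *ᵥ a) (R *ᵥ a) = bf J a a := by rw [hR.bf, one_mul]
        simp only [bf_add_left, bf_add_right, bf_sub_left, bf_sub_right, hRR] at hz h0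
        exact (mul_eq_zero.1 (show (2 * 2 : F) * bf J a a = 0 by linear_combination hz + h0)).resolve_left
          (mul_ne_zero h.two h.two)
      · rw [Matrix.mulVec_sub, Matrix.mulVec_mulVec, hR2, Matrix.one_mulVec, neg_one_smul, neg_sub]
      · rw [e1, sub_smul, one_smul, neg_smul]; abel
    · refine ⟨a + R *ᵥ a, 1, hz, ?_, Or.inl rfl, 1 + p, s, ?_⟩
      · rw [Matrix.mulVec_add, Matrix.mulVec_mulVec, hR2, Matrix.one_mulVec, one_smul, add_comm]
      · rw [e1, add_smul, one_smul]; abel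
  obtain ⟨x, y, hxy⟩ := hvs
  obtain ⟨v', hv'⟩ : ∃ v', v' = (-(y * bf J a' a')) • a + (x * bf J a a) • a' := ⟨_, rfl⟩
  have hvv : bf J v v = x * x * bf J a a + y * y * bf J a' a' := by
    rw [hxy]
    simp only [bf_add_left, bf_add_right, bf_smul_left, bf_smul_right, f.aa', f.a'a]
    ring
  have hv'v' : bf J v' v' = bf J a a * bf J a' a' * bf J v v := by
    rw [hvv, hv']
    simp only [bf_add_left, bf_add_right, bf_smul_left, bf_smul_right, f.aa', f.a'a]
    ring
  have hv'0 : bf J v' v' ≠ 0 := by rw [hv'v']; exact mul_ne_zero (mul_ne_zero f.qa f.qa') hv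
  have hperp : bf J v v' = 0 := by
    rw [hxy, hv']
    simp only [bf_add_left, bf_add_right, bf_smul_left, bf_smul_right, f.aa', f.a'a]
    ring
  have inplane : ∀ {z : Fin k → F} (z1 z2 : F), z = z1 • a + z2 • a' →
      pl J a a' *ᵥ z = -z ∧ bf J e z = 0 ∧ bf J e' z = 0 := by
    rintro z z1 z2 rfl
    refine ⟨?_, ?_, ?_⟩
    · rw [Matrix.mulVec_add, Matrix.mulVec_smul, Matrix.mulVec_smul, f.pl_a, f.pl_a', smul_neg, smul_neg, neg_add]
    · rw [bf_add_right, bf_smul_right, bf_smul_right, f.ea, f.ea', mul_zero, mul_zero, add_zero]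
    · rw [bf_add_right, bf_smul_right, bf_smul_right, f.e'a, f.e'a', mul_zero, mul_zero, add_zero]
  obtain ⟨P1, E1, E1'⟩ := inplane _ _ hxy
  obtain ⟨P2, E2, E2'⟩ := inplane _ _ hv'
  have fv : Fr4 J v v' e e' := Fr4.of_pairs h f.dim hv hv'0 f.qe f.qe' hperp ((h.bf_comm v e).trans E1)
    ((h.bf_comm v e').trans E1') ((h.bf_comm v' e).trans E2) ((h.bf_comm v' e').trans E2') f.ee'
  have hpl : pl J v v' = pl J a a' := by
    refine fv.ext ?_ ?_ ?_ ?_
    · rw [fv.pl_a, P1]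
    · rw [fv.pl_a', P2]
    · rw [fv.pl_e, f.pl_e]
    · rw [fv.pl_e', f.pl_e']
  -- the second eigenvector
  obtain ⟨z1, z2, e3⟩ := fv.mulVec_span (show R * pl J v v' = pl J v v' * R by rw [hpl]; exact hc) fv.pp_a'
  have hz1 : z1 = 0 := by
    have := hR.bf v v'
    rw [hperp, mul_zero, hRv, e3] at this
    simp only [bf_add_right, bf_smul_left, bf_smul_right, hperp, mul_zero, add_zero] at this
    rcases hε with rfl | rfl <;> simpa [hv] using this
  rw [hz1, zero_smul, zero_add] at e3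
  have hz2 : z2 = 1 ∨ z2 = -1 := by
    refine mul_self_eq_one_iff.1 (mul_right_cancel₀ hv'0 ?_)
    have := hR.bf v' v'
    rw [e3, bf_smul_left, bf_smul_right] at this
    linear_combination this
  have hsc : ∀ c : F, R *ᵥ v = c • v → R *ᵥ v' = c • v' → R * pp J a a' = c • pp J a a' := by
    intro c c1 c2
    rw [f.pp_eq, ← hpl, ← fv.pp_eq]
    refine fv.ext ?_ ?_ ?_ ?_ <;> rw [← Matrix.mulVec_mulVec, Matrix.smul_mulVec]
    · rw [fv.pp_a, c1]
    · rw [fv.pp_a', c2]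
    · rw [fv.pp_e, Matrix.mulVec_zero, smul_zero]
    · rw [fv.pp_e', Matrix.mulVec_zero, smul_zero]
  rcases hε with rfl | rfl <;> rcases hz2 with rfl | rfl
  · exact Or.inl (by rw [hsc 1 hRv e3, one_smul])
  · have fv' : Fr4 J v' v e e' := Fr4.of_pairs h f.dim hv'0 hv f.qe f.qe' ((h.bf_comm v' v).trans hperp)
      ((h.bf_comm v' e).trans E2) ((h.bf_comm v' e').trans E2') ((h.bf_comm v e).trans E1) ((h.bf_comm v e').trans E1')
      f.ee'
    exact Or.inr (Or.inr ⟨v', v, fv', by rw [pl_comm h fv'.left, hpl], by rw [e3, neg_one_smul],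
      by rw [hRv, one_smul]⟩)
  · exact Or.inr (Or.inr ⟨v, v', fv, hpl, by rw [hRv, neg_one_smul], by rw [e3, one_smul]⟩)
  · exact Or.inr (Or.inl (by rw [hsc (-1) hRv e3, neg_one_smul]))

end Fr4

end CfsgLib.Classical.TensorWreathOrth.Two
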