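import Cfsg.Agent.Lib.Classical.TensorWreathOrth.TwoFourFive

set_option autoImplicit false
set_option linter.unusedSectionVars false

/-!
Dimension four: the centraliser of a plane involution of one factor is monomial.
-/

namespace CfsgLib.Classical.TensorWreathOrth.Two

open Matrix CfsgLib.Classical.TensorWreath
open CfsgLib.Classical.TensorWreathOrth
open scoped MatrixGroups

variable {F : Type*} [Field F] [Finite F] {τ : Type} [Fintype τ] [DecidableEq τ] {k : ℕ}
  {J : Matrix (Fin k) (Fin k) F}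

namespace Fr4

variable {a a' e e' : Fin k → F} (f : Fr4 J a a' e e')
include f

/-- One of the two planes of a frame has square discriminant. -/
theorem square_plane (hns : ¬ IsSquare J.det) :
    IsSquare (bf J a a * bf J a' a') ∨ IsSquare (bf J e e * bf J e' e') := by
  by_contra hc
  rw [not_or] at hc
  exact f.disc hns (isSquare_mul_nonsquare f.frm.two hc.1 hc.2)

/-- An involution commuting with both planes through a line and with a quarter rotation. -/
theorem diag_signs (hk : Even k) (hq : bf J e' e' = bf J e e) {A : Matrix (Fin k) (Fin k) F} (hA : IsSim J A 1)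
    (hd : A.det = 1) (h1 : A * pl J a a' = pl J a a' * A) (h2 : A * pl J a e = pl J a e * A)
    (h3 : A * qtr J e e' = qtr J e e' * A) :
    A = 1 ∨ A = -1 ∨ A = pl J a a' ∨ A = -pl J a a' := by
  have h := f.frm
  obtain ⟨-, -, p, q, r, t, ea, ea', ee, ee'⟩ := f.diag_square hA h1 h2
  have sq : ∀ (v : Fin k → F) (c : F), bf J v v ≠ 0 → A *ᵥ v = c • v → c = 1 ∨ c = -1 := by
    intro v c hv e0
    have := hA.bf v v
    rw [e0, bf_smul_left, bf_smul_right] at this
    exact mul_self_eq_one_iff.1 (mul_right_cancel₀ hv (by linear_combination this))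
  have hrt : t = r := by
    have h4 := congrArg (fun Z => bf J e' (Z *ᵥ e)) h3
    simp only [← Matrix.mulVec_mulVec, f.swap.qtr_a hq, Matrix.mulVec_neg, ee', ee, Matrix.mulVec_smul, smul_neg,
      ← neg_smul, bf_smul_right] at h4
    exact neg_inj.1 (mul_right_cancel₀ f.qe' h4)
  subst hrt
  rcases sq a p f.qa ea with rfl | rfl <;> rcases sq a' q f.qa' ea' with rfl | rfl <;>
    rcases sq e t f.qe ee with rfl | rfl <;> simp only [one_smul, neg_one_smul] at ea ea' ee ee'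
  · exact Or.inl (f.ext (by simp [ea]) (by simp [ea']) (by simp [ee]) (by simp [ee']))
  · exact Or.inr (Or.inr (Or.inr (f.ext (by simp [ea, f.pl_a, Matrix.neg_mulVec])
      (by simp [ea', f.pl_a', Matrix.neg_mulVec]) (by simp [ee, f.pl_e, Matrix.neg_mulVec])
      (by simp [ee', f.pl_e', Matrix.neg_mulVec]))))
  · exfalso
    have e0 : A = -rot J a' := f.ext (by rw [ea, Matrix.neg_mulVec, rot_perp J f.a'a, neg_neg])
      (by rw [ea', Matrix.neg_mulVec, rot_self J f.qa']) (by rw [ee, Matrix.neg_mulVec, rot_perp J f.a'e, neg_neg])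
      (by rw [ee', Matrix.neg_mulVec, rot_perp J f.a'e', neg_neg])
    rw [e0, Matrix.det_neg, Fintype.card_fin, hk.neg_one_pow, one_mul, det_rot h hk f.qa'] at hd
    exact h.two (by linear_combination -hd)
  · exfalso
    have e0 : A = rot J a := f.ext (by rw [ea, rot_self J f.qa])
      (by rw [ea', rot_perp J f.aa']) (by rw [ee, rot_perp J f.ae]) (by rw [ee', rot_perp J f.ae'])
    rw [e0, det_rot h hk f.qa] at hd
    exact h.two (by linear_combination -hd)
  · exfalso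
    have e0 : A = -rot J a := f.ext (by rw [ea, Matrix.neg_mulVec, rot_self J f.qa])
      (by rw [ea', Matrix.neg_mulVec, rot_perp J f.aa', neg_neg])
      (by rw [ee, Matrix.neg_mulVec, rot_perp J f.ae, neg_neg])
      (by rw [ee', Matrix.neg_mulVec, rot_perp J f.ae', neg_neg])
    rw [e0, Matrix.det_neg, Fintype.card_fin, hk.neg_one_pow, one_mul, det_rot h hk f.qa] at hd
    exact h.two (by linear_combination -hd)
  · exfalso
    have e0 : A = rot J a' := f.ext (by rw [ea, rot_perp J f.a'a])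
      (by rw [ea', rot_self J f.qa']) (by rw [ee, rot_perp J f.a'e]) (by rw [ee', rot_perp J f.a'e'])
    rw [e0, det_rot h hk f.qa'] at hd
    exact h.two (by linear_combination -hd)
  · exact Or.inr (Or.inr (Or.inl (f.ext (by simp [ea, f.pl_a]) (by simp [ea', f.pl_a']) (by simp [ee, f.pl_e])
      (by simp [ee', f.pl_e']))))
  · exact Or.inr (Or.inl (f.ext (by simp [ea, Matrix.neg_mulVec]) (by simp [ea', Matrix.neg_mulVec])
      (by simp [ee, Matrix.neg_mulVec]) (by simp [ee', Matrix.neg_mulVec])))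

/-- An involution commuting with the planes and with a root of a non-square is scalar on both. -/
theorem blocks_of_root {W B : Matrix (Fin k) (Fin k) F} {ν : F} (hν : ¬ IsSquare ν) (hW : IsSim J W 1)
    (hW2 : W * W = 1) (hB2 : B * B = ν • 1) (hWc : W * pl J a a' = pl J a a' * W)
    (hBc : B * pl J a a' = pl J a a' * B) (hWB : W * B = B * W) :
    W = 1 ∨ W = -1 ∨ W = pl J a a' ∨ W = -pl J a a' := by
  have h := f.frm
  have no_line : ∀ {a a' e e' c c' : Fin k → F}, Fr4 J c c' e e' → pl J c c' = pl J a a' →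
      B * pl J a a' = pl J a a' * B → W *ᵥ c = -c → W *ᵥ c' = c' → False := by
    intro a a' e e' c c' f' hpl hBc' hc hc'
    obtain ⟨x, y, e1⟩ := f'.mulVec_span (show B * pl J c c' = pl J c c' * B by rw [hpl]; exact hBc') f'.pp_a
    have h1 := congrArg (fun Z => bf J c' (Z *ᵥ c)) hWB
    simp only [← Matrix.mulVec_mulVec, e1, Matrix.mulVec_add, Matrix.mulVec_smul, hc, hc', Matrix.mulVec_neg,
      bf_add_right, bf_smul_right, ← neg_one_smul F c, f'.a'a, mul_zero, zero_add] at h1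
    have hy : y = 0 := by
      have : (2 : F) * y * bf J c' c' = 0 := by linear_combination h1
      simpa [h.two, f'.qa'] using this
    rw [hy, zero_smul, add_zero] at e1
    have h2 := congrArg (fun Z => bf J c (Z *ᵥ c)) hB2
    simp only [← Matrix.mulVec_mulVec, e1, Matrix.mulVec_smul, Matrix.smul_mulVec, Matrix.one_mulVec,
      bf_smul_right] at h2
    exact hν ⟨x, mul_right_cancel₀ f'.qa (by linear_combination -h2)⟩
  have hWc' : W * pl J e e' = pl J e e' * W := by rw [f.pl_neg, Matrix.mul_neg, Matrix.neg_mul, hWc]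
  have hBc' : B * pl J e e' = pl J e e' * B := by rw [f.pl_neg, Matrix.mul_neg, Matrix.neg_mul, hBc]
  have hl : W * pp J a a' = pp J a a' ∨ W * pp J a a' = -pp J a a' := by
    rcases f.eigen_pair hW hW2 hWc with e0 | e0 | ⟨c, c', g1, g2, g3, g4⟩
    · exact Or.inl e0
    · exact Or.inr e0
    · exact (no_line g1 g2 hBc g3 g4).elim
  have hr : W * pp J e e' = pp J e e' ∨ W * pp J e e' = -pp J e e' := by
    rcases f.swap.eigen_pair hW hW2 hWc' with e0 | e0 | ⟨c, c', g1, g2, g3, g4⟩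
    · exact Or.inl e0
    · exact Or.inr e0
    · exact (no_line g1 g2 hBc' g3 g4).elim
  have hsum : W = W * pp J a a' + W * pp J e e' := by rw [← Matrix.mul_add, f.sum_pp, Matrix.mul_one]
  have hpl : pl J a a' = pp J e e' - pp J a a' := by
    rw [f.pl_eq_pp, ← f.sum_pp, two_smul]; abel
  rcases hl with e1 | e1 <;> rcases hr with e2 | e2 <;> rw [e1, e2] at hsum
  · exact Or.inl (hsum.trans f.sum_pp)
  · exact Or.inr (Or.inr (Or.inr (by rw [hsum, hpl]; abel)))
  · exact Or.inr (Or.inr (Or.inl (by rw [hsum, hpl]; abel)))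
  · exact Or.inr (Or.inl (by rw [hsum, ← f.sum_pp]; abel))

end Fr4

namespace Ctx2

variable {M : Subgroup (GL (Ix τ k) F)} {i l : τ} (C : Ctx2 J M i l)
include C

/-- The common centraliser of planes of the two factors. -/
theorem cent_five_any {a a' e e' b c : Fin k → F} (fa : Fr4 J a a' e e') (hqa : bf J e' e' = bf J e e)
    (q : Pl J b c) {g : GL (Ix τ k) F} (hg : g ∈ M)
    (hz : g.1 * el i (pl J a a') 1 = el i (pl J a a') 1 * g.1)
    (hr : g.1 * el i 1 (pl J b c) = el i 1 (pl J b c) * g.1) : Mono g.1 := by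
  have h := C.frm
  obtain ⟨d, o, fb⟩ := exists_fr4 h fa.dim q
  rcases fb.square_plane C.nsq with hs | hs
  · obtain ⟨s, hs0, hsc⟩ := exists_equal_values fb.left hs
    obtain ⟨d', o', fb'⟩ := exists_fr4 h fa.dim
      (show Pl J b (s • c) from ⟨fb.qa, by rw [hsc]; exact fb.qa, by rw [bf_smul_right, fb.aa', mul_zero]⟩)
    exact C.cent_five fa hqa fb' hsc hg hz (by rw [pl_smul_right hs0]; exact hr)
  · obtain ⟨s, hs0, hsc⟩ := exists_equal_values fb.right hs
    obtain ⟨b', c', fb'⟩ := exists_fr4 h fa.dim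
      (show Pl J d (s • o) from ⟨fb.qe, by rw [hsc]; exact fb.qe, by rw [bf_smul_right, fb.ee', mul_zero]⟩)
    refine C.cent_five fa hqa fb' hsc hg hz ?_
    rw [pl_smul_right hs0, fb.pl_neg, C.pr.el_neg_right, Matrix.mul_neg, Matrix.neg_mul, hr]

/-- A normal form for monomial involutions of signature zero with square multiplier. -/
theorem normalise {n : GL (Ix τ k) F} (hn : n ∈ M) (h2 : n.1 * n.1 = 1) (hs : sig n.1 = 0) (hk : k = 4)
    {A B : Matrix (Fin k) (Fin k) F} {μ : F} (hA : IsSim J A μ) (hB : IsSim J B μ⁻¹) (e : n.1 = el i A B)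
    (hA2 : A * A = μ • 1) (hμ : IsSquare μ) :
    ∃ u : F, ∃ B', u ≠ 0 ∧ IsSim J (u • A) 1 ∧ IsSim J B' 1 ∧ (u • A) * (u • A) = 1 ∧ B' * B' = 1 ∧
      n.1 = el i (u • A) B' ∧ (u • A).det = 1 ∧ B'.det = 1 := by
  haveI := C.toEnv.neZero
  have h := C.frm
  have p := C.pr
  obtain ⟨w, rfl⟩ := hμ
  have hw : w ≠ 0 := left_ne_zero_of_mul hA.1
  have sA : IsSim J (w⁻¹ • A) 1 := by
    have := hA.smul (inv_ne_zero hw)
    rwa [show w⁻¹ * w⁻¹ * (w * w) = 1 by field_simp] at this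
  have sB : IsSim J (w • B) 1 := by
    have := hB.smul hw
    rwa [show w * w * (w * w)⁻¹ = 1 by field_simp] at this
  have ev : n.1 = el i (w⁻¹ • A) (w • B) := by
    rw [e, p.el_smul_left, p.el_smul_right, smul_smul, inv_mul_cancel₀ hw, one_smul]
  have eA : (w⁻¹ • A) * (w⁻¹ • A) = 1 := by
    rw [Matrix.smul_mul, Matrix.mul_smul, hA2, smul_smul, smul_smul,
      show w⁻¹ * w⁻¹ * (w * w) = 1 by field_simp, one_smul]
  have eB : (w • B) * (w • B) = 1 := by
    have h3 : el i (1 : Matrix (Fin k) (Fin k) F) ((w • B) * (w • B)) = el i 1 1 := by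
      rw [el_one, ← h2, ev, el_mul, eA]
    exact p.el_right_cancel h3 one_ne_zero ((sB.mul sB).ne_zero h)
  have hd := C.toEnv.det_eq_of_om sA sB (C.le hn) ev
  rw [ev, p.sig_el h.two eA eB] at hs
  have hdA : (w⁻¹ • A).det = 1 := by
    rcases mul_eq_zero.1 hs with h0 | h0
    · exact det_of_sig h hk sA eA h0
    · rw [hd]; exact det_of_sig h hk sB eB h0
  exact ⟨w⁻¹, w • B, inv_ne_zero hw, sA, sB, eA, eB, ev, hdA, hd ▸ hdA⟩

theorem sig_pl_right {b c : Fin k → F} (q : Pl J b c) (hk : k = 4) : sig (el i 1 (pl J b c)) = 0 := by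
  have h := C.frm
  rw [C.pr.sig_el h.two (Matrix.one_mul 1) (pl_mul_self h q)]
  refine mul_eq_zero_of_right _ ?_
  rw [pl, sig_rot_two h q.left q.right q.orth, Fintype.card_fin, hk]
  simp

theorem comm_signs {a a' : Fin k → F} {g : GL (Ix τ k) F}
    (hz : g.1 * el i (pl J a a') 1 = el i (pl J a a') 1 * g.1) {E : Matrix (Fin k) (Fin k) F}
    (hE : E = 1 ∨ E = -1 ∨ E = pl J a a' ∨ E = -pl J a a') : g.1 * el i E 1 = el i E 1 * g.1 := by
  rcases hE with rfl | rfl | rfl | rfl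
  · rw [el_one, Matrix.mul_one, Matrix.one_mul]
  · rw [C.pr.el_neg_left, el_one, Matrix.mul_neg, Matrix.neg_mul, Matrix.mul_one, Matrix.one_mul]
  · exact hz
  · rw [C.pr.el_neg_left, Matrix.mul_neg, Matrix.neg_mul, hz]

set_option maxHeartbeats 400000 in
/-- In the centraliser of a plane, a monomial conjugate forces monomiality. -/
theorem one_four {a a' e e' : Fin k → F} (f : Fr4 J a a' e e') (hq : bf J e' e' = bf J e e) {g : GL (Ix τ k) F}
    (hg : g ∈ M) (hz : g.1 * el i (pl J a a') 1 = el i (pl J a a') 1 * g.1)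
    (hm : Mono (g.1 * el i (pl J a e) 1 * (g⁻¹).1)) : Mono g.1 := by
  classical
  haveI := C.toEnv.neZero
  have h := C.frm
  have p := C.pr
  have hk := f.dim
  have hk4 := C.four
  have one0 : (1 : Matrix (Fin k) (Fin k) F) ≠ 0 := one_ne_zero
  obtain ⟨A, B, c, hA, hB, hA2, hB2, ey, hP, hflip⟩ := C.flip_data f hq hg hz hm
  by_cases hc : IsSquare c
  · exact C.mono_of_flip f hq hg hz hA hB hA2 hB2 hc ey hP hflip
  exfalso
  have hci : ¬ IsSquare c⁻¹ := fun ⟨r, hr⟩ => hc ⟨r⁻¹, by rw [← mul_inv, ← hr, inv_inv]⟩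
  -- a plane kept by the second part
  obtain ⟨v, hv⟩ := h.exists_good (A := J) (by rw [Fintype.card_fin]; omega)
  obtain ⟨β, hβ⟩ : ∃ β, β = bf J v (B *ᵥ v) := ⟨_, rfl⟩
  obtain ⟨v', hv'⟩ : ∃ v', v' = B *ᵥ v - (β / bf J v v) • v := ⟨_, rfl⟩
  have sadj : ∀ x y, bf J (B *ᵥ x) y = bf J x (B *ᵥ y) := by
    intro x y
    refine mul_left_cancel₀ hB.1 ?_
    have := hB.bf x (B *ᵥ y)
    rw [Matrix.mulVec_mulVec, hB2, Matrix.smul_mulVec, Matrix.one_mulVec, bf_smul_right] at this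
    exact this
  have hBB : B *ᵥ (B *ᵥ v) = c⁻¹ • v := by
    rw [Matrix.mulVec_mulVec, hB2, Matrix.smul_mulVec, Matrix.one_mulVec]
  have hvv' : bf J v v' = 0 := by
    rw [hv', bf_sub_right, bf_smul_right, ← hβ, div_mul_cancel₀ _ hv.1, sub_self]
  have hv'0 : bf J v' v' ≠ 0 := by
    intro h0
    rw [hv'] at h0
    simp only [bf_sub_left, bf_sub_right, bf_smul_left, bf_smul_right, sadj, hBB, ← hβ] at h0
    refine hci ⟨β / bf J v v, ?_⟩
    have := hv.1
    field_simp at h0 ⊢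
    linear_combination h0
  have q0 : Pl J v v' := ⟨hv.1, hv'0, hvv'⟩
  obtain ⟨d, o, fr⟩ := exists_fr4 h hk q0
  have hBv : B *ᵥ v = v' + (β / bf J v v) • v := by rw [hv']; abel
  have hBR : B * pl J v v' = pl J v v' * B := by
    have inP : ∀ x, bf J v x = 0 → bf J v' x = 0 → pl J v v' *ᵥ (B *ᵥ x) = B *ᵥ x := by
      intro x h1 h2
      have t1 : bf J v (B *ᵥ x) = 0 := by
        rw [← sadj, hBv, bf_add_left, bf_smul_left, h1, h2, mul_zero, add_zero]
      refine pl_mulVec_perp h q0 t1 ?_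
      rw [hv', bf_sub_left, bf_smul_left, t1, mul_zero, sub_zero, sadj, Matrix.mulVec_mulVec, hB2,
        Matrix.smul_mulVec, Matrix.one_mulVec, bf_smul_right, h1, mul_zero]
    refine fr.ext ?_ ?_ ?_ ?_ <;> rw [← Matrix.mulVec_mulVec, ← Matrix.mulVec_mulVec]
    · rw [fr.pl_a, Matrix.mulVec_neg, hBv, Matrix.mulVec_add, Matrix.mulVec_smul, fr.pl_a', fr.pl_a]
      module
    · have hBv' : B *ᵥ v' = c⁻¹ • v - (β / bf J v v) • (v' + (β / bf J v v) • v) := by
        conv_lhs => rw [hv', Matrix.mulVec_sub, Matrix.mulVec_smul, hBB, hBv]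
      rw [fr.pl_a', Matrix.mulVec_neg, hBv', Matrix.mulVec_sub, Matrix.mulVec_smul, Matrix.mulVec_smul,
        Matrix.mulVec_add, Matrix.mulVec_smul, fr.pl_a, fr.pl_a']
      module
    · rw [fr.pl_e, inP d fr.ae fr.a'e]
    · rw [fr.pl_e', inP o fr.ae' fr.a'e']
  -- pulling the plane back
  obtain ⟨r, hr, er⟩ := C.exists_el isSim_one (isSim_pl h q0) (by rw [Matrix.det_one, C.det_pl q0])
  have hgi := M.inv_mem hg
  have hzi := comm_inv hz
  have back : ∀ {X Y : Matrix (Ix τ k) (Ix τ k) F}, (g⁻¹).1 * X * ((g⁻¹)⁻¹).1 = Y →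
      g.1 * Y * (g⁻¹).1 = X := fun e => by simpa using conj_inv e
  have commz : ∀ Z : Matrix (Fin k) (Fin k) F, el i 1 Z * el i (pl J a a') 1 = el i (pl J a a') 1 * el i 1 Z :=
    fun Z => by rw [el_mul, el_mul, Matrix.one_mul, Matrix.mul_one, Matrix.one_mul, Matrix.mul_one]
  have commq : ∀ Z : Matrix (Fin k) (Fin k) F, el i 1 Z * el i (qtr J e e') 1 = el i (qtr J e e') 1 * el i 1 Z :=
    fun Z => by rw [el_mul, el_mul, Matrix.one_mul, Matrix.mul_one, Matrix.one_mul, Matrix.mul_one]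
  obtain ⟨m, hm'⟩ : ∃ m, m = g⁻¹ * r * (g⁻¹)⁻¹ := ⟨_, rfl⟩
  have hmM : m ∈ M := hm' ▸ M.mul_mem (M.mul_mem hgi hr) (M.inv_mem hgi)
  have emv : m.1 = (g⁻¹).1 * el i 1 (pl J v v') * ((g⁻¹)⁻¹).1 := hm' ▸ C.val_conj g⁻¹ r er
  have mz : m.1 * el i (pl J a a') 1 = el i (pl J a a') 1 * m.1 := by
    have := congrArg (fun Z => (g⁻¹).1 * Z * ((g⁻¹)⁻¹).1) (commz (pl J v v'))
    simp only [conj_mul, conj_of_comm hzi] at this
    rw [emv]; exact this
  have mX : m.1 * el i (pl J a e) 1 = el i (pl J a e) 1 * m.1 := by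
    have h0 : el i 1 (pl J v v') * el i A B = el i A B * el i 1 (pl J v v') := by
      rw [el_mul, el_mul, Matrix.one_mul, Matrix.mul_one, hBR]
    have := congrArg (fun Z => (g⁻¹).1 * Z * ((g⁻¹)⁻¹).1) h0
    simp only [conj_mul, conj_inv ey] at this
    rw [emv]; exact this
  have mq : m.1 * el i (qtr J e e') 1 = el i (qtr J e e') 1 * m.1 := by
    rw [emv]; exact C.conj_keep f hq hgi hzi (commq _) (commz _)
  have m2 : m.1 * m.1 = 1 := by
    rw [emv, ← conj_mul, el_mul, Matrix.one_mul, pl_mul_self h q0, el_one, Matrix.mul_one, Units.mul_inv]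
  have ms : sig m.1 = 0 := by rw [emv, sig_conj (g⁻¹).inv_mul, C.sig_pl_right q0 hk]
  obtain ⟨D₀, T₀, μ, hD₀, hT₀, em, hD₀P, hD₀X⟩ := C.el_diag f hmM mz mX
  obtain ⟨hD₀2, hμ, -⟩ := f.diag_square hD₀ hD₀P hD₀X
  obtain ⟨u, T, hu, sD, sT, -, eT, em', hdD, hdT⟩ := C.normalise hmM m2 ms hk hD₀ hT₀ em hD₀2 hμ
  obtain ⟨D, hD⟩ : ∃ D, D = u • D₀ := ⟨_, rfl⟩
  rw [← hD] at sD em' hdD
  have hDs : D = 1 ∨ D = -1 ∨ D = pl J a a' ∨ D = -pl J a a' := by
    refine f.diag_signs C.even hq sD hdD ?_ ?_ ?_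
    · rw [hD, Matrix.smul_mul, Matrix.mul_smul, hD₀P]
    · rw [hD, Matrix.smul_mul, Matrix.mul_smul, hD₀X]
    · rw [em', el_mul, el_mul, Matrix.mul_one, Matrix.one_mul] at mq
      exact p.el_left_cancel mq ((sD.mul (qtr_spec h f.right hq).2.1).ne_zero h) (sT.ne_zero h)
  have gm : g.1 * m.1 * (g⁻¹).1 = el i 1 (pl J v v') := back emv.symm
  obtain ⟨b₁, c₁, q1, rfl⟩ : ∃ b₁ c₁, Pl J b₁ c₁ ∧ T = pl J b₁ c₁ := by
    have bad : ∀ E, (E = 1 ∨ E = -1 ∨ E = pl J a a' ∨ E = -pl J a a') → m.1 = el i E 1 → False := by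
      intro E hE e0
      rw [e0, conj_of_comm (C.comm_signs hz hE)] at gm
      obtain ⟨s, hs, -, e'⟩ := p.el_eq_el gm (by
        rcases hE with rfl | rfl | rfl | rfl
        · exact one0
        · exact neg_ne_zero.2 one0
        · exact (isSim_pl h f.left).ne_zero h
        · exact neg_ne_zero.2 ((isSim_pl h f.left).ne_zero h)) one0
      exact pl_ne_smul h (by omega) q0 s e'
    rcases det_one_shape h hk sT eT hdT with e0 | e0 | e0
    · exact (bad D hDs (by rw [em', e0])).elim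
    · refine (bad (-D) ?_ (by rw [em', e0, p.el_neg_right, p.el_neg_left])).elim
      rcases hDs with rfl | rfl | rfl | rfl <;> simp
    · exact e0
  -- a second plane through a line
  obtain ⟨d₁, o₁, f1⟩ := exists_fr4 h hk q1
  obtain ⟨x₂, hx₂, ex₂⟩ := C.exists_el isSim_one (isSim_pl h f1.mid) (by rw [Matrix.det_one, C.det_pl f1.mid])
  obtain ⟨y₂, hy₂⟩ : ∃ y₂, y₂ = g * x₂ * g⁻¹ := ⟨_, rfl⟩
  have hy₂M : y₂ ∈ M := hy₂ ▸ M.mul_mem (M.mul_mem hg hx₂) (M.inv_mem hg)
  have ey₂ : y₂.1 = g.1 * el i 1 (pl J b₁ d₁) * (g⁻¹).1 := hy₂ ▸ C.val_conj g x₂ ex₂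
  have yz : y₂.1 * el i (pl J a a') 1 = el i (pl J a a') 1 * y₂.1 := by
    have := congrArg (fun Z => g.1 * Z * (g⁻¹).1) (commz (pl J b₁ d₁))
    simp only [conj_mul, conj_of_comm hz] at this
    rw [ey₂]; exact this
  have yr : y₂.1 * el i 1 (pl J v v') = el i 1 (pl J v v') * y₂.1 := by
    rw [ey₂, ← gm, ← conj_mul, ← conj_mul, em', el_mul, el_mul, Matrix.one_mul, Matrix.mul_one,
      show pl J b₁ d₁ * pl J b₁ c₁ = pl J b₁ c₁ * pl J b₁ d₁ by
        rw [pl_mul_pl h f1.mid, pl_mul_pl h f1.left, rot_comm_orth h f1.ea']]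
  have yy : y₂.1 * el i A B = el i A B * y₂.1 := by
    rw [ey₂, ← ey, ← conj_mul, ← conj_mul, el_mul, el_mul, Matrix.one_mul, Matrix.mul_one, Matrix.one_mul,
      Matrix.mul_one]
  have yq : y₂.1 * el i (qtr J e e') 1 = el i (qtr J e e') 1 * y₂.1 := by
    rw [ey₂]; exact C.conj_keep f hq hg hz (commq _) (commz _)
  have y2 : y₂.1 * y₂.1 = 1 := by
    rw [ey₂, ← conj_mul, el_mul, Matrix.one_mul, pl_mul_self h f1.mid, el_one, Matrix.mul_one, Units.mul_inv]
  have ys : sig y₂.1 = 0 := by rw [ey₂, sig_conj g.inv_mul, C.sig_pl_right f1.mid hk]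
  obtain ⟨A₂, B₂, ν, hA₂, hB₂, e₂, hA₂P⟩ := C.el_of_comm (C.iso_mem hy₂M)
    (C.cent_five_any f hq q0 hy₂M yz yr) f.left yz
  have hA₂q : A₂ * qtr J e e' = qtr J e e' * A₂ := by
    rw [e₂, el_mul, el_mul, Matrix.mul_one, Matrix.one_mul] at yq
    exact p.el_left_cancel yq ((hA₂.mul (qtr_spec h f.right hq).2.1).ne_zero h) (hB₂.ne_zero h)
  rw [e₂, el_mul] at y2
  obtain ⟨κ, hκ, hA₂2, hB₂2⟩ := p.el_eq_one y2
  obtain ⟨x, w, e1⟩ := f.swap.mulVec_span
    (show A₂ * pl J e e' = pl J e e' * A₂ by rw [f.pl_neg, Matrix.mul_neg, Matrix.neg_mul, hA₂P]) f.swap.pp_a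
  have e1' : A₂ *ᵥ e' = x • e' - w • e := by
    have h4 := congrArg (fun Z => Z *ᵥ e) hA₂q
    simp only [← Matrix.mulVec_mulVec, f.swap.qtr_a hq, Matrix.mulVec_neg, e1, Matrix.mulVec_add, Matrix.mulVec_smul,
      f.swap.qtr_a' hq] at h4
    rw [← neg_inj, h4]; module
  obtain ⟨hκ1, hxw, hν⟩ : x * x - w * w = κ ∧ x * w = 0 ∧ x * x + w * w = ν := by
    have h4 := congrArg (fun Z => Z *ᵥ e) hA₂2
    simp only [← Matrix.mulVec_mulVec, e1, Matrix.mulVec_add, Matrix.mulVec_smul, e1', Matrix.smul_mulVec,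
      Matrix.one_mulVec] at h4
    have h5 := congrArg (bf J e) h4
    have h6 := congrArg (bf J e') h4
    have h7 := hA₂.bf e e
    rw [e1] at h7
    simp only [bf_add_left, bf_add_right, bf_sub_right, bf_smul_left, bf_smul_right, f.ee', f.e'e, mul_zero,
      add_zero, zero_add, sub_zero, zero_sub, hq] at h5 h6 h7
    refine ⟨mul_right_cancel₀ f.qe (by linear_combination h5), ?_,
      mul_right_cancel₀ f.qe (by linear_combination h7)⟩
    have : (2 : F) * (x * w) * bf J e e = 0 := by linear_combination h6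
    simpa [h.two, f.qe] using this
  have hw0 : w = 0 := by
    by_contra hw
    have hx : x = 0 := (mul_eq_zero.1 hxw).resolve_right hw
    subst hx
    refine no_sq_neg_one h hk C.nsq (B := w • B₂) ?_ ?_
    · have := hB₂.smul hw
      rwa [show w * w * ν⁻¹ = 1 by rw [← hν]; field_simp; ring] at this
    · rw [Matrix.smul_mul, Matrix.mul_smul, hB₂2, smul_smul, smul_smul, ← neg_one_smul F (1 : Matrix _ _ F)]
      congr 1
      rw [← hκ1]
      field_simp
      ring
  subst hw0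
  have hx2 : x * x = ν := by linear_combination hν
  obtain ⟨u₂, W, hu₂, sE, sW, eE, eW, e₂', hdE, -⟩ :=
    C.normalise hy₂M (by rw [e₂, el_mul]; exact y2) ys hk hA₂ hB₂ e₂
      (by rw [hA₂2, ← hκ1, ← hx2]; simp) ⟨x, hx2.symm⟩
  obtain ⟨E, hE⟩ : ∃ E, E = u₂ • A₂ := ⟨_, rfl⟩
  rw [← hE] at sE eE e₂' hdE
  have hEs : E = 1 ∨ E = -1 ∨ E = pl J a a' ∨ E = -pl J a a' := by
    have hEe : E *ᵥ e = (u₂ * x) • e ∧ E *ᵥ e' = (u₂ * x) • e' := by
      constructor
      · rw [hE, Matrix.smul_mulVec, e1, zero_smul, add_zero, smul_smul]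
      · rw [hE, Matrix.smul_mulVec, e1', zero_smul, sub_zero, smul_smul]
    have hε : (u₂ * x) * (u₂ * x) = 1 := by
      have := sE.bf e e
      rw [hEe.1, bf_smul_left, bf_smul_right] at this
      exact mul_right_cancel₀ f.qe (by linear_combination this)
    rcases mul_self_eq_one_iff.1 hε with hu1 | hu1 <;> rw [hu1] at hEe
    · simp only [one_smul] at hEe
      rcases pl_of_fix_plane h (by omega) f.left sE eE hdE (fun y h1 h2 => by
        rw [f.expand y, pr_perp J h1, pr_perp J h2, add_zero, zero_add, Matrix.mulVec_add, pr_mulVec, pr_mulVec,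
          Matrix.mulVec_smul, Matrix.mulVec_smul, hEe.1, hEe.2]) with e0 | e0
      · exact Or.inl e0
      · exact Or.inr (Or.inr (Or.inl e0))
    · simp only [neg_one_smul] at hEe
      have sN : IsSim J (-E) 1 := by
        rw [← neg_one_smul F E]
        simpa using sE.smul (c := (-1 : F)) (neg_ne_zero.2 one_ne_zero)
      rcases pl_of_fix_plane h (by omega) f.left sN (by rw [neg_mul_neg, eE])
          (by rw [Matrix.det_neg, Fintype.card_fin, C.even.neg_one_pow, one_mul, hdE]) (fun y h1 h2 => by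
        rw [f.expand y, pr_perp J h1, pr_perp J h2, add_zero, zero_add, Matrix.mulVec_add, pr_mulVec, pr_mulVec,
          Matrix.mulVec_smul, Matrix.mulVec_smul, Matrix.neg_mulVec, Matrix.neg_mulVec, hEe.1, hEe.2, neg_neg,
          neg_neg]) with e0 | e0
      · exact Or.inr (Or.inl (neg_eq_iff_eq_neg.1 e0))
      · exact Or.inr (Or.inr (Or.inr (neg_eq_iff_eq_neg.1 e0)))
  have hAE : A * E = E * A := by
    rcases hEs with e0 | e0 | e0 | e0 <;> subst e0
    · rw [Matrix.mul_one, Matrix.one_mul]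
    · rw [Matrix.mul_neg, Matrix.neg_mul, Matrix.mul_one, Matrix.one_mul]
    · exact hP
    · rw [Matrix.mul_neg, Matrix.neg_mul, hP]
  rw [e₂', el_mul, el_mul, hAE] at yy
  have hWB : W * B = B * W := p.el_right_cancel yy ((sE.mul hA).ne_zero h) ((sW.mul hB).ne_zero h)
  rw [e₂', el_mul, el_mul, Matrix.mul_one, Matrix.one_mul] at yr
  have hWR : W * pl J v v' = pl J v v' * W :=
    p.el_right_cancel yr (sE.ne_zero h) ((sW.mul (isSim_pl h q0)).ne_zero h)
  -- the contradiction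
  have fin : ∀ E', (E' = 1 ∨ E' = -1 ∨ E' = pl J a a' ∨ E' = -pl J a a') →
      y₂.1 = el i E' 1 ∨ y₂.1 = el i E' (pl J v v') → False := by
    intro E' hE' hor
    have hgE := conj_of_comm (C.comm_signs hz hE')
    have inj : ∀ Y, g.1 * Y * (g⁻¹).1 = y₂.1 → el i 1 (pl J b₁ d₁) = Y := fun Y hY => by
      rw [ey₂] at hY
      have := conj_inv hY
      rw [conj_inv (rfl : g.1 * el i 1 (pl J b₁ d₁) * (g⁻¹).1 = _)] at this
      exact this
    obtain ⟨V, G, hV, hne, e0⟩ : ∃ V G, (V = 1 ∨ V = pl J b₁ c₁) ∧ IsSim J G 1 ∧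
        el i 1 (pl J b₁ d₁) = el i G V := by
      have sE' : IsSim J E' 1 := by
        have neg1 : ∀ Z : Matrix (Fin k) (Fin k) F, IsSim J Z 1 → IsSim J (-Z) 1 := fun Z hZ => by
          rw [← neg_one_smul F Z]
          simpa using hZ.smul (c := (-1 : F)) (neg_ne_zero.2 one_ne_zero)
        rcases hE' with rfl | rfl | rfl | rfl
        · exact isSim_one
        · exact neg1 _ isSim_one
        · exact isSim_pl h f.left
        · exact neg1 _ (isSim_pl h f.left)
      rcases hor with e0 | e0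
      · exact ⟨1, E', Or.inl rfl, sE', inj _ (hgE.trans e0.symm)⟩
      · refine ⟨pl J b₁ c₁, E' * D, Or.inr rfl, by have := sE'.mul sD; rwa [one_mul] at this, inj _ ?_⟩
        have e3 : el i (E' * D) (pl J b₁ c₁) = el i E' 1 * m.1 := by rw [em', el_mul, Matrix.one_mul]
        rw [e3, conj_mul, hgE, gm, el_mul, Matrix.mul_one, Matrix.one_mul, e0]
    obtain ⟨s, hs, -, e'⟩ := p.el_eq_el e0.symm (hne.ne_zero h) (by
      rcases hV with rfl | rfl
      · exact one0
      · exact (isSim_pl h q1).ne_zero h)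
    rcases hV with rfl | rfl
    · exact pl_ne_smul h (by omega) f1.mid s e'
    · have h8 := congrArg (fun Z => bf J b₁ (Z *ᵥ b₁)) e'
      have h9 := congrArg (fun Z => bf J c₁ (Z *ᵥ c₁)) e'
      simp only [Matrix.smul_mulVec, f1.mix.pl_a, f1.mix.pl_e, f1.pl_a, f1.pl_a', ← neg_one_smul F b₁,
        ← neg_one_smul F c₁, bf_smul_right] at h8 h9
      have s1 : s = 1 := mul_right_cancel₀ f1.qa (by linear_combination h8)
      rw [s1] at h9
      exact h.two (mul_right_cancel₀ f1.qa' (by rw [zero_mul]; linear_combination h9))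
  have negs : ∀ {E' : Matrix (Fin k) (Fin k) F}, (E' = 1 ∨ E' = -1 ∨ E' = pl J a a' ∨ E' = -pl J a a') →
      (-E' = 1 ∨ -E' = -1 ∨ -E' = pl J a a' ∨ -E' = -pl J a a') := by
    intro E' hE'
    rcases hE' with rfl | rfl | rfl | rfl <;> simp
  rcases fr.blocks_of_root hci sW eW hB2 hWR hBR hWB with e0 | e0 | e0 | e0
  · exact fin E hEs (Or.inl (by rw [e₂', e0]))
  · exact fin (-E) (negs hEs) (Or.inl (by rw [e₂', e0, p.el_neg_right, p.el_neg_left]))
  · exact fin E hEs (Or.inr (by rw [e₂', e0]))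
  · exact fin (-E) (negs hEs) (Or.inr (by rw [e₂', e0, p.el_neg_right, p.el_neg_left]))

/-- The centraliser of a plane involution with complement of square discriminant. -/
theorem cent_frame {a a' e e' : Fin k → F} (fa : Fr4 J a a' e e') (hqa : bf J e' e' = bf J e e)
    {g : GL (Ix τ k) F} (hg : g ∈ M) (hz : g.1 * el i (pl J a a') 1 = el i (pl J a a') 1 * g.1) : Mono g.1 := by
  classical
  haveI := C.toEnv.neZero
  have h := C.frm
  have p := C.pr
  have hk4 := C.four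
  obtain ⟨zP, hzP, ezP⟩ := C.exists_pl_left fa.left
  obtain ⟨K, hK⟩ : ∃ K, K = M ⊓ Subgroup.centralizer {zP} := ⟨_, rfl⟩
  have memK : ∀ n, n ∈ K ↔ n ∈ M ∧ n.1 * el i (pl J a a') 1 = el i (pl J a a') 1 * n.1 := fun n => by
    rw [hK, C.mem_cent ezP]
  obtain ⟨L, hL⟩ : ∃ L, L = C.monoSub.subgroupOf K := ⟨_, rfl⟩
  have memL : ∀ n : K, n ∈ L ↔ Mono (n : GL (Ix τ k) F).1 := fun n => by
    rw [hL, Subgroup.mem_subgroupOf, C.mem_monoSub]
    exact and_iff_right ((memK _).1 n.2).1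
  suffices ∀ n : K, n ∈ L from (memL ⟨g, (memK g).2 ⟨hg, hz⟩⟩).1 (this _)
  have cA : pl J a e * pl J a a' = pl J a a' * pl J a e := by
    rw [pl_mul_pl h fa.mid, pl_mul_pl h fa.left, rot_comm_orth h fa.ea']
  obtain ⟨x₀, hx₀, ex₀⟩ := C.exists_pl_left fa.mid
  obtain ⟨x, hx⟩ : ∃ x : K, (x : GL (Ix τ k) F) = x₀ :=
    ⟨⟨x₀, (memK _).2 ⟨hx₀, by rw [ex₀, el_mul, el_mul, cA]⟩⟩, rfl⟩
  -- the rotations of the two planes
  obtain ⟨S, hS⟩ : ∃ S : Set K, S = {t : K | ∃ U, fa.PlRot U ∧ (t : GL (Ix τ k) F).1 = el i U 1} := ⟨_, rfl⟩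
  obtain ⟨Z, hZ⟩ : ∃ Z, Z = Subgroup.closure S := ⟨_, rfl⟩
  haveI hZn : Z.Normal := ⟨fun z hz' n => by
    rw [hZ] at hz' ⊢
    induction hz' using Subgroup.closure_induction with
    | mem t ht =>
      rw [hS] at ht
      obtain ⟨U, hU, et⟩ := ht
      obtain ⟨hnM, hn1⟩ := (memK _).1 n.2
      obtain ⟨U', hU', e0, -⟩ := C.conj_rot_left fa hnM ((memK _).1 t.2).1 hn1 hU et
      exact Subgroup.subset_closure (hS ▸ ⟨U', hU', e0⟩)
    | one => rw [mul_one, mul_inv_cancel]; exact Subgroup.one_mem _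
    | mul u v _ _ hu hv => rw [show n * (u * v) * n⁻¹ = n * u * n⁻¹ * (n * v * n⁻¹) by group]; exact mul_mem hu hv
    | inv u _ hu => rw [show n * u⁻¹ * n⁻¹ = (n * u * n⁻¹)⁻¹ by group]; exact inv_mem hu⟩
  have hval : ∀ t ∈ Z, ∃ U, IsSim J U 1 ∧ U.det = 1 ∧ U * pl J a a' = pl J a a' * U ∧
      (t : GL (Ix τ k) F).1 = el i U 1 := by
    intro t ht
    rw [hZ] at ht
    induction ht using Subgroup.closure_induction with
    | mem t ht =>
      rw [hS] at ht
      obtain ⟨U, hU, et⟩ := ht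
      exact ⟨U, hU.1, hU.2.1, fa.PlRot_comm_plane hU, et⟩
    | one => exact ⟨1, isSim_one, Matrix.det_one, by rw [Matrix.one_mul, Matrix.mul_one], el_one.symm⟩
    | mul u v _ _ hu hv =>
      obtain ⟨U, s1, d1, c1, e1⟩ := hu
      obtain ⟨V, s2, d2, c2, e2⟩ := hv
      exact ⟨U * V, by have := s1.mul s2; rwa [one_mul] at this, by rw [Matrix.det_mul, d1, d2, one_mul],
        by rw [Matrix.mul_assoc, c2, ← Matrix.mul_assoc, c1, Matrix.mul_assoc],
        by show (u : GL (Ix τ k) F).1 * (v : GL (Ix τ k) F).1 = _; rw [e1, e2, el_mul, Matrix.one_mul]⟩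
    | inv u _ hu =>
      obtain ⟨U, s1, d1, c1, e1⟩ := hu
      have hUd : IsUnit U.det := d1 ▸ isUnit_one
      refine ⟨U⁻¹, ?_, by rw [Matrix.det_nonsing_inv, d1, Ring.inverse_one], ?_, ?_⟩
      · refine isSim_one_iff.2 ?_
        conv_lhs => rw [← isSim_one_iff.1 s1]
        rw [Matrix.mul_assoc, Matrix.mul_assoc, Matrix.mul_nonsing_inv _ hUd, Matrix.mul_one, ← Matrix.mul_assoc,
          ← Matrix.transpose_mul, Matrix.mul_nonsing_inv _ hUd, Matrix.transpose_one, Matrix.one_mul]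
      · calc U⁻¹ * pl J a a' = U⁻¹ * (pl J a a' * (U * U⁻¹)) := by
              rw [Matrix.mul_nonsing_inv _ hUd, Matrix.mul_one]
          _ = U⁻¹ * (U * pl J a a' * U⁻¹) := by rw [c1, Matrix.mul_assoc]
          _ = pl J a a' * U⁻¹ := by
              rw [← Matrix.mul_assoc, ← Matrix.mul_assoc, Matrix.nonsing_inv_mul _ hUd, Matrix.one_mul]
      · show ((u : GL (Ix τ k) F)⁻¹).1 = _
        exact Units.inv_eq_of_mul_eq_one_right (by
          rw [e1, el_mul, Matrix.mul_nonsing_inv _ hUd, Matrix.mul_one, el_one])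
  have hZL : Z ≤ L := fun t ht => by
    obtain ⟨U, -, -, -, et⟩ := hval t ht
    rw [memL, et]; exact mono_el _ _
  have hxL : x ∈ L := (memL _).2 (by rw [hx, ex₀]; exact mono_el _ _)
  have hx2 : x * x = 1 := Subtype.ext (Units.ext (by
    show (x : GL (Ix τ k) F).1 * (x : GL (Ix τ k) F).1 = 1
    rw [hx, ex₀, el_mul, pl_mul_self h fa.mid, Matrix.mul_one, el_one]))
  -- the quarter rotation and the flip
  have hrot : fa.PlRot (qtr J e e') := ⟨(qtr_spec h fa.right hqa).2.1, det_qtr h C.even fa.right hqa,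
    Or.inl ⟨fa.swap.qtr_e hqa, fa.swap.qtr_e' hqa⟩⟩
  have hqZ : ∀ t ∈ Z, (t : GL (Ix τ k) F).1 * el i (qtr J e e') 1 = el i (qtr J e e') 1 * (t : GL (Ix τ k) F).1 := by
    intro t ht
    rw [hZ] at ht
    induction ht using Subgroup.closure_induction with
    | mem t ht =>
      rw [hS] at ht
      obtain ⟨U, hU, et⟩ := ht
      rw [et, el_mul, el_mul, fa.PlRot_comm hU hrot]
    | one => exact (Matrix.one_mul _).trans (Matrix.mul_one _).symm
    | mul u v _ _ hu hv =>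
      show (u : GL (Ix τ k) F).1 * (v : GL (Ix τ k) F).1 * _ = _ * ((u : GL (Ix τ k) F).1 * (v : GL (Ix τ k) F).1)
      rw [Matrix.mul_assoc, hv, ← Matrix.mul_assoc, hu, Matrix.mul_assoc]
    | inv u _ hu => exact comm_inv hu
  have hinv : ∀ z ∈ Z, x * z * x⁻¹ = z⁻¹ ∧ ∀ v ∈ Z, z * v = v * z := by
    have hab : ∀ s ∈ S, ∀ t ∈ S, s * t = t * s := by
      intro s hs t ht
      rw [hS] at hs ht
      obtain ⟨U, hU, es⟩ := hs
      obtain ⟨V, hV, et⟩ := ht
      refine Subtype.ext (Units.ext ?_)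
      show (s : GL (Ix τ k) F).1 * (t : GL (Ix τ k) F).1 = (t : GL (Ix τ k) F).1 * (s : GL (Ix τ k) F).1
      rw [es, et, el_mul, el_mul, fa.PlRot_comm hU hV]
    have hSZ : ∀ s ∈ S, ∀ z ∈ Z, z * s = s * z := by
      intro s hs z hz'
      rw [hZ] at hz'
      induction hz' using Subgroup.closure_induction with
      | mem t ht => exact hab t ht s hs
      | one => rw [one_mul, mul_one]
      | mul u v _ _ hu hv => exact (Commute.mul_left hu hv).eq
      | inv u _ hu => exact (Commute.inv_left hu).eq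
    have hZab : ∀ u ∈ Z, ∀ v ∈ Z, u * v = v * u := by
      intro u hu v hv
      rw [hZ] at hv
      induction hv using Subgroup.closure_induction with
      | mem t ht => exact hSZ t ht u hu
      | one => rw [one_mul, mul_one]
      | mul r s _ _ hr hs => exact (Commute.mul_right hr hs).eq
      | inv r _ hr => exact (Commute.inv_right hr).eq
    intro z hz'
    refine ⟨?_, hZab z hz'⟩
    rw [hZ] at hz'
    induction hz' using Subgroup.closure_induction with
    | mem t ht =>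
      refine eq_inv_of_mul_eq_one_left (Subtype.ext (Units.ext ?_))
      show (x : GL (Ix τ k) F).1 * (t : GL (Ix τ k) F).1 * ((x⁻¹ : K) : GL (Ix τ k) F).1 *
        (t : GL (Ix τ k) F).1 = 1
      rw [hS] at ht
      obtain ⟨U, hU, et⟩ := ht
      rw [inv_eq_of_mul_eq_one_right hx2, hx, ex₀, et, el_mul, el_mul, el_mul, fa.PlRot_flip hU, Matrix.mul_one,
        Matrix.mul_one, Matrix.mul_one, el_one]
    | one => rw [mul_one, mul_inv_cancel, inv_one]
    | mul u v hu' hv' hu hv =>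
      rw [show x * (u * v) * x⁻¹ = x * u * x⁻¹ * (x * v * x⁻¹) by group, hu, hv, ← _root_.mul_inv_rev,
        hZab u (hZ ▸ hu') v (hZ ▸ hv')]
    | inv u _ hu => rw [show x * u⁻¹ * x⁻¹ = (x * u * x⁻¹)⁻¹ by group, hu]
  have hxZ : x ∉ Z := by
    intro hc
    have h3 := hqZ x hc
    rw [hx, ex₀, el_mul, el_mul, fa.mid_flip hqa, Matrix.mul_one] at h3
    have h4 := p.el_left_cancel h3
      ((((qtr_spec h fa.right hqa).2.1.mul (isSim_pl h fa.right)).mul (isSim_pl h fa.mid)).ne_zero h) one_ne_zero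
    have h5 := congrArg (fun V => bf J e' (V *ᵥ e)) h4
    simp only [← Matrix.mulVec_mulVec, fa.swap.pl_a, fa.mix.pl_a', Matrix.mulVec_neg, fa.swap.qtr_a hqa,
      neg_neg] at h5
    rw [← neg_one_smul F e', bf_smul_right] at h5
    exact mul_ne_zero h.two fa.qe' (by linear_combination -h5)
  have h1 : ∀ n : K, n * x * n⁻¹ ∈ L → n ∈ L := by
    intro n hn
    obtain ⟨hnM, hn1⟩ := (memK _).1 n.2
    rw [memL] at hn ⊢
    refine C.one_four fa hqa hnM hn1 ?_
    rw [← C.val_conj _ _ ex₀, ← hx]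
    exact hn
  have h2 : ∀ n ∈ L, n * x * n⁻¹ * x⁻¹ ∈ Z := by
    intro n hn
    obtain ⟨hnM, hn1⟩ := (memK _).1 n.2
    obtain ⟨A, B, μ, hA, hB, en, hAP⟩ := C.el_of_comm (C.iso_mem hnM) ((memL _).1 hn) fa.left hn1
    obtain ⟨c1, c2, c3⟩ := fa.comm_rot hA hAP
    have hmem : ∀ t ∈ M, ∀ U, fa.PlRot U → t.1 = el i U 1 → t ∈ Z.map K.subtype := by
      intro t htM U hU et
      have htK : t ∈ K := (memK _).2 ⟨htM, by rw [et, el_mul, el_mul, fa.PlRot_comm_plane hU]⟩
      exact ⟨⟨t, htK⟩, hZ ▸ Subgroup.subset_closure (hS ▸ ⟨U, hU, et⟩), rfl⟩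
    obtain ⟨z, hz', e0⟩ : ((n * x * n⁻¹ * x⁻¹ : K) : GL (Ix τ k) F) ∈ Z.map K.subtype := by
      refine C.rot_pair fa _ hmem ((memK _).1 (n * x * n⁻¹ * x⁻¹).2).1
        (A := pl J (A *ᵥ a) (A *ᵥ e) * pl J a e) ?_ c1 c2 c3
      show ((n : GL (Ix τ k) F) * x * (n : GL (Ix τ k) F)⁻¹ * (x : GL (Ix τ k) F)⁻¹).1 = _
      rw [hx, inv_eq_of_mul_eq_one_right (a := x₀) (b := x₀) (by rw [← hx]; exact congrArg Subtype.val hx2),
        Units.val_mul, C.val_conj _ _ ex₀, C.conj_of_el hA en, ex₀, el_mul, Matrix.mul_one]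
    rwa [← Subtype.ext e0]
  obtain ⟨N, hN, hZN, hodd, hcov⟩ := exists_core L Z hZL hxL hx2 hxZ h1 h2
  haveI := hN
  -- the four-group of the other factor
  obtain ⟨b, hb⟩ := h.exists_good (A := J) (by rw [Fintype.card_fin]; omega)
  obtain ⟨c, hc, hcc⟩ := h.exists_perp_aniso (v := fun _ : Fin 1 => b)
    (fun p q hpq => absurd (Subsingleton.elim p q) hpq) (fun _ => hb.1)
    (by rw [Fintype.card_fin, Fintype.card_fin]; omega)
  obtain ⟨d, o, fb⟩ := exists_fr4 h fa.dim (⟨hb.1, hcc, hc 0⟩ : Pl J b c)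
  have mk : ∀ {u w : Fin k → F}, Pl J u w → ∃ v : K, (v : GL (Ix τ k) F).1 = el i 1 (pl J u w) := by
    intro u w q
    obtain ⟨t, ht, et⟩ := C.exists_el isSim_one (isSim_pl h q) (by rw [Matrix.det_one, C.det_pl q])
    exact ⟨⟨t, (memK _).2 ⟨ht, by rw [et, el_mul, el_mul, Matrix.one_mul, Matrix.mul_one, Matrix.one_mul,
      Matrix.mul_one]⟩⟩, et⟩
  obtain ⟨v, hv⟩ := mk fb.left
  obtain ⟨w, hw⟩ := mk fb.mid
  have hvw : (v * w : K).1.1 = el i 1 (pl J c d) := by
    show (v : GL (Ix τ k) F).1 * (w : GL (Ix τ k) F).1 = _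
    rw [hv, hw, el_mul, Matrix.one_mul, pl_mul_pl h fb.left]
    rfl
  have qcd : Pl J c d := ⟨fb.qa', fb.qe, fb.a'e⟩
  have notin : ∀ (t : K) {u w : Fin k → F}, Pl J u w → (t : GL (Ix τ k) F).1 = el i 1 (pl J u w) → t ∉ Z := by
    intro t u w q et hc
    obtain ⟨U, s1, -, -, e1⟩ := hval t hc
    rw [et] at e1
    obtain ⟨s, hs, -, e'⟩ := p.el_eq_el e1.symm (s1.ne_zero h) one_ne_zero
    exact pl_ne_smul h (by omega) q s e'
  have sq1 : ∀ (t : K) {u w : Fin k → F}, Pl J u w → (t : GL (Ix τ k) F).1 = el i 1 (pl J u w) → t * t = 1 :=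
    fun t u w q et => Subtype.ext (Units.ext (by
      show (t : GL (Ix τ k) F).1 * (t : GL (Ix τ k) F).1 = 1
      rw [et, el_mul, Matrix.one_mul, pl_mul_self h q, el_one]))
  have step : ∀ (t : K) {u w : Fin k → F}, Pl J u w → (t : GL (Ix τ k) F).1 = el i 1 (pl J u w) →
      ∀ n ∈ N, n * t * n⁻¹ * t⁻¹ ∈ Z → n ∈ L := by
    intro t u w q et n _ hn
    obtain ⟨hnM, hn1⟩ := (memK _).1 n.2
    obtain ⟨s, hs⟩ : ∃ s, s = n * t * n⁻¹ * t⁻¹ := ⟨_, rfl⟩
    rw [← hs] at hn
    have hnt : n * t * n⁻¹ = s * t := by rw [hs, inv_mul_cancel_right]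
    obtain ⟨U, sU, dU, cU, eU⟩ := hval s hn
    have est : (s * t : K).1.1 = el i U (pl J u w) := by
      show (s : GL (Ix τ k) F).1 * (t : GL (Ix τ k) F).1 = _
      rw [eU, et, el_mul, Matrix.mul_one, Matrix.one_mul]
    have hU2 : U * U = 1 := by
      have h3 : (s * t : K).1.1 * (s * t : K).1.1 = 1 := by
        rw [← hnt]
        show ((n * t * n⁻¹ : K) * (n * t * n⁻¹) : K).1.1 = 1
        rw [show n * t * n⁻¹ * (n * t * n⁻¹) = n * (t * t) * n⁻¹ by group, sq1 t q et, mul_one, mul_inv_cancel]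
        rfl
      rw [est, el_mul, pl_mul_self h q] at h3
      obtain ⟨κ, hκ, h4, h5⟩ := p.el_eq_one h3
      have : κ⁻¹ = 1 := by
        have := congrFun₂ h5 ⟨0, by omega⟩ ⟨0, by omega⟩
        simpa using this.symm
      rwa [inv_eq_one.1 this, one_smul] at h4
    have hXU : U * pl J a e = pl J a e * U := by
      have h6 := congrArg (fun z : K => (z : GL (Ix τ k) F).1) (mul_inv_eq_iff_eq_mul.1 (hinv s hn).1)
      simp only [Subgroup.coe_mul, Units.val_mul, hx, ex₀, eU, el_mul, Matrix.mul_one] at h6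
      have hsi : s⁻¹ = s := inv_eq_of_mul_eq_one_right (Subtype.ext (Units.ext (by
        show (s : GL (Ix τ k) F).1 * (s : GL (Ix τ k) F).1 = 1
        rw [eU, el_mul, hU2, Matrix.mul_one, el_one])))
      rw [hsi, eU, el_mul, Matrix.mul_one] at h6
      exact (p.el_left_cancel h6 (((isSim_pl h fa.mid).mul sU).ne_zero h) one_ne_zero).symm
    have hUq : U * qtr J e e' = qtr J e e' * U := by
      have h7 := hqZ s hn
      rw [eU, el_mul, el_mul, Matrix.mul_one] at h7
      exact p.el_left_cancel h7 ((sU.mul (qtr_spec h fa.right hqa).2.1).ne_zero h) one_ne_zero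
    have hUs := fa.diag_signs C.even hqa sU dU cU hXU hUq
    refine h1 n ((memL _).2 (C.cent_five_any fa hqa q ((memK _).1 (n * x * n⁻¹).2).1
      ((memK _).1 (n * x * n⁻¹).2).2 ?_))
    have hxt : x * t = t * x := Subtype.ext (Units.ext (by
      show (x : GL (Ix τ k) F).1 * (t : GL (Ix τ k) F).1 = (t : GL (Ix τ k) F).1 * (x : GL (Ix τ k) F).1
      rw [hx, ex₀, et, el_mul, el_mul, Matrix.one_mul, Matrix.mul_one, Matrix.one_mul, Matrix.mul_one]))
    have h8 : n * x * n⁻¹ * (s * t) = s * t * (n * x * n⁻¹) := by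
      rw [← hnt, show n * x * n⁻¹ * (n * t * n⁻¹) = n * (x * t) * n⁻¹ by group, hxt]
      group
    have h9 := congrArg (fun z : K => (z : GL (Ix τ k) F).1) h8
    simp only [Subgroup.coe_mul, Units.val_mul] at h9
    have hst : (s : GL (Ix τ k) F).1 * (t : GL (Ix τ k) F).1 = el i U 1 * el i 1 (pl J u w) := by rw [eU, et]
    obtain ⟨m, hm⟩ : ∃ m, m = ((n * x * n⁻¹ : K) : GL (Ix τ k) F) := ⟨_, rfl⟩
    have hm9 : m.1 * (el i U 1 * el i 1 (pl J u w)) = el i U 1 * el i 1 (pl J u w) * m.1 := by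
      rw [← hst, hm]
      simp only [Subgroup.coe_mul, Units.val_mul]
      exact h9
    have hmU : m.1 * el i U 1 = el i U 1 * m.1 := C.comm_signs (hm ▸ ((memK _).1 (n * x * n⁻¹).2).2) hUs
    rw [← hm]
    have e0 : el i (1 : Matrix (Fin k) (Fin k) F) (pl J u w) = el i U 1 * (el i U 1 * el i 1 (pl J u w)) := by
      rw [← Matrix.mul_assoc, el_mul, hU2, Matrix.mul_one, el_one, Matrix.one_mul]
    rw [e0]
    exact comm_mul hmU hm9
  have hNL : N ≤ L := by
    refine le_of_four L Z N hZL (v := v) (w := w) ?_ ?_ ?_ (notin v fb.left hv) (notin w fb.mid hw)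
      (notin _ qcd hvw) hodd (step v fb.left hv) (step w fb.mid hw) (step _ qcd hvw)
    · rw [sq1 v fb.left hv]; exact Z.one_mem
    · rw [sq1 w fb.mid hw]; exact Z.one_mem
    · have : v * w = w * v := by
        refine (inv_eq_of_mul_eq_one_right (sq1 _ qcd hvw)).symm.trans ?_
        rw [_root_.mul_inv_rev, inv_eq_of_mul_eq_one_right (sq1 v fb.left hv),
          inv_eq_of_mul_eq_one_right (sq1 w fb.mid hw)]
      rw [this, mul_inv_cancel_right, mul_inv_cancel]
      exact Z.one_mem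
  intro n
  obtain ⟨n₀, hn₀, hl⟩ := hcov n
  simpa using L.mul_mem (L.inv_mem (hNL hn₀)) hl

/-- The centraliser of a plane involution of the first factor in dimension four. -/
theorem cent_left_four (hk : k = 4) {a a' : Fin k → F} (q : Pl J a a') {g : GL (Ix τ k) F} (hg : g ∈ M)
    (hz : g.1 * el i (pl J a a') 1 = el i (pl J a a') 1 * g.1) : Mono g.1 := by
  have h := C.frm
  obtain ⟨e, e', fa⟩ := exists_fr4 h hk q
  rcases fa.square_plane C.nsq with hs | hs
  · obtain ⟨s, hs0, hsc⟩ := exists_equal_values fa.left hs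
    refine C.cent_frame (fa.swap.smul_last hs0) hsc hg ?_
    rw [fa.pl_neg, C.pr.el_neg_left, Matrix.mul_neg, Matrix.neg_mul, hz]
  · obtain ⟨s, hs0, hsc⟩ := exists_equal_values fa.right hs
    exact C.cent_frame (fa.smul_last hs0) hsc hg hz

end Ctx2

end CfsgLib.Classical.TensorWreathOrth.Two
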