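import Cfsg.Agent.Lib.Classical.TensorWreathOrth.TwoFourOne

set_option autoImplicit false
set_option linter.unusedSectionVars false

/-!
Dimension four: the centraliser of two plane involutions of different factors is monomial.
-/

namespace CfsgLib.Classical.TensorWreathOrth.Two

open Matrix CfsgLib.Classical.TensorWreath
open CfsgLib.Classical.TensorWreathOrth
open scoped MatrixGroups

variable {F : Type*} [Field F] [Finite F] {τ : Type} [Fintype τ] [DecidableEq τ] {k : ℕ}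
  {J : Matrix (Fin k) (Fin k) F}

namespace Fr4

variable {a a' e e' : Fin k → F} (f : Fr4 J a a' e e')
include f

/-- The normalised square of a similitude keeping the planes. -/
theorem square_rot {A : Matrix (Fin k) (Fin k) F} {μ : F} (hA : IsSim J A μ) (hc : A * pl J a a' = pl J a a' * A) :
    IsSim J (μ⁻¹ • (A * A)) 1 ∧ μ⁻¹ • (A * A) * pl J a a' = pl J a a' * (μ⁻¹ • (A * A)) ∧
      (f.blk (μ⁻¹ • (A * A))).det = 1 := by
  have hμ := hA.1
  have hAA : A * A * pl J a a' = pl J a a' * (A * A) := by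
    rw [Matrix.mul_assoc, hc, ← Matrix.mul_assoc, hc, Matrix.mul_assoc]
  refine ⟨?_, by rw [Matrix.smul_mul, Matrix.mul_smul, hAA], ?_⟩
  · have := (hA.mul hA).smul (inv_ne_zero hμ)
    rwa [show μ⁻¹ * μ⁻¹ * (μ * μ) = 1 by field_simp] at this
  · have e : μ⁻¹ • (A * A) = (μ⁻¹ • 1) * (A * A) := by rw [Matrix.smul_mul, Matrix.one_mul]
    have hone : (μ⁻¹ • (1 : Matrix (Fin k) (Fin k) F)) * (μ • 1) = 1 := by
      rw [Matrix.smul_mul, Matrix.one_mul, smul_smul, inv_mul_cancel₀ hμ, one_smul]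
    have h1 : ((μ : F) • (1 : Matrix (Fin k) (Fin k) F)) * pl J a a' = pl J a a' * (μ • 1) := by
      rw [Matrix.smul_mul, Matrix.mul_smul, Matrix.one_mul, Matrix.mul_one]
    rw [e, f.blk_mul _ hAA, f.blk_mul _ hc, Matrix.det_mul, Matrix.det_mul, f.blk_det_sq hA hc, ← Matrix.det_mul,
      ← f.blk_mul _ h1, hone, f.blk_one, Matrix.det_one]

/-- The commutator of a similitude keeping the planes with a plane involution through both. -/
theorem comm_rot {A : Matrix (Fin k) (Fin k) F} {μ : F} (hA : IsSim J A μ) (hc : A * pl J a a' = pl J a a' * A) :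
    IsSim J (pl J (A *ᵥ a) (A *ᵥ e) * pl J a e) 1 ∧
      pl J (A *ᵥ a) (A *ᵥ e) * pl J a e * pl J a a' = pl J a a' * (pl J (A *ᵥ a) (A *ᵥ e) * pl J a e) ∧
      (f.blk (pl J (A *ᵥ a) (A *ᵥ e) * pl J a e)).det = 1 := by
  have h := f.frm
  have hX : pl J a e * pl J a a' = pl J a a' * pl J a e := by
    rw [pl_mul_pl h f.mid, pl_mul_pl h f.left, rot_comm_orth h f.ea']
  obtain ⟨B, hB⟩ : ∃ B, B = A⁻¹ := ⟨_, rfl⟩
  have hdA : IsUnit A.det := (hA.det_ne_zero h).isUnit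
  have hAB : A * B = 1 := hB ▸ Matrix.mul_nonsing_inv _ hdA
  have hBA : B * A = 1 := hB ▸ Matrix.nonsing_inv_mul _ hdA
  have hBc : B * pl J a a' = pl J a a' * B := by
    calc B * pl J a a' = B * (pl J a a' * (A * B)) := by rw [hAB, Matrix.mul_one]
      _ = B * (A * pl J a a' * B) := by rw [hc, Matrix.mul_assoc]
      _ = pl J a a' * B := by rw [← Matrix.mul_assoc, ← Matrix.mul_assoc, hBA, Matrix.one_mul]
  have eA' : pl J (A *ᵥ a) (A *ᵥ e) = A * pl J a e * B := by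
    rw [hA.pl, Matrix.mul_assoc, hAB, Matrix.mul_one]
  have hXc : A * pl J a e * B * pl J a a' = pl J a a' * (A * pl J a e * B) := by
    rw [Matrix.mul_assoc, hBc, Matrix.mul_assoc A, ← Matrix.mul_assoc (pl J a e), hX, Matrix.mul_assoc (pl J a a'),
      ← Matrix.mul_assoc A, hc, Matrix.mul_assoc, ← Matrix.mul_assoc A]
  refine ⟨?_, ?_, ?_⟩
  · have := (isSim_pl h (hA.map_pl f.mid)).mul (isSim_pl h f.mid)
    rwa [one_mul] at this
  · rw [eA', Matrix.mul_assoc (A * pl J a e * B), hX, ← Matrix.mul_assoc, hXc, Matrix.mul_assoc]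
  · rw [eA', f.blk_mul _ hX, f.blk_mul _ hBc, f.blk_mul _ hX, Matrix.det_mul, Matrix.det_mul, Matrix.det_mul]
    have h1 : (f.blk A).det * (f.blk B).det = 1 := by
      rw [← Matrix.det_mul, ← f.blk_mul _ hBc, hAB, f.blk_one, Matrix.det_one]
    have h2 : (f.blk (pl J a e)).det * (f.blk (pl J a e)).det = 1 := by
      rw [← Matrix.det_mul, ← f.blk_mul _ hX, pl_mul_self h f.mid, f.blk_one, Matrix.det_one]
    linear_combination (f.blk (pl J a e)).det * (f.blk (pl J a e)).det * h1 + h2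

end Fr4

namespace Ctx2

variable {M : Subgroup (GL (Ix τ k) F)} {i l : τ} (C : Ctx2 J M i l)
include C

/-- An element of one factor keeping both planes lies in any group containing their rotations. -/
theorem rot_pair {a a' e e' : Fin k → F} (f : Fr4 J a a' e e') (Z : Subgroup (GL (Ix τ k) F))
    (hZ : ∀ t ∈ M, ∀ S, f.PlRot S → t.1 = el i S 1 → t ∈ Z) {m : GL (Ix τ k) F} (hm : m ∈ M)
    {A : Matrix (Fin k) (Fin k) F} (em : m.1 = el i A 1) (hA : IsSim J A 1)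
    (hc : A * pl J a a' = pl J a a' * A) (hd : (f.blk A).det = 1) : m ∈ Z := by
  have h := C.frm
  have hdA : A.det = 1 := by
    have := C.toEnv.det_eq_of_om hA isSim_one (C.le hm) em
    rwa [Matrix.det_one] at this
  have hd' : (f.swap.blk A).det = 1 := by
    have h1 := congrArg Matrix.det (f.blk_split hc)
    rw [hdA, Matrix.det_mul, hd, one_mul] at h1
    exact h1.symm
  have hc' : A * pl J e e' = pl J e e' * A := by rw [f.pl_neg, Matrix.mul_neg, Matrix.neg_mul, hc]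
  have r1 := f.blk_rot hA hc hd
  have r2 := f.plRot_swap.1 (f.swap.blk_rot hA hc' hd')
  obtain ⟨t1, ht1, e1⟩ := C.exists_el r1.1 isSim_one (by rw [r1.2.1, Matrix.det_one])
  obtain ⟨t2, ht2, e2⟩ := C.exists_el r2.1 isSim_one (by rw [r2.2.1, Matrix.det_one])
  have : m = t1 * t2 := Units.ext (by rw [em, Units.val_mul, e1, e2, el_mul, Matrix.one_mul, ← f.blk_split hc])
  rw [this]
  exact Z.mul_mem (hZ _ ht1 _ r1 e1) (hZ _ ht2 _ r2 e2)

theorem conj_of_el {A B : Matrix (Fin k) (Fin k) F} {μ : F} (hA : IsSim J A μ) {g : GL (Ix τ k) F}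
    (e : g.1 = el i A B) (c d : Fin k → F) :
    g.1 * el i (pl J c d) 1 * (g⁻¹).1 = el i (pl J (A *ᵥ c) (A *ᵥ d)) 1 := by
  have h1 : g.1 * el i (pl J c d) 1 = el i (pl J (A *ᵥ c) (A *ᵥ d)) 1 * g.1 := by
    rw [e, el_mul, el_mul, hA.pl, Matrix.mul_one, Matrix.one_mul]
  rw [h1, Matrix.mul_assoc, g.mul_inv, Matrix.mul_one]

set_option maxHeartbeats 400000 in
/-- The common centraliser of plane involutions of the two factors. -/
theorem cent_five {a a' e e' b c d o : Fin k → F} (fa : Fr4 J a a' e e') (hqa : bf J e' e' = bf J e e)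
    (fb : Fr4 J b c d o) (hbc : bf J c c = bf J b b) {g : GL (Ix τ k) F} (hg : g ∈ M)
    (hz : g.1 * el i (pl J a a') 1 = el i (pl J a a') 1 * g.1)
    (hr : g.1 * el i 1 (pl J b c) = el i 1 (pl J b c) * g.1) : Mono g.1 := by
  classical
  haveI := C.toEnv.neZero
  have h := C.frm
  have p := C.pr
  obtain ⟨zP, hzP, ezP⟩ := C.exists_pl_left fa.left
  obtain ⟨zR, hzR, ezR⟩ := C.exists_el isSim_one (isSim_pl h fb.left) (by rw [Matrix.det_one, C.det_pl fb.left])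
  obtain ⟨K, hK⟩ : ∃ K, K = (M ⊓ Subgroup.centralizer {zP}) ⊓ (M ⊓ Subgroup.centralizer {zR}) := ⟨_, rfl⟩
  have memK : ∀ n, n ∈ K ↔ n ∈ M ∧ n.1 * el i (pl J a a') 1 = el i (pl J a a') 1 * n.1 ∧
      n.1 * el i 1 (pl J b c) = el i 1 (pl J b c) * n.1 := fun n => by
    rw [hK, Subgroup.mem_inf, C.mem_cent ezP, C.mem_cent ezR]
    tauto
  obtain ⟨L, hL⟩ : ∃ L, L = C.monoSub.subgroupOf K := ⟨_, rfl⟩
  have memL : ∀ n : K, n ∈ L ↔ Mono (n : GL (Ix τ k) F).1 := fun n => by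
    rw [hL, Subgroup.mem_subgroupOf, C.mem_monoSub]
    exact and_iff_right ((memK _).1 n.2).1
  suffices ∀ n : K, n ∈ L from (memL ⟨g, (memK g).2 ⟨hg, hz, hr⟩⟩).1 (this _)
  obtain ⟨x₀, hx₀, ex₀⟩ := C.exists_pl_left fa.mid
  obtain ⟨x₁, hx₁, ex₁⟩ := C.exists_el isSim_one (isSim_pl h fb.mid) (by rw [Matrix.det_one, C.det_pl fb.mid])
  have cA : pl J a e * pl J a a' = pl J a a' * pl J a e := by
    rw [pl_mul_pl h fa.mid, pl_mul_pl h fa.left, rot_comm_orth h fa.ea']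
  have cB : pl J b d * pl J b c = pl J b c * pl J b d := by
    rw [pl_mul_pl h fb.mid, pl_mul_pl h fb.left, rot_comm_orth h fb.ea']
  obtain ⟨x, hx⟩ : ∃ x : K, (x : GL (Ix τ k) F) = x₀ := ⟨⟨x₀, (memK _).2 ⟨hx₀,
    by rw [ex₀, el_mul, el_mul, cA], by rw [ex₀, el_mul, el_mul, Matrix.mul_one, Matrix.one_mul, Matrix.one_mul,
      Matrix.mul_one]⟩⟩, rfl⟩
  obtain ⟨x', hx'⟩ : ∃ x' : K, (x' : GL (Ix τ k) F) = x₁ := ⟨⟨x₁, (memK _).2 ⟨hx₁,
    by rw [ex₁, el_mul, el_mul, Matrix.mul_one, Matrix.one_mul, Matrix.one_mul, Matrix.mul_one],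
    by rw [ex₁, el_mul, el_mul, cB]⟩⟩, rfl⟩
  -- the group of rotations
  obtain ⟨S, hS⟩ : ∃ S : Set K, S = {t : K | (∃ U, fa.PlRot U ∧ (t : GL (Ix τ k) F).1 = el i U 1) ∨
      ∃ T, fb.PlRot T ∧ (t : GL (Ix τ k) F).1 = el i 1 T} := ⟨_, rfl⟩
  obtain ⟨Z, hZ⟩ : ∃ Z, Z = Subgroup.closure S := ⟨_, rfl⟩
  have hconj : ∀ n : K, ∀ t ∈ S, n * t * n⁻¹ ∈ S ∧ (n * t * n⁻¹ = t ∨ n * t * n⁻¹ = t⁻¹) := by
    intro n t ht
    obtain ⟨hnM, hn1, hn2⟩ := (memK _).1 n.2
    obtain ⟨htM, -, -⟩ := (memK _).1 t.2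
    rw [hS] at ht ⊢
    rcases ht with ⟨U, hU, et⟩ | ⟨T, hT, et⟩
    · obtain ⟨U', hU', e', hor⟩ := C.conj_rot_left fa hnM htM hn1 hU et
      refine ⟨Or.inl ⟨U', hU', e'⟩, hor.imp (fun e0 => ?_) fun e0 => ?_⟩
      · refine Subtype.ext (Units.ext ?_)
        show ((n : GL (Ix τ k) F) * t * (n : GL (Ix τ k) F)⁻¹).1 = _
        rw [e', e0, et]
      · refine eq_inv_of_mul_eq_one_left (Subtype.ext (Units.ext ?_))
        show ((n : GL (Ix τ k) F) * t * (n : GL (Ix τ k) F)⁻¹).1 * (t : GL (Ix τ k) F).1 = 1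
        rw [e', et, el_mul, e0, Matrix.mul_one, el_one]
    · rw [← p.el_swap] at et hn2
      obtain ⟨T', hT', e', hor⟩ := C.symm.conj_rot_left fb hnM htM hn2 hT et
      refine ⟨Or.inr ⟨T', hT', by rw [← p.el_swap]; exact e'⟩, hor.imp (fun e0 => ?_) fun e0 => ?_⟩
      · refine Subtype.ext (Units.ext ?_)
        show ((n : GL (Ix τ k) F) * t * (n : GL (Ix τ k) F)⁻¹).1 = _
        rw [e', e0, et]
      · refine eq_inv_of_mul_eq_one_left (Subtype.ext (Units.ext ?_))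
        show ((n : GL (Ix τ k) F) * t * (n : GL (Ix τ k) F)⁻¹).1 * (t : GL (Ix τ k) F).1 = 1
        rw [e', et, el_mul, e0, Matrix.mul_one, el_one]
  haveI hZn : Z.Normal := ⟨fun z hz n => by
    rw [hZ] at hz ⊢
    induction hz using Subgroup.closure_induction with
    | mem t ht => exact Subgroup.subset_closure (hconj n t ht).1
    | one => rw [mul_one, mul_inv_cancel]; exact Subgroup.one_mem _
    | mul u v _ _ hu hv => rw [show n * (u * v) * n⁻¹ = n * u * n⁻¹ * (n * v * n⁻¹) by group]; exact mul_mem hu hv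
    | inv u _ hu => rw [show n * u⁻¹ * n⁻¹ = (n * u * n⁻¹)⁻¹ by group]; exact inv_mem hu⟩
  have hScomm : ∀ s ∈ S, ∀ t ∈ S, s * t = t * s := by
    intro s hs t ht
    refine Subtype.ext (Units.ext ?_)
    show (s : GL (Ix τ k) F).1 * (t : GL (Ix τ k) F).1 = (t : GL (Ix τ k) F).1 * (s : GL (Ix τ k) F).1
    rw [hS] at hs ht
    rcases hs with ⟨U, hU, es⟩ | ⟨T, hT, es⟩ <;> rcases ht with ⟨U', hU', et⟩ | ⟨T', hT', et⟩ <;>
      rw [es, et, el_mul, el_mul]
    · rw [fa.PlRot_comm hU hU']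
    · simp only [Matrix.mul_one, Matrix.one_mul]
    · simp only [Matrix.mul_one, Matrix.one_mul]
    · rw [fb.PlRot_comm hT hT']
  have hSZ : ∀ s ∈ S, ∀ z ∈ Z, z * s = s * z := by
    intro s hs z hz
    rw [hZ] at hz
    induction hz using Subgroup.closure_induction with
    | mem t ht => exact hScomm t ht s hs
    | one => rw [one_mul, mul_one]
    | mul u v _ _ hu hv => exact (Commute.mul_left hu hv).eq
    | inv u _ hu => exact (Commute.inv_left hu).eq
  have hZab : ∀ u ∈ Z, ∀ v ∈ Z, u * v = v * u := by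
    intro u hu v hv
    rw [hZ] at hv
    induction hv using Subgroup.closure_induction with
    | mem t ht => exact hSZ t ht u hu
    | one => rw [one_mul, mul_one]
    | mul r s _ _ hr hs => exact (Commute.mul_right hr hs).eq
    | inv r _ hr => exact (Commute.inv_right hr).eq
  have hZL : Z ≤ L := by
    rw [hZ, Subgroup.closure_le]
    intro t ht
    rw [SetLike.mem_coe, memL]
    rw [hS] at ht
    rcases ht with ⟨U, -, et⟩ | ⟨T, -, et⟩ <;> (rw [et]; exact mono_el _ _)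
  have hxL : x ∈ L := (memL _).2 (by rw [hx, ex₀]; exact mono_el _ _)
  have hx'L : x' ∈ L := (memL _).2 (by rw [hx', ex₁]; exact mono_el _ _)
  have hx2 : x * x = 1 := Subtype.ext (Units.ext (by
    show (x : GL (Ix τ k) F).1 * (x : GL (Ix τ k) F).1 = 1
    rw [hx, ex₀, el_mul, pl_mul_self h fa.mid, Matrix.mul_one, el_one]))
  have hx'2 : x' * x' = 1 := Subtype.ext (Units.ext (by
    show (x' : GL (Ix τ k) F).1 * (x' : GL (Ix τ k) F).1 = 1
    rw [hx', ex₁, el_mul, pl_mul_self h fb.mid, Matrix.mul_one, el_one]))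
  have h1 : ∀ n : K, n * x * n⁻¹ ∈ L → n ∈ L := by
    intro n hn
    obtain ⟨hnM, hn1, hn2⟩ := (memK _).1 n.2
    rw [memL] at hn ⊢
    refine C.one_five fa hqa fb hbc hnM hn1 hn2 ?_
    rw [← C.val_conj _ _ ex₀, ← hx]
    exact hn
  have h1' : ∀ n : K, n * x' * n⁻¹ ∈ L → n ∈ L := by
    intro n hn
    obtain ⟨hnM, hn1, hn2⟩ := (memK _).1 n.2
    rw [memL] at hn ⊢
    obtain ⟨s, hs, hsb⟩ := exists_equal_values fb.left ⟨bf J b b, by rw [hbc]⟩
    refine C.symm.one_five (a := d) (a' := o) (e := b) (e' := c) fb.swap hbc (b := e) (c := e') (d := a) (o := a')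
      fa.swap hqa hnM ?_ ?_ ?_
    · rw [p.el_swap, fb.pl_neg, p.el_neg_right, Matrix.mul_neg, Matrix.neg_mul, hn2]
    · rw [p.el_swap, fa.pl_neg, p.el_neg_left, Matrix.mul_neg, Matrix.neg_mul, hn1]
    · rw [p.el_swap, pl_comm h (fb.mid.symm h), ← C.val_conj _ _ ex₁, ← hx']
      exact hn
  have hmemS : ∀ (t : GL (Ix τ k) F) (U : Matrix (Fin k) (Fin k) F), t ∈ M → fa.PlRot U → t.1 = el i U 1 →
      t ∈ Z.map K.subtype := by
    intro t U htM hU et
    have htK : t ∈ K := (memK _).2 ⟨htM, by rw [et, el_mul, el_mul, fa.PlRot_comm_plane hU],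
      by rw [et, el_mul, el_mul, Matrix.mul_one, Matrix.one_mul, Matrix.one_mul, Matrix.mul_one]⟩
    exact ⟨⟨t, htK⟩, hZ ▸ Subgroup.subset_closure (hS ▸ Or.inl ⟨U, hU, et⟩), rfl⟩
  have hmemT : ∀ (t : GL (Ix τ k) F) (T : Matrix (Fin k) (Fin k) F), t ∈ M → fb.PlRot T → t.1 = el l T 1 →
      t ∈ Z.map K.subtype := by
    intro t T htM hT et
    rw [p.el_swap] at et
    have htK : t ∈ K := (memK _).2 ⟨htM,
      by rw [et, el_mul, el_mul, Matrix.mul_one, Matrix.one_mul, Matrix.one_mul, Matrix.mul_one],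
      by rw [et, el_mul, el_mul, fb.PlRot_comm_plane hT]⟩
    exact ⟨⟨t, htK⟩, hZ ▸ Subgroup.subset_closure (hS ▸ Or.inr ⟨T, hT, et⟩), rfl⟩
  have data : ∀ n : K, n ∈ L → ∃ A B μ, IsSim J A μ ∧ IsSim J B μ⁻¹ ∧ (n : GL (Ix τ k) F).1 = el i A B ∧
      A * pl J a a' = pl J a a' * A ∧ B * pl J b c = pl J b c * B := by
    intro n hn
    obtain ⟨hnM, hn1, hn2⟩ := (memK _).1 n.2
    obtain ⟨A, B, μ, hA, hB, en, hAP⟩ := C.el_of_comm (C.iso_mem hnM) ((memL _).1 hn) fa.left hn1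
    refine ⟨A, B, μ, hA, hB, en, hAP, ?_⟩
    rw [en, el_mul, el_mul, Matrix.mul_one, Matrix.one_mul] at hn2
    exact p.el_right_cancel hn2 (hA.ne_zero h) ((hB.mul (isSim_pl h fb.left)).ne_zero h)
  have mem_of_map : ∀ n : K, (n : GL (Ix τ k) F) ∈ Z.map K.subtype → n ∈ Z := by
    rintro n ⟨z, hz, e0⟩
    rwa [← Subtype.ext e0]
  have h2 : ∀ n ∈ L, n * x * n⁻¹ * x⁻¹ ∈ Z := by
    intro n hn
    obtain ⟨A, B, μ, hA, hB, en, hAP, -⟩ := data n hn
    obtain ⟨hnM, -, -⟩ := (memK _).1 n.2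
    obtain ⟨c1, c2, c3⟩ := fa.comm_rot hA hAP
    refine mem_of_map _ (C.rot_pair fa _ (fun t ht U hU et => hmemS t U ht hU et) ((memK _).1 (n * x * n⁻¹ * x⁻¹).2).1
      (A := pl J (A *ᵥ a) (A *ᵥ e) * pl J a e) ?_ c1 c2 c3)
    show ((n : GL (Ix τ k) F) * x * (n : GL (Ix τ k) F)⁻¹ * (x : GL (Ix τ k) F)⁻¹).1 = _
    rw [hx, inv_eq_of_mul_eq_one_right (a := x₀) (b := x₀) (by rw [← hx]; exact congrArg Subtype.val hx2),
      Units.val_mul, C.val_conj _ _ ex₀, C.conj_of_el hA en, ex₀, el_mul, Matrix.mul_one]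
  have hsq : ∀ n ∈ L, n * n ∈ Z := by
    intro n hn
    obtain ⟨A, B, μ, hA, hB, en, hAP, hBR⟩ := data n hn
    obtain ⟨a1, a2, a3⟩ := fa.square_rot hA hAP
    obtain ⟨b1, b2, b3⟩ := fb.square_rot hB hBR
    rw [inv_inv] at b1 b2 b3
    have hd : (μ⁻¹ • (A * A)).det = 1 ∧ (μ • (B * B)).det = 1 := by
      have e1 : fa.swap.blk (μ⁻¹ • (A * A)) = fa.swap.blk (μ⁻¹ • (A * A)) := rfl
      have hA' : A * pl J e e' = pl J e e' * A := by rw [fa.pl_neg, Matrix.mul_neg, Matrix.neg_mul, hAP]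
      have hB' : B * pl J d o = pl J d o * B := by rw [fb.pl_neg, Matrix.mul_neg, Matrix.neg_mul, hBR]
      obtain ⟨-, -, a4⟩ := fa.swap.square_rot hA hA'
      obtain ⟨-, -, b4⟩ := fb.swap.square_rot hB hB'
      rw [inv_inv] at b4
      exact ⟨by rw [fa.blk_split a2, Matrix.det_mul, a3, a4, one_mul],
        by rw [fb.blk_split b2, Matrix.det_mul, b3, b4, one_mul]⟩
    obtain ⟨t1, ht1, e1⟩ := C.exists_el a1 isSim_one (by rw [hd.1, Matrix.det_one])
    obtain ⟨t2, ht2, e2⟩ := C.exists_el isSim_one b1 (by rw [hd.2, Matrix.det_one])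
    refine mem_of_map _ ?_
    have e0 : ((n * n : K) : GL (Ix τ k) F) = t1 * t2 := Units.ext (by
      show (n : GL (Ix τ k) F).1 * (n : GL (Ix τ k) F).1 = _
      rw [en, el_mul, Units.val_mul, e1, e2, el_mul, Matrix.mul_one, Matrix.one_mul, p.el_smul_left, p.el_smul_right,
        smul_smul, inv_mul_cancel₀ hA.1, one_smul])
    rw [e0]
    refine mul_mem (C.rot_pair fa _ (fun t ht U hU et => hmemS t U ht hU et) ht1 e1 a1 a2 a3) ?_
    exact C.symm.rot_pair fb _ (fun t ht T hT et => hmemT t T ht hT et) ht2 (by rw [p.el_swap]; exact e2) b1 b2 b3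
  have hxZ : x ∉ Z := by
    intro hc
    have hrot : fa.PlRot (qtr J e e') := ⟨(qtr_spec h fa.right hqa).2.1, det_qtr h C.even fa.right hqa,
      Or.inl ⟨fa.swap.qtr_e hqa, fa.swap.qtr_e' hqa⟩⟩
    obtain ⟨t, ht, et⟩ := C.exists_el hrot.1 isSim_one (by rw [hrot.2.1, Matrix.det_one])
    obtain ⟨z, hz, ez⟩ := hmemS t _ ht hrot et
    have h3 := congrArg (fun n : K => (n : GL (Ix τ k) F).1) (hZab x hc z hz)
    simp only [Subgroup.coe_mul, Units.val_mul, hx, ex₀] at h3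
    rw [show (z : GL (Ix τ k) F).1 = el i (qtr J e e') 1 by rw [← et]; exact congrArg Units.val ez, el_mul, el_mul,
      fa.mid_flip hqa, Matrix.mul_one] at h3
    have h4 := p.el_left_cancel h3
      (((isSim_rot h fa.qa).mul (isSim_rot h fa.qa)).mul (isSim_pl h fa.right) |>.ne_zero h |> fun _ =>
        ((((qtr_spec h fa.right hqa).2.1.mul (isSim_pl h fa.right)).mul (isSim_pl h fa.mid)).ne_zero h)) one_ne_zero
    have h5 := congrArg (fun V => bf J e' (V *ᵥ e)) h4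
    simp only [← Matrix.mulVec_mulVec, fa.swap.pl_a, fa.mix.pl_a', Matrix.mulVec_neg, fa.swap.qtr_a hqa,
      neg_neg] at h5
    rw [← neg_one_smul F e', bf_smul_right] at h5
    exact mul_ne_zero h.two fa.qe' (by linear_combination -h5)
  -- the normal subgroup of odd index over the rotations
  obtain ⟨N, hN, hZN, hodd, hcov⟩ := exists_core L Z hZL hxL hx2 hxZ h1 h2
  haveI := hN
  have inN : ∀ n ∈ N, n ∈ L → n ∈ Z := by
    intro n hn hnL
    obtain ⟨m, ⟨r, hr'⟩, hmz⟩ := hodd n hn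
    have h5 : (n * n) ^ r * n ∈ Z := by rwa [← pow_two, ← pow_mul, ← pow_succ, ← hr']
    simpa using Z.mul_mem (Z.inv_mem (Z.pow_mem (hsq n hnL) r)) h5
  have fixone : ∀ y : K, y ∈ L → y * y = 1 → (∀ n, n * y * n⁻¹ ∈ L → n ∈ L) →
      ∀ n ∈ N, y * n * y⁻¹ * n⁻¹ ∈ Z → n ∈ Z := by
    intro y hy hy2 hy1 n hn hyn
    refine inN n hn (hy1 n ?_)
    have e0 : n * y * n⁻¹ = y * (y * n * y⁻¹ * n⁻¹) := by
      rw [inv_eq_of_mul_eq_one_right hy2, ← mul_assoc, ← mul_assoc, ← mul_assoc, hy2, one_mul]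
    rw [e0]
    exact L.mul_mem hy (hZL hyn)
  have invx := inverts Z N hx2 (fixone x hxL hx2 h1)
  have invx' := inverts Z N hx'2 (fixone x' hx'L hx'2 h1')
  obtain ⟨ζ, hζ⟩ : ∃ ζ, ζ = x * x' := ⟨_, rfl⟩
  have hxx : x * x' = x' * x := Subtype.ext (Units.ext (by
    show (x : GL (Ix τ k) F).1 * (x' : GL (Ix τ k) F).1 = (x' : GL (Ix τ k) F).1 * (x : GL (Ix τ k) F).1
    rw [hx, hx', ex₀, ex₁, el_mul, el_mul, Matrix.mul_one, Matrix.one_mul, Matrix.one_mul, Matrix.mul_one]))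
  have hζ2 : ζ * ζ = 1 := by
    rw [hζ, mul_assoc, ← mul_assoc x', ← hxx, mul_assoc, hx'2, mul_one, hx2]
  have hζv : (ζ : GL (Ix τ k) F).1 = el i (pl J a e) (pl J b d) := by
    rw [hζ]
    show (x : GL (Ix τ k) F).1 * (x' : GL (Ix τ k) F).1 = _
    rw [hx, hx', ex₀, ex₁, el_mul, Matrix.mul_one, Matrix.one_mul]
  have hinv : ∀ z ∈ Z, ζ * z * ζ⁻¹ = z⁻¹ := by
    intro z hz
    rw [hZ] at hz
    induction hz using Subgroup.closure_induction with
    | mem t ht =>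
      refine eq_inv_of_mul_eq_one_left (Subtype.ext (Units.ext ?_))
      show (ζ : GL (Ix τ k) F).1 * (t : GL (Ix τ k) F).1 * ((ζ⁻¹ : K) : GL (Ix τ k) F).1 *
        (t : GL (Ix τ k) F).1 = 1
      rw [inv_eq_of_mul_eq_one_right hζ2, hζv]
      rw [hS] at ht
      rcases ht with ⟨U, hU, et⟩ | ⟨T, hT, et⟩ <;> rw [et, el_mul, el_mul, el_mul]
      · rw [fa.PlRot_flip hU, Matrix.mul_one, Matrix.mul_one, pl_mul_self h fb.mid, el_one]
      · rw [fb.PlRot_flip hT, Matrix.mul_one, Matrix.mul_one, pl_mul_self h fa.mid, el_one]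
    | one => rw [mul_one, mul_inv_cancel, inv_one]
    | mul u v hu' hv' hu hv =>
      rw [show ζ * (u * v) * ζ⁻¹ = ζ * u * ζ⁻¹ * (ζ * v * ζ⁻¹) by group, hu, hv, ← _root_.mul_inv_rev,
        hZab u (hZ ▸ hu') v (hZ ▸ hv')]
    | inv u _ hu => rw [show ζ * u⁻¹ * ζ⁻¹ = (ζ * u * ζ⁻¹)⁻¹ by group, hu]
  have centS : ∀ n ∈ N, ∀ t ∈ S, n * t * n⁻¹ = t := by
    intro n hn t ht
    rcases (hconj n t ht).2 with e0 | e0
    · exact e0
    obtain ⟨m, ⟨r, hr'⟩, hmz⟩ := hodd n hn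
    have h2n : Commute (n * n) t := by
      refine mul_inv_eq_iff_eq_mul.1 ?_
      rw [show n * n * t * (n * n)⁻¹ = n * (n * t * n⁻¹) * n⁻¹ by group, e0,
        show n * t⁻¹ * n⁻¹ = (n * t * n⁻¹)⁻¹ by group, e0, inv_inv]
    have hmt : n ^ m * t = t * n ^ m := hSZ t ht _ hmz
    have e1 : n ^ m = (n * n) ^ r * n := by rw [hr', pow_succ, pow_mul, pow_two]
    rw [e1] at hmt
    have h6 : (n * n) ^ r * (n * t) = (n * n) ^ r * (t * n) := by
      rw [← mul_assoc, hmt, ← mul_assoc, ← (h2n.pow_left r).eq, mul_assoc]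
    exact mul_inv_eq_iff_eq_mul.2 (mul_left_cancel h6)
  have allN : ∀ n ∈ N, n ∈ Z := by
    intro n hn
    have hn2 : ∀ z ∈ Z, z * n = n * z := by
      intro z hz
      rw [hZ] at hz
      induction hz using Subgroup.closure_induction with
      | mem t ht => exact (mul_inv_eq_iff_eq_mul.1 (centS n hn t ht)).symm
      | one => rw [one_mul, mul_one]
      | mul u v _ _ hu hv => exact (Commute.mul_left hu hv).eq
      | inv u _ hu => exact (Commute.inv_left hu).eq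
    obtain ⟨t, ht, htv⟩ : ∃ t ∈ Z, ζ * n * ζ⁻¹ = t * n := by
      refine ⟨ζ * n * ζ⁻¹ * n⁻¹, ?_, by group⟩
      have a1 := invx' n hn
      have a2 := invx (x' * n * x'⁻¹) (hN.conj_mem n hn x')
      have : ζ * n * ζ⁻¹ * n⁻¹ = x * (x' * n * x'⁻¹) * x⁻¹ * (x' * n * x'⁻¹) * (n * (x' * n * x'⁻¹))⁻¹ := by
        rw [hζ]; group
      rw [this]
      refine Z.mul_mem a2 (Z.inv_mem ?_)
      have a3 := hZn.conj_mem _ a1 n
      rwa [show n * (x' * n * x'⁻¹ * n) * n⁻¹ = n * (x' * n * x'⁻¹) by group] at a3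
    obtain ⟨n₁, hn₁⟩ : ∃ n₁, n₁ = n * n * t := ⟨_, rfl⟩
    have hn₁N : n₁ ∈ N := hn₁ ▸ N.mul_mem (N.mul_mem hn hn) (hZN ht)
    have hfix : ζ * n₁ * ζ⁻¹ = n₁ := by
      rw [hn₁, show ζ * (n * n * t) * ζ⁻¹ = ζ * n * ζ⁻¹ * (ζ * n * ζ⁻¹) * (ζ * t * ζ⁻¹) by group, htv,
        hinv t ht, show t * n * (t * n) = t * (n * t) * n by group, ← hn2 t ht,
        show t * (t * n) * n * t⁻¹ = t * t * (n * n) * t⁻¹ by group]
      have c : Commute t (n * n) := (Commute.mul_right (hn2 t ht) (hn2 t ht))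
      calc t * t * (n * n) * t⁻¹ = t * ((n * n) * t) * t⁻¹ := by rw [mul_assoc t t, c.eq]
        _ = t * (n * n) := by group
        _ = n * n * t := c.eq
    obtain ⟨m, hm, hmz⟩ := hodd n₁ hn₁N
    have hm2 : (n₁ * n₁) ^ m = 1 := by
      have h5 : ζ * n₁ ^ m * ζ⁻¹ = n₁ ^ m := by rw [← conj_pow, hfix]
      rw [hinv _ hmz, inv_eq_iff_mul_eq_one] at h5
      rw [(Commute.refl n₁).mul_pow, h5]
    obtain ⟨hn2M, hn21, hn22⟩ := (memK _).1 (n₁ * n₁).2
    have hcomm2 : ζ * (n₁ * n₁) = n₁ * n₁ * ζ := by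
      have h5 := mul_inv_eq_iff_eq_mul.1 hfix
      exact (Commute.mul_right h5 h5).eq
    have hn12 : n₁ * n₁ = 1 := by
      refine Subtype.ext ?_
      refine C.odd_fix_one fa fb hn2M hn21 hn22 ?_ ?_ ?_ hm ?_
      · rw [← hζv, ← Units.val_mul, ← Units.val_mul, ← Subgroup.coe_mul, ← Subgroup.coe_mul, hcomm2]
      · intro U hU
        obtain ⟨s, hs, es⟩ := C.exists_el hU.1 isSim_one (by rw [hU.2.1, Matrix.det_one])
        obtain ⟨z, hz, ez⟩ := hmemS s U hs hU es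
        have hz2 : z * (n₁ * n₁) = n₁ * n₁ * z := by
          have : z * n₁ = n₁ * z := by
            rw [hn₁, ← mul_assoc, ← mul_assoc, hn2 z hz, mul_assoc n z n, hn2 z hz, ← mul_assoc, mul_assoc (n * n),
              hZab z hz t ht, ← mul_assoc]
          exact (Commute.mul_right this this).eq
        have h6 := congrArg (fun q : K => (q : GL (Ix τ k) F).1) hz2
        simp only [Subgroup.coe_mul, Units.val_mul] at h6
        rw [show (z : GL (Ix τ k) F).1 = el i U 1 by rw [← es]; exact congrArg Units.val ez] at h6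
        simp only [Subgroup.coe_mul, Units.val_mul]
        exact h6.symm
      · intro T hT
        obtain ⟨s, hs, es⟩ := C.exists_el isSim_one hT.1 (by rw [hT.2.1, Matrix.det_one])
        obtain ⟨z, hz, ez⟩ := hmemT s T hs hT (by rw [p.el_swap]; exact es)
        have hz2 : z * (n₁ * n₁) = n₁ * n₁ * z := by
          have : z * n₁ = n₁ * z := by
            rw [hn₁, ← mul_assoc, ← mul_assoc, hn2 z hz, mul_assoc n z n, hn2 z hz, ← mul_assoc, mul_assoc (n * n),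
              hZab z hz t ht, ← mul_assoc]
          exact (Commute.mul_right this this).eq
        have h6 := congrArg (fun q : K => (q : GL (Ix τ k) F).1) hz2
        simp only [Subgroup.coe_mul, Units.val_mul] at h6
        rw [show (z : GL (Ix τ k) F).1 = el i 1 T by rw [← es]; exact congrArg Units.val ez] at h6
        simp only [Subgroup.coe_mul, Units.val_mul]
        exact h6.symm
      · rw [← Subgroup.coe_pow, hm2, Subgroup.coe_one]
    have hn1Z : n₁ ∈ Z := by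
      obtain ⟨r, hr'⟩ := hm
      rw [hr', pow_succ, pow_mul, pow_two, hn12, one_pow, one_mul] at hmz
      exact hmz
    have hnn : n * n ∈ Z := by
      have := Z.mul_mem hn1Z (Z.inv_mem ht)
      rwa [hn₁, mul_inv_cancel_right] at this
    obtain ⟨m', ⟨r, hr'⟩, hmz'⟩ := hodd n hn
    have h5 : (n * n) ^ r * n ∈ Z := by rwa [← pow_two, ← pow_mul, ← pow_succ, ← hr']
    simpa using Z.mul_mem (Z.inv_mem (Z.pow_mem hnn r)) h5
  intro n
  obtain ⟨n₀, hn₀, hl⟩ := hcov n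
  simpa using L.mul_mem (L.inv_mem (hZL (allN n₀ hn₀))) hl

end Ctx2

end CfsgLib.Classical.TensorWreathOrth.Two
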