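import Cfsg.Agent.Lib.Classical.TensorWreathOrth.TwoFourCent

set_option autoImplicit false
set_option linter.unusedSectionVars false

/-!
Dimension four: no fusion of plane involutions of one factor with other monomial involutions, and the hypotheses of
the upper part.
-/

namespace CfsgLib.Classical.TensorWreathOrth.Two

open Matrix CfsgLib.Classical.TensorWreath
open CfsgLib.Classical.TensorWreathOrth
open scoped MatrixGroups commutatorElement

variable {F : Type*} [Field F] [Finite F] {τ : Type} [Fintype τ] [DecidableEq τ] {k : ℕ}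
  {J : Matrix (Fin k) (Fin k) F}

theorem IsSim.inv (h : Frm J) {A : Matrix (Fin k) (Fin k) F} {μ : F} (hA : IsSim J A μ) : IsSim J A⁻¹ μ⁻¹ := by
  have hu : IsUnit A.det := (hA.det_ne_zero h).isUnit
  refine ⟨inv_ne_zero hA.1, ?_⟩
  have h1 := congrArg (fun Z => (A⁻¹)ᵀ * Z * A⁻¹) hA.2
  have h2 : (A⁻¹)ᵀ * (Aᵀ * J * A) * A⁻¹ = J := by
    rw [Matrix.mul_assoc, Matrix.mul_assoc, Matrix.mul_nonsing_inv _ hu, Matrix.mul_one, ← Matrix.mul_assoc,
      ← Matrix.transpose_mul, Matrix.mul_nonsing_inv _ hu, Matrix.transpose_one, Matrix.one_mul]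
  simp only [h2, Matrix.mul_smul, Matrix.smul_mul] at h1
  calc (A⁻¹)ᵀ * J * A⁻¹ = μ⁻¹ • μ • ((A⁻¹)ᵀ * J * A⁻¹) := by rw [smul_smul, inv_mul_cancel₀ hA.1, one_smul]
    _ = μ⁻¹ • J := by rw [← h1]

theorem comm_nonsing_inv {A P : Matrix (Fin k) (Fin k) F} (hA : IsUnit A.det) (h : A * P = P * A) :
    A⁻¹ * P = P * A⁻¹ := by
  calc A⁻¹ * P = A⁻¹ * (P * (A * A⁻¹)) := by rw [Matrix.mul_nonsing_inv _ hA, Matrix.mul_one]
    _ = A⁻¹ * (A * P * A⁻¹) := by rw [h, Matrix.mul_assoc]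
    _ = P * A⁻¹ := by rw [← Matrix.mul_assoc, ← Matrix.mul_assoc, Matrix.nonsing_inv_mul _ hA, Matrix.one_mul]

theorem Fr4.blk_signs {a a' e e' : Fin k → F} (f : Fr4 J a a' e e') {A : Matrix (Fin k) (Fin k) F}
    (hA : IsSim J A 1) (hA2 : A * A = 1) (hc : A * pl J a a' = pl J a a' * A) (h1 : (f.blk A).det = 1)
    (h2 : (f.swap.blk A).det = 1) : A = 1 ∨ A = -1 ∨ A = pl J a a' ∨ A = -pl J a a' := by
  have one : ∀ {a a' e e' : Fin k → F} (f : Fr4 J a a' e e'), A * pl J a a' = pl J a a' * A → (f.blk A).det = 1 →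
      f.blk A = 1 ∨ f.blk A = pl J a a' := by
    intro a a' e e' f hc hd
    have hk : 2 ≤ k := by rw [f.dim]; omega
    obtain ⟨s1, -, h3⟩ := f.blk_rot hA hc hd
    refine pl_of_fix_plane f.frm hk f.left s1 (by rw [← f.blk_mul _ hc, hA2, f.blk_one]) hd (fun y g1 g2 => ?_)
    rw [f.expand y, pr_perp J g1, pr_perp J g2, add_zero, zero_add, Matrix.mulVec_add, pr_mulVec, pr_mulVec,
      Matrix.mulVec_smul, Matrix.mulVec_smul, (f.blk_mulVec A).2.2.1, (f.blk_mulVec A).2.2.2]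
  have hc' : A * pl J e e' = pl J e e' * A := by rw [f.pl_neg, Matrix.mul_neg, Matrix.neg_mul, hc]
  have e0 := f.blk_split hc
  rcases one f hc h1 with e1 | e1 <;> rcases one f.swap hc' h2 with e2 | e2 <;> rw [e1, e2] at e0
  · exact Or.inl (by rw [e0, Matrix.one_mul])
  · exact Or.inr (Or.inr (Or.inr (by rw [e0, Matrix.one_mul, f.pl_neg])))
  · exact Or.inr (Or.inr (Or.inl (by rw [e0, Matrix.mul_one])))
  · exact Or.inr (Or.inl (by rw [e0, f.pl_neg, Matrix.mul_neg, pl_mul_self f.frm f.left]))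

namespace Ctx2

variable {M : Subgroup (GL (Ix τ k) F)} {i l : τ} (C : Ctx2 J M i l)
include C

set_option maxHeartbeats 400000 in
/-- A perfect group centralising a plane of one factor acts on the other factor only. -/
theorem derived_right (hcore : Core J) {a a' e e' : Fin k → F} (f : Fr4 J a a' e e')
    (W : Subgroup (GL (Ix τ k) F)) (hW : ⁅W, W⁆ = W) (hWM : W ≤ M)
    (hc : ∀ t ∈ W, t.1 * el i (pl J a a') 1 = el i (pl J a a') 1 * t.1) {t : GL (Ix τ k) F} (ht : t ∈ W) :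
    ∃ B, t.1 = el i 1 B := by
  classical
  haveI := C.toEnv.neZero
  have h := C.frm
  have p := C.pr
  obtain ⟨zP, hzP, ezP⟩ := C.exists_pl_left f.left
  obtain ⟨C', hC'⟩ : ∃ C', C' = M ⊓ Subgroup.centralizer {zP} := ⟨_, rfl⟩
  have memC : ∀ n, n ∈ C' ↔ n ∈ M ∧ n.1 * el i (pl J a a') 1 = el i (pl J a a') 1 * n.1 := fun n => by
    rw [hC', C.mem_cent ezP]
  have data : ∀ n ∈ C', ∃ A B μ, IsSim J A μ ∧ IsSim J B μ⁻¹ ∧ n.1 = el i A B ∧
      A * pl J a a' = pl J a a' * A := by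
    intro n hn
    obtain ⟨hnM, hn1⟩ := (memC n).1 hn
    exact C.el_of_comm (C.iso_mem hnM) (C.cent_left_four f.dim f.left hnM hn1) f.left hn1
  let D : Subgroup (GL (Ix τ k) F) :=
    { carrier := {n | ∃ U B, IsSim J U 1 ∧ (f.blk U).det = 1 ∧ (f.swap.blk U).det = 1 ∧
        U * pl J a a' = pl J a a' * U ∧ IsSim J B 1 ∧ n.1 = el i U B}
      one_mem' := ⟨1, 1, isSim_one, by rw [f.blk_one, Matrix.det_one], by rw [f.swap.blk_one, Matrix.det_one],
        by rw [Matrix.one_mul, Matrix.mul_one], isSim_one, by rw [Units.val_one, el_one]⟩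
      mul_mem' := by
        rintro m n ⟨U, B, s1, d1, d1', c1, t1, e1⟩ ⟨V, B', s2, d2, d2', c2, t2, e2⟩
        have c2' : V * pl J e e' = pl J e e' * V := by rw [f.pl_neg, Matrix.mul_neg, Matrix.neg_mul, c2]
        refine ⟨U * V, B * B', by simpa using s1.mul s2, by rw [f.blk_mul _ c2, Matrix.det_mul, d1, d2, one_mul],
          by rw [f.swap.blk_mul _ c2', Matrix.det_mul, d1', d2', one_mul],
          by rw [Matrix.mul_assoc, c2, ← Matrix.mul_assoc, c1, Matrix.mul_assoc], by simpa using t1.mul t2,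
          by rw [Units.val_mul, e1, e2, el_mul]⟩
      inv_mem' := by
        rintro m ⟨U, B, s1, d1, d1', c1, t1, e1⟩
        have hu : IsUnit U.det := (s1.det_ne_zero h).isUnit
        have hb : IsUnit B.det := (t1.det_ne_zero h).isUnit
        have ci := comm_nonsing_inv hu c1
        have ci' : U⁻¹ * pl J e e' = pl J e e' * U⁻¹ := by rw [f.pl_neg, Matrix.mul_neg, Matrix.neg_mul, ci]
        refine ⟨U⁻¹, B⁻¹, by simpa using s1.inv h, ?_, ?_, ci, by simpa using t1.inv h, ?_⟩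
        · have h3 := congrArg (fun Z => (f.blk Z).det) (Matrix.mul_nonsing_inv _ hu)
          simp only [f.blk_mul _ ci, Matrix.det_mul, d1, one_mul, f.blk_one, Matrix.det_one] at h3
          exact h3
        · have h3 := congrArg (fun Z => (f.swap.blk Z).det) (Matrix.mul_nonsing_inv _ hu)
          simp only [f.swap.blk_mul _ ci', Matrix.det_mul, d1', one_mul, f.swap.blk_one, Matrix.det_one] at h3
          exact h3
        · exact Units.inv_eq_of_mul_eq_one_right (by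
            rw [e1, el_mul, Matrix.mul_nonsing_inv _ hu, Matrix.mul_nonsing_inv _ hb, el_one]) }
  have hCD : ⁅C', C'⁆ ≤ D := by
    refine Subgroup.commutator_le.2 fun m hm n hn => ?_
    obtain ⟨A, B, μ, hA, hB, em, cA⟩ := data m hm
    obtain ⟨A', B', ν, hA', hB', en, cA'⟩ := data n hn
    have ua : IsUnit A.det := (hA.det_ne_zero h).isUnit
    have ua' : IsUnit A'.det := (hA'.det_ne_zero h).isUnit
    have ub : IsUnit B.det := (hB.det_ne_zero h).isUnit
    have ub' : IsUnit B'.det := (hB'.det_ne_zero h).isUnit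
    have ci := comm_nonsing_inv ua cA
    have ci' := comm_nonsing_inv ua' cA'
    have emi : (m⁻¹).1 = el i A⁻¹ B⁻¹ := Units.inv_eq_of_mul_eq_one_right (by
      rw [em, el_mul, Matrix.mul_nonsing_inv _ ua, Matrix.mul_nonsing_inv _ ub, el_one])
    have eni : (n⁻¹).1 = el i A'⁻¹ B'⁻¹ := Units.inv_eq_of_mul_eq_one_right (by
      rw [en, el_mul, Matrix.mul_nonsing_inv _ ua', Matrix.mul_nonsing_inv _ ub', el_one])
    have s1 : IsSim J (A * A' * A⁻¹ * A'⁻¹) 1 := by
      have := ((hA.mul hA').mul (hA.inv h)).mul (hA'.inv h)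
      have h1 := hA.1
      have h2 := hA'.1
      rwa [show μ * ν * μ⁻¹ * ν⁻¹ = 1 by field_simp] at this
    have s2 : IsSim J (B * B' * B⁻¹ * B'⁻¹) 1 := by
      have := ((hB.mul hB').mul (hB.inv h)).mul (hB'.inv h)
      have h1 := hA.1
      have h2 := hA'.1
      rwa [show μ⁻¹ * ν⁻¹ * μ⁻¹⁻¹ * ν⁻¹⁻¹ = 1 by field_simp] at this
    have cP : A * A' * A⁻¹ * A'⁻¹ * pl J a a' = pl J a a' * (A * A' * A⁻¹ * A'⁻¹) := by
      rw [Matrix.mul_assoc, ci', ← Matrix.mul_assoc, Matrix.mul_assoc (A * A'), ci, ← Matrix.mul_assoc,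
        Matrix.mul_assoc A, cA', ← Matrix.mul_assoc, cA]
      simp only [Matrix.mul_assoc]
    have bd : ∀ {a a' e e' : Fin k → F} (f : Fr4 J a a' e e'), A * pl J a a' = pl J a a' * A →
        A' * pl J a a' = pl J a a' * A' → A⁻¹ * pl J a a' = pl J a a' * A⁻¹ →
        A'⁻¹ * pl J a a' = pl J a a' * A'⁻¹ → (f.blk (A * A' * A⁻¹ * A'⁻¹)).det = 1 := by
      intro a a' e e' f c1 c2 c3 c4
      have r1 : (f.blk A).det * (f.blk A⁻¹).det = 1 := by
        rw [← Matrix.det_mul, ← f.blk_mul _ c3, Matrix.mul_nonsing_inv _ ua, f.blk_one, Matrix.det_one]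
      have r2 : (f.blk A').det * (f.blk A'⁻¹).det = 1 := by
        rw [← Matrix.det_mul, ← f.blk_mul _ c4, Matrix.mul_nonsing_inv _ ua', f.blk_one, Matrix.det_one]
      rw [f.blk_mul _ c4, f.blk_mul _ c3, f.blk_mul _ c2, Matrix.det_mul, Matrix.det_mul, Matrix.det_mul]
      linear_combination (f.blk A').det * (f.blk A'⁻¹).det * r1 + r2
    refine ⟨A * A' * A⁻¹ * A'⁻¹, B * B' * B⁻¹ * B'⁻¹, s1, bd f cA cA' ci ci', ?_, cP, s2, ?_⟩
    · refine bd f.swap ?_ ?_ ?_ ?_ <;> rw [f.pl_neg, Matrix.mul_neg, Matrix.neg_mul]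
      · rw [cA]
      · rw [cA']
      · rw [ci]
      · rw [ci']
    · rw [commutatorElement_def, Units.val_mul, Units.val_mul, Units.val_mul, em, en, emi, eni, el_mul, el_mul,
        el_mul]
  obtain ⟨R, hR⟩ : ∃ R, R = Subgroup.centralizer (((Lc J).map (embG i) : Subgroup (GL (Ix τ k) F)) :
      Set (GL (Ix τ k) F)) := ⟨_, rfl⟩
  have hDR : ⁅D, D⁆ ≤ R := by
    refine Subgroup.commutator_le.2 ?_
    rintro m ⟨U, B, s1, d1, d1', c1, t1, e1⟩ n ⟨V, B', s2, d2, d2', c2, t2, e2⟩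
    have c1' : U * pl J e e' = pl J e e' * U := by rw [f.pl_neg, Matrix.mul_neg, Matrix.neg_mul, c1]
    have c2' : V * pl J e e' = pl J e e' * V := by rw [f.pl_neg, Matrix.mul_neg, Matrix.neg_mul, c2]
    have r1 := f.blk_rot s1 c1 d1
    have r1' := f.plRot_swap.1 (f.swap.blk_rot s1 c1' d1')
    have r2 := f.blk_rot s2 c2 d2
    have r2' := f.plRot_swap.1 (f.swap.blk_rot s2 c2' d2')
    have hUV : Commute U V := by
      rw [f.blk_split c1, f.blk_split c2]
      have a1 : Commute (f.blk U) (f.blk V) := f.PlRot_comm r1 r2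
      have a2 : Commute (f.blk U) (f.swap.blk V) := f.PlRot_comm r1 r2'
      have a3 : Commute (f.swap.blk U) (f.blk V) := f.PlRot_comm r1' r2
      have a4 : Commute (f.swap.blk U) (f.swap.blk V) := f.PlRot_comm r1' r2'
      exact (a1.mul_right a2).mul_left (a3.mul_right a4)
    have uu : IsUnit U.det := (s1.det_ne_zero h).isUnit
    have uv : IsUnit V.det := (s2.det_ne_zero h).isUnit
    have ub : IsUnit B.det := (t1.det_ne_zero h).isUnit
    have ub' : IsUnit B'.det := (t2.det_ne_zero h).isUnit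
    have emi : (m⁻¹).1 = el i U⁻¹ B⁻¹ := Units.inv_eq_of_mul_eq_one_right (by
      rw [e1, el_mul, Matrix.mul_nonsing_inv _ uu, Matrix.mul_nonsing_inv _ ub, el_one])
    have eni : (n⁻¹).1 = el i V⁻¹ B'⁻¹ := Units.inv_eq_of_mul_eq_one_right (by
      rw [e2, el_mul, Matrix.mul_nonsing_inv _ uv, Matrix.mul_nonsing_inv _ ub', el_one])
    have ev : ⁅m, n⁆.1 = el i 1 (B * B' * B⁻¹ * B'⁻¹) := by
      rw [commutatorElement_def, Units.val_mul, Units.val_mul, Units.val_mul, e1, e2, emi, eni, el_mul, el_mul,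
        el_mul, hUV.eq, Matrix.mul_assoc V U, Matrix.mul_nonsing_inv _ uu, Matrix.mul_one,
        Matrix.mul_nonsing_inv _ uv]
    rw [hR, Subgroup.mem_centralizer_iff]
    rintro _ ⟨u, -, rfl⟩
    refine Units.ext ?_
    rw [Units.val_mul, Units.val_mul, ev, embG_val, embM_eq_el, el_mul, el_mul, Matrix.mul_one, Matrix.one_mul,
      Matrix.mul_one, Matrix.one_mul]
  have hWC : W ≤ C' := fun n hn => (memC n).2 ⟨hWM hn, hc n hn⟩
  have hWD : W ≤ D := hW ▸ (Subgroup.commutator_mono hWC hWC).trans hCD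
  have hWR : W ≤ R := hW ▸ (Subgroup.commutator_mono hWD hWD).trans hDR
  obtain ⟨A, B, μ, hA, hB, e1, -⟩ := data t (hWC ht)
  have hR' := hWR ht
  rw [hR, Subgroup.mem_centralizer_iff] at hR'
  obtain ⟨c, hAc⟩ := hcore.cent A fun g hg => by
    have h1 := congrArg Units.val (hR' (embG i g) ⟨g, hg, rfl⟩)
    rw [Units.val_mul, Units.val_mul, e1, embG_val, embM_eq_el, el_mul, el_mul, Matrix.mul_one,
      Matrix.one_mul] at h1
    refine (p.el_left_cancel h1 ?_ (hB.ne_zero h)).symm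
    intro h0
    have h2 := congrArg Matrix.det h0
    rw [Matrix.det_mul, Matrix.det_zero] at h2
    exact mul_ne_zero (Matrix.isUnit_iff_isUnit_det _ |>.1 g.isUnit).ne_zero (hA.det_ne_zero h) h2
  exact ⟨c • B, by rw [e1, hAc, p.el_smul_swap]⟩

/-- An element carrying a plane involution of the first factor to one of the same factor is monomial. -/
theorem fuse_same (hk : k = 4) {j j' : τ} (C' : Ctx2 J M j j') {a a' c c' : Fin k → F} (q : Pl J a a')
    (q' : Pl J c c') {g : GL (Ix τ k) F} (hg : g ∈ M)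
    (he : g.1 * el i (pl J a a') 1 * (g⁻¹).1 = el j (pl J c c') 1) : Mono g.1 := by
  classical
  haveI := C.toEnv.neZero
  have h := C.frm
  have p := C.pr
  have hcore : Core J := h.core (by rw [Fintype.card_fin]; omega) (by rw [Fintype.card_fin]; omega)
    (fun _ => C.fac.four hk)
  obtain ⟨d, d', f⟩ := exists_fr4 h hk q'
  obtain ⟨φ, hφ⟩ : ∃ φ, φ = (MulAut.conj g).toMonoidHom.comp (embG (F := F) (k := k) l) := ⟨_, rfl⟩
  obtain ⟨W, hWd⟩ : ∃ W, W = (Lc J).map φ := ⟨_, rfl⟩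
  have mem : ∀ t ∈ Lc J, (φ t) ∈ M ∧ (φ t).1 = g.1 * el i 1 t.1 * (g⁻¹).1 := by
    intro t ht
    have ht' : t ∈ iso J := om_le _ (lc_le _ ht)
    obtain ⟨u, hu, eu⟩ := C.exists_el isSim_one (isSim_of_iso ht') (by
      rw [Matrix.det_one]
      rcases det_iso h ht' with h1 | h1
      · exact h1.symm
      · exfalso
        obtain ⟨w, hw⟩ := h.exists_good (A := J) (by rw [Fintype.card_fin]; omega)
        have hdet : (Lc J) ≤ (Matrix.GeneralLinearGroup.det : GL (Fin k) F →* Fˣ).ker := by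
          rw [← hcore.perf]
          exact Abelianization.commutator_subset_ker _ |>.trans' (Subgroup.commutator_mono le_top le_top)
        have h2 := congrArg Units.val (hdet ht)
        rw [Matrix.GeneralLinearGroup.val_det_apply, h1, Units.val_one] at h2
        exact h.two (by linear_combination -h2))
    have e : embG (F := F) (k := k) l t = u := Units.ext (by rw [embG_val, p.embM_other, eu])
    have e' : φ t = g * u * g⁻¹ := by rw [hφ, MonoidHom.comp_apply, e]; rfl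
    exact ⟨e' ▸ M.mul_mem (M.mul_mem hg hu) (M.inv_mem hg), by rw [e', C.val_conj g u eu]⟩
  have hW : ⁅W, W⁆ = W := by rw [hWd, ← Subgroup.map_commutator, hcore.perf]
  have key : ∀ {t : GL (Fin k) F}, t ∈ Lc J → ∃ B, g.1 * el i 1 t.1 * (g⁻¹).1 = el j 1 B := by
    intro t ht
    rw [← (mem t ht).2]
    refine C'.derived_right hcore f W hW ?_ ?_ (hWd ▸ Subgroup.mem_map_of_mem φ ht)
    · rw [hWd]; rintro _ ⟨u, hu, rfl⟩; exact (mem u hu).1
    · rw [hWd]
      rintro _ ⟨u, hu, rfl⟩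
      rw [(mem u hu).2, ← he, ← conj_mul, ← conj_mul, el_mul, el_mul, Matrix.one_mul, Matrix.mul_one,
        Matrix.one_mul, Matrix.mul_one]
  obtain ⟨b, hb⟩ := h.exists_good (A := J) (by rw [Fintype.card_fin]; omega)
  obtain ⟨u, w, hbu, hbw, huw, huu, hww⟩ := h.exists_three hb (by rw [Fintype.card_fin]; omega)
  have hu : bf J u u ≠ 0 := by rw [huu]; exact hb.1
  have hw : bf J w w ≠ 0 := by rw [hww]; exact hb.1
  have img : ∀ x, (hx : bf J x x ≠ 0) → bf J x x = bf J b b →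
      ∃ X, g.1 * el l (pl J b x) 1 * (g⁻¹).1 = embM j' X := by
    intro x hx hxx
    obtain ⟨t, ht, s, hs⟩ := hcore.omL _ (rot_pair_mem_Om h hb.1 hx ⟨bf J b b, by rw [hxx]⟩)
    have e0 : pl J b x = s • t.1 := hs
    obtain ⟨B, eB⟩ := key ht
    refine ⟨s • B, ?_⟩
    rw [p.el_swap, e0, p.el_smul_right, Matrix.mul_smul, Matrix.smul_mul, eB, C'.pr.embM_other,
      C'.pr.el_smul_right]
  obtain ⟨X, hX⟩ := img u hu huu
  obtain ⟨X', hX'⟩ := img w hw hww
  exact C.symm.lin hg (s := j') ⟨hb.1, hu, hbu⟩ ⟨hb.1, hw, hbw⟩ huw hX hX'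

/-- An element carrying a pure plane involution to a pure one is monomial. -/
theorem fuse_pure (hk : k = 4) {X : Matrix (Ix τ k) (Ix τ k) F} (hX : PurePl J i X) {g : GL (Ix τ k) F} (hg : g ∈ M)
    (hY : PurePl J i (g.1 * X * (g⁻¹).1)) : Mono g.1 := by
  have p := C.pr
  obtain ⟨a, a', q, eX | eX⟩ := hX <;> obtain ⟨c, c', q', eY | eY⟩ := hY <;> subst eX
  · exact C.fuse_same hk C q q' hg eY
  · exact C.fuse_same hk C.symm q q' hg (by rw [eY, p.el_swap])
  · exact C.symm.fuse_same hk C q q' hg (by rw [p.el_swap]; exact eY)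
  · exact C.symm.fuse_same hk C.symm q q' hg (by rw [p.el_swap, p.el_swap]; exact eY)

/-- A monomial element keeps the pure plane involutions. -/
theorem pure_conj {g : GL (Ix τ k) F} (hg : g ∈ M) (hm : Mono g.1) {a a' : Fin k → F} (q : Pl J a a') :
    PurePl J i (g.1 * el i (pl J a a') 1 * (g⁻¹).1) := by
  obtain ⟨A, B, μ, hA, hB, hh | hh⟩ := C.toEnv.mono_conj (C.iso_mem hg) hm
  · exact ⟨_, _, hA.map_pl q, Or.inl (hh _ _ _ _ (hA.pl a a') (by rw [Matrix.mul_one, Matrix.one_mul]))⟩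
  · exact ⟨_, _, hB.map_pl q, Or.inr (hh _ _ _ _ (by rw [Matrix.mul_one, Matrix.one_mul]) (hB.pl a a'))⟩

theorem pure_ne {X : Matrix (Ix τ k) (Ix τ k) F} (hX : PurePl J i X) : X ≠ 1 ∧ X ≠ -1 := by
  obtain ⟨c, d, q, e | e⟩ := hX <;> subst e
  · have hne := C.symm.plane_ne_central q q
    rw [C.pr.el_swap] at hne
    exact ⟨hne.1, hne.2.1⟩
  · have hne := C.plane_ne_central q q
    exact ⟨hne.1, hne.2.1⟩

/-- No plane involution is carried to a product of two planes. -/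
theorem no_pp_fuse (hk : k = 4) {a a' c c' u u' : Fin k → F} (q : Pl J a a') (qP : Pl J c c') (qQ : Pl J u u')
    {g : GL (Ix τ k) F} (hg : g ∈ M)
    (he : g.1 * el i (pl J a a') 1 * (g⁻¹).1 = el i (pl J c c') (pl J u u')) : False := by
  classical
  haveI := C.toEnv.neZero
  have h := C.frm
  have p := C.pr
  have hk4 := C.four
  obtain ⟨e, e', f⟩ := exists_fr4 h hk q
  -- a plane of square discriminant
  suffices ∀ {c c' u u' : Fin k → F}, Pl J c c' → bf J c' c' = bf J c c → Pl J u u' →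
      g.1 * el i (pl J a a') 1 * (g⁻¹).1 = el i (pl J c c') (pl J u u') → False by
    obtain ⟨d, d', fP⟩ := exists_fr4 h hk qP
    obtain ⟨w, w', fQ⟩ := exists_fr4 h hk qQ
    rcases fP.square_plane C.nsq with hs | hs
    · obtain ⟨s, hs0, hsc⟩ := exists_equal_values fP.left hs
      exact this ⟨qP.left, by rw [hsc]; exact qP.left, by rw [bf_smul_right, qP.orth, mul_zero]⟩ hsc qQ
        (by rw [pl_smul_right hs0]; exact he)
    · obtain ⟨s, hs0, hsc⟩ := exists_equal_values fP.right hs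
      exact this ⟨fP.qe, by rw [hsc]; exact fP.qe, by rw [bf_smul_right, fP.ee', mul_zero]⟩ hsc fQ.right
        (by rw [pl_smul_right hs0, fP.pl_neg, fQ.pl_neg, p.el_neg_neg]; exact he)
  intro c c' u u' qP hq qQ he
  have hyp := C.not_pure_pp qP qQ
  obtain ⟨d, d', fP⟩ := exists_fr4 h hk qP
  suffices hgm : Mono g.1 from hyp (he ▸ C.pure_conj hg hgm q)
  have hgi := M.inv_mem hg
  have hyi := conj_inv he
  have back : ∀ {X Y : Matrix (Ix τ k) (Ix τ k) F}, (g⁻¹).1 * X * ((g⁻¹)⁻¹).1 = Y →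
      g.1 * Y * (g⁻¹).1 = X := fun e => by simpa using conj_inv e
  obtain ⟨s, hs, es⟩ := C.exists_el (qtr_spec h qP hq).2.1 isSim_one
    (by rw [det_qtr h C.even qP hq, Matrix.det_one])
  obtain ⟨s', hs'⟩ : ∃ s', s' = g⁻¹ * s * (g⁻¹)⁻¹ := ⟨_, rfl⟩
  have hs'M : s' ∈ M := hs' ▸ M.mul_mem (M.mul_mem hgi hs) (M.inv_mem hgi)
  have es' : s'.1 = (g⁻¹).1 * el i (qtr J c c') 1 * ((g⁻¹)⁻¹).1 := hs' ▸ C.val_conj g⁻¹ s es
  have sX : s'.1 * el i (pl J a a') 1 = el i (pl J a a') 1 * s'.1 := by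
    have h0 : el i (qtr J c c') 1 * el i (pl J c c') (pl J u u') =
        el i (pl J c c') (pl J u u') * el i (qtr J c c') 1 := by
      rw [el_mul, el_mul, Matrix.one_mul, Matrix.mul_one, ← fP.qtr_sq hq, Matrix.mul_assoc]
    have := congrArg (fun Z => (g⁻¹).1 * Z * ((g⁻¹)⁻¹).1) h0
    simp only [conj_mul, hyi] at this
    rw [es']; exact this
  obtain ⟨S, T, μ, hS, hT, e1, cS⟩ := C.el_of_comm (C.iso_mem hs'M) (C.cent_left_four hk q hs'M sX) q sX
  obtain ⟨A₀, hA₀⟩ : ∃ A₀, A₀ = μ⁻¹ • (S * S) := ⟨_, rfl⟩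
  obtain ⟨B₀, hB₀⟩ : ∃ B₀, B₀ = μ • (T * T) := ⟨_, rfl⟩
  obtain ⟨sA, cA, dA⟩ := f.square_rot hS cS
  have cS' : S * pl J e e' = pl J e e' * S := by rw [f.pl_neg, Matrix.mul_neg, Matrix.neg_mul, cS]
  obtain ⟨-, -, dA'⟩ := f.swap.square_rot hS cS'
  rw [← hA₀] at sA cA dA dA'
  have sB : IsSim J B₀ 1 := by
    have := (hT.mul hT).smul hS.1
    rwa [← hB₀, show μ * μ * (μ⁻¹ * μ⁻¹) = 1 by field_simp [hS.1]] at this
  have er : (g⁻¹).1 * el i (pl J c c') 1 * ((g⁻¹)⁻¹).1 = el i A₀ B₀ := by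
    rw [show el i (pl J c c') (1 : Matrix (Fin k) (Fin k) F) = el i (qtr J c c') 1 * el i (qtr J c c') 1 by
      rw [el_mul, fP.qtr_sq hq, Matrix.mul_one], conj_mul, ← es', e1, el_mul, hA₀, hB₀, p.el_smul_left,
      p.el_smul_right, smul_smul, inv_mul_cancel₀ hS.1, one_smul]
  have r2 : el i (A₀ * A₀) (B₀ * B₀) = 1 := by
    rw [← el_mul, ← er, ← conj_mul, el_mul, pl_mul_self h qP, Matrix.mul_one, el_one, Matrix.mul_one, Units.mul_inv]
  obtain ⟨κ, hκ, hA2, hB2⟩ := p.el_eq_one r2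
  have hκ1 : κ * κ = 1 := by
    have h1 := (sA.mul sA).bf a a
    rw [hA2, Matrix.smul_mulVec, Matrix.one_mulVec, bf_smul_left, bf_smul_right] at h1
    exact mul_right_cancel₀ q.left (by linear_combination h1)
  rcases mul_self_eq_one_iff.1 hκ1 with rfl | rfl
  swap
  · exact (no_sq_neg_one h hk C.nsq sA (by rw [hA2, neg_one_smul])).elim
  rw [one_smul] at hA2
  rw [inv_one, one_smul] at hB2
  have hA0s := f.blk_signs sA hA2 cA dA dA'
  have hdA : A₀.det = 1 := by rw [f.blk_split cA, Matrix.det_mul, dA, dA', one_mul]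
  obtain ⟨r, hr, er'⟩ := C.exists_pl_left qP
  have hdB : B₀.det = 1 := by
    rw [← C.toEnv.det_eq_of_om sA sB (C.le (M.mul_mem (M.mul_mem hgi hr) (M.inv_mem hgi)))
      ((C.val_conj g⁻¹ r er').trans er), hdA]
  have gr : g.1 * el i A₀ B₀ * (g⁻¹).1 = el i (pl J c c') 1 := back er
  -- a second image
  have gr2 : g.1 * el i (A₀ * pl J a a') B₀ * (g⁻¹).1 = el i 1 (pl J u u') := by
    rw [show el i (A₀ * pl J a a') B₀ = el i A₀ B₀ * el i (pl J a a') 1 by rw [el_mul, Matrix.mul_one],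
      conj_mul, gr, he, el_mul, pl_mul_self h qP, Matrix.one_mul]
  have pur : ∀ {b b' : Fin k → F}, Pl J b b' → ∀ {E : Matrix (Fin k) (Fin k) F}, (E = 1 ∨ E = -1) →
      PurePl J i (el i E (pl J b b')) := by
    intro b b' qb E hE
    obtain ⟨x, x', fb⟩ := exists_fr4 h hk qb
    rcases hE with rfl | rfl
    · exact ⟨b, b', qb, Or.inr rfl⟩
    · exact ⟨x, x', fb.right, Or.inr (by rw [fb.pl_neg, p.el_neg_left, p.el_neg_right])⟩
  have key : ∀ {E : Matrix (Fin k) (Fin k) F} {T : Matrix (Ix τ k) (Ix τ k) F}, (E = 1 ∨ E = -1) →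
      g.1 * el i E B₀ * (g⁻¹).1 = T → PurePl J i T → Mono g.1 := by
    intro E T hE e0 hT
    rcases det_one_shape h hk sB hB2 hdB with e2 | e2 | ⟨b, b', qb, e2⟩ <;> subst e2
    · exfalso
      rcases hE with rfl | rfl
      · exact (C.pure_ne hT).1 (by rw [← e0, el_one, Matrix.mul_one, Units.mul_inv])
      · exact (C.pure_ne hT).2 (by
          rw [← e0, p.el_neg_left, el_one, Matrix.mul_neg, Matrix.neg_mul, Matrix.mul_one, Units.mul_inv])
    · exfalso
      rcases hE with rfl | rfl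
      · exact (C.pure_ne hT).2 (by
          rw [← e0, p.el_neg_right, el_one, Matrix.mul_neg, Matrix.neg_mul, Matrix.mul_one, Units.mul_inv])
      · exact (C.pure_ne hT).1 (by rw [← e0, p.el_neg_neg, el_one, Matrix.mul_one, Units.mul_inv])
    · exact C.fuse_pure hk (pur qb hE) hg (e0 ▸ hT)
  rcases hA0s with e3 | e3 | e3 | e3
  · exact key (Or.inl e3) gr ⟨c, c', qP, Or.inl rfl⟩
  · exact key (Or.inr e3) gr ⟨c, c', qP, Or.inl rfl⟩
  · exact key (Or.inl (by rw [e3, pl_mul_self h q])) gr2 ⟨u, u', qQ, Or.inr rfl⟩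
  · exact key (Or.inr (by rw [e3, Matrix.neg_mul, pl_mul_self h q])) gr2 ⟨u, u', qQ, Or.inr rfl⟩

/-- The fusion of a plane involution of the first factor in dimension four. -/
theorem fuse_left (hk : k = 4) {g : GL (Ix τ k) F} (hg : g ∈ M) {a b a' b' : Fin k → F} (ha' : bf J a' a' ≠ 0)
    (hb' : bf J b' b' ≠ 0) (hx : g.1 * el i (rot J a) (rot J b) * (g⁻¹).1 = el i (rot J a') (rot J b'))
    {c c' : Fin k → F} (q : Pl J c c')
    (hc : el i (pl J c c') 1 * el i (rot J a) (rot J b) = el i (rot J a) (rot J b) * el i (pl J c c') 1)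
    (hm : Mono (g.1 * el i (pl J c c') 1 * (g⁻¹).1)) : PurePl J i (g.1 * el i (pl J c c') 1 * (g⁻¹).1) := by
  classical
  haveI := C.toEnv.neZero
  have h := C.frm
  have p := C.pr
  have hk4 := C.four
  obtain ⟨z, hz, ez⟩ := C.exists_pl_left q
  have hyM : g * z * g⁻¹ ∈ M := M.mul_mem (M.mul_mem hg hz) (M.inv_mem hg)
  have ey := C.val_conj g z ez
  have y2 : (g * z * g⁻¹).1 * (g * z * g⁻¹).1 = 1 := by
    rw [ey, ← conj_mul, el_mul, pl_mul_self h q, Matrix.mul_one, el_one, Matrix.mul_one, Units.mul_inv]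
  have ys : sig (g * z * g⁻¹).1 = 0 := by
    rw [ey, sig_conj g.inv_mul, ← p.el_swap, C.symm.sig_pl_right q hk]
  obtain ⟨A, B, μ, κ, e1, hA, hB, -, hA2, hB2⟩ := C.toEnv.invol_cases (C.le hyM) (by rw [ey]; exact hm)
    (Units.ext (by rw [Units.val_mul, y2, Units.val_one]))
  have hcomm : el i A B * el i (rot J a') (rot J b') = el i (rot J a') (rot J b') * el i A B := by
    rw [← e1, ey, ← hx, ← conj_mul, ← conj_mul, hc]
  rw [el_mul, el_mul] at hcomm
  obtain ⟨s, hs0, e2, -⟩ := p.el_eq_el hcomm ((hA.mul (isSim_rot h ha')).ne_zero h)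
    ((hB.mul (isSim_rot h hb')).ne_zero h)
  have e3 : rot J (A *ᵥ a') * A = s • (rot J a' * A) := (hA.rot a').symm.trans e2
  have e4 : rot J (A *ᵥ a') = s • rot J a' := by
    have hu : IsUnit A.det := (hA.det_ne_zero h).isUnit
    have := congrArg (fun Z => Z * A⁻¹) e3
    simpa only [Matrix.smul_mul, Matrix.mul_assoc, Matrix.mul_nonsing_inv _ hu, Matrix.mul_one] using this
  have hs : s * s = 1 := by
    have h1 := congrArg (fun Z => Z * Z) e4
    simp only [rot_mul_self J (hA.bf_ne ha'), Matrix.smul_mul, Matrix.mul_smul, rot_mul_self J ha', smul_smul] at h1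
    have := congrFun₂ h1 ⟨0, by omega⟩ ⟨0, by omega⟩
    simpa using this.symm
  rcases mul_self_eq_one_iff.1 hs with rfl | rfl
  swap
  · exact absurd (by rw [e4, neg_one_smul]) (rot_ne_neg h (by omega) (hA.bf_ne ha') ha')
  rw [one_smul] at e4
  obtain ⟨ν, hν⟩ := rot_inj ha' (by omega) h e4
  have hν0 : ν ≠ 0 := fun h0 => ha' (by rw [hν, h0, zero_smul, bf_zero_left])
  obtain ⟨ρ, hρ⟩ : ∃ ρ, A *ᵥ a' = ρ • a' :=
    ⟨ν⁻¹, by conv_rhs => rw [hν, smul_smul, inv_mul_cancel₀ hν0, one_smul]⟩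
  have hκ : κ = ρ * ρ := by
    have h1 := congrArg (fun Z => bf J a' (Z *ᵥ a')) hA2
    simp only [← Matrix.mulVec_mulVec, hρ, Matrix.mulVec_smul, Matrix.smul_mulVec, Matrix.one_mulVec,
      bf_smul_right] at h1
    exact mul_right_cancel₀ ha' (by linear_combination -h1)
  have hμ : μ = κ := by
    have h1 := hA.bf a' a'
    rw [hρ, bf_smul_left, bf_smul_right] at h1
    exact mul_right_cancel₀ ha' (by rw [hκ]; linear_combination -h1)
  obtain ⟨w, B', -, sA, sB, eA, eB, e5, dA, dB⟩ :=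
    C.normalise hyM y2 ys hk hA hB e1 (hμ ▸ hA2) ⟨ρ, hμ.trans hκ⟩
  rw [ey] at e5
  rw [e5]
  have flip : ∀ {x x' : Fin k → F}, Pl J x x' → ∃ u u', Pl J u u' ∧ pl J u u' = -pl J x x' := fun {x x'} qx => by
    obtain ⟨u, u', fx⟩ := exists_fr4 h hk qx
    exact ⟨u, u', fx.right, fx.pl_neg⟩
  have central : ∀ {E : Matrix (Fin k) (Fin k) F} {Z : Matrix (Fin k) (Fin k) F}, (E = 1 ∨ E = -1) →
      (Z = 1 ∨ Z = -1) → g.1 * el i (pl J c c') 1 * (g⁻¹).1 = el i E Z → False := by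
    intro E Z hE hZ e0
    have h1 : g.1 * el i (pl J c c') 1 * (g⁻¹).1 = 1 ∨ g.1 * el i (pl J c c') 1 * (g⁻¹).1 = -1 := by
      rw [e0]
      rcases hE with rfl | rfl <;> rcases hZ with rfl | rfl <;> simp [p.el_neg_left, p.el_neg_right, el_one]
    have hne := C.symm.plane_ne_central q q
    rw [p.el_swap] at hne
    rcases h1 with e2 | e2
    · refine hne.1 ?_
      have := conj_inv e2
      rw [Matrix.mul_one, Units.mul_inv] at this
      exact this.symm
    · refine hne.2.1 ?_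
      have := conj_inv e2
      rw [Matrix.mul_neg, Matrix.neg_mul, Matrix.mul_one, Units.mul_inv] at this
      exact this.symm
  rcases det_one_shape h hk sA eA dA with e6 | e6 | ⟨x, x', qx, e6⟩ <;>
    rcases det_one_shape h hk sB eB dB with e7 | e7 | ⟨u, u', qu, e7⟩ <;> rw [e6, e7] at e5 ⊢
  · exact (central (Or.inl rfl) (Or.inl rfl) e5).elim
  · exact (central (Or.inl rfl) (Or.inr rfl) e5).elim
  · exact ⟨u, u', qu, Or.inr rfl⟩
  · exact (central (Or.inr rfl) (Or.inl rfl) e5).elim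
  · exact (central (Or.inr rfl) (Or.inr rfl) e5).elim
  · obtain ⟨z, z', qz, ez⟩ := flip qu
    exact ⟨z, z', qz, Or.inr (by rw [ez, p.el_neg_left, p.el_neg_right])⟩
  · exact ⟨x, x', qx, Or.inl rfl⟩
  · obtain ⟨z, z', qz, ez⟩ := flip qx
    exact ⟨z, z', qz, Or.inl (by rw [ez, p.el_neg_left, p.el_neg_right])⟩
  · exact (C.no_pp_fuse hk q qx qu hg e5).elim

/-- The hypotheses of the upper part in dimension four. -/
theorem low_of_four (hk : k = 4) : Low2 J M i where
  cent g hg X hX hc := by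
    obtain ⟨a, c, q, e | e⟩ := hX <;> subst e
    · exact C.cent_left_four hk q hg hc
    · rw [← C.pr.el_swap] at hc
      exact C.symm.cent_left_four hk q hg hc
  fuse g hg a b a' b' _ _ ha' hb' hx X hX hc hm := by
    obtain ⟨c, c', q, e | e⟩ := hX <;> subst e
    · exact C.fuse_left hk hg ha' hb' hx q hc hm
    · rw [← C.pr.el_swap] at hc hm ⊢
      rw [← C.pr.el_swap, ← C.pr.el_swap] at hx
      rw [← C.pr.el_swap] at hc
      exact (C.symm.fuse_left hk hg hb' ha' hx q hc hm).swap C.pr.symm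

end Ctx2

end CfsgLib.Classical.TensorWreathOrth.Two
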