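import Cfsg.Agent.Lib.Classical.TensorWreathOrth.TwoFourKer

set_option autoImplicit false
set_option linter.unusedSectionVars false

/-!
Dimension four: an element centralising a plane involution does not carry another one to a product of two planes.
-/

namespace CfsgLib.Classical.TensorWreathOrth.Two

open Matrix CfsgLib.Classical.TensorWreath
open CfsgLib.Classical.TensorWreathOrth
open scoped MatrixGroups

variable {F : Type*} [Field F] [Finite F] {τ : Type} [Fintype τ] [DecidableEq τ] {k : ℕ}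
  {J : Matrix (Fin k) (Fin k) F}

theorem Pr2.el_pr_pr {i l : τ} (p : Pr2 i l) (x y : Fin k → F) :
    el i (pr J x) (pr J y) = pr (JJ J τ) (vv i x y) := by
  ext a b
  have e : JJ J τ *ᵥ vv i x y = vv i (J *ᵥ x) (J *ᵥ y) := by rw [p.JJ_el, p.el_mulVec]
  rw [p.el_apply, pr, pr, pr, e, p.bf_vv, Matrix.smul_apply, Matrix.smul_apply, Matrix.smul_apply,
    Matrix.vecMulVec_apply, Matrix.vecMulVec_apply, Matrix.vecMulVec_apply, p.vv_apply, p.vv_apply, mul_inv]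
  simp only [smul_eq_mul]
  ring

theorem comm_inv {g : GL (Ix τ k) F} {X : Matrix (Ix τ k) (Ix τ k) F} (h : g.1 * X = X * g.1) :
    (g⁻¹).1 * X = X * (g⁻¹).1 := by
  calc (g⁻¹).1 * X = (g⁻¹).1 * (X * (g.1 * (g⁻¹).1)) := by rw [g.mul_inv, Matrix.mul_one]
    _ = (g⁻¹).1 * (g.1 * X * (g⁻¹).1) := by rw [h, Matrix.mul_assoc]
    _ = X * (g⁻¹).1 := by rw [← Matrix.mul_assoc, ← Matrix.mul_assoc, g.inv_mul, Matrix.one_mul]

theorem conj_inv {g : GL (Ix τ k) F} {X Y : Matrix (Ix τ k) (Ix τ k) F} (h : g.1 * X * (g⁻¹).1 = Y) :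
    (g⁻¹).1 * Y * ((g⁻¹)⁻¹).1 = X := by
  rw [← h, inv_inv]
  simp only [← Matrix.mul_assoc]
  rw [g.inv_mul, Matrix.one_mul, Matrix.mul_assoc, g.inv_mul, Matrix.mul_one]

theorem Fr4.qtr_fix {a a' e e' : Fin k → F} (f : Fr4 J a a' e e') (hq : bf J a' a' = bf J a a) :
    qtr J a a' * pp J e e' = pp J e e' ∧ pp J e e' * qtr J a a' = pp J e e' := by
  constructor <;> refine f.ext ?_ ?_ ?_ ?_ <;> rw [← Matrix.mulVec_mulVec]
  · rw [f.swap.pp_e, Matrix.mulVec_zero]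
  · rw [f.swap.pp_e', Matrix.mulVec_zero]
  · rw [f.swap.pp_a, f.qtr_e hq]
  · rw [f.swap.pp_a', f.qtr_e' hq]
  · rw [f.qtr_a hq, Matrix.mulVec_neg, f.swap.pp_e', neg_zero, f.swap.pp_e]
  · rw [f.qtr_a' hq, f.swap.pp_e, f.swap.pp_e']
  · rw [f.qtr_e hq]
  · rw [f.qtr_e' hq]

/-- A similitude keeping three lines of a frame squares to its multiplier. -/
theorem Fr4.diag_square {a a' e e' : Fin k → F} (f : Fr4 J a a' e e') {A : Matrix (Fin k) (Fin k) F} {μ : F}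
    (hA : IsSim J A μ) (h1 : A * pl J a a' = pl J a a' * A) (h2 : A * pl J a e = pl J a e * A) :
    A * A = μ • 1 ∧ IsSquare μ ∧
      ∃ p q r t : F, A *ᵥ a = p • a ∧ A *ᵥ a' = q • a' ∧ A *ᵥ e = r • e ∧ A *ᵥ e' = t • e' := by
  have h1' : A * pl J e e' = pl J e e' * A := by rw [f.pl_neg, Matrix.mul_neg, Matrix.neg_mul, h1]
  have h2' : A * pl J a' e' = pl J a' e' * A := by rw [f.mix.pl_neg, Matrix.mul_neg, Matrix.neg_mul, h2]
  obtain ⟨p, s, e1⟩ := f.mulVec_span h1 f.pp_a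
  obtain ⟨p', s', e1'⟩ := f.mix.mulVec_span h2 f.mix.pp_a
  have hs : s = 0 := by
    have := congrArg (bf J a') (e1.symm.trans e1')
    simp only [bf_add_right, bf_smul_right, f.a'a, f.a'e, mul_zero, add_zero, zero_add, mul_eq_zero, f.qa',
      or_false] at this
    exact this
  obtain ⟨q0, q, e2⟩ := f.mulVec_span h1 f.pp_a'
  obtain ⟨z1, z2, e2'⟩ := f.mix.swap.mulVec_span h2' f.mix.swap.pp_a
  have hq : q0 = 0 := by
    have := congrArg (bf J a) (e2.symm.trans e2')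
    simp only [bf_add_right, bf_smul_right, f.aa', f.ae', mul_zero, add_zero, mul_eq_zero, f.qa, or_false] at this
    exact this
  obtain ⟨r, r', e3⟩ := f.swap.mulVec_span h1' f.swap.pp_a
  obtain ⟨w1, w2, e3'⟩ := f.mix.mulVec_span h2 f.mix.pp_a'
  have hr : r' = 0 := by
    have := congrArg (bf J e') (e3.symm.trans e3')
    simp only [bf_add_right, bf_smul_right, f.e'e, f.e'a, mul_zero, add_zero, zero_add, mul_eq_zero, f.qe',
      or_false] at this
    exact this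
  obtain ⟨t', t, e4⟩ := f.swap.mulVec_span h1' f.swap.pp_a'
  obtain ⟨u1, u2, e4'⟩ := f.mix.swap.mulVec_span h2' f.mix.swap.pp_a'
  have ht : t' = 0 := by
    have := congrArg (bf J e) (e4.symm.trans e4')
    simp only [bf_add_right, bf_smul_right, f.ee', f.ea', mul_zero, add_zero, mul_eq_zero, f.qe, or_false] at this
    exact this
  subst hs hq hr ht
  simp only [zero_smul, add_zero, zero_add] at e1 e2 e3 e4
  have sq : ∀ (v : Fin k → F) (c : F), bf J v v ≠ 0 → A *ᵥ v = c • v → c * c = μ := by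
    intro v c hv e
    have := hA.bf v v
    rw [e, bf_smul_left, bf_smul_right, ← mul_assoc] at this
    exact mul_right_cancel₀ hv this
  refine ⟨?_, ⟨p, (sq a p f.qa e1).symm⟩, p, q, r, t, e1, e2, e3, e4⟩
  refine f.ext ?_ ?_ ?_ ?_ <;> rw [← Matrix.mulVec_mulVec, Matrix.smul_mulVec, Matrix.one_mulVec]
  · rw [e1, Matrix.mulVec_smul, e1, smul_smul, sq a p f.qa e1]
  · rw [e2, Matrix.mulVec_smul, e2, smul_smul, sq a' q f.qa' e2]
  · rw [e3, Matrix.mulVec_smul, e3, smul_smul, sq e r f.qe e3]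
  · rw [e4, Matrix.mulVec_smul, e4, smul_smul, sq e' t f.qe' e4]

/-- Two non-squares have a square product. -/
theorem isSquare_mul_nonsquare (h2 : (2 : F) ≠ 0) {x y : F} (hx : ¬ IsSquare x) (hy : ¬ IsSquare y) :
    IsSquare (x * y) := by
  classical
  cases nonempty_fintype F
  have hc : ringChar F ≠ 2 := fun e => h2 (by
    have := CharP.cast_eq_zero F (ringChar F)
    rwa [e, Nat.cast_ofNat] at this)
  have hx0 : x ≠ 0 := fun e => hx (e ▸ IsSquare.zero)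
  have hy0 : y ≠ 0 := fun e => hy (e ▸ IsSquare.zero)
  rw [← quadraticChar_one_iff_isSquare (mul_ne_zero hx0 hy0), map_mul,
    quadraticChar_neg_one_iff_not_isSquare.2 hx, quadraticChar_neg_one_iff_not_isSquare.2 hy]
  rfl

namespace Ctx2

variable {M : Subgroup (GL (Ix τ k) F)} {i l : τ} (C : Ctx2 J M i l)
include C

/-- Elements centralising two planes through one line are monomial and diagonal there. -/
theorem el_diag {a a' e e' : Fin k → F} (f : Fr4 J a a' e e') {n : GL (Ix τ k) F} (hn : n ∈ M)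
    (h1 : n.1 * el i (pl J a a') 1 = el i (pl J a a') 1 * n.1)
    (h2 : n.1 * el i (pl J a e) 1 = el i (pl J a e) 1 * n.1) :
    ∃ A B μ, IsSim J A μ ∧ IsSim J B μ⁻¹ ∧ n.1 = el i A B ∧ A * pl J a a' = pl J a a' * A ∧
      A * pl J a e = pl J a e * A := by
  haveI := C.toEnv.neZero
  have h := C.frm
  obtain ⟨A, B, μ, hA, hB, eAB, hAP⟩ := C.el_of_comm (C.iso_mem hn)
    (C.mono_of_comm_planes hn f.left f.mid f.a'e h1 h2) f.left h1
  rw [eAB, el_mul, el_mul, Matrix.mul_one, Matrix.one_mul] at h2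
  exact ⟨A, B, μ, hA, hB, eAB, hAP, C.pr.el_left_cancel h2 ((hA.mul (isSim_pl h f.mid)).ne_zero h) (hB.ne_zero h)⟩

/-- A product of two planes is not pure. -/
theorem not_pure_pp {c d u v : Fin k → F} (q : Pl J c d) (q' : Pl J u v) :
    ¬ PurePl J i (el i (pl J c d) (pl J u v)) := by
  haveI := C.toEnv.neZero
  have h := C.frm
  have hk := C.four
  rintro ⟨r, t, -, e | e⟩
  · obtain ⟨s, hs, -, e'⟩ := C.pr.el_eq_el e ((isSim_pl h q).ne_zero h) ((isSim_pl h q').ne_zero h)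
    exact pl_ne_smul h (by omega) q' s⁻¹ (by rw [e', smul_smul, inv_mul_cancel₀ hs, one_smul])
  · obtain ⟨s, hs, e', -⟩ := C.pr.el_eq_el e ((isSim_pl h q).ne_zero h) ((isSim_pl h q').ne_zero h)
    exact pl_ne_smul h (by omega) q s e'

/-- Pulling back an element of the second factor. -/
theorem pull_el {a a' e e' a₁ e₁ b c : Fin k → F} (f : Fr4 J a a' e e') {g : GL (Ix τ k) F} (hg : g ∈ M)
    (hz : g.1 * el i (pl J a a') 1 = el i (pl J a a') 1 * g.1)
    (hy : g.1 * el i (pl J a e) 1 * (g⁻¹).1 = el i (pl J a₁ e₁) (pl J b c))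
    {w : GL (Ix τ k) F} {B : Matrix (Fin k) (Fin k) F} (hw : w ∈ M) (ew : w.1 = el i 1 B)
    (hB : B * pl J b c = pl J b c * B) :
    ∃ A B' μ, IsSim J A μ ∧ IsSim J B' μ⁻¹ ∧ (g⁻¹).1 * el i 1 B * ((g⁻¹)⁻¹).1 = el i A B' ∧
      A * pl J a a' = pl J a a' * A ∧ A * pl J a e = pl J a e * A := by
  classical
  haveI := C.toEnv.neZero
  have h := C.frm
  have p := C.pr
  have hk := C.four
  have hgi := M.inv_mem hg
  have hzi := comm_inv hz
  have hyi := conj_inv hy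
  have one0 : (1 : Matrix (Fin k) (Fin k) F) ≠ 0 := one_ne_zero
  have commz : ∀ B : Matrix (Fin k) (Fin k) F, el i 1 B * el i (pl J a a') 1 = el i (pl J a a') 1 * el i 1 B :=
    fun B => by rw [el_mul, el_mul, Matrix.one_mul, Matrix.mul_one, Matrix.one_mul, Matrix.mul_one]
  rw [← C.val_conj g⁻¹ w ew]
  refine C.el_diag f (M.mul_mem (M.mul_mem hgi hw) (M.inv_mem hgi)) ?_ ?_
  · have := congrArg (fun Z => (g⁻¹).1 * Z * ((g⁻¹)⁻¹).1) (commz B)
    simp only [conj_mul, conj_of_comm hzi] at this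
    rw [C.val_conj g⁻¹ w ew]
    exact this
  · have h0 : el i 1 B * el i (pl J a₁ e₁) (pl J b c) = el i (pl J a₁ e₁) (pl J b c) * el i 1 B := by
      rw [el_mul, el_mul, Matrix.one_mul, Matrix.mul_one, hB]
    have := congrArg (fun Z => (g⁻¹).1 * Z * ((g⁻¹)⁻¹).1) h0
    simp only [conj_mul, hyi] at this
    rw [C.val_conj g⁻¹ w ew]
    exact this

/-- An element of the second factor alone is not central. -/
theorem plane_ne_central {a a' c d : Fin k → F} (qa : Pl J a a') (q : Pl J c d) :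
    el i (1 : Matrix (Fin k) (Fin k) F) (pl J c d) ≠ 1 ∧ el i (1 : Matrix (Fin k) (Fin k) F) (pl J c d) ≠ -1 ∧
      el i 1 (pl J c d) ≠ el i (pl J a a') 1 ∧ el i 1 (pl J c d) ≠ -el i (pl J a a') 1 := by
  haveI := C.toEnv.neZero
  have h := C.frm
  have p := C.pr
  have hk := C.four
  have one0 : (1 : Matrix (Fin k) (Fin k) F) ≠ 0 := one_ne_zero
  refine ⟨fun e0 => ?_, fun e0 => ?_, fun e0 => ?_, fun e0 => ?_⟩
  · obtain ⟨u, hu, -, e'⟩ := p.el_eq_one e0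
    exact pl_ne_smul h (by omega) q _ e'
  · rw [← el_one (i := i), ← p.el_neg_left] at e0
    obtain ⟨u, hu, -, e'⟩ := p.el_eq_el e0 one0 ((isSim_pl h q).ne_zero h)
    exact pl_ne_smul h (by omega) q u⁻¹ (by rw [e', smul_smul, inv_mul_cancel₀ hu, one_smul])
  · obtain ⟨u, hu, e', -⟩ := p.el_eq_el e0.symm ((isSim_pl h qa).ne_zero h) one0
    exact pl_ne_smul h (by omega) qa u e'
  · rw [← p.el_neg_left] at e0
    obtain ⟨u, hu, -, e'⟩ := p.el_eq_el e0 one0 ((isSim_pl h q).ne_zero h)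
    exact pl_ne_smul h (by omega) q u⁻¹ (by rw [e', smul_smul, inv_mul_cancel₀ hu, one_smul])

/-- The preimage of a plane of square discriminant is a plane. -/
theorem image_square {a a' e e' a₁ e₁ b c d o : Fin k → F} (f : Fr4 J a a' e e') (fb : Fr4 J b c d o)
    (hbc : bf J c c = bf J b b) {g : GL (Ix τ k) F} (hg : g ∈ M)
    (hz : g.1 * el i (pl J a a') 1 = el i (pl J a a') 1 * g.1)
    (hy : g.1 * el i (pl J a e) 1 * (g⁻¹).1 = el i (pl J a₁ e₁) (pl J b c)) :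
    ∃ b₀ c₀, Pl J b₀ c₀ ∧ (g⁻¹).1 * el i 1 (pl J b c) * ((g⁻¹)⁻¹).1 = el i 1 (pl J b₀ c₀) := by
  classical
  haveI := C.toEnv.neZero
  have h := C.frm
  have p := C.pr
  have hk := C.four
  have hgi := M.inv_mem hg
  have hzi := comm_inv hz
  have hyi := conj_inv hy
  have one0 : (1 : Matrix (Fin k) (Fin k) F) ≠ 0 := one_ne_zero
  have back : ∀ {X Y : Matrix (Ix τ k) (Ix τ k) F}, (g⁻¹).1 * X * ((g⁻¹)⁻¹).1 = Y →
      g.1 * Y * (g⁻¹).1 = X := fun e => by simpa using conj_inv e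
  obtain ⟨r, hr, er⟩ := C.exists_el isSim_one (isSim_pl h fb.left) (by rw [Matrix.det_one, C.det_pl fb.left])
  obtain ⟨s, hs, es⟩ := C.exists_el isSim_one (qtr_spec h fb.left hbc).2.1
    (by rw [Matrix.det_one, det_qtr h C.even fb.left hbc])
  have hqbc : qtr J b c * pl J b c = pl J b c * qtr J b c := by
    rw [← fb.qtr_sq hbc, Matrix.mul_assoc]
  obtain ⟨T0, eT0, hT0, hT0sq, hT0d⟩ : ∃ T0, (g⁻¹).1 * el i 1 (pl J b c) * ((g⁻¹)⁻¹).1 = el i 1 T0 ∧
      IsSim J T0 1 ∧ T0 * T0 = 1 ∧ T0.det = 1 := by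
    obtain ⟨A, B, μ, hA, hB, eAB, hAP, hAe⟩ := C.pull_el f hg hz hy hs es hqbc
    obtain ⟨hA2, -, -⟩ := f.diag_square hA hAP hAe
    have e1 : (g⁻¹).1 * el i 1 (pl J b c) * ((g⁻¹)⁻¹).1 = el i 1 (μ • (B * B)) := by
      rw [show el i (1 : Matrix (Fin k) (Fin k) F) (pl J b c) = el i 1 (qtr J b c) * el i 1 (qtr J b c) by
        rw [el_mul, Matrix.one_mul, fb.qtr_sq hbc], conj_mul, eAB, el_mul, hA2, p.el_smul_swap]
    have hT : IsSim J (μ • (B * B)) 1 := by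
      have := (hB.mul hB).smul hA.1
      rwa [show μ * μ * (μ⁻¹ * μ⁻¹) = 1 by field_simp [hA.1]] at this
    refine ⟨_, e1, hT, ?_, ?_⟩
    · have h2 : el i (1 : Matrix (Fin k) (Fin k) F) (μ • (B * B) * (μ • (B * B))) = el i 1 1 := by
        conv_lhs => rw [← Matrix.one_mul (1 : Matrix (Fin k) (Fin k) F), ← el_mul, ← e1, ← conj_mul, el_mul,
          Matrix.one_mul, pl_mul_self h fb.left, el_one, Matrix.mul_one, Units.mul_inv]
        rw [el_one]
      exact p.el_right_cancel h2 one0 ((hT.mul hT).ne_zero h)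
    · rw [← C.toEnv.det_eq_of_om isSim_one hT (C.le (M.mul_mem (M.mul_mem hgi hr) (M.inv_mem hgi)))
        ((C.val_conj g⁻¹ r er).trans e1), Matrix.det_one]
  rcases det_one_shape h f.dim hT0 hT0sq hT0d with rfl | rfl | ⟨b₀, c₀, q0, rfl⟩
  · refine absurd ?_ (C.plane_ne_central f.left fb.left).1
    have h0 := back eT0
    rw [el_one, Matrix.mul_one, g.mul_inv] at h0
    exact h0.symm
  · refine absurd ?_ (C.plane_ne_central f.left fb.left).2.1
    have h0 := back eT0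
    rw [p.el_neg_right, el_one, Matrix.mul_neg, Matrix.neg_mul, Matrix.mul_one, g.mul_inv] at h0
    exact h0.symm
  · exact ⟨b₀, c₀, q0, eT0⟩

/-- The preimage of a second plane through a line of the first. -/
theorem image_second {a a' e e' a₁ a₁' e₁ e₁' b c d o b₀' c₀' : Fin k → F} (f : Fr4 J a a' e e')
    (hq : bf J e' e' = bf J e e) (f1 : Fr4 J a₁ a₁' e₁ e₁') (fb : Fr4 J b c d o) {g : GL (Ix τ k) F} (hg : g ∈ M)
    (hz : g.1 * el i (pl J a a') 1 = el i (pl J a a') 1 * g.1)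
    (hy : g.1 * el i (pl J a e) 1 * (g⁻¹).1 = el i (pl J a₁ e₁) (pl J b c))
    (eT0 : (g⁻¹).1 * el i 1 (pl J b c) * ((g⁻¹)⁻¹).1 = el i 1 (pl J b₀' c₀')) :
    ∃ T2, (g⁻¹).1 * el i 1 (pl J b d) * ((g⁻¹)⁻¹).1 = el i (pl J a a') T2 ∧
      IsSim J T2 1 ∧ T2 * T2 = 1 ∧ T2.det = 1 := by
  classical
  haveI := C.toEnv.neZero
  have h := C.frm
  have p := C.pr
  have hk := C.four
  have hgi := M.inv_mem hg
  have hzi := comm_inv hz
  have hyi := conj_inv hy
  have one0 : (1 : Matrix (Fin k) (Fin k) F) ≠ 0 := one_ne_zero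
  obtain ⟨r2, hr2, er2⟩ := C.exists_el isSim_one (isSim_pl h fb.mid) (by rw [Matrix.det_one, C.det_pl fb.mid])
  have hbcbd : pl J b c * pl J b d = pl J b d * pl J b c := by
    rw [pl_mul_pl h fb.left, pl_mul_pl h fb.mid, rot_comm_orth h fb.a'e]
  have commz : ∀ B : Matrix (Fin k) (Fin k) F, el i 1 B * el i (pl J a a') 1 = el i (pl J a a') 1 * el i 1 B :=
    fun B => by rw [el_mul, el_mul, Matrix.one_mul, Matrix.mul_one, Matrix.one_mul, Matrix.mul_one]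
  have commq : ∀ B : Matrix (Fin k) (Fin k) F, el i 1 B * el i (qtr J e e') 1 = el i (qtr J e e') 1 * el i 1 B :=
    fun B => by rw [el_mul, el_mul, Matrix.one_mul, Matrix.mul_one, Matrix.one_mul, Matrix.mul_one]
  obtain ⟨A, B, μ, hA, hB, eAB, hAP, hAe⟩ := C.pull_el f hg hz hy hr2 er2 hbcbd.symm
  obtain ⟨hA2, ⟨u, hu⟩, pa, qa', re, te, -, -, ee1, ee2⟩ := f.diag_square hA hAP hAe
  have hu0 : u ≠ 0 := fun h0 => hA.1 (by rw [hu, h0, zero_mul])
  obtain ⟨A', hA'⟩ : ∃ A', A' = u⁻¹ • A := ⟨_, rfl⟩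
  obtain ⟨B', hB'⟩ : ∃ B', B' = u • B := ⟨_, rfl⟩
  have ev : (g⁻¹).1 * el i 1 (pl J b d) * ((g⁻¹)⁻¹).1 = el i A' B' := by
    rw [eAB, hA', hB', p.el_smul_left, p.el_smul_right, smul_smul, inv_mul_cancel₀ hu0, one_smul]
  have sA : IsSim J A' 1 := by
    have := hA.smul (inv_ne_zero hu0)
    rw [← hA', hu, show u⁻¹ * u⁻¹ * (u * u) = 1 by field_simp] at this
    exact this
  have sB : IsSim J B' 1 := by
    have := hB.smul hu0
    rw [← hB', hu, show u * u * (u * u)⁻¹ = 1 by field_simp] at this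
    exact this
  have eA : A' * A' = 1 := by
    rw [hA', Matrix.smul_mul, Matrix.mul_smul, hA2, smul_smul, smul_smul, hu,
      show u⁻¹ * u⁻¹ * (u * u) = 1 by field_simp, one_smul]
  have eB : B' * B' = 1 := by
    have h2 : el i (1 : Matrix (Fin k) (Fin k) F) (B' * B') = el i 1 1 := by
      conv_lhs => rw [← eA, ← el_mul, ← ev, ← conj_mul, el_mul, Matrix.one_mul, pl_mul_self h fb.mid, el_one,
        Matrix.mul_one, Units.mul_inv]
      rw [el_one]
    exact p.el_right_cancel h2 one0 ((sB.mul sB).ne_zero h)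
  have wv := (C.val_conj g⁻¹ r2 er2).trans ev
  have hdd := C.toEnv.det_eq_of_om sA sB (C.le (M.mul_mem (M.mul_mem hgi hr2) (M.inv_mem hgi))) wv
  have hsig : sig A' = 0 ∨ sig B' = 0 := by
    refine mul_eq_zero.1 ?_
    rw [← p.sig_el h.two eA eB, ← ev, sig_conj (g⁻¹).inv_mul, p.sig_el h.two (Matrix.one_mul 1)
      (pl_mul_self h fb.mid)]
    refine mul_eq_zero_of_right _ ?_
    rw [pl, sig_rot_two h fb.qa fb.qe fb.ae, Fintype.card_fin, f.dim]
    rfl
  have hdA : A'.det = 1 := by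
    rcases hsig with h0 | h0
    · exact det_of_sig h f.dim sA eA h0
    · rw [hdd]; exact det_of_sig h f.dim sB eB h0
  have hAq : A' * qtr J e e' = qtr J e e' * A' := by
    have h1 := C.conj_keep f hq hgi hzi (commq (pl J b d)) (commz _)
    rw [ev, el_mul, el_mul, Matrix.mul_one, Matrix.one_mul] at h1
    exact p.el_left_cancel h1 ((sA.mul (qtr_spec h f.right hq).2.1).ne_zero h) (sB.ne_zero h)
  have hee : u⁻¹ * te = u⁻¹ * re := by
    have h1 := congrArg (fun Z => bf J e (Z *ᵥ e')) hAq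
    simp only [← Matrix.mulVec_mulVec, hA', Matrix.smul_mulVec, f.swap.qtr_a' hq, ee1, ee2, Matrix.mulVec_smul,
      smul_smul, bf_smul_right] at h1
    exact (mul_right_cancel₀ f.qe h1).symm
  obtain ⟨ε, hε⟩ : ∃ ε, ε = u⁻¹ * re := ⟨_, rfl⟩
  have heA : A' *ᵥ e = ε • e := by rw [hA', Matrix.smul_mulVec, ee1, smul_smul, hε]
  have heA' : A' *ᵥ e' = ε • e' := by rw [hA', Matrix.smul_mulVec, ee2, smul_smul, hee, hε]
  have hε2 : ε * ε = 1 := by
    have := sA.bf e e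
    rw [heA, bf_smul_left, bf_smul_right, one_mul, ← mul_assoc] at this
    exact mul_right_cancel₀ f.qe (by rw [one_mul]; exact this)
  have hε0 : ε ≠ 0 := left_ne_zero_of_mul (by rw [hε2]; exact one_ne_zero)
  obtain ⟨W, hW⟩ : ∃ W, W = ε • A' := ⟨_, rfl⟩
  obtain ⟨T, hT⟩ : ∃ T, T = ε • B' := ⟨_, rfl⟩
  have eW : el i A' B' = el i W T := by
    rw [hW, hT, p.el_smul_left, p.el_smul_right, smul_smul, hε2, one_smul]
  have sW : IsSim J W 1 := by
    have := sA.smul hε0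
    rwa [hε2, one_mul, ← hW] at this
  have sT : IsSim J T 1 := by
    have := sB.smul hε0
    rwa [hε2, one_mul, ← hT] at this
  have hW2 : W * W = 1 := by rw [hW, Matrix.smul_mul, Matrix.mul_smul, eA, smul_smul, hε2, one_smul]
  have hT2' : T * T = 1 := by rw [hT, Matrix.smul_mul, Matrix.mul_smul, eB, smul_smul, hε2, one_smul]
  have hεk : ε ^ k = 1 := by
    rw [f.dim, show (4 : ℕ) = 2 * 2 from rfl, pow_mul, pow_two ε, hε2, one_pow]
  have dW : W.det = 1 := by rw [hW, Matrix.det_smul, Fintype.card_fin, hεk, hdA, one_mul]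
  have dT : T.det = 1 := by rw [hT, Matrix.det_smul, Fintype.card_fin, hεk, ← hdd, hdA, one_mul]
  have hfix : ∀ v, bf J a v = 0 → bf J a' v = 0 → W *ᵥ v = v := by
    intro v h1 h2
    rw [f.expand v, pr_perp J h1, pr_perp J h2, add_zero, zero_add, Matrix.mulVec_add, pr_mulVec, pr_mulVec,
      Matrix.mulVec_smul, Matrix.mulVec_smul, hW, Matrix.smul_mulVec, Matrix.smul_mulVec, heA, heA']
    simp only [smul_smul, mul_assoc, hε2, mul_one]
  rw [ev, eW]
  rcases pl_of_fix_plane h (by omega) f.left sW hW2 dW hfix with hW1 | hW1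
  · exfalso
    rw [hW1] at eW
    have hgm : Mono (g⁻¹).1 := by
      refine C.symm.lin hgi fb.left fb.mid fb.a'e (s := l) (X := pl J b₀' c₀') (X' := T) ?_ ?_
      · rw [p.el_swap, eT0, p.embM_other]
      · rw [p.el_swap, ev, eW, p.embM_other]
    have hgm' : Mono g.1 := by
      have := hgm.inv (g⁻¹).mul_inv
      simpa using this
    obtain ⟨A1, B1, μ1, hA1, hB1, hh | hh⟩ := C.toEnv.mono_conj (C.iso_mem hg) hgm'
    · refine C.not_pure_pp f1.mid fb.left ?_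
      rw [← hy, hh _ _ _ _ (hA1.pl a e) (show B1 * 1 = 1 * B1 by rw [Matrix.mul_one, Matrix.one_mul])]
      exact ⟨_, _, hA1.map_pl f.mid, Or.inl rfl⟩
    · refine C.not_pure_pp f1.mid fb.left ?_
      rw [← hy, hh _ _ _ _ (show A1 * 1 = 1 * A1 by rw [Matrix.mul_one, Matrix.one_mul]) (hB1.pl a e)]
      exact ⟨_, _, hB1.map_pl f.mid, Or.inr rfl⟩
  · exact ⟨T, by rw [hW1], sT, hT2', dT⟩

/-- A common frame of the two preimages. -/
theorem image_frame {a a' e e' a₁ e₁ b c d o b₀' c₀' : Fin k → F} {T2 : Matrix (Fin k) (Fin k) F}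
    (f : Fr4 J a a' e e') (fb : Fr4 J b c d o) (q0 : Pl J b₀' c₀') {g : GL (Ix τ k) F} (hg : g ∈ M)
    (hz : g.1 * el i (pl J a a') 1 = el i (pl J a a') 1 * g.1)
    (hy : g.1 * el i (pl J a e) 1 * (g⁻¹).1 = el i (pl J a₁ e₁) (pl J b c))
    (eT0 : (g⁻¹).1 * el i 1 (pl J b c) * ((g⁻¹)⁻¹).1 = el i 1 (pl J b₀' c₀'))
    (eT2 : (g⁻¹).1 * el i 1 (pl J b d) * ((g⁻¹)⁻¹).1 = el i (pl J a a') T2) (hT2 : IsSim J T2 1)
    (hT2sq : T2 * T2 = 1) (hT2d : T2.det = 1) :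
    ∃ b₀ c₀ d₀ o₀, Fr4 J b₀ c₀ d₀ o₀ ∧
      (g⁻¹).1 * el i 1 (pl J b c) * ((g⁻¹)⁻¹).1 = el i 1 (pl J b₀ c₀) ∧
      (g⁻¹).1 * el i 1 (pl J b d) * ((g⁻¹)⁻¹).1 = el i (pl J a a') (pl J b₀ d₀) := by
  classical
  haveI := C.toEnv.neZero
  have h := C.frm
  have p := C.pr
  have hk := C.four
  have hgi := M.inv_mem hg
  have hzi := comm_inv hz
  have hyi := conj_inv hy
  have one0 : (1 : Matrix (Fin k) (Fin k) F) ≠ 0 := one_ne_zero
  have back : ∀ {X Y : Matrix (Ix τ k) (Ix τ k) F}, (g⁻¹).1 * X * ((g⁻¹)⁻¹).1 = Y →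
      g.1 * Y * (g⁻¹).1 = X := fun e => by simpa using conj_inv e
  have hbcbd : pl J b c * pl J b d = pl J b d * pl J b c := by
    rw [pl_mul_pl h fb.left, pl_mul_pl h fb.mid, rot_comm_orth h fb.a'e]
  obtain ⟨d₀', o₀', fb0⟩ := exists_fr4 h f.dim q0
  have hcomm0 : T2 * pl J b₀' c₀' = pl J b₀' c₀' * T2 := by
    have h0 : el i (1 : Matrix (Fin k) (Fin k) F) (pl J b d) * el i 1 (pl J b c) =
        el i 1 (pl J b c) * el i 1 (pl J b d) := by
      rw [el_mul, el_mul, hbcbd]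
    have := congrArg (fun Z => (g⁻¹).1 * Z * ((g⁻¹)⁻¹).1) h0
    beta_reduce at this
    rw [conj_mul, conj_mul, eT0, eT2, el_mul, el_mul, Matrix.mul_one, Matrix.one_mul] at this
    exact p.el_right_cancel this ((isSim_pl h f.left).ne_zero h) ((hT2.mul (isSim_pl h q0)).ne_zero h)
  have hT2ne : T2 ≠ pl J b₀' c₀' ∧ T2 ≠ -pl J b₀' c₀' := by
    constructor <;> intro e0
    · refine (C.plane_ne_central f.left (⟨fb.qa', fb.qe, fb.a'e⟩ : Pl J c d)).2.2.1 ?_
      have hX : el i (1 : Matrix (Fin k) (Fin k) F) (pl J b c) * el i 1 (pl J b d) = el i 1 (pl J c d) := by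
        rw [el_mul, Matrix.one_mul, pl_mul_pl h fb.left]
        rfl
      have h1 : (g⁻¹).1 * el i 1 (pl J c d) * ((g⁻¹)⁻¹).1 = el i (pl J a a') 1 := by
        rw [← hX, conj_mul, eT0, eT2, el_mul, Matrix.one_mul, e0, pl_mul_self h q0]
      rw [← back h1, conj_of_comm hz]
    · refine (C.plane_ne_central f.left (⟨fb.qa', fb.qe, fb.a'e⟩ : Pl J c d)).2.2.2 ?_
      have hX : el i (1 : Matrix (Fin k) (Fin k) F) (pl J b c) * el i 1 (pl J b d) = el i 1 (pl J c d) := by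
        rw [el_mul, Matrix.one_mul, pl_mul_pl h fb.left]
        rfl
      have h1 : (g⁻¹).1 * el i 1 (pl J c d) * ((g⁻¹)⁻¹).1 = -el i (pl J a a') 1 := by
        rw [← hX, conj_mul, eT0, eT2, el_mul, Matrix.one_mul, e0, Matrix.mul_neg, pl_mul_self h q0, p.el_neg_right]
      rw [← back h1, Matrix.mul_neg, Matrix.neg_mul, conj_of_comm hz]
  -- the joint frame
  have hk2 : 2 ≤ k := by omega
  have fixv : ∀ {x x' u u' : Fin k → F} {Z : Matrix (Fin k) (Fin k) F}, Fr4 J x x' u u' → IsSim J Z 1 →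
      Z * Z = 1 → Z.det = 1 → Z * pp J x x' = pp J x x' → Z = 1 ∨ Z = pl J u u' := by
    intro x x' u u' Z fx hZ hZ2 hdZ e0
    refine pl_of_fix_plane h hk2 fx.swap.left hZ hZ2 hdZ fun v h1 h2 => ?_
    have hu : pp J u u' *ᵥ v = 0 := by
      rw [pp, Matrix.add_mulVec, pr_perp J h1, pr_perp J h2, add_zero]
    have hv : pp J x x' *ᵥ v = v := by
      conv_rhs => rw [← Matrix.one_mulVec v, ← fx.sum_pp, Matrix.add_mulVec, hu, add_zero]
    rw [← hv, Matrix.mulVec_mulVec, e0]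
  have bad : ∀ {x x' u u' : Fin k → F}, Fr4 J x x' u u' → (pl J x x' = pl J b₀' c₀' ∨ pl J x x' = -pl J b₀' c₀') →
      (T2 * pp J x x' = pp J x x' ∨ T2 * pp J x x' = -pp J x x') → False := by
    intro x x' u u' fx hxx e0
    have nT : IsSim J (-T2) 1 := by
      rw [← neg_one_smul F T2]
      simpa using hT2.smul (c := (-1 : F)) (neg_ne_zero.2 one_ne_zero)
    have huu : pl J u u' = pl J b₀' c₀' ∨ pl J u u' = -pl J b₀' c₀' := by
      rw [fx.pl_neg]
      rcases hxx with e | e <;> rw [e]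
      · exact Or.inr rfl
      · exact Or.inl (neg_neg _)
    have one_no : T2 ≠ 1 ∧ T2 ≠ -1 := by
      constructor <;> intro e1
      · refine (C.plane_ne_central f.left fb.mid).2.2.1 ?_
        rw [← back eT2, e1, conj_of_comm hz]
      · refine (C.plane_ne_central f.left fb.mid).2.2.2 ?_
        rw [← back eT2, e1, p.el_neg_right, Matrix.mul_neg, Matrix.neg_mul, conj_of_comm hz]
    rcases e0 with e0 | e0
    · rcases fixv fx hT2 hT2sq hT2d e0 with e1 | e1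
      · exact one_no.1 e1
      · rcases huu with e | e
        · exact hT2ne.1 (e1.trans e)
        · exact hT2ne.2 (e1.trans e)
    · rcases fixv fx nT (by rw [neg_mul_neg, hT2sq])
        (by rw [Matrix.det_neg, Fintype.card_fin, C.even.neg_one_pow, one_mul, hT2d])
        (by rw [Matrix.neg_mul, e0, neg_neg]) with e1 | e1
      · exact one_no.2 (neg_eq_iff_eq_neg.1 e1)
      · rcases huu with e | e <;> rw [e] at e1
        · exact hT2ne.2 (neg_eq_iff_eq_neg.1 e1)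
        · exact hT2ne.1 (neg_inj.1 e1)
  rcases fb0.eigen_pair hT2 hT2sq hcomm0 with e0 | e0 | ⟨b₀, c₀, f2, hf2, r1, r2⟩
  · exact (bad fb0 (Or.inl rfl) (Or.inl e0)).elim
  · exact (bad fb0 (Or.inl rfl) (Or.inr e0)).elim
  rcases f2.swap.eigen_pair hT2 hT2sq
    (by rw [f2.pl_neg, Matrix.mul_neg, Matrix.neg_mul, hf2, hcomm0]) with e0 | e0 | ⟨d₀, o₀, f3, hf3, r3, r4⟩
  · exact (bad f2.swap (Or.inr (by rw [f2.pl_neg, hf2])) (Or.inl e0)).elim
  · exact (bad f2.swap (Or.inr (by rw [f2.pl_neg, hf2])) (Or.inr e0)).elim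
  refine ⟨b₀, c₀, d₀, o₀, f3.swap, by rw [eT0, hf2], ?_⟩
  rw [eT2]
  congr 1
  refine f3.swap.ext ?_ ?_ ?_ ?_
  · rw [r1, f3.swap.mix.pl_a]
  · rw [r2, f3.swap.mix.pl_e]
  · rw [r3, f3.swap.mix.pl_a']
  · rw [r4, f3.swap.mix.pl_e']

/-- The common eigenline on the first line of the second plane. -/
theorem line_fst {a a' e e' a₁ a₁' e₁ w b c d o : Fin k → F} (f : Fr4 J a a' e e') (f2 : Fr4 J a₁ a₁' e₁ w)
    (hpp : pp J e e' = pp J e₁ w) (fb : Fr4 J b c d o) {v : Ix τ k → F}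
    (v1 : el i (pl J a a') 1 *ᵥ v = (1 : F) • v) (v2 : el i 1 (pl J b c) *ᵥ v = (-1 : F) • v)
    (v3 : el i 1 (pl J b d) *ᵥ v = (-1 : F) • v) (v4 : el i (pl J a₁ e₁) (pl J b c) *ᵥ v = (-1 : F) • v) :
    ∃ α : F, v = α • vv i w b := by
  have h := C.frm
  have p := C.pr
  have hwk : (2 : F)⁻¹ * 2 = 1 := inv_mul_cancel₀ h.two
  have eigz : el i (pp J e e') (1 : Matrix (Fin k) (Fin k) F) = (2 : F)⁻¹ • (1 + el i (pl J a a') 1) := by
    rw [f.swap.pp_eq, f.pl_neg, sub_neg_eq_add, p.el_smul_left, p.el_add_left, el_one]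
  have eigr : ∀ (u u' : Fin k → F) (q : Pl J u u'), el i (1 : Matrix (Fin k) (Fin k) F) (pp J u u') =
      (2 : F)⁻¹ • (1 - el i 1 (pl J u u')) := fun u u' q => by
    rw [pl_eq h q, p.el_sub_right, el_one, sub_sub_cancel, p.el_smul_right, smul_smul, hwk, one_smul]; rfl
  have fixz : ∀ (v : Ix τ k → F), el i (pl J a a') 1 *ᵥ v = (1 : F) • v → el i (pp J e e') 1 *ᵥ v = v := by
    intro v hv
    rw [eigz, Matrix.smul_mulVec, Matrix.add_mulVec, Matrix.one_mulVec, hv, one_smul, ← two_smul F, smul_smul, hwk,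
      one_smul]
  have fixr : ∀ (u u' : Fin k → F) (q : Pl J u u') (v : Ix τ k → F),
      el i 1 (pl J u u') *ᵥ v = (-1 : F) • v → el i (1 : Matrix (Fin k) (Fin k) F) (pp J u u') *ᵥ v = v := by
    intro u u' q v hv
    rw [eigr u u' q, Matrix.smul_mulVec, Matrix.sub_mulVec, Matrix.one_mulVec, hv, neg_one_smul, sub_neg_eq_add,
      ← two_smul F, smul_smul, hwk, one_smul]
  have hb : pp J b c * pp J b d = pr J b := by
    rw [pp, pp, Matrix.add_mul, Matrix.mul_add, Matrix.mul_add, pr_mul_self J fb.qa, pr_mul_perp J fb.ae,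
      pr_mul_perp J fb.a'a, pr_mul_perp J fb.a'e, add_zero, add_zero, add_zero]
  have u1 : el i (pp J e e') (pr J b) *ᵥ v = v := by
    rw [show el i (pp J e e') (pr J b) = el i (pp J e e') 1 * (el i 1 (pp J b c) * el i 1 (pp J b d)) by
      rw [el_mul, el_mul, hb, Matrix.one_mul, Matrix.mul_one, Matrix.one_mul], ← Matrix.mulVec_mulVec,
      ← Matrix.mulVec_mulVec, fixr b d fb.mid v v3, fixr b c fb.left v v2, fixz v v1]
  have hb2 : pr J b * pl J b c = -pr J b := by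
    rw [pl_eq h fb.left, Matrix.mul_sub, Matrix.mul_smul, Matrix.mul_add, pr_mul_self J fb.qa,
      pr_mul_perp J fb.aa', add_zero, Matrix.mul_one, two_smul]
    abel
  have he : pp J e e' + pp J e e' * pl J a₁ e₁ = (2 : F) • pr J w := by
    rw [hpp]
    refine f2.ext ?_ ?_ ?_ ?_ <;>
      rw [Matrix.add_mulVec, ← Matrix.mulVec_mulVec, Matrix.smul_mulVec]
    · rw [f2.mix.pl_a, Matrix.mulVec_neg, f2.swap.pp_e, pr_perp J f2.e'a, smul_zero, neg_zero, add_zero]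
    · rw [f2.mix.pl_e, f2.swap.pp_e', pr_perp J f2.e'a', smul_zero, add_zero]
    · rw [f2.mix.pl_a', Matrix.mulVec_neg, f2.swap.pp_a, pr_perp J f2.e'e, smul_zero, add_neg_cancel]
    · rw [f2.mix.pl_e', f2.swap.pp_a', pr_self J f2.qe', two_smul]
  have u2 : el i (pr J w) (pr J b) *ᵥ v = v := by
    have h1 : el i (pp J e e') (pr J b) * el i (pl J a₁ e₁) (pl J b c) =
        -el i (pp J e e' * pl J a₁ e₁) (pr J b) := by rw [el_mul, hb2, p.el_neg_right]
    have h2 : el i (pp J e e' * pl J a₁ e₁) (pr J b) *ᵥ v = v := by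
      rw [← neg_neg (el i (pp J e e' * pl J a₁ e₁) (pr J b)), ← h1, Matrix.neg_mulVec, ← Matrix.mulVec_mulVec, v4,
        Matrix.mulVec_smul, u1, neg_one_smul, neg_neg]
    have h3 : (2 : F) • el i (pr J w) (pr J b) *ᵥ v = (2 : F) • v := by
      rw [← Matrix.smul_mulVec, ← p.el_smul_left, ← he, p.el_add_left, Matrix.add_mulVec, u1, h2, two_smul]
    exact smul_right_injective _ h.two h3
  refine ⟨(bf (JJ J τ) (vv i w b) (vv i w b))⁻¹ * bf (JJ J τ) (vv i w b) v, ?_⟩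
  conv_lhs => rw [← u2, p.el_pr_pr, pr_mulVec]

/-- The common eigenline on the second line of the second plane. -/
theorem line_snd {a a' e e' a₁ a₁' e₁ w b c d o : Fin k → F} (f : Fr4 J a a' e e') (f2 : Fr4 J a₁ a₁' e₁ w)
    (hpp : pp J e e' = pp J e₁ w) (fb : Fr4 J b c d o) {v : Ix τ k → F}
    (v1 : el i (pl J a a') 1 *ᵥ v = (1 : F) • v) (v2 : el i 1 (pl J b c) *ᵥ v = (1 : F) • v)
    (v3 : el i 1 (pl J b d) *ᵥ v = (-1 : F) • v) (v4 : el i (pl J a₁ e₁) (pl J b c) *ᵥ v = (-1 : F) • v) :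
    ∃ β : F, v = β • vv i e₁ d := by
  have h := C.frm
  have p := C.pr
  have hwk : (2 : F)⁻¹ * 2 = 1 := inv_mul_cancel₀ h.two
  have eigz : el i (pp J e e') (1 : Matrix (Fin k) (Fin k) F) = (2 : F)⁻¹ • (1 + el i (pl J a a') 1) := by
    rw [f.swap.pp_eq, f.pl_neg, sub_neg_eq_add, p.el_smul_left, p.el_add_left, el_one]
  have eigr : ∀ (u u' : Fin k → F) (q : Pl J u u'), el i (1 : Matrix (Fin k) (Fin k) F) (pp J u u') =
      (2 : F)⁻¹ • (1 - el i 1 (pl J u u')) := fun u u' q => by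
    rw [pl_eq h q, p.el_sub_right, el_one, sub_sub_cancel, p.el_smul_right, smul_smul, hwk, one_smul]; rfl
  have fixz : ∀ (v : Ix τ k → F), el i (pl J a a') 1 *ᵥ v = (1 : F) • v → el i (pp J e e') 1 *ᵥ v = v := by
    intro v hv
    rw [eigz, Matrix.smul_mulVec, Matrix.add_mulVec, Matrix.one_mulVec, hv, one_smul, ← two_smul F, smul_smul, hwk,
      one_smul]
  have fixr : ∀ (u u' : Fin k → F) (q : Pl J u u') (v : Ix τ k → F),
      el i 1 (pl J u u') *ᵥ v = (-1 : F) • v → el i (1 : Matrix (Fin k) (Fin k) F) (pp J u u') *ᵥ v = v := by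
    intro u u' q v hv
    rw [eigr u u' q, Matrix.smul_mulVec, Matrix.sub_mulVec, Matrix.one_mulVec, hv, neg_one_smul, sub_neg_eq_add,
      ← two_smul F, smul_smul, hwk, one_smul]
  have hd' : pp J d o * pp J b d = pr J d := by
    rw [pp, pp, Matrix.add_mul, Matrix.mul_add, Matrix.mul_add, pr_mul_self J fb.qe, pr_mul_perp J fb.ea,
      pr_mul_perp J fb.e'a, pr_mul_perp J fb.e'e, zero_add, add_zero, add_zero]
  have v2' : el i (1 : Matrix (Fin k) (Fin k) F) (pl J d o) *ᵥ v = (-1 : F) • v := by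
    rw [fb.pl_neg, p.el_neg_right, Matrix.neg_mulVec, v2, one_smul, neg_one_smul]
  have u1 : el i (pp J e e') (pr J d) *ᵥ v = v := by
    rw [show el i (pp J e e') (pr J d) = el i (pp J e e') 1 * (el i 1 (pp J d o) * el i 1 (pp J b d)) by
      rw [el_mul, el_mul, hd', Matrix.one_mul, Matrix.mul_one, Matrix.one_mul], ← Matrix.mulVec_mulVec,
      ← Matrix.mulVec_mulVec, fixr b d fb.mid v v3, fixr d o fb.right v v2', fixz v v1]
  have hd2 : pr J d * pl J b c = pr J d := by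
    rw [pl_eq h fb.left, Matrix.mul_sub, Matrix.mul_smul, Matrix.mul_add, pr_mul_perp J fb.ea,
      pr_mul_perp J fb.ea', add_zero, smul_zero, sub_zero, Matrix.mul_one]
  have he : pp J e e' - pp J e e' * pl J a₁ e₁ = (2 : F) • pr J e₁ := by
    rw [hpp]
    refine f2.ext ?_ ?_ ?_ ?_ <;>
      rw [Matrix.sub_mulVec, ← Matrix.mulVec_mulVec, Matrix.smul_mulVec]
    · rw [f2.mix.pl_a, Matrix.mulVec_neg, f2.swap.pp_e, pr_perp J f2.ea, smul_zero, neg_zero, sub_zero]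
    · rw [f2.mix.pl_e, f2.swap.pp_e', pr_perp J f2.ea', smul_zero, sub_zero]
    · rw [f2.mix.pl_a', Matrix.mulVec_neg, f2.swap.pp_a, pr_self J f2.qe, sub_neg_eq_add, two_smul]
    · rw [f2.mix.pl_e', f2.swap.pp_a', pr_perp J f2.ee', smul_zero, sub_self]
  have u2 : el i (pr J e₁) (pr J d) *ᵥ v = v := by
    have h1 : el i (pp J e e') (pr J d) * el i (pl J a₁ e₁) (pl J b c) =
        el i (pp J e e' * pl J a₁ e₁) (pr J d) := by rw [el_mul, hd2]
    have h2 : el i (pp J e e' * pl J a₁ e₁) (pr J d) *ᵥ v = -v := by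
      rw [← h1, ← Matrix.mulVec_mulVec, v4, Matrix.mulVec_smul, u1, neg_one_smul]
    have h3 : (2 : F) • el i (pr J e₁) (pr J d) *ᵥ v = (2 : F) • v := by
      rw [← Matrix.smul_mulVec, ← p.el_smul_left, ← he, p.el_sub_left, Matrix.sub_mulVec, u1, h2, sub_neg_eq_add,
        two_smul]
    exact smul_right_injective _ h.two h3
  refine ⟨(bf (JJ J τ) (vv i e₁ d) (vv i e₁ d))⁻¹ * bf (JJ J τ) (vv i e₁ d) v, ?_⟩
  conv_lhs => rw [← u2, p.el_pr_pr, pr_mulVec]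

/-- The two quarter rotations do not commute. -/
theorem twist_false {a a' e e' a₁ a₁' e₁ w b c d o b₀ c₀ d₀ o₀ : Fin k → F} {α γ : F} (f : Fr4 J a a' e e')
    (hq : bf J e' e' = bf J e e) (f2 : Fr4 J a₁ a₁' e₁ w) (hw : w = qtr J e e' *ᵥ e₁)
    (hqw : qtr J e e' *ᵥ w = -e₁) (fb : Fr4 J b c d o) (hbd : bf J d d = bf J b b) (g1 : Fr4 J b₀ c₀ d₀ o₀)
    (ht : bf J d₀ d₀ = bf J b₀ b₀) {g : GL (Ix τ k) F} (hg : g ∈ M)
    (hz : g.1 * el i (pl J a a') 1 = el i (pl J a a') 1 * g.1)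
    (rr2' : g.1 * el i (pl J a a') (pl J b₀ d₀) * (g⁻¹).1 = el i 1 (pl J b d))
    (hα : g.1 *ᵥ vv i e b₀ = α • vv i w b) (hβ' : g.1 *ᵥ vv i e d₀ = γ • vv i e₁ d)
    (hsq : γ * γ = α * α) (hα0 : α ≠ 0) : False := by
  classical
  haveI := C.toEnv.neZero
  have h := C.frm
  have p := C.pr
  have ez := conj_of_comm hz
  have commz : ∀ B : Matrix (Fin k) (Fin k) F, el i 1 B * el i (pl J a a') 1 = el i (pl J a a') 1 * el i 1 B :=
    fun B => by rw [el_mul, el_mul, Matrix.one_mul, Matrix.mul_one, Matrix.one_mul, Matrix.mul_one]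
  have commq : ∀ B : Matrix (Fin k) (Fin k) F, el i 1 B * el i (qtr J e e') 1 = el i (qtr J e e') 1 * el i 1 B :=
    fun B => by rw [el_mul, el_mul, Matrix.one_mul, Matrix.mul_one, Matrix.one_mul, Matrix.mul_one]
  have eigz : el i (pp J e e') (1 : Matrix (Fin k) (Fin k) F) = (2 : F)⁻¹ • (1 + el i (pl J a a') 1) := by
    rw [f.swap.pp_eq, f.pl_neg, sub_neg_eq_add, p.el_smul_left, p.el_add_left, el_one]
  obtain ⟨h₀, hh₀, eh₀⟩ := C.exists_el isSim_one (qtr_spec h g1.mix.left ht).2.1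
    (by rw [Matrix.det_one, det_qtr h C.even g1.mix.left ht])
  obtain ⟨h₁, hh₁, eh₁⟩ := C.exists_el isSim_one (qtr_spec h fb.mix.left hbd).2.1
    (by rw [Matrix.det_one, det_qtr h C.even fb.mix.left hbd])
  obtain ⟨K, hK⟩ : ∃ K, K = g * h₀ * g⁻¹ := ⟨_, rfl⟩
  have hKM : K ∈ M := hK ▸ M.mul_mem (M.mul_mem hg hh₀) (M.inv_mem hg)
  have eK : K.1 = g.1 * el i 1 (qtr J b₀ d₀) * (g⁻¹).1 := hK ▸ C.val_conj g h₀ eh₀
  have Kz : K.1 * el i (pl J a a') 1 = el i (pl J a a') 1 * K.1 := by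
    have := congrArg (fun Z => g.1 * Z * (g⁻¹).1) (commz (qtr J b₀ d₀))
    simp only [conj_mul, ez, ← eK] at this
    exact this
  have Kq : K.1 * el i (qtr J e e') 1 = el i (qtr J e e') 1 * K.1 := by
    rw [eK]; exact C.conj_keep f hq hg hz (commq _) (commz _)
  -- fixed parts
  obtain ⟨E, hE⟩ : ∃ E : Matrix (Ix τ k) (Ix τ k) F, E = el i (pp J a a') 1 := ⟨_, rfl⟩
  obtain ⟨E1, hE1⟩ : ∃ E1 : Matrix (Ix τ k) (Ix τ k) F, E1 = el i (pp J a a') (pp J b d) := ⟨_, rfl⟩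
  obtain ⟨E2, hE2⟩ : ∃ E2 : Matrix (Ix τ k) (Ix τ k) F, E2 = el i (pp J a a') (pp J c o) := ⟨_, rfl⟩
  obtain ⟨E3, hE3⟩ : ∃ E3 : Matrix (Ix τ k) (Ix τ k) F, E3 = el i (pp J e e') (pp J c o) := ⟨_, rfl⟩
  have hsumE : E = E1 + E2 := by rw [hE, hE1, hE2, ← p.el_add_right, fb.mix.sum_pp]
  have fixK : ∀ (X : Matrix (Ix τ k) (Ix τ k) F) (X₀ : Matrix (Ix τ k) (Ix τ k) F),
      g.1 * X₀ * (g⁻¹).1 = X → el i 1 (qtr J b₀ d₀) * X₀ = X₀ → X₀ * el i 1 (qtr J b₀ d₀) = X₀ →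
      K.1 * X = X ∧ X * K.1 = X := by
    intro X X₀ hX h1 h2
    rw [← hX, eK, ← conj_mul, ← conj_mul, h1, h2]
    exact ⟨rfl, rfl⟩
  have qfix := g1.mix.qtr_fix ht
  have src : pp J a a' * pl J a a' = -pp J a a' ∧ pp J e e' * pl J a a' = pp J e e' := by
    constructor <;> refine f.ext ?_ ?_ ?_ ?_ <;> rw [← Matrix.mulVec_mulVec]
    · rw [f.pl_a, Matrix.mulVec_neg, Matrix.neg_mulVec]
    · rw [f.pl_a', Matrix.mulVec_neg, Matrix.neg_mulVec]
    · rw [f.pl_e, Matrix.neg_mulVec, f.pp_e, neg_zero]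
    · rw [f.pl_e', Matrix.neg_mulVec, f.pp_e', neg_zero]
    · rw [f.pl_a, Matrix.mulVec_neg, f.swap.pp_e, neg_zero]
    · rw [f.pl_a', Matrix.mulVec_neg, f.swap.pp_e', neg_zero]
    · rw [f.pl_e]
    · rw [f.pl_e']
  have ppco : pp J c o = (2 : F)⁻¹ • (1 + pl J b d) := by
    rw [fb.mix.swap.pp_eq, fb.mix.pl_neg, sub_neg_eq_add]
  have ppco0 : pp J c₀ o₀ = (2 : F)⁻¹ • (1 + pl J b₀ d₀) := by
    rw [g1.mix.swap.pp_eq, g1.mix.pl_neg, sub_neg_eq_add]
  have eza : g.1 * el i (pp J a a') 1 * (g⁻¹).1 = el i (pp J a a') 1 := conj_of_comm (C.comm_half f.left hz)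
  have eze : g.1 * el i (pp J e e') 1 * (g⁻¹).1 = el i (pp J e e') 1 := by
    rw [eigz, Matrix.mul_smul, Matrix.smul_mul, Matrix.mul_add, Matrix.add_mul, Matrix.mul_one, g.mul_inv, ez]
  have K1 : K.1 * E1 = E1 ∧ E1 * K.1 = E1 := by
    refine fixK E1 (el i (pp J a a') (pp J c₀ o₀)) ?_ (by rw [el_mul, Matrix.one_mul, qfix.1])
      (by rw [el_mul, Matrix.mul_one, qfix.2])
    have e1 : el i (pp J a a') (pp J c₀ o₀) =
        el i (pp J a a') 1 * ((2 : F)⁻¹ • (1 - el i (pl J a a') (pl J b₀ d₀))) := by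
      rw [ppco0, p.el_smul_right, p.el_add_right, Matrix.mul_smul, Matrix.mul_sub, el_mul, Matrix.mul_one,
        Matrix.one_mul, src.1, p.el_neg_left, sub_neg_eq_add]
    rw [e1, conj_mul, eza, Matrix.mul_smul g.1, Matrix.smul_mul, Matrix.mul_sub, Matrix.sub_mul, Matrix.mul_one,
      g.mul_inv, rr2', hE1, fb.mix.pp_eq, p.el_smul_right, p.el_sub_right, Matrix.mul_smul, Matrix.mul_sub,
      Matrix.mul_one, el_mul, Matrix.mul_one, Matrix.one_mul]
  have K3 : K.1 * E3 = E3 ∧ E3 * K.1 = E3 := by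
    refine fixK E3 (el i (pp J e e') (pp J c₀ o₀)) ?_ (by rw [el_mul, Matrix.one_mul, qfix.1])
      (by rw [el_mul, Matrix.mul_one, qfix.2])
    have e1 : el i (pp J e e') (pp J c₀ o₀) =
        el i (pp J e e') 1 * ((2 : F)⁻¹ • (1 + el i (pl J a a') (pl J b₀ d₀))) := by
      rw [ppco0, p.el_smul_right, p.el_add_right, Matrix.mul_smul, Matrix.mul_add, el_mul, Matrix.mul_one,
        Matrix.one_mul, src.2]
    rw [e1, conj_mul, eze, Matrix.mul_smul g.1, Matrix.smul_mul, Matrix.mul_add, Matrix.add_mul, Matrix.mul_one,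
      g.mul_inv, rr2', hE3, ppco, p.el_smul_right, p.el_add_right, Matrix.mul_smul, Matrix.mul_add,
      Matrix.mul_one, el_mul, Matrix.mul_one, Matrix.one_mul]
  have qfix1 := fb.mix.qtr_fix hbd
  have H2 : h₁.1 * E2 = E2 ∧ E2 * h₁.1 = E2 := by
    rw [eh₁, hE2, el_mul, el_mul, Matrix.one_mul, Matrix.mul_one, qfix1.1, qfix1.2]
    exact ⟨rfl, rfl⟩
  have H3 : h₁.1 * E3 = E3 ∧ E3 * h₁.1 = E3 := by
    rw [eh₁, hE3, el_mul, el_mul, Matrix.one_mul, Matrix.mul_one, qfix1.1, qfix1.2]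
    exact ⟨rfl, rfl⟩
  have HE : h₁.1 * E = E * h₁.1 := by
    rw [eh₁, hE, el_mul, el_mul, Matrix.one_mul, Matrix.mul_one, Matrix.one_mul, Matrix.mul_one]
  have KE : K.1 * E = E * K.1 := hE ▸ C.comm_half f.left Kz
  have HE1 : h₁.1 * E1 = E1 * h₁.1 := by
    have h1 : E1 = E - E2 := by rw [hsumE, add_sub_cancel_right]
    rw [h1, Matrix.mul_sub, Matrix.sub_mul, HE, H2.1, H2.2]
  have KE2 : K.1 * E2 = E2 * K.1 := by
    have h1 : E2 = E - E1 := by rw [hsumE, add_sub_cancel_left]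
    rw [h1, Matrix.mul_sub, Matrix.sub_mul, KE, K1.1, K1.2]
  have hcommE : (K * h₁).1 * E = (h₁ * K).1 * E := by
    rw [Units.val_mul, Units.val_mul, hsumE, Matrix.mul_add, Matrix.mul_add]
    congr 1
    · rw [Matrix.mul_assoc, HE1, ← Matrix.mul_assoc, K1.1, Matrix.mul_assoc, K1.1, HE1]
    · rw [Matrix.mul_assoc, H2.1, Matrix.mul_assoc, KE2, ← Matrix.mul_assoc, H2.1]
  obtain ⟨m, hm⟩ : ∃ m, m = K * h₁ * (h₁ * K)⁻¹ := ⟨_, rfl⟩
  have hmM : m ∈ M := hm ▸ M.mul_mem (M.mul_mem hKM hh₁) (M.inv_mem (M.mul_mem hh₁ hKM))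
  have hcHK : (h₁ * K).1 * E = E * (h₁ * K).1 := by
    rw [Units.val_mul, Matrix.mul_assoc, KE, ← Matrix.mul_assoc, HE, Matrix.mul_assoc]
  have hcKH : (K * h₁).1 * E = E * (K * h₁).1 := by
    rw [Units.val_mul, Matrix.mul_assoc, HE, ← Matrix.mul_assoc, KE, Matrix.mul_assoc]
  have hmE : m.1 * E = E := by
    rw [hm, Units.val_mul, Matrix.mul_assoc, comm_inv hcHK, ← Matrix.mul_assoc, hcommE, hcHK, Matrix.mul_assoc,
      Units.mul_inv, Matrix.mul_one]
  have hEm : E * m.1 = E := by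
    conv_lhs => rw [hm, Units.val_mul, ← Matrix.mul_assoc, ← hcKH, Matrix.mul_assoc, ← comm_inv hcHK,
      ← Matrix.mul_assoc]
    conv_rhs => rw [← hmE, hm, Units.val_mul]
  have hm3 : m.1 * E3 = E3 := by
    have inv_fix : ∀ {n : GL (Ix τ k) F}, n.1 * E3 = E3 → (n⁻¹).1 * E3 = E3 := fun {n} e => by
      conv_lhs => rw [← e, ← Matrix.mul_assoc, n.inv_mul, Matrix.one_mul]
    have hhk : (h₁ * K).1 * E3 = E3 := by rw [Units.val_mul, Matrix.mul_assoc, K3.1, H3.1]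
    rw [hm, Units.val_mul, Matrix.mul_assoc, inv_fix hhk, Units.val_mul, Matrix.mul_assoc, H3.1, K3.1]
  obtain ⟨S, hS, -, eS, Sa, Sa'⟩ := C.fix_half f.left hmM (hE ▸ hmE) (hE ▸ hEm)
  have hS1 : S = 1 := by
    rw [eS, hE3, el_mul, Matrix.one_mul] at hm3
    have hco : pp J c o ≠ 0 := fun h0 => fb.qa' (by
      have h2 := congrArg (fun Z => Z *ᵥ c) h0
      simp only [fb.mix.swap.pp_a, Matrix.zero_mulVec] at h2
      rw [h2, bf_zero_left])
    have hne : S * pp J e e' ≠ 0 := fun h0 => f.qe (by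
      have h2 := congrArg (fun Z => Z *ᵥ e) h0
      simp only [← Matrix.mulVec_mulVec, f.swap.pp_a, Matrix.zero_mulVec] at h2
      have h3 := hS.bf e e
      rw [h2, bf_zero_left, one_mul] at h3
      exact h3.symm)
    have h1 := p.el_left_cancel hm3 hne hco
    refine f.ext ?_ ?_ ?_ ?_ <;> rw [Matrix.one_mulVec]
    · exact Sa
    · exact Sa'
    · conv_lhs => rw [← f.swap.pp_a, Matrix.mulVec_mulVec, h1, f.swap.pp_a]
    · conv_lhs => rw [← f.swap.pp_a', Matrix.mulVec_mulVec, h1, f.swap.pp_a']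
  have hKh : K * h₁ = h₁ * K := by
    have h0 : m = 1 := Units.ext (by rw [eS, hS1, el_one, Units.val_one])
    rw [hm] at h0
    exact mul_inv_eq_one.1 h0
  -- the computation on one plane
  have hKv : ∀ (v₀ : Ix τ k → F), K.1 *ᵥ (g.1 *ᵥ v₀) = g.1 *ᵥ (el i 1 (qtr J b₀ d₀) *ᵥ v₀) := by
    intro v₀
    rw [eK, Matrix.mulVec_mulVec, Matrix.mul_assoc (g.1 * _), g.inv_mul, Matrix.mul_one, ← Matrix.mulVec_mulVec]
  have hγ0 : γ ≠ 0 := fun h0 => mul_ne_zero hα0 hα0 (by rw [← hsq, h0, zero_mul])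
  have k1 : α • K.1 *ᵥ vv i w b = (-γ) • vv i e₁ d := by
    rw [← Matrix.mulVec_smul, ← hα, hKv, p.el_mulVec, Matrix.one_mulVec, g1.mix.qtr_a ht, ← neg_one_smul F d₀,
      p.vv_smul_right, Matrix.mulVec_smul, hβ', smul_smul, neg_one_mul]
  have k2 : γ • K.1 *ᵥ vv i e₁ d = α • vv i w b := by
    rw [← Matrix.mulVec_smul, ← hβ', hKv, p.el_mulVec, Matrix.one_mulVec, g1.mix.qtr_a' ht, hα]
  have k3 : γ • K.1 *ᵥ vv i w d = (-α) • vv i e₁ b := by
    have h1 : el i (qtr J e e') 1 *ᵥ (γ • K.1 *ᵥ vv i e₁ d) = γ • K.1 *ᵥ vv i w d := by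
      rw [Matrix.mulVec_smul, Matrix.mulVec_mulVec, ← Kq, ← Matrix.mulVec_mulVec, p.el_mulVec, ← hw,
        Matrix.one_mulVec]
    rw [← h1, k2, Matrix.mulVec_smul, p.el_mulVec, hqw, Matrix.one_mulVec, ← neg_one_smul F e₁, p.vv_smul_left,
      smul_smul, mul_neg_one]
  have h5 : K.1 *ᵥ (h₁.1 *ᵥ vv i w b) = h₁.1 *ᵥ (K.1 *ᵥ vv i w b) := by
    rw [Matrix.mulVec_mulVec, Matrix.mulVec_mulVec, ← Units.val_mul, ← Units.val_mul, hKh]
  rw [eh₁] at h5
  rw [p.el_mulVec, fb.mix.qtr_a hbd, Matrix.one_mulVec, ← neg_one_smul F d, p.vv_smul_right,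
    Matrix.mulVec_smul] at h5
  have h6 : (α * γ) • _ = (α * γ) • _ := congrArg (fun v => (α * γ) • v) h5
  rw [smul_smul, show α * γ * -1 = -α * γ by ring, mul_smul, k3, mul_comm α γ, mul_smul, ← Matrix.mulVec_smul, k1,
    Matrix.mulVec_smul, p.el_mulVec, fb.mix.qtr_a' hbd, Matrix.one_mulVec, smul_smul, smul_smul] at h6
  have hne : vv i e₁ b ≠ 0 := fun h0 => mul_ne_zero f2.qe fb.qa (by
    rw [← p.bf_vv, h0, bf_zero_left])
  have h7 : (-α * -α - γ * -γ) • vv i e₁ b = 0 := by rw [sub_smul, h6, sub_self]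
  have h8 := (smul_eq_zero.1 h7).resolve_right hne
  exact mul_ne_zero h.two (mul_ne_zero hα0 hα0) (by linear_combination h8 - hsq)

/-- The case of a second plane of square discriminant. -/
theorem no_pp_image_sq {a a' e e' a₁ a₁' e₁ e₁' b c d o : Fin k → F} (f : Fr4 J a a' e e')
    (hq : bf J e' e' = bf J e e) (f1 : Fr4 J a₁ a₁' e₁ e₁') (hP : pl J a₁ a₁' = pl J a a') (fb : Fr4 J b c d o)
    (hbc : bf J c c = bf J b b) (hbd : bf J d d = bf J b b) {g : GL (Ix τ k) F} (hg : g ∈ M)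
    (hz : g.1 * el i (pl J a a') 1 = el i (pl J a a') 1 * g.1)
    (hy : g.1 * el i (pl J a e) 1 * (g⁻¹).1 = el i (pl J a₁ e₁) (pl J b c)) : False := by
  classical
  haveI := C.toEnv.neZero
  have h := C.frm
  have p := C.pr
  have hk := C.four
  have hgi := M.inv_mem hg
  have hzi := comm_inv hz
  have hyi := conj_inv hy
  have one0 : (1 : Matrix (Fin k) (Fin k) F) ≠ 0 := one_ne_zero
  have back : ∀ {X Y : Matrix (Ix τ k) (Ix τ k) F}, (g⁻¹).1 * X * ((g⁻¹)⁻¹).1 = Y →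
      g.1 * Y * (g⁻¹).1 = X := fun e => by simpa using conj_inv e
  obtain ⟨b₀', c₀', q0, eT0'⟩ := C.image_square f fb hbc hg hz hy
  obtain ⟨T2, eT2', hT2, hT2sq, hT2d⟩ := C.image_second f hq f1 fb hg hz hy eT0'
  obtain ⟨b₀, c₀, d₀, o₀, g0, eT0, eT2⟩ := C.image_frame f fb q0 hg hz hy eT0' eT2' hT2 hT2sq hT2d
  -- the frame of the image on the second plane
  obtain ⟨w, hw⟩ : ∃ w, w = qtr J e e' *ᵥ e₁ := ⟨_, rfl⟩
  have qP : qtr J e e' * pl J a a' = pl J a a' * qtr J e e' := by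
    rw [show pl J a a' = -(qtr J e e' * qtr J e e') by rw [f.swap.qtr_sq hq, f.pl_neg, neg_neg], Matrix.mul_neg,
      Matrix.neg_mul, Matrix.mul_assoc]
  have we1 : pl J a a' *ᵥ e₁ = e₁ := by rw [← hP, f1.pl_e]
  obtain ⟨x, y, hxy⟩ := f.swap.mulVec_span (A := 1) (by rw [Matrix.one_mul, Matrix.mul_one]) (v := e₁) (by
    rw [f.swap.pp_eq, Matrix.smul_mulVec, Matrix.sub_mulVec, Matrix.one_mulVec, f.pl_neg, Matrix.neg_mulVec, we1,
      sub_neg_eq_add, ← two_smul F, smul_smul, inv_mul_cancel₀ h.two, one_smul])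
  rw [Matrix.one_mulVec] at hxy
  have hw' : w = y • e - x • e' := by
    rw [hw, hxy, Matrix.mulVec_add, Matrix.mulVec_smul, Matrix.mulVec_smul, f.swap.qtr_a hq, f.swap.qtr_a' hq]
    module
  have hqw : qtr J e e' *ᵥ w = -e₁ := by
    rw [hw', hxy, Matrix.mulVec_sub, Matrix.mulVec_smul, Matrix.mulVec_smul, f.swap.qtr_a hq, f.swap.qtr_a' hq]
    module
  have hww : bf J w w = bf J e₁ e₁ := by rw [hw, (qtr_spec h f.right hq).2.1.bf, one_mul]
  have hwe : bf J e₁ w = 0 := by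
    rw [hw', hxy]
    simp only [bf_add_left, bf_sub_right, bf_smul_left, bf_smul_right, f.ee', f.e'e, hq]
    ring
  have hwa : ∀ v, pl J a a' *ᵥ v = -v → bf J v w = 0 := by
    intro v hv
    have t1 : pl J a a' *ᵥ w = w := by rw [hw, Matrix.mulVec_mulVec, ← qP, ← Matrix.mulVec_mulVec, we1]
    have := (isSim_pl h f.left).bf v w
    rw [hv, t1, one_mul, ← neg_one_smul F v, bf_smul_left] at this
    exact (mul_eq_zero.1 (show (2 : F) * bf J v w = 0 by linear_combination -this)).resolve_left h.two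
  have f2 : Fr4 J a₁ a₁' e₁ w := Fr4.of_pairs h f.dim f1.qa f1.qa' f1.qe (by rw [hww]; exact f1.qe) f1.aa' f1.ae
    (hwa a₁ (by rw [← hP, f1.pl_a])) f1.a'e (hwa a₁' (by rw [← hP, f1.pl_a'])) hwe
  have hP2 : pl J a₁ a₁' = pl J a a' := hP
  have hpp : pp J e e' = pp J e₁ w := by rw [f.swap.pp_eq, f2.swap.pp_eq, f.pl_neg, f2.pl_neg, hP2]
  have hpa : pp J a a' = pp J a₁ a₁' := by rw [f.pp_eq, f1.pp_eq, hP]
  have hlin : ∀ (v v₀ : Ix τ k → F), v = g.1 *ᵥ v₀ → ∀ X Y : Matrix (Ix τ k) (Ix τ k) F,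
      g.1 * X * (g⁻¹).1 = Y → ∀ t : F, X *ᵥ v₀ = t • v₀ → Y *ᵥ v = t • v := by
    intro v v₀ hv X Y hXY t ht
    rw [hv, ← hXY, Matrix.mulVec_mulVec, Matrix.mul_assoc, g.inv_mul, Matrix.mul_one, ← Matrix.mulVec_mulVec, ht,
      Matrix.mulVec_smul]
  have ez := conj_of_comm hz
  have hPe1 : el i (pl J a a') 1 *ᵥ vv i e b₀ = (1 : F) • vv i e b₀ ∧
      el i (pl J a a') 1 *ᵥ vv i e d₀ = (1 : F) • vv i e d₀ := by
    constructor <;> rw [p.el_mulVec, f.pl_e, Matrix.one_mulVec, one_smul]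
  obtain ⟨α, hα⟩ := C.line_fst f f2 hpp fb (v := g.1 *ᵥ vv i e b₀) (hlin _ _ rfl _ _ ez 1 hPe1.1)
    (hlin _ _ rfl _ _ (back eT0) _ (by
      rw [p.el_mulVec, Matrix.one_mulVec, g0.pl_a, ← neg_one_smul F b₀, p.vv_smul_right]))
    (hlin _ _ rfl _ _ (back eT2) _ (by
      rw [p.el_mulVec, f.pl_e, g0.mix.pl_a, ← neg_one_smul F b₀, p.vv_smul_right]))
    (hlin _ _ rfl _ _ hy _ (by
      rw [p.el_mulVec, Matrix.one_mulVec, f.mix.pl_a', ← neg_one_smul F e, p.vv_smul_left]))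
  obtain ⟨β, hβ⟩ := C.line_snd f f2 hpp fb (v := g.1 *ᵥ vv i e d₀) (hlin _ _ rfl _ _ ez 1 hPe1.2)
    (hlin _ _ rfl _ _ (back eT0) _ (by rw [p.el_mulVec, Matrix.one_mulVec, g0.pl_e, one_smul]))
    (hlin _ _ rfl _ _ (back eT2) _ (by
      rw [p.el_mulVec, f.pl_e, g0.mix.pl_a', ← neg_one_smul F d₀, p.vv_smul_right]))
    (hlin _ _ rfl _ _ hy _ (by
      rw [p.el_mulVec, Matrix.one_mulVec, f.mix.pl_a', ← neg_one_smul F e, p.vv_smul_left]))
  -- equal values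
  have gbf : ∀ v, bf (JJ J τ) (g.1 *ᵥ v) (g.1 *ᵥ v) = bf (JJ J τ) v v := fun v =>
    (h.pow τ).bf_iso (mem_iso.1 (C.iso_mem hg)) v v
  have nα : α * α * (bf J e₁ e₁ * bf J b b) = bf J e e * bf J b₀ b₀ := by
    have h1 := gbf (vv i e b₀)
    rw [hα, bf_smul_left, bf_smul_right, p.bf_vv, p.bf_vv, hww] at h1
    linear_combination h1
  have nβ : β * β * (bf J e₁ e₁ * bf J b b) = bf J e e * bf J d₀ d₀ := by
    have h1 := gbf (vv i e d₀)
    rw [hβ, bf_smul_left, bf_smul_right, p.bf_vv, p.bf_vv, hbd] at h1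
    linear_combination h1
  have hα0 : α ≠ 0 := fun h0 => mul_ne_zero f.qe g0.qa (by rw [← nα, h0]; ring)
  have hβ0 : β ≠ 0 := fun h0 => mul_ne_zero f.qe g0.qe (by rw [← nβ, h0]; ring)
  obtain ⟨t, ht0, ht⟩ : ∃ t : F, t ≠ 0 ∧ bf J (t • d₀) (t • d₀) = bf J b₀ b₀ := by
    refine ⟨α / β, div_ne_zero hα0 hβ0, mul_left_cancel₀ f.qe ?_⟩
    rw [bf_smul_left, bf_smul_right]
    field_simp
    linear_combination β * β * nα - α * α * nβ
  obtain ⟨γ, hγ⟩ : ∃ γ, γ = t * β := ⟨_, rfl⟩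
  have hβ' : g.1 *ᵥ vv i e (t • d₀) = γ • vv i e₁ d := by
    rw [p.vv_smul_right, Matrix.mulVec_smul, hβ, smul_smul, hγ]
  have g1 : Fr4 J b₀ c₀ (t • d₀) o₀ := Fr4.of_pairs h f.dim g0.qa g0.qa' (by rw [ht]; exact g0.qa) g0.qe' g0.aa'
    (by rw [bf_smul_right, g0.ae, mul_zero]) g0.ae' (by rw [bf_smul_right, g0.a'e, mul_zero]) g0.a'e'
    (by rw [bf_smul_left, g0.ee', mul_zero])
  have hsq : γ * γ = α * α := by
    refine mul_right_cancel₀ (mul_ne_zero f1.qe fb.qa) ?_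
    rw [hγ]
    rw [bf_smul_left, bf_smul_right] at ht
    linear_combination t * t * nβ - nα + bf J e e * ht
  rw [← pl_smul_right (a := b₀) ht0] at eT2
  exact C.twist_false f hq f2 hw hqw fb hbd g1 ht hg hz (back eT2) hα hβ' hsq hα0

/-- An element centralising a plane involution does not carry another one to a product of two planes. -/
theorem no_pp_image {a a' e e' a₁ a₁' e₁ e₁' b c : Fin k → F} (f : Fr4 J a a' e e')
    (hq : bf J e' e' = bf J e e) (f1 : Fr4 J a₁ a₁' e₁ e₁') (hP : pl J a₁ a₁' = pl J a a') (q : Pl J b c)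
    {g : GL (Ix τ k) F} (hg : g ∈ M) (hz : g.1 * el i (pl J a a') 1 = el i (pl J a a') 1 * g.1)
    (hy : g.1 * el i (pl J a e) 1 * (g⁻¹).1 = el i (pl J a₁ e₁) (pl J b c)) : False := by
  classical
  have h := C.frm
  have hns := C.nsq
  obtain ⟨d, o, fb⟩ := exists_fr4 h f.dim q
  have main : ∀ {x x' u u' a₂ a₂' e₂ e₂' : Fin k → F}, Fr4 J x x' u u' → IsSquare (bf J x x * bf J x' x') →
      Fr4 J a₂ a₂' e₂ e₂' → pl J a₂ a₂' = pl J a a' →
      g.1 * el i (pl J a e) 1 * (g⁻¹).1 = el i (pl J a₂ e₂) (pl J x x') → False := by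
    intro x x' u u' a₂ a₂' e₂ e₂' fx hsq f2 hP2 hy2
    obtain ⟨s, hs, hsx⟩ := exists_equal_values fx.left hsq
    have qx : Pl J x (s • x') := ⟨fx.qa, by rw [hsx]; exact fx.qa, by rw [bf_smul_right, fx.aa', mul_zero]⟩
    obtain ⟨u₁, u₁', fy⟩ := exists_fr4 h f.dim qx
    obtain ⟨d', hd', hdd⟩ := h.exists_perp_value (v := ![x, s • x'])
      (by intro p q hpq; fin_cases p <;> fin_cases q <;> simp_all [qx.orth, (qx.symm h).orth])
      (by intro p; fin_cases p <;> simp [qx.left, qx.right])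
      (by rw [Fintype.card_fin, Fintype.card_fin, f.dim]) (bf J x x)
    have hd0 : bf J d' d' ≠ 0 := by rw [hdd]; exact fx.qa
    have d1 : bf J x d' = 0 := hd' 0
    have d2 : bf J (s • x') d' = 0 := hd' 1
    obtain ⟨w, hw, hwv⟩ := h.exists_ob_extend (Fintype.card_fin k) (by rw [f.dim]; omega : 3 ≤ k) ![x, s • x', d']
      (by
        intro p q hpq
        fin_cases p <;> fin_cases q <;>
          simp_all [qx.orth, (qx.symm h).orth, (h.bf_comm d' x).trans d1, (h.bf_comm d' (s • x')).trans d2])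
      (by intro p; fin_cases p <;> simp [qx.left, qx.right, hd0])
    obtain ⟨o', ho'⟩ : ∃ o', o' = w ⟨3, by rw [f.dim]; omega⟩ := ⟨_, rfl⟩
    have ho : ∀ j : Fin 3, bf J (![x, s • x', d'] j) o' = 0 := fun j => by
      rw [← hwv j, ho']
      refine hw.orth _ _ fun e0 => ?_
      have := congrArg Fin.val e0
      simp at this
      omega
    have fz : Fr4 J x (s • x') d' o' := Fr4.of_pairs h f.dim qx.left qx.right hd0 (ho' ▸ hw.aniso _) qx.orth d1
      (ho 0) d2 (ho 1) (ho 2)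
    exact C.no_pp_image_sq f hq f2 hP2 fz hsx hdd hg hz (by rw [hy2, pl_smul_right hs])
  by_cases hsq : IsSquare (bf J b b * bf J c c)
  · exact main fb hsq f1 hP hy
  · have hsq' : IsSquare (bf J d d * bf J o o) := by
      cases nonempty_fintype F
      by_contra h'
      exact fb.disc hns (isSquare_mul_nonsquare h.two hsq h')
    refine main fb.swap hsq' (Fr4.of_pairs h f.dim f1.qa' f1.qa f1.qe' f1.qe f1.a'a f1.a'e' f1.a'e f1.ae' f1.ae
      f1.e'e) (by rw [pl_comm h (f1.left.symm h), hP]) ?_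
    rw [hy, f1.mix.pl_neg, fb.pl_neg, C.pr.el_neg_neg]

end Ctx2

end CfsgLib.Classical.TensorWreathOrth.Two
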