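import Cfsg.Agent.Lib.Classical.TensorWreathOrth.TwoUpper

set_option autoImplicit false
set_option linter.unusedSectionVars false

/-!
Dimension at least six: the centraliser of a pure plane involution and its fusion.
-/

namespace CfsgLib.Classical.TensorWreathOrth.Two

open Matrix CfsgLib.Classical.TensorWreath
open CfsgLib.Classical.TensorWreathOrth
open scoped MatrixGroups

variable {F : Type*} [Field F] [Finite F] {τ : Type} [Fintype τ] [DecidableEq τ] {k : ℕ}
  {J : Matrix (Fin k) (Fin k) F} {M : Subgroup (GL (Ix τ k) F)} {i l : τ}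

/-- A monomial involution of non-zero signature in the commutator group is a pair of involutive isometries. -/
theorem Env.invol_signs (E : Env J i l) {y : GL (Ix τ k) F} (hy : y ∈ Om (JJ J τ)) (hm : Mono y.1)
    (h2 : y * y = 1) (hs : sig y.1 ≠ 0) :
    ∃ A B, IsSim J A 1 ∧ IsSim J B 1 ∧ A * A = 1 ∧ B * B = 1 ∧ y.1 = el i A B := by
  haveI := E.neZero
  have h := E.frm
  have p := E.pr
  obtain ⟨A, B, μ, c, e, hA, hB, hc, hA2, hB2⟩ := E.invol_cases hy hm h2
  by_cases hcs : IsSquare c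
  swap
  · exfalso
    obtain ⟨Q, hQ⟩ := exists_anticomm hA2 hcs
    have h1 : (embG i Q).1 * el i A B * ((embG i Q)⁻¹).1 = -el i A B := by
      rw [← map_inv, embG_val, embG_val, embM_eq_el, embM_eq_el, el_mul, el_mul, hQ, Matrix.mul_assoc, Q.mul_inv,
        Matrix.mul_one, Matrix.mul_one, Matrix.one_mul, p.el_neg_left]
    have h3 := sig_conj (embG (τ := τ) i Q).inv_mul (el i A B)
    rw [h1, sig_neg, ← e] at h3
    omega
  obtain ⟨s, rfl⟩ := hcs
  have hs0 : s ≠ 0 := left_ne_zero_of_mul hc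
  obtain ⟨A', hA'⟩ : ∃ A', A' = s⁻¹ • A := ⟨_, rfl⟩
  obtain ⟨B', hB'⟩ : ∃ B', B' = s • B := ⟨_, rfl⟩
  have eA : A' * A' = 1 := by
    rw [hA', Matrix.smul_mul, Matrix.mul_smul, hA2, smul_smul, smul_smul]
    rw [show s⁻¹ * s⁻¹ * (s * s) = 1 by field_simp, one_smul]
  have eB : B' * B' = 1 := by
    rw [hB', Matrix.smul_mul, Matrix.mul_smul, hB2, smul_smul, smul_smul]
    rw [show s * s * (s * s)⁻¹ = 1 by field_simp, one_smul]
  have e' : y.1 = el i A' B' := by
    rw [e, hA', hB', p.el_smul_left, p.el_smul_right, smul_smul, inv_mul_cancel₀ hs0, one_smul]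
  have hA1 : IsSim J A' (s⁻¹ * s⁻¹ * μ) := hA' ▸ hA.smul (inv_ne_zero hs0)
  have hB1 : IsSim J B' (s * s * μ⁻¹) := hB' ▸ hB.smul hs0
  obtain ⟨ν, hν⟩ : ∃ ν, ν = s⁻¹ * s⁻¹ * μ := ⟨_, rfl⟩
  rw [← hν] at hA1
  rw [show s * s * μ⁻¹ = ν⁻¹ by rw [hν, mul_inv, mul_inv, inv_inv]] at hB1
  rw [e', p.sig_el h.two eA eB] at hs
  have hν2 : ν * ν = 1 := by
    have h1 := hA1.mul hA1
    rw [eA] at h1
    have h3 := h1.2
    rw [Matrix.transpose_one, Matrix.one_mul, Matrix.mul_one] at h3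
    have h4 : (ν * ν - 1) • J = 0 := by rw [sub_smul, one_smul, ← h3, sub_self]
    refine sub_eq_zero.1 ((smul_eq_zero.1 h4).resolve_right fun h0 => h.det ?_)
    rw [h0, Matrix.det_zero]
  rcases mul_self_eq_one_iff.1 hν2 with rfl | rfl
  · rw [inv_one] at hB1
    exact ⟨A', B', hA1, hB1, eA, eB, e'⟩
  · exact absurd (by rw [sig_eq_zero_of_neg h hA1 eA, zero_mul]) hs

/-- An involutive isometry of signature `±k` or `±(k - 4)`. -/
theorem signs_shape (h : Frm J) {A : Matrix (Fin k) (Fin k) F} (hA : IsSim J A 1) (hA2 : A * A = 1) :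
    (|sig A| ≤ k) ∧ (2 : ℤ) ∣ (k - sig A) ∧ (sig A = k → A = 1) ∧ (sig A = -k → A = -1) ∧
      (sig A = (k : ℤ) - 4 → ∃ c d, Pl J c d ∧ A = pl J c d) ∧
      (sig A = -((k : ℤ) - 4) → ∃ c d, Pl J c d ∧ A = -pl J c d) := by
  obtain ⟨f, u, hf, hu⟩ := exists_ob_signs h hA hA2
  have hu' : ∀ a, (-A) *ᵥ f a = (if (!u a) then (-1 : F) else 1) • f a := fun a => by
    rw [Matrix.neg_mulVec, hu a]; cases u a <;> simp
  obtain ⟨-, -, hs⟩ := signs_data h hf hu
  obtain ⟨p, hp⟩ : ∃ p, p = (Finset.univ.filter fun a => u a = true).card := ⟨_, rfl⟩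
  have hq : (Finset.univ.filter fun a => (!u a) = true).card + p = k := by
    rw [hp, add_comm]
    have := Finset.card_filter_add_card_filter_not (s := (Finset.univ : Finset (Fin k))) (fun a => u a = true)
    rw [Finset.card_univ, Fintype.card_fin] at this
    simpa only [Bool.not_eq_true', Bool.not_eq_true] using this
  rw [← hp] at hs
  rw [hs]
  refine ⟨?_, ⟨p, by ring⟩, fun e => eq_one_of_signs hf hu (by omega), fun e => ?_,
    fun e => eq_pl_of_signs hf hu (by omega), fun e => ?_⟩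
  · rw [abs_le]; constructor <;> omega
  · exact neg_eq_iff_eq_neg.1 (eq_one_of_signs hf hu' (by omega))
  · obtain ⟨c, d, q, eA⟩ := eq_pl_of_signs hf hu' (by omega)
    exact ⟨c, d, q, neg_eq_iff_eq_neg.1 eA⟩

namespace Ctx2

variable (C : Ctx2 J M i l)
include C

/-- A monomial involution of the signature of a plane involution is pure. -/
theorem pure_of_sig (hk : 6 ≤ k) {y : GL (Ix τ k) F} (hy : y ∈ Om (JJ J τ)) (hm : Mono y.1)
    (h2 : y * y = 1) (hs : sig y.1 = (k : ℤ) * ((k : ℤ) - 4)) : PurePl J i y.1 := by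
  haveI := C.toEnv.neZero
  have h := C.frm
  have p := C.pr
  have hk' : (6 : ℤ) ≤ k := by exact_mod_cast hk
  have hne : sig y.1 ≠ 0 := by rw [hs]; exact mul_ne_zero (by omega) (by omega)
  obtain ⟨A, B, hA, hB, hA2, hB2, e⟩ := C.toEnv.invol_signs hy hm h2 hne
  rw [e, p.sig_el h.two hA2 hB2] at hs
  obtain ⟨bA, pA, a1, a2, a3, a4⟩ := signs_shape h hA hA2
  obtain ⟨bB, pB, b1, b2, b3, b4⟩ := signs_shape h hB hB2
  rw [abs_le] at bA bB
  obtain ⟨r, hr⟩ := C.even
  obtain ⟨x, hx⟩ : ∃ x : ℤ, sig A = 2 * x := by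
    obtain ⟨z, hz⟩ := pA
    exact ⟨(r : ℤ) - z, by omega⟩
  obtain ⟨z, hz⟩ : ∃ z : ℤ, sig B = 2 * z := by
    obtain ⟨w, hw⟩ := pB
    exact ⟨(r : ℤ) - w, by omega⟩
  have hrk : (k : ℤ) = r + r := by exact_mod_cast hr
  have hr3 : (3 : ℤ) ≤ r := by omega
  have hxz : x * z = (r : ℤ) * (r - 2) := by
    rw [hx, hz, hrk] at hs
    have : (4 : ℤ) * (x * z) = 4 * ((r : ℤ) * (r - 2)) := by linear_combination hs
    linarith
  have key : (x = r ∧ z = r - 2) ∨ (x = -r ∧ z = -(r - 2)) ∨ (z = r ∧ x = r - 2) ∨ (z = -r ∧ x = -(r - 2)) := by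
    have side : ∀ u v : ℤ, u * v = (r : ℤ) * (r - 2) → 0 ≤ u → u ≤ r → v ≤ r →
        (u = r ∧ v = r - 2) ∨ (v = r ∧ u = r - 2) := by
      intro u v huv hu0 hu hv
      have hne : (r : ℤ) * (r - 2) ≠ 0 := mul_ne_zero (by omega) (by omega)
      by_cases h1 : u = r
      · subst h1
        exact Or.inl ⟨rfl, mul_left_cancel₀ (by omega) huv⟩
      by_cases h2 : v = r
      · rw [h2, mul_comm] at huv
        exact Or.inr ⟨h2, mul_left_cancel₀ (by omega) huv⟩
      exfalso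
      by_cases h3 : u = r - 1
      · subst h3
        have h4 : ((r : ℤ) - 1) ∣ 1 := ⟨(r - 1) - v, by linear_combination huv⟩
        have := Int.le_of_dvd one_pos h4
        omega
      by_cases h4 : v = r - 1
      · subst h4
        have h5 : ((r : ℤ) - 1) ∣ 1 := ⟨(r - 1) - u, by linear_combination huv⟩
        have := Int.le_of_dvd one_pos h5
        omega
      have h5 : u ≤ r - 2 := by omega
      have h6 : v ≤ r - 2 := by omega
      have h7 : u * v ≤ ((r : ℤ) - 2) * (r - 2) :=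
        (mul_le_mul_of_nonneg_left h6 hu0).trans (mul_le_mul_of_nonneg_right h5 (by omega))
      have h8 : ((r : ℤ) - 2) * (r - 2) + 2 * (r - 2) = r * (r - 2) := by ring
      omega
    rcases le_or_gt 0 x with hx0 | hx0
    · rcases side x z hxz hx0 (by omega) (by omega) with h' | h'
      · exact Or.inl h'
      · exact Or.inr (Or.inr (Or.inl h'))
    · rcases side (-x) (-z) (by rw [neg_mul_neg]; exact hxz) (by omega) (by omega) (by omega) with ⟨e1, e2⟩ | ⟨e1, e2⟩
      · exact Or.inr (Or.inl ⟨by omega, by omega⟩)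
      · exact Or.inr (Or.inr (Or.inr ⟨by omega, by omega⟩))
  rcases key with ⟨e1, e2⟩ | ⟨e1, e2⟩ | ⟨e1, e2⟩ | ⟨e1, e2⟩
  · obtain ⟨c, d, q, eB⟩ := b3 (by omega)
    exact ⟨c, d, q, Or.inr (by rw [e, a1 (by omega), eB])⟩
  · obtain ⟨c, d, q, eB⟩ := b4 (by omega)
    exact ⟨c, d, q, Or.inr (by rw [e, a2 (by omega), eB, p.el_neg_neg])⟩
  · obtain ⟨c, d, q, eA⟩ := a3 (by omega)
    exact ⟨c, d, q, Or.inl (by rw [e, b1 (by omega), eA])⟩
  · obtain ⟨c, d, q, eA⟩ := a4 (by omega)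
    exact ⟨c, d, q, Or.inl (by rw [e, b2 (by omega), eA, p.el_neg_neg])⟩

/-- The centraliser of a plane involution of the first factor. -/
theorem cent_left (hk : 5 ≤ k) {g : GL (Ix τ k) F} (hg : g ∈ M) {a c : Fin k → F} (q : Pl J a c)
    (hc : g.1 * el i (pl J a c) 1 = el i (pl J a c) 1 * g.1) : Mono g.1 := by
  classical
  haveI := C.toEnv.neZero
  have h := C.frm
  have p := C.pr
  obtain ⟨w, hw, hwv⟩ := h.exists_ob_extend (Fintype.card_fin k) (by omega : 2 ≤ k) ![a, c]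
    (by intro x y hxy; fin_cases x <;> fin_cases y <;> simp_all [q.orth, (q.symm h).orth])
    (by intro x; fin_cases x <;> simp [q.left, q.right])
  have w0 : w (Fin.castLE (by omega) (0 : Fin 2)) = a := hwv 0
  have w1 : w (Fin.castLE (by omega) (1 : Fin 2)) = c := hwv 1
  obtain ⟨E, hE⟩ : ∃ E : Matrix (Ix τ k) (Ix τ k) F, E = el i (pr J a + pr J c) 1 := ⟨_, rfl⟩
  have hgE : g.1 * E = E * g.1 := by
    have e1 : E = (2 : F)⁻¹ • (1 - el i (pl J a c) 1) := by
      rw [hE, pl_eq h q, p.el_sub_left, el_one, sub_sub_cancel, p.el_smul_left, smul_smul, inv_mul_cancel₀ h.two,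
        one_smul]
    rw [e1, Matrix.mul_smul, Matrix.smul_mul, Matrix.mul_sub, Matrix.sub_mul, hc, Matrix.one_mul, Matrix.mul_one]
  have hgE' : (g⁻¹).1 * E = E * (g⁻¹).1 := by
    calc (g⁻¹).1 * E = (g⁻¹).1 * (E * (g.1 * (g⁻¹).1)) := by rw [g.mul_inv, Matrix.mul_one]
      _ = (g⁻¹).1 * (g.1 * E * (g⁻¹).1) := by rw [hgE, Matrix.mul_assoc]
      _ = E * (g⁻¹).1 := by rw [← Matrix.mul_assoc, ← Matrix.mul_assoc, g.inv_mul, Matrix.one_mul]
  have key : ∀ x y : Fin k, x ≠ y → 2 ≤ (x : ℕ) → 2 ≤ (y : ℕ) →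
      ∃ X, g.1 * el i (pl J (w x) (w y)) 1 * (g⁻¹).1 = embM i X := by
    intro x y hxy hx2 hy2
    have qxy : Pl J (w x) (w y) := ⟨hw.aniso _, hw.aniso _, hw.orth _ _ hxy⟩
    have perp : ∀ z : Fin k, 2 ≤ (z : ℕ) → bf J a (w z) = 0 ∧ bf J c (w z) = 0 := by
      intro z hz
      constructor
      · rw [← w0]; exact hw.orth _ _ (by intro e; rw [← e] at hz; simp at hz)
      · rw [← w1]; exact hw.orth _ _ (by intro e; rw [← e] at hz; simp at hz)
    obtain ⟨z, hz, ez⟩ := C.exists_pl_left qxy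
    have hpr : ∀ u, bf J (w x) u = 0 → bf J (w y) u = 0 →
        pl J (w x) (w y) * pr J u = pr J u ∧ pr J u * pl J (w x) (w y) = pr J u := by
      intro u h1 h2
      have h3 : bf J u (w x) = 0 := by rw [h.bf_comm]; exact h1
      have h4 : bf J u (w y) = 0 := by rw [h.bf_comm]; exact h2
      constructor
      · rw [pl_eq h qxy, Matrix.sub_mul, Matrix.smul_mul, Matrix.add_mul, pr_mul_perp J h1, pr_mul_perp J h2,
          add_zero, smul_zero, sub_zero, Matrix.one_mul]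
      · rw [pl_eq h qxy, Matrix.mul_sub, Matrix.mul_smul, Matrix.mul_add, pr_mul_perp J h3, pr_mul_perp J h4,
          add_zero, smul_zero, sub_zero, Matrix.mul_one]
    have ha' := hpr a (by rw [h.bf_comm]; exact (perp x hx2).1) (by rw [h.bf_comm]; exact (perp y hy2).1)
    have hc' := hpr c (by rw [h.bf_comm]; exact (perp x hx2).2) (by rw [h.bf_comm]; exact (perp y hy2).2)
    obtain ⟨m, hm⟩ : ∃ m, m = g * z * g⁻¹ := ⟨_, rfl⟩
    have hmM : m ∈ M := hm ▸ M.mul_mem (M.mul_mem hg hz) (M.inv_mem hg)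
    have hmv : m.1 = g.1 * el i (pl J (w x) (w y)) 1 * (g⁻¹).1 := hm ▸ C.val_conj g z ez
    have hzE : el i (pl J (w x) (w y)) 1 * E = E ∧ E * el i (pl J (w x) (w y)) 1 = E := by
      constructor
      · rw [hE, el_mul, Matrix.mul_one, Matrix.mul_add, ha'.1, hc'.1]
      · rw [hE, el_mul, Matrix.mul_one, Matrix.add_mul, ha'.2, hc'.2]
    have hmE : m.1 * E = E ∧ E * m.1 = E := by
      constructor
      · rw [hmv, Matrix.mul_assoc, hgE', Matrix.mul_assoc, ← Matrix.mul_assoc _ E, hzE.1, ← Matrix.mul_assoc,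
          hgE, Matrix.mul_assoc, g.mul_inv, Matrix.mul_one]
      · rw [hmv, ← Matrix.mul_assoc, ← Matrix.mul_assoc, ← hgE, Matrix.mul_assoc g.1 E, hzE.2, hgE,
          Matrix.mul_assoc, g.mul_inv, Matrix.mul_one]
    have hpa : pr J a * (pr J a + pr J c) = pr J a ∧ (pr J a + pr J c) * pr J a = pr J a := by
      constructor
      · rw [Matrix.mul_add, pr_mul_self J q.left, pr_mul_perp J q.orth, add_zero]
      · rw [Matrix.add_mul, pr_mul_self J q.left, pr_mul_perp J (q.symm h).orth, add_zero]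
    have e1 : el i (pr J a) (1 : Matrix (Fin k) (Fin k) F) = E * el i (pr J a) 1 := by
      rw [hE, el_mul, hpa.2, Matrix.mul_one]
    have e2 : el i (pr J a) (1 : Matrix (Fin k) (Fin k) F) = el i (pr J a) 1 * E := by
      rw [hE, el_mul, hpa.1, Matrix.mul_one]
    have hmm : Mono m.1 := C.mono_of_comm hmM q.left (by
      conv_lhs => rw [e1, ← Matrix.mul_assoc, hmE.1, ← e1]
      conv_rhs => rw [e2, Matrix.mul_assoc, hmE.2, ← e2])
    have hz2 : z * z = 1 := Units.ext (by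
      rw [Units.val_mul, ez, el_mul, pl_mul_self h qxy, Matrix.mul_one, el_one, Units.val_one])
    have hm2 : m * m = 1 := by
      rw [hm, show g * z * g⁻¹ * (g * z * g⁻¹) = g * (z * z) * g⁻¹ by group, hz2, mul_one, mul_inv_cancel]
    obtain ⟨A, B, μ, s, e, hA, hB, -, -, -⟩ := C.toEnv.invol_cases (C.le hmM) hmm hm2
    have h3 := hmE.1
    rw [e, hE, el_mul, Matrix.mul_one] at h3
    have hP0 : pr J a + pr J c ≠ 0 := fun h0 => by
      have := congrArg (fun Z => Z *ᵥ a) h0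
      simp only [Matrix.add_mulVec, pr_self J q.left, pr_perp J (q.symm h).orth, add_zero, Matrix.zero_mulVec] at this
      exact q.left (by rw [this, bf_zero_left])
    obtain ⟨u, hu, -, hB'⟩ := p.el_eq_el h3.symm hP0 one_ne_zero
    exact ⟨u • A, by rw [← hmv, e, hB', embM_eq_el, p.el_smul_right, p.el_smul_left]⟩
  obtain ⟨X, hX⟩ := key ⟨2, by omega⟩ ⟨3, by omega⟩ (by simp [Fin.ext_iff]) (le_refl 2) (by norm_num)
  obtain ⟨X', hX'⟩ := key ⟨2, by omega⟩ ⟨4, by omega⟩ (by simp [Fin.ext_iff]) (le_refl 2) (by norm_num)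
  exact C.lin hg ⟨hw.aniso _, hw.aniso _, hw.orth _ _ (by simp [Fin.ext_iff])⟩
    ⟨hw.aniso _, hw.aniso _, hw.orth _ _ (by simp [Fin.ext_iff])⟩ (hw.orth _ _ (by simp [Fin.ext_iff])) hX hX'

/-- The hypotheses of the upper part in dimension at least six. -/
theorem low_of_six (hk : 6 ≤ k) : Low2 J M i where
  cent g hg X hX hc := by
    obtain ⟨a, c, q, e | e⟩ := hX <;> subst e
    · exact C.cent_left (by omega) hg q hc
    · rw [← C.pr.el_swap] at hc
      exact C.symm.cent_left (by omega) hg q hc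
  fuse g hg a b a' b' ha hb ha' hb' hx X hX hc hm := by
    haveI := C.toEnv.neZero
    have h := C.frm
    obtain ⟨c, d, q, e⟩ := hX
    obtain ⟨z, hz, ez⟩ : ∃ z ∈ M, z.1 = X := by
      rcases e with e | e <;> subst e
      · exact C.exists_pl_left q
      · obtain ⟨z, hz, ez⟩ := C.symm.exists_pl_left q
        exact ⟨z, hz, by rw [ez, C.pr.el_swap]⟩
    have hXX : X * X = 1 := by
      rcases e with e | e <;> rw [e, el_mul, pl_mul_self h q, Matrix.mul_one, el_one]
    have hz2 : z * z = 1 := Units.ext (by rw [Units.val_mul, ez, hXX, Units.val_one])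
    have hy2 : g * z * g⁻¹ * (g * z * g⁻¹) = 1 := by
      rw [show g * z * g⁻¹ * (g * z * g⁻¹) = g * (z * z) * g⁻¹ by group, hz2, mul_one, mul_inv_cancel]
    have hsig : sig (g * z * g⁻¹).1 = (k : ℤ) * ((k : ℤ) - 4) := by
      rw [C.val_conj g z ez, sig_conj g.inv_mul]
      have hpl : sig (pl J c d) = (k : ℤ) - 4 := by
        rw [pl, sig_rot_two h q.left q.right q.orth, Fintype.card_fin]
      rcases e with e | e <;>
        rw [e, C.pr.sig_el h.two (by first | exact pl_mul_self h q | exact Matrix.one_mul 1)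
          (by first | exact pl_mul_self h q | exact Matrix.one_mul 1), hpl, sig_one h.two, Fintype.card_fin]
      ring
    rw [← C.val_conj g z ez] at hm ⊢
    exact C.pure_of_sig hk (C.le (M.mul_mem (M.mul_mem hg hz) (M.inv_mem hg))) hm hy2 hsig

end Ctx2

end CfsgLib.Classical.TensorWreathOrth.Two
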