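import Cfsg.Agent.Lib.Classical.TensorWreathOrth.TwoFourCalc
import Cfsg.Agent.Lib.Classical.TensorWreathOrth.TwoHigh

set_option autoImplicit false
set_option linter.unusedSectionVars false

/-!
Dimension four: the elements fixing half of the space, the conjugates of a quarter rotation, and the monomial
conjugates of a plane involution in the centraliser of another one.
-/

namespace CfsgLib.Classical.TensorWreathOrth.Two

open Matrix CfsgLib.Classical.TensorWreath
open CfsgLib.Classical.TensorWreathOrth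
open scoped MatrixGroups

variable {F : Type*} [Field F] [Finite F] {τ : Type} [Fintype τ] [DecidableEq τ] {k : ℕ}
  {J : Matrix (Fin k) (Fin k) F}

theorem det_skew_square {X : Matrix (Fin 4) (Fin 4) F} (h2 : (2 : F) ≠ 0) (hX : Xᵀ = -X) : IsSquare X.det := by
  have e : ∀ a b, X b a = -X a b := fun a b => by
    have := congrFun₂ hX a b
    simpa using this
  have d : ∀ a, X a a = 0 := fun a => by
    have := e a a
    exact (mul_eq_zero.1 (show (2 : F) * X a a = 0 by linear_combination this)).resolve_left h2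
  refine ⟨X 0 1 * X 2 3 - X 0 2 * X 1 3 + X 0 3 * X 1 2, ?_⟩
  rw [Matrix.det_succ_row_zero]
  simp [Fin.sum_univ_succ, Matrix.det_fin_three, Fin.succAbove, d]
  rw [e 0 1, e 0 2, e 0 3, e 1 2, e 1 3, e 2 3]
  ring

/-- No isometry squares to minus one. -/
theorem no_sq_neg_one (h : Frm J) (hk : k = 4) (hns : ¬ IsSquare J.det) {B : Matrix (Fin k) (Fin k) F}
    (hB : IsSim J B 1) (h2 : B * B = -1) : False := by
  subst hk
  have hskew : (J * B)ᵀ = -(J * B) := by
    have h1 := congrArg (fun Z => Z * B) (isSim_one_iff.1 hB)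
    simp only [Matrix.mul_assoc, h2, Matrix.mul_neg, Matrix.mul_one] at h1
    rw [Matrix.transpose_mul, h.symm, ← h1, neg_neg]
  obtain ⟨r, hr⟩ := det_skew_square h.two hskew
  have hd : (1 + B).det * (1 + B).det = 16 * B.det := by
    have : (1 + B) * (1 + B) = (2 : F) • B := by
      rw [Matrix.add_mul, Matrix.mul_add, Matrix.mul_add, Matrix.one_mul, Matrix.mul_one, h2, Matrix.one_mul,
        two_smul]
      abel
    rw [← Matrix.det_mul, this, Matrix.det_smul, Fintype.card_fin]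
    norm_num
  rw [Matrix.det_mul] at hr
  have hB0 : B.det ≠ 0 := hB.det_ne_zero h
  refine hns ⟨4 * r / (1 + B).det, ?_⟩
  have hne : (1 + B).det ≠ 0 := fun h0 => by
    rw [h0, zero_mul] at hd
    rcases mul_eq_zero.1 hd.symm with h16 | hb
    · refine h.two (?_ : (2 : F) = 0)
      have : (2 : F) ^ 4 = 0 := by rw [← h16]; norm_num
      exact (pow_eq_zero_iff (by norm_num)).1 this
    · exact hB0 hb
  field_simp
  linear_combination J.det * hd + 16 * hr

/-- A half-signature involution has determinant one. -/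
theorem det_of_sig (h : Frm J) (hk : k = 4) {X : Matrix (Fin k) (Fin k) F} (hX : IsSim J X 1) (h2 : X * X = 1)
    (hs : sig X = 0) : X.det = 1 := by
  obtain ⟨f, s, hf, hsg⟩ := exists_ob_signs h hX h2
  obtain ⟨hd, -, hsig⟩ := signs_data h hf hsg
  rw [hs] at hsig
  have : (Finset.univ.filter fun a => s a = true).card = 2 := by omega
  rw [hd, this]
  ring

/-- The involutive isometries of determinant one. -/
theorem det_one_shape (h : Frm J) (hk : k = 4) {X : Matrix (Fin k) (Fin k) F} (hX : IsSim J X 1) (h2 : X * X = 1)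
    (hd : X.det = 1) : X = 1 ∨ X = -1 ∨ ∃ c d, Pl J c d ∧ X = pl J c d := by
  obtain ⟨f, s, hf, hsg⟩ := exists_ob_signs h hX h2
  obtain ⟨hd', -, hsig⟩ := signs_data h hf hsg
  obtain ⟨-, -, s1, s2, s3, -⟩ := signs_shape h hX h2
  obtain ⟨p, hp⟩ : ∃ p, p = (Finset.univ.filter fun a => s a = true).card := ⟨_, rfl⟩
  rw [← hp] at hd' hsig
  have hp4 : p ≤ 4 := by
    rw [hp, ← hk]; exact (Finset.card_le_univ _).trans_eq (Fintype.card_fin k)
  have hev : Even p := by
    rcases Nat.even_or_odd p with he | ho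
    · exact he
    · rw [hd, ho.neg_one_pow] at hd'
      exact absurd (by linear_combination hd') h.two
  obtain ⟨r, hr⟩ := hev
  rcases (show r = 0 ∨ r = 1 ∨ r = 2 by omega) with rfl | rfl | rfl
  · exact Or.inl (s1 (by omega))
  · exact Or.inr (Or.inr (s3 (by omega)))
  · exact Or.inr (Or.inl (s2 (by omega)))

/-- Cancelling an equal right factor. -/
theorem Pr2.el_left_cancel {i l : τ} (p : Pr2 i l) {A A' B : Matrix (Fin k) (Fin k) F}
    (h : el i A B = el i A' B) (hA : A ≠ 0) (hB : B ≠ 0) : A = A' := by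
  obtain ⟨s, hs, e1, e2⟩ := p.el_eq_el h hA hB
  obtain ⟨a, b, hab⟩ : ∃ a b, B a b ≠ 0 := by
    by_contra hc; push Not at hc; exact hB (Matrix.ext hc)
  have := congrFun₂ e2 a b
  rw [Matrix.smul_apply, smul_eq_mul] at this
  rw [e1, mul_eq_right₀ hab |>.1 this.symm, one_smul]

theorem Pr2.el_right_cancel {i l : τ} (p : Pr2 i l) {A B B' : Matrix (Fin k) (Fin k) F}
    (h : el i A B = el i A B') (hA : A ≠ 0) (hB : B ≠ 0) : B = B' :=
  p.symm.el_left_cancel (A := B) (A' := B') (B := A) (by rw [p.el_swap, p.el_swap]; exact h) hB hA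

namespace Ctx2

variable {M : Subgroup (GL (Ix τ k) F)} {i l : τ} (C : Ctx2 J M i l)
include C

/-- A monomial element centralising a plane involution of the first factor. -/
theorem el_of_comm {g : GL (Ix τ k) F} (hg : g ∈ iso (JJ J τ)) (hm : Mono g.1) {a a' : Fin k → F} (q : Pl J a a')
    (hc : g.1 * el i (pl J a a') 1 = el i (pl J a a') 1 * g.1) :
    ∃ A B μ, IsSim J A μ ∧ IsSim J B μ⁻¹ ∧ g.1 = el i A B ∧ A * pl J a a' = pl J a a' * A := by
  haveI := C.toEnv.neZero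
  have h := C.frm
  have p := C.pr
  have hk := C.four
  have hP0 := (isSim_pl h q).ne_zero h
  rcases p.mono_cases hm with ⟨A, B, e⟩ | ⟨A, B, e⟩
  · obtain ⟨μ, hA, hB⟩ := C.toEnv.el_iso hg e
    refine ⟨A, B, μ, hA, hB, e, ?_⟩
    rw [e, el_mul, el_mul, Matrix.mul_one, Matrix.one_mul] at hc
    refine p.el_left_cancel hc ?_ (hB.ne_zero h)
    exact (hA.mul (isSim_pl h q)).ne_zero h
  · exfalso
    have ev : (g * swapG i l).1 = el i A B := by
      rw [Units.val_mul, e, show (swapG (F := F) (k := k) i l).1 = permM F k (Equiv.swap i l) from rfl,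
        Matrix.mul_assoc, permM_mul, Equiv.swap_mul_self, permM_one, Matrix.mul_one]
    obtain ⟨μ, hA, hB⟩ := C.toEnv.el_iso ((iso _).mul_mem hg (swapG_mem i l)) ev
    rw [e, Matrix.mul_assoc, p.swap_mul_el, ← Matrix.mul_assoc, el_mul, Matrix.mul_one, ← Matrix.mul_assoc,
      el_mul, Matrix.one_mul] at hc
    have h2 := congrArg (· * permM F k (Equiv.swap i l)) hc
    simp only [Matrix.mul_assoc, permM_mul, Equiv.swap_mul_self, permM_one, Matrix.mul_one] at h2
    obtain ⟨s, hs, h3, -⟩ := p.el_eq_el h2 (hA.ne_zero h) ((hB.mul (isSim_pl h q)).ne_zero h)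
    refine pl_ne_smul h (by omega) q s⁻¹ ?_
    have h4 : A = s • (pl J a a' * A) := h3
    obtain ⟨A', hA'⟩ : ∃ A', A * A' = 1 := ⟨A⁻¹, Matrix.mul_nonsing_inv _ (hA.det_ne_zero h).isUnit⟩
    have h5 := congrArg (· * A') h4
    simp only [Matrix.smul_mul, Matrix.mul_assoc, hA', Matrix.mul_one] at h5
    rw [h5, smul_smul, inv_mul_cancel₀ hs, one_smul]

/-- The elements fixing half of the space. -/
theorem fix_half {a a' : Fin k → F} (q : Pl J a a') {m : GL (Ix τ k) F} (hm : m ∈ M)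
    (h1 : m.1 * el i (pp J a a') 1 = el i (pp J a a') 1) (h2 : el i (pp J a a') 1 * m.1 = el i (pp J a a') 1) :
    ∃ S, IsSim J S 1 ∧ S.det = 1 ∧ m.1 = el i S 1 ∧ S *ᵥ a = a ∧ S *ᵥ a' = a' := by
  haveI := C.toEnv.neZero
  have h := C.frm
  have p := C.pr
  have hpa : pr J a * pp J a a' = pr J a ∧ pp J a a' * pr J a = pr J a := by
    constructor
    · rw [pp, Matrix.mul_add, pr_mul_self J q.left, pr_mul_perp J q.orth, add_zero]
    · rw [pp, Matrix.add_mul, pr_mul_self J q.left, pr_mul_perp J (q.symm h).orth, add_zero]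
  have e1 : el i (pr J a) (1 : Matrix (Fin k) (Fin k) F) = el i (pp J a a') 1 * el i (pr J a) 1 := by
    rw [el_mul, hpa.2, Matrix.mul_one]
  have e2 : el i (pr J a) (1 : Matrix (Fin k) (Fin k) F) = el i (pr J a) 1 * el i (pp J a a') 1 := by
    rw [el_mul, hpa.1, Matrix.mul_one]
  have hmm : Mono m.1 := C.mono_of_comm hm q.left (by
    conv_lhs => rw [e1, ← Matrix.mul_assoc, h1, ← e1]
    conv_rhs => rw [e2, Matrix.mul_assoc, h2, ← e2])
  have hP : el i (pl J a a') (1 : Matrix (Fin k) (Fin k) F) = 1 - (2 : F) • el i (pp J a a') 1 := by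
    rw [pl_eq h q, p.el_sub_left, p.el_smul_left, el_one]; rfl
  obtain ⟨A, B, μ, hA, hB, e, -⟩ := C.el_of_comm (C.iso_mem hm) hmm q (by
    rw [hP, Matrix.mul_sub, Matrix.sub_mul, Matrix.mul_smul, Matrix.smul_mul, h1, h2, Matrix.mul_one,
      Matrix.one_mul])
  have h3 := h1
  rw [e, el_mul, Matrix.mul_one] at h3
  have hp0 : pp J a a' ≠ 0 := fun h0 => q.left (by
    have := congrArg (fun Z => Z *ᵥ a) h0
    simp only [pp, Matrix.add_mulVec, pr_self J q.left, pr_perp J (q.symm h).orth, add_zero,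
      Matrix.zero_mulVec] at this
    rw [this, bf_zero_left])
  obtain ⟨u, hu, e4, e5⟩ := p.el_eq_el h3.symm hp0 one_ne_zero
  rw [e5, p.el_smul_right, ← p.el_smul_left] at e
  obtain ⟨S, hS⟩ : ∃ S, S = u • A := ⟨_, rfl⟩
  rw [← hS] at e
  rw [← Matrix.smul_mul, ← hS] at e4
  obtain ⟨ν, hS1, hI⟩ := C.toEnv.el_iso (C.iso_mem hm) e
  have hν : ν⁻¹ = 1 := by
    have h6 := hI.2
    rw [Matrix.transpose_one, Matrix.one_mul, Matrix.mul_one] at h6
    have h7 : (ν⁻¹ - 1) • J = 0 := by rw [sub_smul, one_smul, ← h6, sub_self]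
    refine sub_eq_zero.1 ((smul_eq_zero.1 h7).resolve_right fun h0 => h.det ?_)
    rw [h0, Matrix.det_zero]
  rw [inv_eq_one] at hν
  subst hν
  have hd := C.toEnv.det_eq_of_om hS1 isSim_one (C.le hm) e
  rw [Matrix.det_one] at hd
  have hv : ∀ v : Fin k → F, pp J a a' *ᵥ v = v → S *ᵥ v = v := fun v hv => by
    conv_lhs => rw [← hv, Matrix.mulVec_mulVec, ← e4, hv]
  refine ⟨S, hS1, hd, e, hv a ?_, hv a' ?_⟩
  · rw [pp, Matrix.add_mulVec, pr_self J q.left, pr_perp J (q.symm h).orth, add_zero]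
  · rw [pp, Matrix.add_mulVec, pr_self J q.right, pr_perp J q.orth, zero_add]

/-- The conjugates of an element fixing half of the space. -/
theorem conj_fix {E : Matrix (Ix τ k) (Ix τ k) F} {g m : GL (Ix τ k) F} (hgE : g.1 * E = E * g.1)
    (h1 : m.1 * E = E) (h2 : E * m.1 = E) :
    (g * m * g⁻¹).1 * E = E ∧ E * (g * m * g⁻¹).1 = E := by
  have hgE' : (g⁻¹).1 * E = E * (g⁻¹).1 := by
    calc (g⁻¹).1 * E = (g⁻¹).1 * (E * (g.1 * (g⁻¹).1)) := by rw [g.mul_inv, Matrix.mul_one]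
      _ = (g⁻¹).1 * (g.1 * E * (g⁻¹).1) := by rw [hgE, Matrix.mul_assoc]
      _ = E * (g⁻¹).1 := by rw [← Matrix.mul_assoc, ← Matrix.mul_assoc, g.inv_mul, Matrix.one_mul]
  rw [Units.val_mul, Units.val_mul]
  constructor
  · rw [Matrix.mul_assoc, hgE', Matrix.mul_assoc, ← Matrix.mul_assoc m.1, h1, ← Matrix.mul_assoc, hgE,
      Matrix.mul_assoc, g.mul_inv, Matrix.mul_one]
  · rw [← Matrix.mul_assoc, ← Matrix.mul_assoc, ← hgE, Matrix.mul_assoc g.1 E, h2, hgE, Matrix.mul_assoc,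
      g.mul_inv, Matrix.mul_one]

/-- Commuting with a plane involution and with the projection. -/
theorem comm_half {a a' : Fin k → F} (q : Pl J a a') {X : Matrix (Ix τ k) (Ix τ k) F}
    (hX : X * el i (pl J a a') 1 = el i (pl J a a') 1 * X) :
    X * el i (pp J a a') 1 = el i (pp J a a') 1 * X := by
  have e : el i (pp J a a') (1 : Matrix (Fin k) (Fin k) F) = (2 : F)⁻¹ • (1 - el i (pl J a a') 1) := by
    rw [pl_eq C.frm q, C.pr.el_sub_left, el_one, sub_sub_cancel, C.pr.el_smul_left, smul_smul,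
      inv_mul_cancel₀ C.frm.two, one_smul]
    rfl
  rw [e, Matrix.mul_smul, Matrix.smul_mul, Matrix.mul_sub, Matrix.sub_mul, hX, Matrix.one_mul, Matrix.mul_one]

/-- The conjugates of a quarter rotation of the complementary plane. -/
theorem conj_qtr {a a' e e' : Fin k → F} (f : Fr4 J a a' e e') (hq : bf J e' e' = bf J e e) {g : GL (Ix τ k) F}
    (hg : g ∈ M) (hc : g.1 * el i (pl J a a') 1 = el i (pl J a a') 1 * g.1) :
    g.1 * el i (qtr J e e') 1 * (g⁻¹).1 = el i (qtr J e e') 1 ∨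
      g.1 * el i (qtr J e e') 1 * (g⁻¹).1 = el i (qtr J e e' * pl J e e') 1 := by
  haveI := C.toEnv.neZero
  have h := C.frm
  have p := C.pr
  obtain ⟨qi, hqi, eqi⟩ := C.exists_el (qtr_spec h f.right hq).2.1 isSim_one
    (by rw [det_qtr h C.even f.right hq, Matrix.det_one])
  have hfix : qtr J e e' * pp J a a' = pp J a a' ∧ pp J a a' * qtr J e e' = pp J a a' := by
    constructor <;> refine f.ext ?_ ?_ ?_ ?_ <;> rw [← Matrix.mulVec_mulVec]
    · rw [f.pp_a, f.swap.qtr_e hq]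
    · rw [f.pp_a', f.swap.qtr_e' hq]
    · rw [f.pp_e, Matrix.mulVec_zero]
    · rw [f.pp_e', Matrix.mulVec_zero]
    · rw [f.swap.qtr_e hq]
    · rw [f.swap.qtr_e' hq]
    · rw [f.swap.qtr_a hq, Matrix.mulVec_neg, f.pp_e', f.pp_e, neg_zero]
    · rw [f.swap.qtr_a' hq, f.pp_e, f.pp_e']
  obtain ⟨m1, m2⟩ := C.conj_fix (C.comm_half f.left hc) (m := qi)
    (by rw [eqi, el_mul, hfix.1, Matrix.mul_one]) (by rw [eqi, el_mul, hfix.2, Matrix.mul_one])
  obtain ⟨S, hS, hd, eS, Sa, Sa'⟩ := C.fix_half f.left (M.mul_mem (M.mul_mem hg hqi) (M.inv_mem hg)) m1 m2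
  have hm2 : (g * qi * g⁻¹).1 * (g * qi * g⁻¹).1 = el i (pl J e e') 1 := by
    rw [C.val_conj g qi eqi, ← conj_mul, el_mul, Matrix.mul_one, f.swap.qtr_sq hq]
    refine conj_of_comm ?_
    rw [f.pl_neg, p.el_neg_left, Matrix.mul_neg, Matrix.neg_mul, hc]
  rw [eS, el_mul, Matrix.mul_one] at hm2
  have hSS := p.el_left_cancel hm2 ((hS.mul hS).ne_zero h) one_ne_zero
  obtain ⟨x, y, e1, e2, e3⟩ := f.swap.rotation_form hS hd Sa Sa'
  rw [hq, div_self f.qe] at e2 e3
  have hxy : x * x - y * y = -1 ∧ x * y = 0 := by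
    have h4 := congrArg (fun Z => Z *ᵥ e) hSS
    simp only [← Matrix.mulVec_mulVec, e1, Matrix.mulVec_add, Matrix.mulVec_smul, e2, f.swap.pl_a] at h4
    have h5 := congrArg (bf J e) h4
    have h6 := congrArg (bf J e') h4
    simp only [bf_add_right, bf_smul_right, f.ee', f.e'e, mul_zero, add_zero, zero_add, ← neg_one_smul F e,
      mul_neg, neg_mul, one_mul] at h5 h6
    refine ⟨mul_right_cancel₀ f.qe (by linear_combination h5), ?_⟩
    have : (2 : F) * (x * y) * bf J e' e' = 0 := by linear_combination h6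
    simpa [h.two, f.qe'] using this
  have hx : x = 0 := by
    have : x * x = 0 := (mul_eq_zero.1 (show (2 : F) * (x * x) = 0 by linear_combination hxy.1 + e3)).resolve_left h.two
    exact mul_self_eq_zero.1 this
  subst hx
  have hy : y = -1 ∨ y = 1 := (mul_self_eq_one_iff.1 (by linear_combination e3)).symm
  rw [← C.val_conj g qi eqi, eS]
  rcases hy with rfl | rfl
  · refine Or.inl (congrArg (fun Z => el i Z 1) (f.ext ?_ ?_ ?_ ?_))
    · rw [Sa, f.swap.qtr_e hq]
    · rw [Sa', f.swap.qtr_e' hq]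
    · rw [e1, f.swap.qtr_a hq, zero_smul, zero_add, neg_one_smul]
    · rw [e2, f.swap.qtr_a' hq]; module
  · refine Or.inr (congrArg (fun Z => el i Z 1) (f.ext ?_ ?_ ?_ ?_))
    · rw [Sa, ← Matrix.mulVec_mulVec, f.swap.pl_e, f.swap.qtr_e hq]
    · rw [Sa', ← Matrix.mulVec_mulVec, f.swap.pl_e', f.swap.qtr_e' hq]
    · rw [e1, ← Matrix.mulVec_mulVec, f.swap.pl_a, Matrix.mulVec_neg, f.swap.qtr_a hq]; module
    · rw [e2, ← Matrix.mulVec_mulVec, f.swap.pl_a', Matrix.mulVec_neg, f.swap.qtr_a' hq]; module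

/-- Conjugation keeps commuting with the quarter rotation. -/
theorem conj_keep {a a' e e' : Fin k → F} (f : Fr4 J a a' e e') (hq : bf J e' e' = bf J e e) {g : GL (Ix τ k) F}
    (hg : g ∈ M) (hc : g.1 * el i (pl J a a') 1 = el i (pl J a a') 1 * g.1) {X : Matrix (Ix τ k) (Ix τ k) F}
    (hX : X * el i (qtr J e e') 1 = el i (qtr J e e') 1 * X)
    (hXP : X * el i (pl J a a') 1 = el i (pl J a a') 1 * X) :
    g.1 * X * (g⁻¹).1 * el i (qtr J e e') 1 = el i (qtr J e e') 1 * (g.1 * X * (g⁻¹).1) := by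
  have p := C.pr
  have h := C.frm
  have hPe : el i (pl J e e') (1 : Matrix (Fin k) (Fin k) F) = -el i (pl J a a') 1 := by
    rw [f.pl_neg, p.el_neg_left]
  have key : g.1 * X * (g⁻¹).1 * (g.1 * el i (qtr J e e') 1 * (g⁻¹).1) =
      g.1 * el i (qtr J e e') 1 * (g⁻¹).1 * (g.1 * X * (g⁻¹).1) := by
    rw [← conj_mul, ← conj_mul, hX]
  rcases C.conj_qtr f hq hg hc with e0 | e0 <;> rw [e0] at key
  · exact key
  · have hz : g.1 * X * (g⁻¹).1 * el i (pl J e e') 1 = el i (pl J e e') 1 * (g.1 * X * (g⁻¹).1) := by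
      rw [hPe, Matrix.mul_neg, Matrix.neg_mul]
      congr 1
      have hzc := congrArg (fun Z => g.1 * Z * (g⁻¹).1) hXP
      simp only [conj_mul, conj_of_comm hc] at hzc
      exact hzc
    have e1 : el i (qtr J e e') (1 : Matrix (Fin k) (Fin k) F) =
        el i (qtr J e e' * pl J e e') 1 * el i (pl J e e') 1 := by
      rw [el_mul, Matrix.mul_assoc, pl_mul_self h f.right, Matrix.mul_one, Matrix.mul_one]
    rw [e1, ← Matrix.mul_assoc, key, Matrix.mul_assoc, hz, ← Matrix.mul_assoc]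

/-- Conjugation keeps inverting the quarter rotation. -/
theorem conj_flip {a a' e e' : Fin k → F} (f : Fr4 J a a' e e') (hq : bf J e' e' = bf J e e) {g : GL (Ix τ k) F}
    (hg : g ∈ M) (hc : g.1 * el i (pl J a a') 1 = el i (pl J a a') 1 * g.1) {X : Matrix (Ix τ k) (Ix τ k) F}
    (hX : X * el i (qtr J e e') 1 = el i (qtr J e e' * pl J e e') 1 * X)
    (hXP : X * el i (pl J a a') 1 = el i (pl J a a') 1 * X) :
    g.1 * X * (g⁻¹).1 * el i (qtr J e e') 1 = el i (qtr J e e' * pl J e e') 1 * (g.1 * X * (g⁻¹).1) := by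
  have p := C.pr
  have h := C.frm
  have hPe : el i (pl J e e') (1 : Matrix (Fin k) (Fin k) F) = -el i (pl J a a') 1 := by
    rw [f.pl_neg, p.el_neg_left]
  have hgPe : g.1 * el i (pl J e e') 1 * (g⁻¹).1 = el i (pl J e e') 1 := by
    rw [hPe, Matrix.mul_neg, Matrix.neg_mul, conj_of_comm hc]
  have esplit : el i (qtr J e e' * pl J e e') (1 : Matrix (Fin k) (Fin k) F) =
      el i (qtr J e e') 1 * el i (pl J e e') 1 := by rw [el_mul, Matrix.mul_one]
  have eP : el i (qtr J e e' * pl J e e') (1 : Matrix (Fin k) (Fin k) F) * el i (pl J e e') 1 =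
      el i (qtr J e e') 1 := by
    rw [el_mul, Matrix.mul_assoc, pl_mul_self h f.right, Matrix.mul_one, Matrix.mul_one]
  have key : g.1 * X * (g⁻¹).1 * (g.1 * el i (qtr J e e') 1 * (g⁻¹).1) =
      g.1 * el i (qtr J e e') 1 * (g⁻¹).1 * el i (pl J e e') 1 * (g.1 * X * (g⁻¹).1) := by
    nth_rw 1 [← hgPe]
    rw [← conj_mul, ← conj_mul, ← conj_mul, hX, esplit]
  rcases C.conj_qtr f hq hg hc with e0 | e0 <;> rw [e0] at key
  · rw [key, ← esplit]
  · rw [eP] at key
    have hz : g.1 * X * (g⁻¹).1 * el i (pl J e e') 1 = el i (pl J e e') 1 * (g.1 * X * (g⁻¹).1) := by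
      rw [hPe, Matrix.mul_neg, Matrix.neg_mul]
      congr 1
      have hzc := congrArg (fun Z => g.1 * Z * (g⁻¹).1) hXP
      simp only [conj_mul, conj_of_comm hc] at hzc
      exact hzc
    conv_lhs => rw [← eP, ← Matrix.mul_assoc, key, Matrix.mul_assoc, hz, ← Matrix.mul_assoc]
    rw [esplit]

/-- A similitude inverting the quarter rotation on its plane. -/
theorem flip_plane {a a' e e' : Fin k → F} (f : Fr4 J a a' e e') (hq : bf J e' e' = bf J e e)
    {A : Matrix (Fin k) (Fin k) F} {μ c : F} (hA : IsSim J A μ) (hA2 : A * A = c • 1)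
    (hP : A * pl J a a' = pl J a a' * A) (hflip : A * qtr J e e' = qtr J e e' * pl J e e' * A) :
    μ = c ∧ ¬ A * pp J e e' = pp J e e' ∧ ¬ A * pp J e e' = -pp J e e' := by
  have h := C.frm
  obtain ⟨x, y, e1⟩ := f.swap.mulVec_span
    (show A * pl J e e' = pl J e e' * A by rw [f.pl_neg, Matrix.mul_neg, Matrix.neg_mul, hP]) f.swap.pp_a
  have e2 : A *ᵥ e' = y • e - x • e' := by
    have h1 := congrArg (fun Z => Z *ᵥ e) hflip
    simp only [← Matrix.mulVec_mulVec, f.swap.qtr_a hq, Matrix.mulVec_neg, e1, Matrix.mulVec_add, Matrix.mulVec_smul,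
      f.swap.pl_a, f.swap.pl_a', f.swap.qtr_a' hq, smul_neg, neg_neg] at h1
    rw [← neg_inj, h1]
    module
  have hc2 : c = x * x + y * y := by
    have h1 := congrArg (fun Z => Z *ᵥ e) hA2
    simp only [← Matrix.mulVec_mulVec, e1, Matrix.mulVec_add, Matrix.mulVec_smul, e2, Matrix.smul_mulVec,
      Matrix.one_mulVec] at h1
    have h2 := congrArg (bf J e) h1
    simp only [bf_add_right, bf_sub_right, bf_smul_right, f.ee', mul_zero, add_zero, sub_zero] at h2
    exact mul_right_cancel₀ f.qe (by linear_combination -h2)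
  refine ⟨?_, fun e0 => ?_, fun e0 => ?_⟩
  · have h1 := hA.bf e e
    rw [e1] at h1
    simp only [bf_add_left, bf_add_right, bf_smul_left, bf_smul_right, f.ee', f.e'e, hq, mul_zero, add_zero,
      zero_add] at h1
    exact mul_right_cancel₀ f.qe (by rw [hc2]; linear_combination -h1)
  · have h1 := congrArg (fun Z => bf J e (Z *ᵥ e)) e0
    have h2 := congrArg (fun Z => bf J e' (Z *ᵥ e')) e0
    simp only [← Matrix.mulVec_mulVec, f.swap.pp_a, f.swap.pp_a', e1, e2, bf_add_right, bf_sub_right, bf_smul_right,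
      f.ee', f.e'e, mul_zero, add_zero, zero_sub, hq] at h1 h2
    exact h.two ((mul_eq_zero.1 (show (2 : F) * bf J e e = 0 by linear_combination -h1 - h2)).resolve_right f.qe)
  · have h1 := congrArg (fun Z => bf J e (Z *ᵥ e)) e0
    have h2 := congrArg (fun Z => bf J e' (Z *ᵥ e')) e0
    simp only [← Matrix.mulVec_mulVec, Matrix.neg_mulVec, f.swap.pp_a, f.swap.pp_a', e1, e2, bf_add_right,
      bf_sub_right, bf_smul_right, ← neg_one_smul F e, ← neg_one_smul F e', f.ee', f.e'e, mul_zero, add_zero,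
      zero_sub, hq] at h1 h2
    exact h.two ((mul_eq_zero.1 (show (2 : F) * bf J e e = 0 by linear_combination h1 + h2)).resolve_right f.qe)

/-- A normalised monomial conjugate of a plane involution inverting the quarter rotation. -/
theorem flip_shape {a a' e e' : Fin k → F} (f : Fr4 J a a' e e') (hq : bf J e' e' = bf J e e)
    {y : GL (Ix τ k) F} (hy : y ∈ Om (JJ J τ)) (hs : sig y.1 = 0) {A B : Matrix (Fin k) (Fin k) F}
    (hA : IsSim J A 1) (hB : IsSim J B 1) (hA2 : A * A = 1) (hB2 : B * B = 1) (ey : y.1 = el i A B)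
    (hP : A * pl J a a' = pl J a a' * A) (hflip : A * qtr J e e' = qtr J e e' * pl J e e' * A) :
    ∃ a₁ a₁' e₁ e₁', Fr4 J a₁ a₁' e₁ e₁' ∧ pl J a₁ a₁' = pl J a a' ∧
      (y.1 = el i (pl J a₁ e₁) 1 ∨ ∃ b c, Pl J b c ∧ y.1 = el i (pl J a₁ e₁) (pl J b c)) := by
  have h := C.frm
  have p := C.pr
  have hd := C.toEnv.det_eq_of_om hA hB hy ey
  rw [ey, p.sig_el h.two hA2 hB2] at hs
  have hdA : A.det = 1 := by
    rcases mul_eq_zero.1 hs with h0 | h0
    · exact det_of_sig h f.dim hA hA2 h0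
    · rw [hd]; exact det_of_sig h f.dim hB hB2 h0
  obtain ⟨-, n1, n2⟩ := C.flip_plane f hq hA (c := 1) (by rw [hA2, one_smul]) hP hflip
  have hk2 : 2 ≤ k := by rw [f.dim]; omega
  obtain ⟨e₁, e₁', f1, hpl1, r1, r1'⟩ := (f.swap.eigen_pair hA hA2
    (by rw [f.pl_neg, Matrix.mul_neg, Matrix.neg_mul, hP])).resolve_left n1 |>.resolve_left n2
  -- the frame on the first plane
  have bad : ∀ (u u' : Fin k → F) (Z : Matrix (Fin k) (Fin k) F), Fr4 J u u' a a' → IsSim J Z 1 → Z * Z = 1 →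
      Z.det = 1 → Z *ᵥ a = a → Z *ᵥ a' = a' → Z *ᵥ u = -u → Z *ᵥ u' = u' → False := by
    intro u u' Z fu hZ hZ2 hdZ za za' ze ze'
    rcases pl_of_fix_plane h hk2 fu.left hZ hZ2 hdZ (fun v h1 h2 => by
      rw [fu.expand v, pr_perp J h1, pr_perp J h2, add_zero, zero_add, Matrix.mulVec_add, pr_mulVec, pr_mulVec,
        Matrix.mulVec_smul, Matrix.mulVec_smul, za, za']) with e0 | e0
    · rw [e0, Matrix.one_mulVec] at ze
      exact fu.qa (by rw [eq_zero_of_eq_neg h.two ze, bf_zero_left])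
    · rw [e0, fu.pl_a'] at ze'
      exact fu.qa' (by rw [eq_zero_of_eq_neg h.two ze'.symm, bf_zero_left])
  obtain ⟨a₁, a₁', f2, hpl2, r2, r2'⟩ : ∃ a₁ a₁', Fr4 J a₁ a₁' e₁ e₁' ∧ pl J a₁ a₁' = pl J a a' ∧
      A *ᵥ a₁ = -a₁ ∧ A *ᵥ a₁' = a₁' := by
    rcases f1.swap.eigen_pair hA hA2 hP with e0 | e0 | ⟨c, c', g1, g2, g3, g4⟩
    · refine (bad e₁ e₁' A f1 hA hA2 hdA ?_ ?_ r1 r1').elim
      · conv_lhs => rw [← f.pp_a, Matrix.mulVec_mulVec, e0, f.pp_a]
      · conv_lhs => rw [← f.pp_a', Matrix.mulVec_mulVec, e0, f.pp_a']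
    · exfalso
      have nA : IsSim J (-A) 1 := by
        rw [← neg_one_smul F A]
        simpa using hA.smul (c := (-1 : F)) (neg_ne_zero.2 one_ne_zero)
      refine bad e₁' e₁ (-A) (Fr4.of_pairs h f.dim f1.qa' f1.qa f1.qe f1.qe' f1.a'a f1.a'e f1.a'e' f1.ae f1.ae'
        f1.ee') nA (by rw [neg_mul_neg, hA2]) ?_ ?_ ?_ ?_ ?_
      · rw [Matrix.det_neg, Fintype.card_fin, C.even.neg_one_pow, one_mul, hdA]
      · conv_lhs => rw [← f.pp_a, Matrix.mulVec_mulVec, Matrix.neg_mul, e0, neg_neg, f.pp_a]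
      · conv_lhs => rw [← f.pp_a', Matrix.mulVec_mulVec, Matrix.neg_mul, e0, neg_neg, f.pp_a']
      · rw [Matrix.neg_mulVec, r1']
      · rw [Matrix.neg_mulVec, r1, neg_neg]
    · exact ⟨c, c', g1, g2, g3, g4⟩
  have eA : A = pl J a₁ e₁ := by
    refine f2.ext ?_ ?_ ?_ ?_
    · rw [r2, f2.mix.pl_a]
    · rw [r2', f2.mix.pl_e]
    · rw [r1, f2.mix.pl_a']
    · rw [r1', f2.mix.pl_e']
  rcases det_one_shape h f.dim hB hB2 (by rw [← hd, hdA]) with e0 | e0 | ⟨b, c, q, e0⟩
  · exact ⟨a₁, a₁', e₁, e₁', f2, hpl2, Or.inl (by rw [ey, eA, e0])⟩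
  · refine ⟨a₁', a₁, e₁', e₁, Fr4.of_pairs h f.dim f2.qa' f2.qa f2.qe' f2.qe f2.a'a f2.a'e' f2.a'e f2.ae' f2.ae
      f2.e'e, by rw [pl_comm h (f2.left.symm h), hpl2], Or.inl ?_⟩
    rw [ey, eA, e0, p.el_neg_right, ← p.el_neg_left, f2.mix.pl_neg]
  · exact ⟨a₁, a₁', e₁, e₁', f2, hpl2, Or.inr ⟨b, c, q, by rw [ey, eA, e0]⟩⟩

end Ctx2

end CfsgLib.Classical.TensorWreathOrth.Two
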