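import Cfsg.Agent.Lib.Classical.TensorWreathOrth.TwoFourBlock

set_option autoImplicit false
set_option linter.unusedSectionVars false

/-!
Dimension four: an element centralising two planes with a monomial conjugate of a third involution, the conjugates
of the rotations, and the elements of odd order centralising all rotations.
-/

namespace CfsgLib.Classical.TensorWreathOrth.Two

open Matrix CfsgLib.Classical.TensorWreath
open CfsgLib.Classical.TensorWreathOrth
open scoped MatrixGroups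

variable {F : Type*} [Field F] [Finite F] {τ : Type} [Fintype τ] [DecidableEq τ] {k : ℕ}
  {J : Matrix (Fin k) (Fin k) F}

theorem Fr4.mid_flip {a a' e e' : Fin k → F} (f : Fr4 J a a' e e') (hq : bf J e' e' = bf J e e) :
    pl J a e * qtr J e e' = qtr J e e' * pl J e e' * pl J a e := by
  refine f.ext ?_ ?_ ?_ ?_ <;> simp only [← Matrix.mulVec_mulVec]
  · rw [f.swap.qtr_e hq, f.mix.pl_a, Matrix.mulVec_neg, Matrix.mulVec_neg, f.swap.pl_e, f.swap.qtr_e hq]
  · rw [f.swap.qtr_e' hq, f.mix.pl_e, f.swap.pl_e', f.swap.qtr_e' hq]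
  · rw [f.swap.qtr_a hq, Matrix.mulVec_neg, f.mix.pl_e', f.mix.pl_a', Matrix.mulVec_neg, f.swap.pl_a, neg_neg,
      f.swap.qtr_a hq]
  · rw [f.swap.qtr_a' hq, f.mix.pl_a', f.mix.pl_e', f.swap.pl_a', Matrix.mulVec_neg, f.swap.qtr_a' hq]

theorem Fr4.plRot_perm {a a' e e' : Fin k → F} (f : Fr4 J a a' e e') (f' : Fr4 J a' a e' e)
    {S : Matrix (Fin k) (Fin k) F} (hS : f'.PlRot S) : f.PlRot S :=
  ⟨hS.1, hS.2.1, hS.2.2.imp And.symm And.symm⟩

namespace Ctx2

variable {M : Subgroup (GL (Ix τ k) F)} {i l : τ} (C : Ctx2 J M i l)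
include C

/-- A monomial image of a plane involution with factors of square value forces monomiality. -/
theorem mono_of_flip {a a' e e' : Fin k → F} (f : Fr4 J a a' e e') (hq : bf J e' e' = bf J e e) {g : GL (Ix τ k) F}
    (hg : g ∈ M) (hz : g.1 * el i (pl J a a') 1 = el i (pl J a a') 1 * g.1) {A B : Matrix (Fin k) (Fin k) F} {c : F}
    (hA : IsSim J A c) (hB : IsSim J B c⁻¹) (hA2 : A * A = c • 1) (hB2 : B * B = c⁻¹ • 1) (hc : IsSquare c)
    (ey : g.1 * el i (pl J a e) 1 * (g⁻¹).1 = el i A B) (hP : A * pl J a a' = pl J a a' * A)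
    (hflip : A * qtr J e e' = qtr J e e' * pl J e e' * A) : Mono g.1 := by
  haveI := C.toEnv.neZero
  have h := C.frm
  have p := C.pr
  obtain ⟨u, rfl⟩ := hc
  have hu0 : u ≠ 0 := left_ne_zero_of_mul hA.1
  obtain ⟨A', hA'⟩ : ∃ A', A' = u⁻¹ • A := ⟨_, rfl⟩
  obtain ⟨B', hB'⟩ : ∃ B', B' = u • B := ⟨_, rfl⟩
  have sA : IsSim J A' 1 := by
    have := hA.smul (inv_ne_zero hu0)
    rwa [← hA', show u⁻¹ * u⁻¹ * (u * u) = 1 by field_simp] at this
  have sB : IsSim J B' 1 := by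
    have := hB.smul hu0
    rwa [← hB', show u * u * (u * u)⁻¹ = 1 by field_simp] at this
  have eA : A' * A' = 1 := by
    rw [hA', Matrix.smul_mul, Matrix.mul_smul, hA2, smul_smul, smul_smul,
      show u⁻¹ * u⁻¹ * (u * u) = 1 by field_simp, one_smul]
  have eB : B' * B' = 1 := by
    rw [hB', Matrix.smul_mul, Matrix.mul_smul, hB2, smul_smul, smul_smul,
      show u * u * (u * u)⁻¹ = 1 by field_simp, one_smul]
  obtain ⟨z, hzM, ez⟩ := C.exists_pl_left f.mid
  have ev : (g * z * g⁻¹).1 = el i A' B' := by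
    rw [C.val_conj g z ez, ey, hA', hB', p.el_smul_left, p.el_smul_right, smul_smul, inv_mul_cancel₀ hu0, one_smul]
  have hs : sig (g * z * g⁻¹).1 = 0 := by
    rw [C.val_conj g z ez, sig_conj g.inv_mul, p.sig_el h.two (pl_mul_self h f.mid) (Matrix.one_mul 1), pl,
      sig_rot_two h f.qa f.qe f.ae, Fintype.card_fin, f.dim]
    simp
  have hP' : A' * pl J a a' = pl J a a' * A' := by rw [hA', Matrix.smul_mul, Matrix.mul_smul, hP]
  have hflip' : A' * qtr J e e' = qtr J e e' * pl J e e' * A' := by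
    rw [hA', Matrix.smul_mul, Matrix.mul_smul, hflip]
  obtain ⟨a₁, a₁', e₁, e₁', f1, hpl, e1 | ⟨b, d, q, e1⟩⟩ := C.flip_shape f hq
    (C.le (M.mul_mem (M.mul_mem hg hzM) (M.inv_mem hg))) hs sA sB eA eB ev hP' hflip'
  · refine C.lin hg f.left f.mid f.a'e (s := i) (X := pl J a a') (X' := pl J a₁ e₁) ?_ ?_
    · rw [conj_of_comm hz, embM_eq_el]
    · rw [← C.val_conj g z ez, e1, embM_eq_el]
  · exact (C.no_pp_image f hq f1 hpl q hg hz (by rw [← C.val_conj g z ez, e1])).elim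

/-- The data of a monomial conjugate of a plane involution. -/
theorem flip_data {a a' e e' : Fin k → F} (f : Fr4 J a a' e e') (hq : bf J e' e' = bf J e e) {g : GL (Ix τ k) F}
    (hg : g ∈ M) (hz : g.1 * el i (pl J a a') 1 = el i (pl J a a') 1 * g.1)
    (hm : Mono (g.1 * el i (pl J a e) 1 * (g⁻¹).1)) :
    ∃ A B c, IsSim J A c ∧ IsSim J B c⁻¹ ∧ A * A = c • 1 ∧ B * B = c⁻¹ • 1 ∧
      g.1 * el i (pl J a e) 1 * (g⁻¹).1 = el i A B ∧ A * pl J a a' = pl J a a' * A ∧
      A * qtr J e e' = qtr J e e' * pl J e e' * A := by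
  haveI := C.toEnv.neZero
  have h := C.frm
  have p := C.pr
  obtain ⟨z, hzM, ez⟩ := C.exists_pl_left f.mid
  have ev := C.val_conj g z ez
  have hz2 : z * z = 1 := Units.ext (by
    rw [Units.val_mul, ez, el_mul, pl_mul_self h f.mid, Matrix.mul_one, el_one, Units.val_one])
  have hy2 : g * z * g⁻¹ * (g * z * g⁻¹) = 1 := by
    rw [show g * z * g⁻¹ * (g * z * g⁻¹) = g * (z * z) * g⁻¹ by group, hz2, mul_one, mul_inv_cancel]
  obtain ⟨A, B, μ, c, e0, hA, hB, -, hA2, hB2⟩ := C.toEnv.invol_cases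
    (C.le (M.mul_mem (M.mul_mem hg hzM) (M.inv_mem hg))) (by rw [ev]; exact hm) hy2
  rw [ev] at e0
  have hXP : el i (pl J a e) 1 * el i (pl J a a') 1 = el i (pl J a a') 1 * el i (pl J a e) 1 := by
    rw [el_mul, el_mul, pl_mul_pl h f.mid, pl_mul_pl h f.left, rot_comm_orth h f.ea']
  have hzc := congrArg (fun Z => g.1 * Z * (g⁻¹).1) hXP
  beta_reduce at hzc
  rw [conj_mul, conj_mul, conj_of_comm hz, e0, el_mul, el_mul, Matrix.mul_one, Matrix.one_mul] at hzc
  have hP : A * pl J a a' = pl J a a' * A :=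
    p.el_left_cancel hzc ((hA.mul (isSim_pl h f.left)).ne_zero h) (hB.ne_zero h)
  have hfl := C.conj_flip f hq hg hz (X := el i (pl J a e) 1) (by rw [el_mul, el_mul, f.mid_flip hq]) hXP
  rw [e0, el_mul, el_mul, Matrix.mul_one, Matrix.one_mul] at hfl
  have hflip : A * qtr J e e' = qtr J e e' * pl J e e' * A :=
    p.el_left_cancel hfl ((hA.mul (qtr_spec h f.right hq).2.1).ne_zero h) (hB.ne_zero h)
  obtain ⟨hμ, -, -⟩ := C.flip_plane f hq hA hA2 hP hflip
  subst hμ
  exact ⟨A, B, μ, hA, hB, hA2, hB2, e0, hP, hflip⟩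

/-- In the centraliser of two planes, a monomial conjugate forces monomiality. -/
theorem one_five {a a' e e' b c d o : Fin k → F} (f : Fr4 J a a' e e') (hq : bf J e' e' = bf J e e)
    (fb : Fr4 J b c d o) (hbc : bf J c c = bf J b b) {g : GL (Ix τ k) F} (hg : g ∈ M)
    (hz : g.1 * el i (pl J a a') 1 = el i (pl J a a') 1 * g.1)
    (hr : g.1 * el i 1 (pl J b c) = el i 1 (pl J b c) * g.1)
    (hm : Mono (g.1 * el i (pl J a e) 1 * (g⁻¹).1)) : Mono g.1 := by
  haveI := C.toEnv.neZero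
  have h := C.frm
  have p := C.pr
  obtain ⟨A, B, μ, hA, hB, hA2, hB2, e0, hP, hflip⟩ := C.flip_data f hq hg hz hm
  have hr' : g.1 * el l (pl J d o) 1 = el l (pl J d o) 1 * g.1 := by
    rw [p.el_swap, fb.pl_neg, p.el_neg_right, Matrix.mul_neg, Matrix.neg_mul, hr]
  have h1 := C.symm.conj_keep fb.swap hbc hg hr' (X := el i (pl J a e) 1)
    (by rw [p.el_swap, el_mul, el_mul, Matrix.mul_one, Matrix.one_mul, Matrix.one_mul, Matrix.mul_one])
    (by rw [p.el_swap, el_mul, el_mul, Matrix.mul_one, Matrix.one_mul, Matrix.one_mul, Matrix.mul_one])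
  rw [e0, p.el_swap, el_mul, el_mul, Matrix.mul_one, Matrix.one_mul] at h1
  have hBq : B * qtr J b c = qtr J b c * B :=
    p.el_right_cancel h1 (hA.ne_zero h) ((hB.mul (qtr_spec h fb.left hbc).2.1).ne_zero h)
  refine C.mono_of_flip f hq hg hz hA hB hA2 hB2 ?_ e0 hP hflip
  have hBP : B * pl J b c = pl J b c * B := by
    rw [← fb.qtr_sq hbc, ← Matrix.mul_assoc, hBq, Matrix.mul_assoc, hBq, ← Matrix.mul_assoc]
  obtain ⟨x, y, e1⟩ := fb.mulVec_span hBP fb.pp_a
  have e2 : B *ᵥ c = x • c - y • b := by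
    have h2 := congrArg (fun Z => Z *ᵥ b) hBq
    simp only [← Matrix.mulVec_mulVec, fb.qtr_a hbc, Matrix.mulVec_neg, e1, Matrix.mulVec_add, Matrix.mulVec_smul,
      fb.qtr_a' hbc, smul_neg] at h2
    rw [← neg_inj, h2]
    module
  have h3 := congrArg (fun Z => bf J b (Z *ᵥ b)) hB2
  simp only [← Matrix.mulVec_mulVec, e1, Matrix.mulVec_add, Matrix.mulVec_smul, e2, Matrix.smul_mulVec,
    Matrix.one_mulVec, bf_add_right, bf_sub_right, bf_smul_right, fb.aa', mul_zero, add_zero, zero_sub] at h3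
  have h4 := hB.bf b b
  rw [e1] at h4
  simp only [bf_add_left, bf_add_right, bf_smul_left, bf_smul_right, fb.aa', fb.a'a, hbc, mul_zero, add_zero,
    zero_add] at h4
  have hy : y = 0 := by
    have : (2 : F) * (y * y) * bf J b b = 0 := by linear_combination h4 - h3
    simpa [h.two, fb.qa] using this
  have hx : x * x = μ⁻¹ := mul_right_cancel₀ fb.qa (by rw [hy] at h3; linear_combination h3)
  exact ⟨x⁻¹, by rw [← mul_inv, hx, inv_inv]⟩

/-- The conjugates of a rotation of the first factor. -/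
theorem conj_rot_left {a a' e e' : Fin k → F} (f : Fr4 J a a' e e') {g t : GL (Ix τ k) F} (hg : g ∈ M) (ht : t ∈ M)
    (hz : g.1 * el i (pl J a a') 1 = el i (pl J a a') 1 * g.1) {S : Matrix (Fin k) (Fin k) F} (hS : f.PlRot S)
    (et : t.1 = el i S 1) :
    ∃ S', f.PlRot S' ∧ (g * t * g⁻¹).1 = el i S' 1 ∧ (S' = S ∨ S' * S = 1) := by
  have key : ∀ {a a' e e' : Fin k → F} (f : Fr4 J a a' e e'),
      g.1 * el i (pl J a a') 1 = el i (pl J a a') 1 * g.1 → IsSim J S 1 → S.det = 1 → S *ᵥ a = a → S *ᵥ a' = a' →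
      ∃ S', IsSim J S' 1 ∧ S'.det = 1 ∧ S' *ᵥ a = a ∧ S' *ᵥ a' = a' ∧ (g * t * g⁻¹).1 = el i S' 1 ∧
        (S' = S ∨ S' * S = 1) := by
    intro a a' e e' f hz hS1 hS2 ha ha'
    haveI := C.toEnv.neZero
    have hc : S * pp J a a' = pp J a a' ∧ pp J a a' * S = pp J a a' := by
      have h1 : S * pp J a a' = pp J a a' := by
        refine f.ext ?_ ?_ ?_ ?_ <;> rw [← Matrix.mulVec_mulVec]
        · rw [f.pp_a, ha]
        · rw [f.pp_a', ha']
        · rw [f.pp_e, Matrix.mulVec_zero]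
        · rw [f.pp_e', Matrix.mulVec_zero]
      exact ⟨h1, by rw [← f.comm_pp (f.PlRot_comm_plane ⟨hS1, hS2, Or.inl ⟨ha, ha'⟩⟩), h1]⟩
    obtain ⟨m1, m2⟩ := C.conj_fix (C.comm_half f.left hz) (m := t)
      (by rw [et, el_mul, hc.1, Matrix.mul_one]) (by rw [et, el_mul, hc.2, Matrix.mul_one])
    obtain ⟨S', s1, s2, e1, s3, s4⟩ := C.fix_half f.left (M.mul_mem (M.mul_mem hg ht) (M.inv_mem hg)) m1 m2
    refine ⟨S', s1, s2, s3, s4, e1, f.swap.rot_of_trace hS1 hS2 ha ha' s1 s2 s3 s4 ?_⟩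
    have h1 : (g * t * g⁻¹).1.trace = t.1.trace := by rw [Units.val_mul, Units.val_mul, Matrix.trace_units_conj]
    have hk4 : (k : F) = 2 * 2 := by
      have := congrArg (fun j : ℕ => (j : F)) f.dim
      simp only [Nat.cast_ofNat] at this
      rw [this]; norm_num
    rw [e1, et, C.pr.trace_el, C.pr.trace_el, Matrix.trace_one, Fintype.card_fin, hk4] at h1
    exact mul_right_cancel₀ (mul_ne_zero C.frm.two C.frm.two) h1
  obtain ⟨h1, h2, ⟨ha, ha'⟩ | ⟨he, he'⟩⟩ := hS
  · obtain ⟨S', s1, s2, s3, s4, s5, s6⟩ := key f hz h1 h2 ha ha'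
    exact ⟨S', ⟨s1, s2, Or.inl ⟨s3, s4⟩⟩, s5, s6⟩
  · have hz' : g.1 * el i (pl J e e') 1 = el i (pl J e e') 1 * g.1 := by
      rw [f.pl_neg, C.pr.el_neg_left, Matrix.mul_neg, Matrix.neg_mul, hz]
    obtain ⟨S', s1, s2, s3, s4, s5, s6⟩ := key f.swap hz' h1 h2 he he'
    exact ⟨S', ⟨s1, s2, Or.inr ⟨s3, s4⟩⟩, s5, s6⟩

/-- An element of odd order centralising the rotations fixes the pairs of lines. -/
theorem pair_fix {p p' u u' w w' o o' : Fin k → F} (fp : Fr4 J p p' u u') (fw : Fr4 J w w' o o')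
    {n : GL (Ix τ k) F} (hn : n ∈ M) (h1 : n.1 * el i (pl J p p') 1 = el i (pl J p p') 1 * n.1)
    (h2 : n.1 * el i 1 (pl J w w') = el i 1 (pl J w w') * n.1)
    (h3 : n.1 * el i (pl J p u) (pl J w o) = el i (pl J p u) (pl J w o) * n.1)
    (hS : ∀ S, fp.PlRot S → n.1 * el i S 1 = el i S 1 * n.1)
    (hT : ∀ T, fw.PlRot T → n.1 * el i 1 T = el i 1 T * n.1) {m : ℕ} (hm : Odd m) (hnm : n ^ m = 1) :
    n.1 * el i (pr J p) (pr J w) = el i (pr J p) (pr J w) := by
  classical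
  cases nonempty_fintype F
  have h := C.frm
  have P := C.pr
  obtain ⟨v, hv⟩ : ∃ v, v = vv i p w := ⟨_, rfl⟩
  obtain ⟨v', hv'⟩ : ∃ v', v' = vv i p' w' := ⟨_, rfl⟩
  have qv : bf (JJ J τ) v v = bf J p p * bf J w w := by rw [hv, P.bf_vv]
  have qv' : bf (JJ J τ) v' v' = bf J p' p' * bf J w' w' := by rw [hv', P.bf_vv]
  have qvv : bf (JJ J τ) v v' = 0 := by rw [hv, hv', P.bf_vv, fp.aa', zero_mul]
  -- the projection on the pair
  obtain ⟨E, hE⟩ : ∃ E : Matrix (Ix τ k) (Ix τ k) F, E = el i (pr J p) (pr J w) + el i (pr J p') (pr J w') :=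
    ⟨_, rfl⟩
  have hnE : n.1 * E = E * n.1 := by
    have e1 : el i (pp J p p') (1 : Matrix (Fin k) (Fin k) F) * el i 1 (pp J w w') = el i (pp J p p') (pp J w w') := by
      rw [el_mul, Matrix.mul_one, Matrix.one_mul]
    have hc1 := C.comm_half fp.left h1
    have hc2 : n.1 * el i 1 (pp J w w') = el i 1 (pp J w w') * n.1 := by
      have h2' : n.1 * el l (pl J w w') 1 = el l (pl J w w') 1 * n.1 := by rw [P.el_swap]; exact h2
      have := C.symm.comm_half fw.left h2'
      rwa [P.el_swap] at this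
    have hsplit : el i (pp J p p') (pp J w w') + el i (pp J p p') (pp J w w') * el i (pl J p u) (pl J w o) =
        (2 : F) • E := by
      have d1 : pp J p p' * pl J p u = pr J p' - pr J p := by
        rw [pp, pl_eq h fp.mid, Matrix.mul_sub, Matrix.mul_one, Matrix.mul_smul, Matrix.add_mul, Matrix.mul_add,
          Matrix.mul_add, pr_mul_self J fp.qa, pr_mul_perp J fp.ae, pr_mul_perp J fp.a'a, pr_mul_perp J fp.a'e,
          add_zero, add_zero, add_zero, two_smul]
        abel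
      have d2 : pp J w w' * pl J w o = pr J w' - pr J w := by
        rw [pp, pl_eq h fw.mid, Matrix.mul_sub, Matrix.mul_one, Matrix.mul_smul, Matrix.add_mul, Matrix.mul_add,
          Matrix.mul_add, pr_mul_self J fw.qa, pr_mul_perp J fw.ae, pr_mul_perp J fw.a'a, pr_mul_perp J fw.a'e,
          add_zero, add_zero, add_zero, two_smul]
        abel
      rw [el_mul, d1, d2, pp, pp, hE, P.el_add_left, P.el_add_right, P.el_add_right, P.el_sub_left, P.el_sub_right,
        P.el_sub_right, two_smul]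
      abel
    have hc : n.1 * el i (pp J p p') (pp J w w') = el i (pp J p p') (pp J w w') * n.1 := by
      rw [← e1]; exact comm_mul hc1 hc2
    have h4 := comm_mul hc h3
    have h5 : n.1 * ((2 : F) • E) = ((2 : F) • E) * n.1 := by
      rw [← hsplit, Matrix.mul_add, Matrix.add_mul, hc, h4]
    rw [Matrix.mul_smul, Matrix.smul_mul] at h5
    exact smul_right_injective _ h.two h5
  have hspan : ∀ x : Ix τ k → F, E *ᵥ x = x → ∃ α β : F, n.1 *ᵥ x = α • v + β • v' := by
    intro x hx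
    refine ⟨(bf (JJ J τ) v v)⁻¹ * bf (JJ J τ) v (n.1 *ᵥ x), (bf (JJ J τ) v' v')⁻¹ * bf (JJ J τ) v' (n.1 *ᵥ x), ?_⟩
    conv_lhs => rw [← hx, Matrix.mulVec_mulVec, hnE, ← Matrix.mulVec_mulVec, hE, P.el_pr_pr, P.el_pr_pr,
      Matrix.add_mulVec, pr_mulVec, pr_mulVec, ← hv, ← hv']
  have Ev : E *ᵥ v = v := by
    rw [hE, hv, Matrix.add_mulVec, P.el_mulVec, P.el_mulVec, pr_self J fp.qa, pr_self J fw.qa, pr_perp J fp.a'a,
      show vv i (0 : Fin k → F) (pr J w' *ᵥ w) = 0 from funext fun q => by simp [P.vv_apply], add_zero]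
  have Ev' : E *ᵥ v' = v' := by
    rw [hE, hv', Matrix.add_mulVec, P.el_mulVec, P.el_mulVec, pr_self J fp.qa', pr_self J fw.qa', pr_perp J fp.aa',
      show vv i (0 : Fin k → F) (pr J w *ᵥ w') = 0 from funext fun q => by simp [P.vv_apply], zero_add]
  obtain ⟨α, β, e1⟩ := hspan v Ev
  obtain ⟨γ, ε, e2⟩ := hspan v' Ev'
  have v0 : bf (JJ J τ) v v ≠ 0 := by rw [qv]; exact mul_ne_zero fp.qa fw.qa
  have v0' : bf (JJ J τ) v' v' ≠ 0 := by rw [qv']; exact mul_ne_zero fp.qa' fw.qa'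
  have hvv' : bf (JJ J τ) v' v = 0 := by rw [(h.pow τ).bf_comm]; exact qvv
  have hi := mem_iso.1 (C.iso_mem hn)
  have hαβ : α = 0 ∨ β = 0 := by
    have n11 := (h.pow τ).bf_iso hi v v
    have n12 := (h.pow τ).bf_iso hi v v'
    rw [e1] at n11 n12
    rw [e2] at n12
    simp only [bf_add_left, bf_add_right, bf_smul_left, bf_smul_right, qvv, hvv', mul_zero, add_zero, zero_add]
      at n11 n12
    by_cases h3F : Nat.card F = 3
    · by_contra hc
      rw [not_or] at hc
      rw [Nat.card_eq_fintype_card] at h3F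
      have sq : ∀ t : F, t ≠ 0 → t * t = 1 := fun t ht => by
        have := FiniteField.pow_card_sub_one_eq_one t ht
        rwa [h3F, pow_two] at this
      exact v0' (by linear_combination n11 - (bf (JJ J τ) v v) * sq α hc.1 - (bf (JJ J τ) v' v') * sq β hc.2)
    · obtain ⟨S, x, y, s1, s2, s3, s4, ea, hy, ea'⟩ := fp.exists_rotation C.even h3F
      obtain ⟨T, x', y', t1, t2, t3, t4, ew, hy', ew'⟩ := fw.exists_rotation C.even h3F
      have cS := hS S ⟨s1, s2, Or.inr ⟨s3, s4⟩⟩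
      have cT := hT T ⟨t1, t2, Or.inr ⟨t3, t4⟩⟩
      obtain ⟨N, hN⟩ : ∃ N : Matrix (Ix τ k) (Ix τ k) F, N = el i (S - x • 1) (T - x' • 1) := ⟨_, rfl⟩
      have hNc : n.1 * N = N * n.1 := by
        have hN' : N = el i S 1 * el i 1 T - x' • el i S 1 - x • el i 1 T + (x * x') • 1 := by
          rw [hN, P.el_sub_left, P.el_sub_right, P.el_sub_right, P.el_smul_left, P.el_smul_left, P.el_smul_right,
            P.el_smul_right, el_one, el_mul, Matrix.mul_one, Matrix.one_mul, smul_smul]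
          abel
        rw [hN']
        simp only [Matrix.mul_add, Matrix.add_mul, Matrix.mul_sub, Matrix.sub_mul, Matrix.mul_smul, Matrix.smul_mul,
          Matrix.mul_one, Matrix.one_mul, cS, cT, comm_mul cS cT]
      obtain ⟨δ, hδ⟩ : ∃ δ, δ = bf J p' p' / bf J p p * (bf J w' w' / bf J w w) := ⟨_, rfl⟩
      have N1 : N *ᵥ v = (y * y') • v' := by
        rw [hN, hv, hv', P.el_mulVec, Matrix.sub_mulVec, Matrix.sub_mulVec, Matrix.smul_mulVec, Matrix.smul_mulVec,
          Matrix.one_mulVec, Matrix.one_mulVec, ea, ew, add_sub_cancel_left, add_sub_cancel_left, P.vv_smul_left,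
          P.vv_smul_right, smul_smul]
      have N2 : N *ᵥ v' = (δ * (y * y')) • v := by
        rw [hN, hv, hv', P.el_mulVec, Matrix.sub_mulVec, Matrix.sub_mulVec, Matrix.smul_mulVec, Matrix.smul_mulVec,
          Matrix.one_mulVec, Matrix.one_mulVec, ea', ew', add_sub_cancel_right, add_sub_cancel_right, P.vv_smul_left,
          P.vv_smul_right, smul_smul, hδ]
        congr 1
        ring
      have c1 := congrArg (fun Z => bf (JJ J τ) v (Z *ᵥ v)) hNc
      simp only [← Matrix.mulVec_mulVec, N1, Matrix.mulVec_smul, e1, e2, Matrix.mulVec_add, N2, bf_smul_right,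
        bf_add_right, qvv, mul_zero, add_zero, zero_add] at c1
      have c2 := congrArg (fun Z => bf (JJ J τ) v' (Z *ᵥ v)) hNc
      simp only [← Matrix.mulVec_mulVec, N1, Matrix.mulVec_smul, e1, e2, Matrix.mulVec_add, N2, bf_smul_right,
        bf_add_right, hvv', mul_zero, add_zero, zero_add] at c2
      have hyy : y * y' ≠ 0 := mul_ne_zero hy hy'
      have g1 : γ = β * δ := mul_right_cancel₀ v0 (mul_left_cancel₀ hyy (by linear_combination c1))
      have g2 : ε = α := mul_right_cancel₀ v0' (mul_left_cancel₀ hyy (by linear_combination c2))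
      have hrel : δ * bf (JJ J τ) v v = bf (JJ J τ) v' v' := by
        rw [qv, qv', hδ]
        have := fp.qa
        have := fw.qa
        field_simp
      rw [g1, g2] at n12
      have h5 : (2 : F) * (α * β) * bf (JJ J τ) v' v' = 0 := by linear_combination n12 - α * β * hrel
      simpa [h.two, v0'] using h5
  have hfix := block_fix (h.pow τ) hi hm (by rw [← Units.val_pow_eq_pow_val, hnm, Units.val_one]) v0 v0' qvv e1 e2 hαβ
  rw [P.el_pr_pr]
  refine Matrix.ext_iff_mulVec.2 fun x => ?_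
  rw [← Matrix.mulVec_mulVec, pr_mulVec, Matrix.mulVec_smul, ← hv, hfix]

/-- An element of odd order centralising all the rotations is trivial. -/
theorem odd_fix_one {a a' e e' b c d o : Fin k → F} (fa : Fr4 J a a' e e') (fb : Fr4 J b c d o)
    {n : GL (Ix τ k) F} (hn : n ∈ M) (h1 : n.1 * el i (pl J a a') 1 = el i (pl J a a') 1 * n.1)
    (h2 : n.1 * el i 1 (pl J b c) = el i 1 (pl J b c) * n.1)
    (h3 : n.1 * el i (pl J a e) (pl J b d) = el i (pl J a e) (pl J b d) * n.1)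
    (hS : ∀ S, fa.PlRot S → n.1 * el i S 1 = el i S 1 * n.1)
    (hT : ∀ T, fb.PlRot T → n.1 * el i 1 T = el i 1 T * n.1) {m : ℕ} (hm : Odd m) (hnm : n ^ m = 1) : n = 1 := by
  classical
  have h := C.frm
  have P := C.pr
  have fl : ∀ {a a' e e' : Fin k → F} (f : Fr4 J a a' e e'), pl J a' a = pl J a a' ∧ pl J a' e' = -pl J a e ∧
      Fr4 J a' a e' e := fun f => ⟨pl_comm h (f.left.symm h), f.mix.pl_neg,
    Fr4.of_pairs h f.dim f.qa' f.qa f.qe' f.qe f.a'a f.a'e' f.a'e f.ae' f.ae f.e'e⟩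
  -- the four variants of a frame on the first factor
  have varA : ∀ p ∈ [a, a', e, e'], ∃ (p' u u' : Fin k → F) (fp : Fr4 J p p' u u'),
      n.1 * el i (pl J p p') 1 = el i (pl J p p') 1 * n.1 ∧
        (pl J p u = pl J a e ∨ pl J p u = -pl J a e) ∧ ∀ S, fp.PlRot S → fa.PlRot S := by
    intro p hp
    simp only [List.mem_cons, List.not_mem_nil, or_false] at hp
    rcases hp with rfl | rfl | rfl | rfl
    · exact ⟨a', e, e', fa, h1, Or.inl rfl, fun S => id⟩
    · refine ⟨a, e', e, (fl fa).2.2, by rw [(fl fa).1]; exact h1, Or.inr (fl fa).2.1, fun S hS => ?_⟩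
      exact fa.plRot_perm _ hS
    · refine ⟨e', a, a', fa.swap, ?_, Or.inl (pl_comm h fa.mid).symm, fun S hS => fa.plRot_swap.1 hS⟩
      rw [fa.pl_neg, P.el_neg_left, Matrix.mul_neg, Matrix.neg_mul, h1]
    · refine ⟨e, a', a, (fl fa.swap).2.2, ?_, Or.inr ?_, fun S hS => fa.plRot_swap.1 (fa.swap.plRot_perm _ hS)⟩
      · rw [(fl fa.swap).1, fa.pl_neg, P.el_neg_left, Matrix.mul_neg, Matrix.neg_mul, h1]
      · rw [(fl fa.swap).2.1, pl_comm h fa.mid]
  have varB : ∀ p ∈ [b, c, d, o], ∃ (p' u u' : Fin k → F) (fp : Fr4 J p p' u u'),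
      n.1 * el i 1 (pl J p p') = el i 1 (pl J p p') * n.1 ∧
        (pl J p u = pl J b d ∨ pl J p u = -pl J b d) ∧ ∀ S, fp.PlRot S → fb.PlRot S := by
    intro p hp
    simp only [List.mem_cons, List.not_mem_nil, or_false] at hp
    rcases hp with rfl | rfl | rfl | rfl
    · exact ⟨c, d, o, fb, h2, Or.inl rfl, fun S => id⟩
    · refine ⟨b, o, d, (fl fb).2.2, by rw [(fl fb).1]; exact h2, Or.inr (fl fb).2.1, fun S hS => ?_⟩
      exact fb.plRot_perm _ hS
    · refine ⟨o, b, c, fb.swap, ?_, Or.inl (pl_comm h fb.mid).symm, fun S hS => fb.plRot_swap.1 hS⟩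
      rw [fb.pl_neg, P.el_neg_right, Matrix.mul_neg, Matrix.neg_mul, h2]
    · refine ⟨d, c, b, (fl fb.swap).2.2, ?_, Or.inr ?_, fun S hS => fb.plRot_swap.1 (fb.swap.plRot_perm _ hS)⟩
      · rw [(fl fb.swap).1, fb.pl_neg, P.el_neg_right, Matrix.mul_neg, Matrix.neg_mul, h2]
      · rw [(fl fb.swap).2.1, pl_comm h fb.mid]
  have each : ∀ p ∈ [a, a', e, e'], ∀ w ∈ [b, c, d, o],
      n.1 * el i (pr J p) (pr J w) = el i (pr J p) (pr J w) := by
    intro p hp w hw
    obtain ⟨p', u, u', fp, g1, g2, g3⟩ := varA p hp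
    obtain ⟨w', x, x', fw, g4, g5, g6⟩ := varB w hw
    refine C.pair_fix fp fw hn g1 g4 ?_ (fun S hs => hS S (g3 S hs)) (fun T ht => hT T (g6 T ht)) hm hnm
    rcases g2 with e1 | e1 <;> rcases g5 with e2 | e2 <;> rw [e1, e2]
    · exact h3
    · rw [P.el_neg_right, Matrix.mul_neg, Matrix.neg_mul, h3]
    · rw [P.el_neg_left, Matrix.mul_neg, Matrix.neg_mul, h3]
    · rw [P.el_neg_neg, h3]
  refine Units.ext ?_
  have row : ∀ p ∈ [a, a', e, e'], n.1 * el i (pr J p) 1 = el i (pr J p) 1 := by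
    intro p hp
    rw [← fb.sum_pp, pp, pp, P.el_add_right, P.el_add_right, P.el_add_right, Matrix.mul_add, Matrix.mul_add,
      Matrix.mul_add, each p hp b (by simp), each p hp c (by simp), each p hp d (by simp), each p hp o (by simp)]
  calc n.1 = n.1 * el i (pr J a + pr J a' + (pr J e + pr J e')) 1 := by
        rw [← pp, ← pp, fa.sum_pp, el_one, Matrix.mul_one]
    _ = el i (pr J a + pr J a' + (pr J e + pr J e')) 1 := by
        rw [P.el_add_left, P.el_add_left, P.el_add_left, Matrix.mul_add, Matrix.mul_add, Matrix.mul_add,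
          row a (by simp), row a' (by simp), row e (by simp), row e' (by simp)]
    _ = 1 := by rw [← pp, ← pp, fa.sum_pp, el_one]

end Ctx2

end CfsgLib.Classical.TensorWreathOrth.Two
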