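import Cfsg.Agent.Lib.Classical.TensorWreathOrth.TwoBase
import Cfsg.Agent.Lib.Classical.TensorWreathOrth.TwoAbstract
import Cfsg.Agent.Lib.Classical.TensorWreathOrth.Descent

set_option autoImplicit false
set_option linter.unusedSectionVars false

/-!
The group above the monomial part in which no non-monomial element carries an isometry of one factor of
determinant minus one to a monomial element, and the first consequences.
-/

namespace CfsgLib.Classical.TensorWreathOrth.Two

open Matrix CfsgLib.Classical.TensorWreath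
open CfsgLib.Classical.TensorWreathOrth
open scoped MatrixGroups commutatorElement

variable {F : Type*} [Field F] [Finite F] {τ : Type} [Fintype τ] [DecidableEq τ] {k : ℕ}
  {J : Matrix (Fin k) (Fin k) F}

/-- The standing hypotheses. -/
structure Ctx2 (J : Matrix (Fin k) (Fin k) F) (M : Subgroup (GL (Ix τ k) F)) (i l : τ) : Prop
    extends Env J i l where
  le : M ≤ Om (JJ J τ)
  mono : ∀ g ∈ Om (JJ J τ), Mono g.1 → g ∈ M
  free : ∀ g ∈ M, ∀ (s : τ) (R : GL (Fin k) F), R ∈ iso J → R.1.det = -1 →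
    Mono (g * embG s R * g⁻¹).1 → Mono g.1

/-- A full group above the monomial part or the absence of fusion into the monomial part. -/
theorem Env.free_or_full {i l : τ} (E : Env J i l) {M : Subgroup (GL (Ix τ k) F)} (hle : M ≤ Om (JJ J τ))
    (hm : ∀ g ∈ Om (JJ J τ), Mono g.1 → g ∈ M)
    (hD : ∀ N : Subgroup (GL (Ix τ k) F), Hyp J N → AllMono N ∨ Full J N) :
    Ctx2 J M i l ∨ M = Om (JJ J τ) := by
  classical
  haveI := E.neZero
  have h := E.frm
  by_cases hf : ∀ g ∈ M, ∀ (s : τ) (R : GL (Fin k) F), R ∈ iso J → R.1.det = -1 →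
      Mono (g * embG s R * g⁻¹).1 → Mono g.1
  · exact Or.inl ⟨E, hle, hm, hf⟩
  push Not at hf
  obtain ⟨g, hg, s, R, hR, hdR, hgm, hgn⟩ := hf
  refine Or.inr ?_
  obtain ⟨u, hu⟩ : ∃ u, u = embG s R := ⟨_, rfl⟩
  rw [← hu] at hgm
  have hum : Mono u.1 := hu ▸ mono_pure _
  have hui : u ∈ iso (JJ J τ) := hu ▸ embG_iso h s hR
  obtain ⟨w, hw⟩ := h.exists_good (A := J) (by rw [Fintype.card_fin]; have := E.four; omega)
  have huo : u ∉ Om (JJ J τ) := fun hc => E.embG_refG_not_mem s hw.1 (by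
    have := (Om _).mul_mem ((Om _).inv_mem hc) ((E.parity s hR).2 hdR s w hw.1)
    rwa [hu, inv_mul_cancel_left] at this)
  have hu2 : u * u ∈ M := by
    refine hm _ ?_ (hum.mul hum)
    rw [hu, ← map_mul]
    exact (E.parity s ((iso J).mul_mem hR hR)).1 (by rw [Units.val_mul, Matrix.det_mul, hdR, neg_mul_neg, one_mul])
  have hodd : ∀ (j : τ) (R' : GL (Fin k) F), R' ∈ iso J → R'.1.det = -1 → embG j R' * u⁻¹ ∈ M := by
    intro j R' hR' hd'
    refine hm _ ?_ ((mono_pure _).mul (hum.inv u.mul_inv))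
    have h1 := (Om _).mul_mem ((E.parity j hR').2 hd' s w hw.1) ((Om _).inv_mem ((E.parity s hR).2 hdR s w hw.1))
    rwa [_root_.mul_inv_rev, ← mul_assoc, mul_inv_cancel_right, ← hu] at h1
  have hconj : ∀ x ∈ Om (JJ J τ), u * x * u⁻¹ ∈ Om (JJ J τ) := (conj_om (iso_conj hui)).1
  -- the part of the group carried into itself
  obtain ⟨N₀, hN₀⟩ : ∃ N₀, N₀ = M ⊓ M.comap (MulAut.conj u).toMonoidHom := ⟨_, rfl⟩
  have mem₀ : ∀ x, x ∈ N₀ ↔ x ∈ M ∧ u * x * u⁻¹ ∈ M := fun x => by rw [hN₀]; rfl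
  have nrm : ∀ x ∈ N₀, u * x * u⁻¹ ∈ N₀ ∧ u⁻¹ * x * u ∈ N₀ := by
    intro x hx
    rw [mem₀] at hx
    refine ⟨(mem₀ _).2 ⟨hx.2, ?_⟩, (mem₀ _).2 ⟨?_, ?_⟩⟩
    · have := M.mul_mem (M.mul_mem hu2 hx.1) (M.inv_mem hu2)
      simpa only [_root_.mul_inv_rev, mul_assoc] using this
    · have := M.mul_mem (M.mul_mem (M.inv_mem hu2) hx.2) hu2
      simpa [_root_.mul_inv_rev, mul_assoc] using this
    · simpa [mul_assoc] using hx.1
  have hu20 : u * u ∈ N₀ := (mem₀ _).2 ⟨hu2, by simpa [mul_assoc] using hu2⟩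
  let N : Subgroup (GL (Ix τ k) F) :=
    { carrier := {x | x ∈ N₀ ∨ x * u⁻¹ ∈ N₀}
      one_mem' := Or.inl N₀.one_mem
      mul_mem' := by
        rintro a b (ha | ha) (hb | hb)
        · exact Or.inl (N₀.mul_mem ha hb)
        · exact Or.inr (by rw [mul_assoc]; exact N₀.mul_mem ha hb)
        · refine Or.inr ?_
          have := N₀.mul_mem ha (nrm b hb).1
          convert this using 1
          group
        · refine Or.inl ?_
          have := N₀.mul_mem (N₀.mul_mem ha (nrm _ hb).1) hu20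
          convert this using 1
          group
      inv_mem' := by
        rintro a (ha | ha)
        · exact Or.inl (N₀.inv_mem ha)
        · refine Or.inr ?_
          have := N₀.mul_mem (nrm _ (N₀.inv_mem ha)).2 (N₀.inv_mem hu20)
          convert this using 1
          group }
  have hNle : ∀ x ∈ N, x ∈ iso (JJ J τ) := by
    rintro x (hx | hx)
    · exact om_le _ (hle ((mem₀ _).1 hx).1)
    · have := (iso _).mul_mem (om_le _ (hle ((mem₀ _).1 hx).1)) hui
      rwa [inv_mul_cancel_right] at this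
  have hmN : ∀ x ∈ Om (JJ J τ), Mono x.1 → x ∈ N₀ := fun x hx hxm =>
    (mem₀ _).2 ⟨hm x hx hxm, hm _ (hconj x hx) ((hum.mul hxm).mul (hum.inv u.mul_inv))⟩
  have hH : Hyp J N := by
    refine ⟨E.fac, fun x hx => ?_, fun x hx hxm => Or.inl (hmN x hx hxm), fun _ j R' hR' => ?_⟩
    · rw [amb, if_neg (Nat.not_odd_iff_even.2 E.even)]
      exact hNle x hx
    · rcases det_iso h hR' with hd | hd
      · exact Or.inl (hmN _ ((E.parity j hR').1 hd) (mono_pure _))
      · exact Or.inr (hmN _ (hle (hodd j R' hR' hd)) ((mono_pure _).mul (hum.inv u.mul_inv)))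
  -- the given element lies in it
  have hgu : u * g * u⁻¹ ∈ M := by
    have h1 : u * (g * u * g⁻¹)⁻¹ ∈ M := by
      refine hm _ ?_ (hum.mul (hgm.inv (g * u * g⁻¹).mul_inv))
      have h2 := Subgroup.commutator_mem_commutator hui (om_le _ (hle hg))
      rw [commutatorElement_def] at h2
      show _ ∈ ⁅iso (JJ J τ), iso (JJ J τ)⁆
      convert h2 using 1
      group
    have := M.mul_mem h1 hg
    convert this using 1
    group
  rcases hD N hH with hall | hfull
  · exact absurd (hall g (Or.inl ((mem₀ _).2 ⟨hg, hgu⟩))) hgn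
  · refine le_antisymm hle fun x hx => ?_
    rcases hfull hx with hx0 | hx0
    · exact ((mem₀ _).1 hx0).1
    · refine absurd ((Om _).inv_mem ?_) (fun hc => huo (by simpa using hc) : (u⁻¹)⁻¹ ∉ Om (JJ J τ))
      have := (Om _).mul_mem ((Om _).inv_mem hx) (hle ((mem₀ _).1 hx0).1)
      rwa [inv_mul_cancel_left] at this

namespace Ctx2

variable {M : Subgroup (GL (Ix τ k) F)} {i l : τ} (C : Ctx2 J M i l)
include C

theorem symm : Ctx2 J M l i := ⟨C.toEnv.symm, C.le, C.mono, C.free⟩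

theorem iso_mem {g : GL (Ix τ k) F} (hg : g ∈ M) : g ∈ iso (JJ J τ) := om_le _ (C.le hg)

/-- A pure element of the group. -/
theorem exists_el {A B : Matrix (Fin k) (Fin k) F} (hA : IsSim J A 1) (hB : IsSim J B 1) (hd : A.det = B.det) :
    ∃ g ∈ M, g.1 = el i A B := by
  obtain ⟨g, hg, e⟩ := C.toEnv.exists_om hA hB hd
  exact ⟨g, C.mono g hg (e ▸ mono_el _ _), e⟩

theorem det_pl {c d : Fin k → F} (q : Pl J c d) : (pl J c d).det = 1 := by
  rw [pl, Matrix.det_mul, det_rot C.frm C.even q.left, det_rot C.frm C.even q.right, neg_mul_neg, one_mul]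

theorem exists_pl_left {c d : Fin k → F} (q : Pl J c d) : ∃ g ∈ M, g.1 = el i (pl J c d) 1 :=
  C.exists_el (isSim_pl C.frm q) isSim_one (by rw [C.det_pl q, Matrix.det_one])

/-- An element carrying a rotation of one factor to a monomial element is monomial. -/
theorem mono_of_rot {g : GL (Ix τ k) F} (hg : g ∈ M) {a : Fin k → F} (ha : bf J a a ≠ 0)
    {Y : Matrix (Ix τ k) (Ix τ k) F} (hY : Mono Y) (e : g.1 * el i (rot J a) 1 * (g⁻¹).1 = Y) : Mono g.1 := by
  haveI := C.toEnv.neZero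
  haveI : Nonempty τ := ⟨i⟩
  refine C.free g hg i (refG J a ha) (refG_mem C.frm ha) (det_refG C.frm C.even ha) ?_
  rw [Units.val_mul, Units.val_mul, embG_val, refG_val, embM_eq_el, C.pr.el_neg_left, Matrix.mul_neg,
    Matrix.neg_mul, e, ← neg_one_smul F Y]
  exact mono_smul hY _

/-- An element commuting with the projection on a line of one factor is monomial. -/
theorem mono_of_comm {g : GL (Ix τ k) F} (hg : g ∈ M) {a : Fin k → F} (ha : bf J a a ≠ 0)
    (e : g.1 * el i (pr J a) 1 = el i (pr J a) 1 * g.1) : Mono g.1 := by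
  refine C.mono_of_rot hg ha (Y := el i (rot J a) 1) (mono_el _ _) ?_
  have e' : g.1 * el i (rot J a) 1 = el i (rot J a) 1 * g.1 := by
    rw [rot, C.pr.el_sub_left, C.pr.el_smul_left, el_one, Matrix.mul_sub, Matrix.sub_mul, Matrix.mul_smul,
      Matrix.smul_mul, e, Matrix.one_mul, Matrix.mul_one]
  rw [e', Matrix.mul_assoc, g.mul_inv, Matrix.mul_one]

/-- An element commuting with two planes of one factor with a common line is monomial. -/
theorem mono_of_comm_planes {g : GL (Ix τ k) F} (hg : g ∈ M) {a c d : Fin k → F} (qc : Pl J a c) (qd : Pl J a d)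
    (hcd : bf J c d = 0) (ec : g.1 * el i (pl J a c) 1 = el i (pl J a c) 1 * g.1)
    (ed : g.1 * el i (pl J a d) 1 = el i (pl J a d) 1 * g.1) : Mono g.1 := by
  have h := C.frm
  have hp : ∀ x, (q : Pl J a x) → el i (pr J a + pr J x) (1 : Matrix (Fin k) (Fin k) F) =
      (2 : F)⁻¹ • (1 - el i (pl J a x) 1) := fun x q => by
    rw [pl_eq h q, C.pr.el_sub_left, el_one, sub_sub_cancel, C.pr.el_smul_left, smul_smul, inv_mul_cancel₀ h.two,
      one_smul]
  have hc' : ∀ x, (q : Pl J a x) → g.1 * el i (pl J a x) 1 = el i (pl J a x) 1 * g.1 →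
      g.1 * el i (pr J a + pr J x) 1 = el i (pr J a + pr J x) 1 * g.1 := fun x q ex => by
    rw [hp x q, Matrix.mul_smul, Matrix.smul_mul, Matrix.mul_sub, Matrix.sub_mul, ex, Matrix.one_mul, Matrix.mul_one]
  refine C.mono_of_comm hg qc.left ?_
  have e : el i (pr J a) (1 : Matrix (Fin k) (Fin k) F) = el i (pr J a + pr J c) 1 * el i (pr J a + pr J d) 1 := by
    rw [el_mul, Matrix.mul_one]
    congr 1
    rw [add_mul, mul_add, mul_add, pr_mul_self J qc.left, pr_mul_perp J qd.orth,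
      pr_mul_perp J (by rw [h.bf_comm]; exact qc.orth), pr_mul_perp J hcd, add_zero, add_zero, add_zero]
  rw [e, ← Matrix.mul_assoc, hc' c qc ec, Matrix.mul_assoc, hc' d qd ed, Matrix.mul_assoc]

/-- An element carrying two planes with a common line to elements of one factor is monomial. -/
theorem lin {g : GL (Ix τ k) F} (hg : g ∈ M) {a c d : Fin k → F} (qc : Pl J a c) (qd : Pl J a d)
    (hcd : bf J c d = 0) {s : τ} {X X' : Matrix (Fin k) (Fin k) F}
    (ec : g.1 * el i (pl J a c) 1 * (g⁻¹).1 = embM s X) (ed : g.1 * el i (pl J a d) 1 * (g⁻¹).1 = embM s X') :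
    Mono g.1 := by
  have h := C.frm
  have hlin : ∀ (x : Fin k → F) (Z : Matrix (Fin k) (Fin k) F) (q : Pl J a x),
      g.1 * el i (pl J a x) 1 * (g⁻¹).1 = embM s Z →
      g.1 * el i (pr J a + pr J x) 1 * (g⁻¹).1 = embM s ((2 : F)⁻¹ • (1 - Z)) := by
    intro x Z q ez
    have e1 : el i (pr J a + pr J x) (1 : Matrix (Fin k) (Fin k) F) = (2 : F)⁻¹ • (1 - el i (pl J a x) 1) := by
      rw [pl_eq h q, C.pr.el_sub_left, el_one, sub_sub_cancel, C.pr.el_smul_left, smul_smul, inv_mul_cancel₀ h.two,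
        one_smul]
    have e2 : embM s ((2 : F)⁻¹ • (1 - Z)) = (2 : F)⁻¹ • (1 - embM s Z) := by
      rw [embM_smul, embM_sub, embM_one]
    rw [e1, e2, ← ez, Matrix.mul_smul, Matrix.smul_mul, Matrix.mul_sub, Matrix.sub_mul, Matrix.mul_one, g.mul_inv]
  have e : el i (pr J a) (1 : Matrix (Fin k) (Fin k) F) = el i (pr J a + pr J c) 1 * el i (pr J a + pr J d) 1 := by
    rw [el_mul, Matrix.mul_one]
    congr 1
    rw [add_mul, mul_add, mul_add, pr_mul_self J qc.left, pr_mul_perp J qd.orth,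
      pr_mul_perp J (by rw [h.bf_comm]; exact qc.orth), pr_mul_perp J hcd, add_zero, add_zero, add_zero]
  have e3 : g.1 * el i (pr J a) 1 * (g⁻¹).1 =
      embM s ((2 : F)⁻¹ • (1 - X) * ((2 : F)⁻¹ • (1 - X'))) := by
    rw [← embM_mul, ← hlin c X qc ec, ← hlin d X' qd ed, e]
    simp only [Matrix.mul_assoc]
    rw [← Matrix.mul_assoc (g⁻¹).1 g.1, g.inv_mul, Matrix.one_mul]
  refine C.mono_of_rot hg qc.left (Y := embM s ((2 : F) • ((2 : F)⁻¹ • (1 - X) * ((2 : F)⁻¹ • (1 - X'))) - 1))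
    (mono_pure _) ?_
  rw [embM_sub, embM_smul, embM_one, ← e3, rot, C.pr.el_sub_left, C.pr.el_smul_left, el_one, Matrix.mul_sub,
    Matrix.sub_mul, Matrix.mul_smul, Matrix.smul_mul, Matrix.mul_one, g.mul_inv]

end Ctx2

end CfsgLib.Classical.TensorWreathOrth.Two
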