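import Cfsg.Agent.Lib.Classical.TensorWreathOrth.TwoFourFuse
import Cfsg.Agent.Lib.Classical.TensorWreathOrth.Induct

set_option autoImplicit false
set_option linter.unusedSectionVars false

/-!
Two factors of even dimension and non-square discriminant: the dichotomy.
-/

namespace CfsgLib.Classical.TensorWreathOrth.Two

open Matrix CfsgLib.Classical.TensorWreath
open CfsgLib.Classical.TensorWreathOrth
open scoped MatrixGroups

variable {F : Type*} [Field F] [Finite F] {τ : Type} [Fintype τ] [DecidableEq τ] {k : ℕ}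

/-- The groups above the monomial part for two factors. -/
theorem two_dichotomy (hτ : Fintype.card τ = 2) (hk : Even k) (J : Matrix (Fin k) (Fin k) F)
    (M : Subgroup (GL (Ix τ k) F)) (hf : Fac J) (hns : ¬ IsSquare J.det) (hle : M ≤ Om (JJ J τ))
    (hm : ∀ g ∈ Om (JJ J τ), Mono g.1 → g ∈ M) : (∀ g ∈ M, Mono g.1) ∨ M = Om (JJ J τ) := by
  classical
  obtain ⟨i, l, hil, huniv⟩ := Finset.card_eq_two.1 (show (Finset.univ : Finset τ).card = 2 from hτ)
  have hcover : ∀ j : τ, j = i ∨ j = l := fun j => by
    simpa [huniv] using Finset.mem_univ j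
  have h4 : 4 ≤ k := by
    obtain ⟨r, hr⟩ := hk
    have := hf.three
    omega
  have E : Env J i l := ⟨⟨hil, hcover⟩, hf, hk, h4, hns⟩
  rcases E.free_or_full hle hm (fun N H => dichotomy 2 hτ (by omega) J N H) with C | hfull
  · refine Or.inl fun g hg => C.all_mono ?_ hg
    rcases (show k = 4 ∨ 6 ≤ k by obtain ⟨r, hr⟩ := hk; omega) with h4' | h6
    · exact C.low_of_four h4'
    · exact C.low_of_six h6
  · exact Or.inr hfull

end CfsgLib.Classical.TensorWreathOrth.Two
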