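import Cfsg.Agent.Lib.Classical.TensorWreathOrth.TwoBase
import Cfsg.Agent.Lib.Classical.TensorWreathOrth.Descent

set_option autoImplicit false
set_option linter.unusedSectionVars false

/-!
Planes of one factor, the monomial conjugates of pure elements, and the monomial conjugates of a product of two
rotations.
-/

namespace CfsgLib.Classical.TensorWreathOrth.Two

open Matrix CfsgLib.Classical.TensorWreath
open CfsgLib.Classical.TensorWreathOrth
open scoped MatrixGroups

variable {F : Type*} [Field F] [Finite F] {τ : Type} [Fintype τ] [DecidableEq τ] {k : ℕ}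
  {J : Matrix (Fin k) (Fin k) F}

/-! ### One factor -/

theorem sig_transpose (h : Frm J) {X : Matrix (Fin k) (Fin k) F} (hX : X * X = 1) : sig Xᵀ = sig X := by
  obtain ⟨P, P', d, h1, h2⟩ := exists_dg h.two hX
  have h3 : Pᵀ * P'ᵀ = 1 := by rw [← Matrix.transpose_mul, h1, Matrix.transpose_one]
  rw [h2, sig_conj h1, Matrix.transpose_mul, Matrix.transpose_mul, ← Matrix.mul_assoc, sig_conj h3, dg,
    Matrix.diagonal_transpose]

/-- An involutive similitude of multiplier minus one has signature zero. -/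
theorem sig_eq_zero_of_neg (h : Frm J) {X : Matrix (Fin k) (Fin k) F} (hX : IsSim J X (-1)) (hX2 : X * X = 1) :
    sig X = 0 := by
  have hJ : J * J⁻¹ = 1 := Matrix.mul_nonsing_inv _ h.isUnit_det
  have e : Xᵀ * J = -(J * X) := by
    have := congrArg (· * X) hX.2
    simp only [Matrix.mul_assoc, hX2, Matrix.mul_one, neg_one_smul, Matrix.neg_mul] at this
    exact this
  have e2 : J * -X * J⁻¹ = Xᵀ := by
    rw [Matrix.mul_neg, ← e, Matrix.mul_assoc, hJ, Matrix.mul_one]
  have h1 := sig_conj (P := J) (P' := J⁻¹) (Matrix.nonsing_inv_mul _ h.isUnit_det) (-X)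
  rw [e2, sig_transpose h hX2, sig_neg] at h1
  omega

/-- No plane involution is scalar. -/
theorem pl_ne_smul (h : Frm J) (hk : 3 ≤ k) {c d : Fin k → F} (q : Pl J c d) (s : F) :
    pl J c d ≠ s • (1 : Matrix (Fin k) (Fin k) F) := by
  intro e
  obtain ⟨w, hw, hww⟩ := h.exists_perp_aniso (v := ![c, d])
    (by intro a b hab; fin_cases a <;> fin_cases b <;> simp_all [q.orth, (q.symm h).orth])
    (by intro a; fin_cases a <;> simp [q.left, q.right]) (by rw [Fintype.card_fin, Fintype.card_fin]; omega)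
  have h1 := congrArg (· *ᵥ c) e
  have h2 := congrArg (· *ᵥ w) e
  simp only [pl_mulVec_mem h q, pl_mulVec_perp h q (hw 0) (hw 1), Matrix.smul_mulVec, Matrix.one_mulVec] at h1 h2
  have hw0 : w ≠ 0 := fun h0 => hww (by rw [h0, bf_zero_left])
  have hc0 : c ≠ 0 := fun h0 => q.left (by rw [h0, bf_zero_left])
  have s1 : s = 1 := by
    by_contra hs
    refine hw0 ?_
    have : (1 - s) • w = 0 := by rw [sub_smul, one_smul, ← h2, sub_self]
    exact (smul_eq_zero.1 this).resolve_left (sub_ne_zero.2 (Ne.symm hs))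
  rw [s1, one_smul] at h1
  refine hc0 ?_
  have : (2 : F) • c = 0 := by rw [two_smul]; nth_rw 1 [← h1]; exact neg_add_cancel c
  exact (smul_eq_zero.1 this).resolve_left h.two

/-- A rotation is not the negative of a rotation. -/
theorem rot_ne_neg (h : Frm J) (hk : 3 ≤ k) {a b : Fin k → F} (ha : bf J a a ≠ 0) (hb : bf J b b ≠ 0) :
    rot J a ≠ -rot J b := by
  intro e
  have hab : bf J b a = 0 := by
    by_contra hne
    have h1 := congrArg (fun Z => Z *ᵥ a) e
    simp only [rot_self J ha, Matrix.neg_mulVec] at h1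
    rw [rot, Matrix.sub_mulVec, Matrix.one_mulVec, Matrix.smul_mulVec, pr_mulVec, smul_smul, neg_sub] at h1
    rw [eq_sub_iff_add_eq, add_eq_left] at h1
    rcases smul_eq_zero.1 h1 with h2 | h2
    · exact (mul_ne_zero h.two (mul_ne_zero (inv_ne_zero hb) hne)) h2
    · exact hb (by rw [h2, bf_zero_left])
  obtain ⟨w, hw, hww⟩ := h.exists_perp_aniso (v := ![a, b])
    (by intro x y hxy; fin_cases x <;> fin_cases y <;> simp_all [hab, (h.bf_comm a b).trans hab])
    (by intro x; fin_cases x <;> simp [ha, hb]) (by rw [Fintype.card_fin, Fintype.card_fin]; omega)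
  have h2 := congrArg (fun Z => Z *ᵥ w) e
  have wa : bf J a w = 0 := hw 0
  have wb : bf J b w = 0 := hw 1
  rw [Matrix.neg_mulVec, rot_perp J wa, rot_perp J wb, neg_neg] at h2
  have hw0 : w ≠ 0 := fun h0 => hww (by rw [h0, bf_zero_left])
  refine hw0 ?_
  have : (2 : F) • w = 0 := by rw [two_smul]; nth_rw 1 [← h2]; exact neg_add_cancel w
  exact (smul_eq_zero.1 this).resolve_left h.two

/-- An involution of determinant one fixing the vectors orthogonal to two vectors. -/
theorem pl_of_fix (h : Frm J) {a c : Fin k → F} {Z : Matrix (Fin k) (Fin k) F} (hZ : IsSim J Z 1) (hZ2 : Z * Z = 1)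
    (hd : Z.det = 1) (hfix : ∀ y, bf J a y = 0 → bf J c y = 0 → Z *ᵥ y = y) :
    Z = 1 ∨ ∃ f g, Pl J f g ∧ Z = pl J f g := by
  classical
  obtain ⟨f, s, hf, hs⟩ := exists_ob_signs h hZ hZ2
  obtain ⟨S, hS⟩ : ∃ S, S = Finset.univ.filter fun a => s a = true := ⟨_, rfl⟩
  have hle : S.card ≤ 2 := by
    by_contra hc
    obtain ⟨T, hTS, hT3⟩ := Finset.exists_subset_card_eq (by omega : 3 ≤ S.card)
    obtain ⟨e⟩ : Nonempty (Fin 3 ≃ T) := ⟨(T.equivFinOfCardEq hT3).symm⟩
    let φ : (Fin 3 → F) →ₗ[F] (Fin k → F) := Fintype.linearCombination F fun x => f (e x).1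
    let ψ : (Fin 3 → F) →ₗ[F] F × F :=
      { toFun := fun x => (bf J a (φ x), bf J c (φ x))
        map_add' := fun x y => by simp [bf_add_right]
        map_smul' := fun r x => by simp [bf_smul_right] }
    obtain ⟨x, hx, hx0⟩ : ∃ x, x ∈ LinearMap.ker ψ ∧ x ≠ 0 := by
      refine Submodule.exists_mem_ne_zero_of_ne_bot fun hb => ?_
      have := LinearMap.finrank_le_finrank_of_injective (LinearMap.ker_eq_bot.1 hb)
      simp at this
    rw [LinearMap.mem_ker] at hx
    have h1 : Z *ᵥ φ x = φ x := hfix _ (congrArg Prod.fst hx) (congrArg Prod.snd hx)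
    have h2 : Z *ᵥ φ x = -φ x := by
      simp only [φ, Fintype.linearCombination_apply, Matrix.mulVec_sum, Matrix.mulVec_smul, ← Finset.sum_neg_distrib]
      refine Finset.sum_congr rfl fun y _ => ?_
      have hy : s (e y).1 = true := by
        have := hTS (e y).2
        rw [hS] at this
        exact (Finset.mem_filter.1 this).2
      rw [hs, hy, if_pos rfl, neg_one_smul, smul_neg]
    have h3 : φ x = 0 := by
      have : (2 : F) • φ x = 0 := by rw [two_smul]; nth_rw 1 [← h1, h2]; exact neg_add_cancel _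
      exact (smul_eq_zero.1 this).resolve_left h.two
    exact hx0 (funext fun y => Fintype.linearIndependent_iff.1
      (hf.linearIndependent.comp (fun y => (e y).1) (Subtype.val_injective.comp e.injective)) x
      (by rw [← h3]; simp [φ, Fintype.linearCombination_apply]) y)
  have hev : S.card ≠ 1 := fun h1 => h.two (by
    have := (signs_data h hf hs).1
    rw [← hS, h1, hd, pow_one] at this
    linear_combination this)
  rcases (show S.card = 0 ∨ S.card = 2 by omega) with h0 | h2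
  · exact Or.inl (eq_one_of_signs hf hs (hS ▸ h0))
  · exact Or.inr (eq_pl_of_signs hf hs (hS ▸ h2))

/-- An involution of determinant one fixing the orthogonal space of a plane is its plane involution or trivial. -/
theorem pl_of_fix_plane (h : Frm J) (hk : 2 ≤ k) {u v : Fin k → F} (q : Pl J u v) {Z : Matrix (Fin k) (Fin k) F}
    (hZ : IsSim J Z 1) (hZ2 : Z * Z = 1) (hd : Z.det = 1)
    (hfix : ∀ y, bf J u y = 0 → bf J v y = 0 → Z *ᵥ y = y) : Z = 1 ∨ Z = pl J u v := by
  rcases pl_of_fix h hZ hZ2 hd hfix with h1 | ⟨f, g, hfg, rfl⟩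
  · exact Or.inl h1
  refine Or.inr ?_
  obtain ⟨w, hw, hwv⟩ := h.exists_ob_extend (Fintype.card_fin k) hk ![u, v]
    (by intro a b hab; fin_cases a <;> fin_cases b <;> simp_all [q.orth, (q.symm h).orth])
    (by intro a; fin_cases a <;> simp [q.left, q.right])
  obtain ⟨x, hx⟩ : ∃ x, x = Fin.castLE hk 0 := ⟨_, rfl⟩
  obtain ⟨y, hy⟩ : ∃ y, y = Fin.castLE hk 1 := ⟨_, rfl⟩
  have wx : w x = u := hx ▸ hwv 0
  have wy : w y = v := hy ▸ hwv 1
  have hxy : x ≠ y := by rw [hx, hy]; simp [Fin.ext_iff]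
  -- the vectors of the involution lie in the plane
  have hperp : ∀ z, pl J f g *ᵥ z = -z → ∀ b, b ≠ x → b ≠ y → bf J (w b) z = 0 := by
    intro z hz b hb1 hb2
    have e1 := hfix (w b) (by rw [← wx]; exact hw.orth _ _ hb1.symm) (by rw [← wy]; exact hw.orth _ _ hb2.symm)
    have := hZ.bf (w b) z
    rw [e1, hz, one_mul, ← neg_one_smul F z, bf_smul_right] at this
    exact (mul_eq_zero.1 (show (2 : F) * bf J (w b) z = 0 by linear_combination -this)).resolve_left h.two
  have hdec : ∀ z, pl J f g *ᵥ z = -z → z = pr J u *ᵥ z + pr J v *ᵥ z := by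
    intro z hz
    conv_lhs => rw [← Matrix.one_mulVec z, ← hw.sum_pr, Matrix.sum_mulVec]
    rw [← Finset.add_sum_erase _ _ (Finset.mem_univ x),
      ← Finset.add_sum_erase (Finset.univ.erase x) _ (Finset.mem_erase.2 ⟨hxy.symm, Finset.mem_univ y⟩), wx, wy,
      Finset.sum_eq_zero fun b hb => ?_, add_zero]
    simp only [Finset.mem_erase, Finset.mem_univ, and_true] at hb
    exact pr_perp J (hperp z hz b hb.2 hb.1)
  have hF := hdec f (pl_mulVec_mem h hfg)
  have hG := hdec g (by rw [pl_comm h hfg]; exact pl_mulVec_mem h (hfg.symm h))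
  obtain ⟨α, β, hf'⟩ : ∃ α β : F, f = α • u + β • v := ⟨_, _, hF.trans (by rw [pr_mulVec, pr_mulVec])⟩
  obtain ⟨γ, δ, hg'⟩ : ∃ γ δ : F, g = γ • u + δ • v := ⟨_, _, hG.trans (by rw [pr_mulVec, pr_mulVec])⟩
  have hne : α * δ - β * γ ≠ 0 := by
    intro h0
    have e : γ • f = α • g := by
      rw [hf', hg', smul_add, smul_add, smul_smul, smul_smul, smul_smul, smul_smul, mul_comm γ α,
        show γ * β = α * δ by linear_combination -h0]
    have e2 : δ • f = β • g := by
      rw [hf', hg', smul_add, smul_add, smul_smul, smul_smul, smul_smul, smul_smul, mul_comm δ β,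
        show δ * α = β * γ by linear_combination h0]
    have h3 := congrArg (fun z => bf J f z) e
    have h4 := congrArg (fun z => bf J f z) e2
    simp only [bf_smul_right, hfg.orth, mul_zero, mul_eq_zero, hfg.left, or_false] at h3 h4
    have : g = 0 := by rw [hg', h3, h4, zero_smul, zero_smul, add_zero]
    exact hfg.right (by rw [this, bf_zero_left])
  have eu : u = (α * δ - β * γ)⁻¹ • (δ • f - β • g) := by
    rw [eq_inv_smul_iff₀ hne, hf', hg']; module
  have ev : v = (α * δ - β * γ)⁻¹ • (α • g - γ • f) := by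
    rw [eq_inv_smul_iff₀ hne, hf', hg']; module
  have hf1 : pl J f g *ᵥ f = -f := pl_mulVec_mem h hfg
  have hg1 : pl J f g *ᵥ g = -g := by rw [pl_comm h hfg]; exact pl_mulVec_mem h (hfg.symm h)
  refine hw.ext fun b => ?_
  by_cases hb1 : b = x
  · subst hb1
    rw [wx, pl_mulVec_mem h q, eu, Matrix.mulVec_smul, Matrix.mulVec_sub, Matrix.mulVec_smul, Matrix.mulVec_smul,
      hf1, hg1]
    module
  by_cases hb2 : b = y
  · subst hb2
    rw [wy, pl_comm h q, pl_mulVec_mem h (q.symm h), ev, Matrix.mulVec_smul, Matrix.mulVec_sub, Matrix.mulVec_smul,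
      Matrix.mulVec_smul, hf1, hg1]
    module
  · have h1 : bf J u (w b) = 0 := by rw [← wx]; exact hw.orth _ _ (Ne.symm hb1)
    have h2 : bf J v (w b) = 0 := by rw [← wy]; exact hw.orth _ _ (Ne.symm hb2)
    rw [hfix _ h1 h2, pl_mulVec_perp h q h1 h2]

/-- The product of two rotations: the involution in it, or conjugate lines. -/
theorem rot_pair (h : Frm J) (hk : Even k) {a c : Fin k → F} (ha : bf J a a ≠ 0) (hc : bf J c c ≠ 0) :
    (∀ n : ℕ, IsSim J ((rot J a * rot J c) ^ n) 1 ∧ ((rot J a * rot J c) ^ n).det = 1 ∧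
      ∀ y, bf J a y = 0 → bf J c y = 0 → (rot J a * rot J c) ^ n *ᵥ y = y) ∧
      (∀ m : ℕ, Odd m → (rot J a * rot J c) ^ m = 1 → ∃ s : F, s ≠ 0 ∧ bf J c c = s * s * bf J a a) := by
  have hD : IsSim J (rot J a * rot J c) 1 := by
    have := (isSim_rot h ha).mul (isSim_rot h hc)
    rwa [one_mul] at this
  have hP : ∀ n : ℕ, IsSim J ((rot J a * rot J c) ^ n) 1 := fun n => by
    induction n with
    | zero => rw [pow_zero]; exact isSim_one
    | succ n ih => rw [pow_succ]; simpa using ih.mul hD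
  refine ⟨fun n => ⟨hP n, ?_, fun y h1 h2 => ?_⟩, fun m hm e => ?_⟩
  · rw [Matrix.det_pow, Matrix.det_mul, det_rot h hk ha, det_rot h hk hc, neg_mul_neg, one_mul, one_pow]
  · induction n with
    | zero => rw [pow_zero, Matrix.one_mulVec]
    | succ n ih =>
      rw [pow_succ, ← Matrix.mulVec_mulVec, ← Matrix.mulVec_mulVec, rot_perp J h2, Matrix.mulVec_neg,
        rot_perp J h1, neg_neg, ih]
  · obtain ⟨l, rfl⟩ := hm
    obtain ⟨R, hR⟩ : ∃ R, R = rotG J a ha := ⟨_, rfl⟩
    obtain ⟨S, hS⟩ : ∃ S, S = rotG J c hc := ⟨_, rfl⟩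
    have hR2 : R * R = 1 := Units.ext (by rw [hR, Units.val_mul, Units.val_one]; exact rot_mul_self J ha)
    have hS2 : S * S = 1 := Units.ext (by rw [hS, Units.val_mul, Units.val_one]; exact rot_mul_self J hc)
    have he : (R * S) ^ (2 * l + 1) = 1 := Units.ext (by
      rw [Units.val_pow_eq_pow_val, Units.val_mul, Units.val_one, hR, hS]; exact e)
    have hRi : R⁻¹ = R := inv_eq_of_mul_eq_one_right hR2
    have hSi : S⁻¹ = S := inv_eq_of_mul_eq_one_right hS2
    have hflip : R * ((R * S) ^ l)⁻¹ = (R * S) ^ l * R := by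
      rw [← inv_pow, _root_.mul_inv_rev, hRi, hSi]
      have : SemiconjBy R (S * R) (R * S) := by
        show R * (S * R) = R * S * R
        rw [mul_assoc]
      exact this.pow_right l
    have key : (R * S) ^ l * R * ((R * S) ^ l)⁻¹ = S := by
      rw [mul_assoc, hflip, ← mul_assoc, ← pow_add, ← two_mul]
      have h5 : (R * S) ^ (2 * l) = (R * S)⁻¹ := eq_inv_of_mul_eq_one_left (by rw [← pow_succ]; exact he)
      rw [h5, _root_.mul_inv_rev, hRi, hSi, mul_assoc, hR2, mul_one]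
    have hg : (R * S) ^ l ∈ iso J := (iso J).pow_mem ((iso J).mul_mem (hR ▸ h.rotG_mem ha) (hS ▸ h.rotG_mem hc)) l
    have h6 := congrArg Units.val key
    rw [Units.val_mul, Units.val_mul] at h6
    conv at h6 => lhs; rw [show R.1 = rot J a by rw [hR]; rfl]
    conv at h6 => rhs; rw [show S.1 = rot J c by rw [hS]; rfl]
    rw [h.conj_rot hg] at h6
    obtain ⟨s, hs⟩ := rot_inj hc (by
      rcases Nat.lt_or_ge k 2 with hlt | hge
      · have : k = 0 := by obtain ⟨r, hr⟩ := hk; omega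
        subst this
        exact absurd (by rw [Subsingleton.elim c 0, bf_zero_left]) hc
      · exact hge) h h6
    refine ⟨s, fun h0 => hc (by rw [hs, h0, zero_smul, bf_zero_left]), ?_⟩
    rw [hs, bf_smul_left, bf_smul_right, h.bf_iso (mem_iso.1 hg), mul_assoc]

/-! ### Two factors -/

/-- Pure plane involutions. -/
def PurePl (J : Matrix (Fin k) (Fin k) F) (i : τ) (X : Matrix (Ix τ k) (Ix τ k) F) : Prop :=
  ∃ c d, Pl J c d ∧ (X = el i (pl J c d) 1 ∨ X = el i 1 (pl J c d))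

variable {i l : τ}

theorem PurePl.swap (p : Pr2 i l) {X : Matrix (Ix τ k) (Ix τ k) F} (hX : PurePl J i X) : PurePl J l X := by
  obtain ⟨c, d, q, h⟩ := hX
  refine ⟨c, d, q, ?_⟩
  rw [p.el_swap, p.el_swap]
  exact h.symm

/-- Products of rotations determine the lines. -/
theorem Env.el_rot_inj (E : Env J i l) {a b c d : Fin k → F} (ha : bf J a a ≠ 0) (hb : bf J b b ≠ 0)
    (hc : bf J c c ≠ 0) (hd : bf J d d ≠ 0) (e : el i (rot J a) (rot J b) = el i (rot J c) (rot J d)) :
    rot J a = rot J c ∧ rot J b = rot J d := by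
  haveI := E.neZero
  have h := E.frm
  have hk := E.four
  obtain ⟨s, hs, e1, e2⟩ := E.pr.el_eq_el e ((isSim_rot h ha).ne_zero h) ((isSim_rot h hb).ne_zero h)
  have hs2 : s * s = 1 := by
    have h1 := congrArg (fun Z => Z * Z) e1
    simp only [rot_mul_self J ha, Matrix.smul_mul, Matrix.mul_smul, rot_mul_self J hc, smul_smul] at h1
    have := congrFun₂ h1 0 0
    simpa using this.symm
  rcases mul_self_eq_one_iff.1 hs2 with rfl | rfl
  · exact ⟨by rw [e1, one_smul], by rw [e2, one_smul]⟩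
  · exact absurd (by rw [e1, neg_one_smul]) (rot_ne_neg h (by omega) ha hc)

/-- The two shapes of a monomial element and its action on pure elements. -/
theorem Env.mono_conj (E : Env J i l) {h₀ : GL (Ix τ k) F} (hh : h₀ ∈ iso (JJ J τ)) (hm : Mono h₀.1) :
    ∃ (A B : Matrix (Fin k) (Fin k) F) (μ : F), IsSim J A μ ∧ IsSim J B μ⁻¹ ∧
      ((∀ P Q P' Q', A * P = P' * A → B * Q = Q' * B → h₀.1 * el i P Q * (h₀⁻¹).1 = el i P' Q') ∨
        ∀ P Q P' Q', A * Q = P' * A → B * P = Q' * B → h₀.1 * el i P Q * (h₀⁻¹).1 = el i P' Q') := by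
  have p := E.pr
  rcases p.mono_cases hm with ⟨A, B, e⟩ | ⟨A, B, e⟩
  · obtain ⟨μ, hA, hB⟩ := E.el_iso hh e
    refine ⟨A, B, μ, hA, hB, Or.inl fun P Q P' Q' h1 h2 => ?_⟩
    have h3 : h₀.1 * el i P Q = el i P' Q' * h₀.1 := by rw [e, el_mul, el_mul, h1, h2]
    rw [h3, Matrix.mul_assoc, h₀.mul_inv, Matrix.mul_one]
  · have ev : (h₀ * swapG i l).1 = el i A B := by
      rw [Units.val_mul, e, show (swapG (F := F) (k := k) i l).1 = permM F k (Equiv.swap i l) from rfl,
        Matrix.mul_assoc, permM_mul, Equiv.swap_mul_self, permM_one, Matrix.mul_one]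
    obtain ⟨μ, hA, hB⟩ := E.el_iso ((iso _).mul_mem hh (swapG_mem i l)) ev
    refine ⟨A, B, μ, hA, hB, Or.inr fun P Q P' Q' h1 h2 => ?_⟩
    have h3 : h₀.1 * el i P Q = el i P' Q' * h₀.1 := by
      rw [e, Matrix.mul_assoc, p.swap_mul_el, ← Matrix.mul_assoc, el_mul, ← Matrix.mul_assoc, el_mul, h1, h2]
    rw [h3, Matrix.mul_assoc, h₀.mul_inv, Matrix.mul_one]

theorem IsSim.pl {A : Matrix (Fin k) (Fin k) F} {μ : F} (hA : IsSim J A μ) (c d : Fin k → F) :
    A * Two.pl J c d = Two.pl J (A *ᵥ c) (A *ᵥ d) * A := by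
  rw [Two.pl, Two.pl, ← Matrix.mul_assoc, hA.rot, Matrix.mul_assoc, hA.rot, Matrix.mul_assoc]

theorem IsSim.map_pl {A : Matrix (Fin k) (Fin k) F} {μ : F} (hA : IsSim J A μ) {c d : Fin k → F} (q : Pl J c d) :
    Pl J (A *ᵥ c) (A *ᵥ d) :=
  ⟨by rw [hA.bf]; exact mul_ne_zero hA.1 q.left, by rw [hA.bf]; exact mul_ne_zero hA.1 q.right,
    by rw [hA.bf, q.orth, mul_zero]⟩

theorem IsSim.bf_ne {A : Matrix (Fin k) (Fin k) F} {μ : F} (hA : IsSim J A μ) {c : Fin k → F}
    (hc : TensorWreathOrth.bf J c c ≠ 0) : TensorWreathOrth.bf J (A *ᵥ c) (A *ᵥ c) ≠ 0 := by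
  rw [hA.bf]; exact mul_ne_zero hA.1 hc

/-- A monomial conjugate of a product of two rotations with the same signature shape. -/
theorem Env.xx_conj (E : Env J i l) {g : GL (Ix τ k) F} (hg : g ∈ iso (JJ J τ)) {a b : Fin k → F}
    (ha : bf J a a ≠ 0) (hb : bf J b b ≠ 0) {x : GL (Ix τ k) F} (hx : x.1 = el i (rot J a) (rot J b))
    (hxM : g * x * g⁻¹ ∈ Om (JJ J τ)) (hm : Mono (g * x * g⁻¹).1) :
    ∃ a' b', bf J a' a' ≠ 0 ∧ bf J b' b' ≠ 0 ∧ (g * x * g⁻¹).1 = el i (rot J a') (rot J b') := by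
  haveI := E.neZero
  have h := E.frm
  have p := E.pr
  have hk := E.four
  have hx2 : x * x = 1 := Units.ext (by
    rw [Units.val_mul, hx, el_mul, rot_mul_self J ha, rot_mul_self J hb, el_one, Units.val_one])
  have hy2 : g * x * g⁻¹ * (g * x * g⁻¹) = 1 := by
    rw [show g * x * g⁻¹ * (g * x * g⁻¹) = g * (x * x) * g⁻¹ by group, hx2, mul_one, mul_inv_cancel]
  obtain ⟨A, B, μ, c, e, hA, hB, hc, hA2, hB2⟩ := E.invol_cases hxM hm hy2
  have hsig : sig (g * x * g⁻¹).1 = ((k : ℤ) - 2) * (k - 2) := by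
    rw [Units.val_mul, Units.val_mul, sig_conj g.inv_mul, hx, p.sig_el h.two (rot_mul_self J ha) (rot_mul_self J hb),
      sig_rot h ha, sig_rot h hb, Fintype.card_fin]
    ring
  have hk2 : (0 : ℤ) < ((k : ℤ) - 2) * (k - 2) := by
    have : (4 : ℤ) ≤ k := by exact_mod_cast hk
    nlinarith
  by_cases hcs : IsSquare c
  swap
  · exfalso
    obtain ⟨Q, hQ⟩ := exists_anticomm hA2 hcs
    have h1 : (embG i Q).1 * el i A B * ((embG i Q)⁻¹).1 = -el i A B := by
      rw [← map_inv, embG_val, embG_val, embM_eq_el, embM_eq_el, el_mul, el_mul, hQ, Matrix.mul_assoc, Q.mul_inv,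
        Matrix.mul_one, Matrix.mul_one, Matrix.one_mul, p.el_neg_left]
    have h2 := sig_conj (embG (τ := τ) i Q).inv_mul (el i A B)
    rw [h1, sig_neg, ← e, hsig] at h2
    omega
  obtain ⟨s, rfl⟩ := hcs
  have hs : s ≠ 0 := left_ne_zero_of_mul hc
  obtain ⟨A', hA'⟩ : ∃ A', A' = s⁻¹ • A := ⟨_, rfl⟩
  obtain ⟨B', hB'⟩ : ∃ B', B' = s • B := ⟨_, rfl⟩
  have eA : A' * A' = 1 := by
    rw [hA', Matrix.smul_mul, Matrix.mul_smul, hA2, smul_smul, smul_smul]
    rw [show s⁻¹ * s⁻¹ * (s * s) = 1 by field_simp, one_smul]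
  have eB : B' * B' = 1 := by
    rw [hB', Matrix.smul_mul, Matrix.mul_smul, hB2, smul_smul, smul_smul]
    rw [show s * s * (s * s)⁻¹ = 1 by field_simp, one_smul]
  have e' : (g * x * g⁻¹).1 = el i A' B' := by
    rw [e, hA', hB', p.el_smul_left, p.el_smul_right, smul_smul, inv_mul_cancel₀ hs, one_smul]
  have hA1 : IsSim J A' (s⁻¹ * s⁻¹ * μ) := hA' ▸ hA.smul (inv_ne_zero hs)
  have hB1 : IsSim J B' (s * s * μ⁻¹) := hB' ▸ hB.smul hs
  obtain ⟨ν, hν⟩ : ∃ ν, ν = s⁻¹ * s⁻¹ * μ := ⟨_, rfl⟩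
  rw [← hν] at hA1
  rw [show s * s * μ⁻¹ = ν⁻¹ by rw [hν, mul_inv, mul_inv, inv_inv]] at hB1
  rw [e', p.sig_el h.two eA eB] at hsig
  have hν2 : ν * ν = 1 := by
    have h1 := hA1.mul hA1
    rw [eA] at h1
    have h2 := h1.2
    rw [Matrix.transpose_one, Matrix.one_mul, Matrix.mul_one] at h2
    have h3 : (ν * ν - 1) • J = 0 := by rw [sub_smul, one_smul, ← h2, sub_self]
    refine sub_eq_zero.1 ((smul_eq_zero.1 h3).resolve_right fun h0 => h.det ?_)
    rw [h0, Matrix.det_zero]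
  rcases mul_self_eq_one_iff.1 hν2 with rfl | rfl
  swap
  · rw [sig_eq_zero_of_neg h hA1 eA, zero_mul] at hsig
    omega
  rw [inv_one] at hB1
  have hd := E.det_eq_of_om hA1 hB1 hxM e'
  obtain ⟨f, u, hf, hu⟩ := exists_ob_signs h hA1 eA
  obtain ⟨f', u', hf', hu'⟩ := exists_ob_signs h hB1 eB
  obtain ⟨hdA, -, hsA⟩ := signs_data h hf hu
  obtain ⟨hdB, -, hsB⟩ := signs_data h hf' hu'
  obtain ⟨pA, hpA⟩ : ∃ n, n = (Finset.univ.filter fun a => u a = true).card := ⟨_, rfl⟩
  obtain ⟨pB, hpB⟩ : ∃ n, n = (Finset.univ.filter fun a => u' a = true).card := ⟨_, rfl⟩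
  rw [← hpA] at hsA
  rw [← hpB] at hsB
  rw [hsA, hsB] at hsig
  have hpAk : pA ≤ k := by
    rw [hpA]; exact (Finset.card_le_univ _).trans_eq (Fintype.card_fin k)
  have hpBk : pB ≤ k := by
    rw [hpB]; exact (Finset.card_le_univ _).trans_eq (Fintype.card_fin k)
  obtain ⟨r, hr⟩ := E.even
  have key : (pA = 1 ∧ pB = 1) ∨ (pA + 1 = k ∧ pB + 1 = k) := by
    obtain ⟨x1, hx1⟩ : ∃ x1 : ℤ, x1 = (r : ℤ) - pA := ⟨_, rfl⟩
    obtain ⟨x2, hx2'⟩ : ∃ x2 : ℤ, x2 = (r : ℤ) - pB := ⟨_, rfl⟩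
    have hrk : (k : ℤ) = r + r := by exact_mod_cast hr
    have hprod : x1 * x2 = ((r : ℤ) - 1) * (r - 1) := by
      have : (4 : ℤ) * (x1 * x2) = 4 * (((r : ℤ) - 1) * (r - 1)) := by
        rw [hx1, hx2']; rw [hrk] at hsig; linear_combination hsig
      linarith
    have b1 : -(r : ℤ) ≤ x1 ∧ x1 ≤ r := by rw [hx1]; omega
    have b2 : -(r : ℤ) ≤ x2 ∧ x2 ≤ r := by rw [hx2']; omega
    have hr2 : (2 : ℤ) ≤ r := by omega
    have n1 : x1 ≠ r ∧ x1 ≠ -r := by
      constructor <;> intro hh <;> rw [hh] at hprod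
      · have h4 : (r : ℤ) ∣ 1 := ⟨x2 - r + 2, by linear_combination -hprod⟩
        have := Int.le_of_dvd one_pos h4
        omega
      · have h4 : (r : ℤ) ∣ 1 := ⟨-x2 - r + 2, by linear_combination -hprod⟩
        have := Int.le_of_dvd one_pos h4
        omega
    have n2 : x2 ≠ r ∧ x2 ≠ -r := by
      constructor <;> intro hh <;> rw [hh] at hprod
      · have h4 : (r : ℤ) ∣ 1 := ⟨x1 - r + 2, by linear_combination -hprod⟩
        have := Int.le_of_dvd one_pos h4
        omega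
      · have h4 : (r : ℤ) ∣ 1 := ⟨-x1 - r + 2, by linear_combination -hprod⟩
        have := Int.le_of_dvd one_pos h4
        omega
    have mx : ∀ y z : ℤ, y * z = ((r : ℤ) - 1) * (r - 1) → 0 ≤ y → y ≤ r - 1 → z ≤ r - 1 →
        y = r - 1 ∧ z = r - 1 := by
      intro y z hyz hy0 hy hz
      have h5 : ((r : ℤ) - 1) ≤ y := le_of_mul_le_mul_right
        (calc ((r : ℤ) - 1) * (r - 1) = y * z := hyz.symm
          _ ≤ y * (r - 1) := mul_le_mul_of_nonneg_left hz hy0) (by omega)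
      have hy' : y = r - 1 := le_antisymm hy h5
      rw [hy'] at hyz
      exact ⟨hy', mul_left_cancel₀ (by omega) hyz⟩
    rcases le_or_gt 0 x1 with hx0 | hx0
    · obtain ⟨e1, e2⟩ := mx x1 x2 hprod hx0 (by omega) (by omega)
      exact Or.inl ⟨by omega, by omega⟩
    · obtain ⟨e1, e2⟩ := mx (-x1) (-x2) (by rw [neg_mul_neg]; exact hprod) (by omega) (by omega) (by omega)
      exact Or.inr ⟨by omega, by omega⟩
  rcases key with ⟨h1, h2⟩ | ⟨h1, h2⟩
  · obtain ⟨a', ha', eA'⟩ := eq_refl_of_signs hf hu (hpA ▸ h1)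
    obtain ⟨b', hb', eB'⟩ := eq_refl_of_signs hf' hu' (hpB ▸ h2)
    exact ⟨a', b', ha', hb', by rw [e', eA', eB', p.el_neg_neg]⟩
  · have hc1 : ∀ (f : Fin k → Fin k → F) (u : Fin k → Bool) (X : Matrix (Fin k) (Fin k) F),
        OB J f → (∀ a, X *ᵥ f a = (if u a then (-1 : F) else 1) • f a) →
        (Finset.univ.filter fun a => u a = true).card + 1 = k → ∃ c, bf J c c ≠ 0 ∧ X = rot J c := by
      intro f u X hf hu hc
      obtain ⟨c, hc0, hcX⟩ := eq_refl_of_signs (X := -X) (s := fun a => !u a) hf (fun a => by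
        rw [Matrix.neg_mulVec, hu a]; cases u a <;> simp) (by
          have := Finset.card_filter_add_card_filter_not (s := (Finset.univ : Finset (Fin k))) (fun a => u a = true)
          rw [Finset.card_univ, Fintype.card_fin] at this
          simp only [Bool.not_eq_true'] at this ⊢
          simp only [Bool.not_eq_true] at this
          omega)
      exact ⟨c, hc0, neg_inj.1 hcX⟩
    obtain ⟨a', ha', eA'⟩ := hc1 f u A' hf hu (hpA ▸ h1)
    obtain ⟨b', hb', eB'⟩ := hc1 f' u' B' hf' hu' (hpB ▸ h2)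
    exact ⟨a', b', ha', hb', by rw [e', eA', eB']⟩

end CfsgLib.Classical.TensorWreathOrth.Two
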