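import Cfsg.Agent.Lib.Classical.TensorWreathOrth.TwoPlane
import Cfsg.Agent.Lib.Classical.TensorWreathOrth.TwoFree
import Cfsg.Agent.Lib.Classical.TensorWreathOrth.Pairs

set_option autoImplicit false
set_option linter.unusedSectionVars false

/-!
From monomial centralisers of pure plane involutions to the whole group: the centraliser of a product of two
rotations, then of a product of two planes, then every element.
-/

namespace CfsgLib.Classical.TensorWreathOrth.Two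

open Matrix CfsgLib.Classical.TensorWreath
open CfsgLib.Classical.TensorWreathOrth
open scoped MatrixGroups

variable {F : Type*} [Field F] [Finite F] {τ : Type} [Fintype τ] [DecidableEq τ] {k : ℕ}
  {J : Matrix (Fin k) (Fin k) F} {M : Subgroup (GL (Ix τ k) F)} {i l : τ}

/-- The hypotheses of the upper part. -/
structure Low2 (J : Matrix (Fin k) (Fin k) F) (M : Subgroup (GL (Ix τ k) F)) (i : τ) : Prop where
  cent : ∀ g ∈ M, ∀ X, PurePl J i X → g.1 * X = X * g.1 → Mono g.1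
  fuse : ∀ g ∈ M, ∀ a b a' b' : Fin k → F, bf J a a ≠ 0 → bf J b b ≠ 0 → bf J a' a' ≠ 0 → bf J b' b' ≠ 0 →
    g.1 * el i (rot J a) (rot J b) * (g⁻¹).1 = el i (rot J a') (rot J b') →
    ∀ X, PurePl J i X → X * el i (rot J a) (rot J b) = el i (rot J a) (rot J b) * X →
    Mono (g.1 * X * (g⁻¹).1) → PurePl J i (g.1 * X * (g⁻¹).1)

theorem Low2.swap (L : Low2 J M i) (p : Pr2 i l) : Low2 J M l where
  cent g hg X hX hc := L.cent g hg X (hX.swap p.symm) hc
  fuse g hg a b a' b' ha hb ha' hb' hx X hX hc hm := by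
    rw [p.el_swap, p.el_swap] at hx
    rw [p.el_swap] at hc
    exact (L.fuse g hg b a b' a' hb ha hb' ha' hx X (hX.swap p.symm) hc hm).swap p

theorem conj_mul (g : GL (Ix τ k) F) (X Y : Matrix (Ix τ k) (Ix τ k) F) :
    g.1 * (X * Y) * (g⁻¹).1 = g.1 * X * (g⁻¹).1 * (g.1 * Y * (g⁻¹).1) := by
  rw [← Matrix.mul_assoc (g.1 * X * (g⁻¹).1), ← Matrix.mul_assoc (g.1 * X * (g⁻¹).1) g.1,
    Matrix.mul_assoc (g.1 * X) (g⁻¹).1 g.1, g.inv_mul, Matrix.mul_one, ← Matrix.mul_assoc g.1 X Y]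

theorem conj_of_comm {g : GL (Ix τ k) F} {X : Matrix (Ix τ k) (Ix τ k) F} (h : g.1 * X = X * g.1) :
    g.1 * X * (g⁻¹).1 = X := by
  rw [h, Matrix.mul_assoc, g.mul_inv, Matrix.mul_one]

theorem comm_of_conj {g : GL (Ix τ k) F} {X : Matrix (Ix τ k) (Ix τ k) F} (h : g.1 * X * (g⁻¹).1 = X) :
    g.1 * X = X * g.1 := by
  conv_rhs => rw [← h]
  rw [Matrix.mul_assoc _ (g⁻¹).1, g.inv_mul, Matrix.mul_one]

theorem comm_mul {g : GL (Ix τ k) F} {X Y : Matrix (Ix τ k) (Ix τ k) F} (hX : g.1 * X = X * g.1)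
    (hY : g.1 * Y = Y * g.1) : g.1 * (X * Y) = X * Y * g.1 := by
  rw [← Matrix.mul_assoc, hX, Matrix.mul_assoc, hY, Matrix.mul_assoc]

theorem el_pow (A B : Matrix (Fin k) (Fin k) F) (n : ℕ) : el i A B ^ n = el i (A ^ n) (B ^ n) := by
  induction n with
  | zero => rw [pow_zero, pow_zero, pow_zero, el_one]
  | succ n ih => rw [pow_succ, pow_succ, pow_succ, ih, el_mul]

theorem pl_mul_pl (h : Frm J) {a c d : Fin k → F} (qc : Pl J a c) :
    pl J a c * pl J a d = rot J c * rot J d := by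
  rw [pl_comm h qc, pl, pl, Matrix.mul_assoc, ← Matrix.mul_assoc (rot J a) (rot J a), rot_mul_self J qc.left,
    Matrix.one_mul]

theorem pl_comm_rot (h : Frm J) {a c : Fin k → F} (qc : Pl J a c) : pl J a c * rot J a = rot J a * pl J a c := by
  conv_lhs => rw [pl_comm h qc, pl, Matrix.mul_assoc, rot_mul_self J qc.left, Matrix.mul_one]
  rw [pl, ← Matrix.mul_assoc, rot_mul_self J qc.left, Matrix.one_mul]

theorem pl_comm_rot_perp (h : Frm J) {a c d : Fin k → F} (hc : bf J c a = 0) (hd : bf J d a = 0) :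
    pl J c d * rot J a = rot J a * pl J c d := by
  rw [pl, Matrix.mul_assoc, rot_comm_orth h hd, ← Matrix.mul_assoc, rot_comm_orth h hc, Matrix.mul_assoc]

theorem IsSim.perp_of_rot (h : Frm J) {A : Matrix (Fin k) (Fin k) F} {μ : F} (hA : IsSim J A μ) {a c y : Fin k → F}
    (hk : 2 ≤ k) (hc : TensorWreathOrth.bf J c c ≠ 0) (e : TensorWreathOrth.rot J (A *ᵥ a) = TensorWreathOrth.rot J c)
    (hy : TensorWreathOrth.bf J a y = 0) : TensorWreathOrth.bf J c (A *ᵥ y) = 0 := by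
  obtain ⟨s, hs⟩ := rot_inj hc hk h e
  rw [hs, bf_smul_left, hA.bf, hy, mul_zero, mul_zero]

/-- Equal products of planes through given lines. -/
theorem Env.el_pl_inj (E : Env J i l) {a b c c' d d' : Fin k → F} (qc : Pl J a c) (qd : Pl J b d) (qc' : Pl J a c')
    (qd' : Pl J b d') (e : el i (pl J a c') (pl J b d') = el i (pl J a c) (pl J b d)) :
    rot J c' = rot J c ∧ rot J d' = rot J d := by
  haveI := E.neZero
  have h := E.frm
  obtain ⟨s, hs, e1, e2⟩ := E.pr.el_eq_el e ((isSim_pl h qc').ne_zero h) ((isSim_pl h qd').ne_zero h)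
  have h1 := congrArg (fun Z => Z *ᵥ a) e1
  simp only [Matrix.smul_mulVec, pl_mulVec_mem h qc', pl_mulVec_mem h qc] at h1
  have s1 : s = 1 := by
    have : (s - 1) • a = 0 := by
      rw [sub_smul, one_smul]
      rw [smul_neg, neg_inj] at h1
      rw [← h1, sub_self]
    exact sub_eq_zero.1 ((smul_eq_zero.1 this).resolve_right fun h0 => qc.left (by rw [h0, bf_zero_left]))
  subst s1
  rw [one_smul] at e1 e2
  constructor
  · have := congrArg (fun Z => rot J a * Z) e1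
    simpa only [pl, ← Matrix.mul_assoc, rot_mul_self J qc.left, Matrix.one_mul] using this
  · have := congrArg (fun Z => rot J b * Z) e2
    simpa only [pl, ← Matrix.mul_assoc, rot_mul_self J qd.left, Matrix.one_mul] using this.symm

namespace Ctx2

variable (C : Ctx2 J M i l)
include C

theorem val_conj (g y : GL (Ix τ k) F) {X : Matrix (Ix τ k) (Ix τ k) F} (e : y.1 = X) :
    (g * y * g⁻¹).1 = g.1 * X * (g⁻¹).1 := by rw [Units.val_mul, Units.val_mul, e]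

/-- An element carrying two planes through a line and their product to pure elements is monomial. -/
theorem mono_of_three_pure {g : GL (Ix τ k) F} (hg : g ∈ M) {a c d : Fin k → F} (qc : Pl J a c) (qd : Pl J a d)
    (hcd : bf J c d = 0) (h1 : PurePl J i (g.1 * el i (pl J a c) 1 * (g⁻¹).1))
    (h2 : PurePl J i (g.1 * el i (pl J a d) 1 * (g⁻¹).1))
    (h3 : PurePl J i (g.1 * el i (pl J c d) 1 * (g⁻¹).1)) : Mono g.1 := by
  haveI := C.toEnv.neZero
  have h := C.frm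
  have p := C.pr
  have hk := C.four
  have e : el i (pl J c d) (1 : Matrix (Fin k) (Fin k) F) = el i (pl J a c) 1 * el i (pl J a d) 1 := by
    rw [el_mul, Matrix.mul_one, pl_mul_pl h qc]; rfl
  rw [e, conj_mul] at h3
  obtain ⟨c1, d1, q1, e1⟩ := h1
  obtain ⟨c2, d2, q2, e2⟩ := h2
  have key : ∀ {P Q : Matrix (Fin k) (Fin k) F} {u v w z : Fin k → F}, Pl J u v → Pl J w z →
      P = pl J u v → Q = pl J w z → ¬ PurePl J i (el i P Q) := by
    rintro P Q u v w z quv qwz rfl rfl ⟨r, t, q, e | e⟩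
    · obtain ⟨s, hs, -, e'⟩ := p.el_eq_el e ((isSim_pl h quv).ne_zero h) ((isSim_pl h qwz).ne_zero h)
      exact pl_ne_smul h (by omega) qwz s⁻¹ (by rw [e', smul_smul, inv_mul_cancel₀ hs, one_smul])
    · obtain ⟨s, hs, e', -⟩ := p.el_eq_el e ((isSim_pl h quv).ne_zero h) ((isSim_pl h qwz).ne_zero h)
      exact pl_ne_smul h (by omega) quv s e'
  rcases e1 with e1 | e1 <;> rcases e2 with e2 | e2
  · exact C.lin hg qc qd hcd (s := i) (by rw [e1, embM_eq_el]) (by rw [e2, embM_eq_el])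
  · rw [e1, e2, el_mul, Matrix.mul_one, Matrix.one_mul] at h3
    exact absurd h3 (key q1 q2 rfl rfl)
  · rw [e1, e2, el_mul, Matrix.mul_one, Matrix.one_mul] at h3
    exact absurd h3 (key q2 q1 rfl rfl)
  · exact C.lin hg qc qd hcd (s := l) (by rw [e1, p.embM_other]) (by rw [e2, p.embM_other])

variable (L : Low2 J M i)
include L

/-- An element fusing products of rotations, with a pure image of a plane, is monomial. -/
theorem onept {g : GL (Ix τ k) F} (hg : g ∈ M) {a b a' b' c : Fin k → F} (ha' : bf J a' a' ≠ 0) (hb : bf J b b ≠ 0)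
    (hb' : bf J b' b' ≠ 0) (qc : Pl J a c)
    (hx : g.1 * el i (rot J a) (rot J b) * (g⁻¹).1 = el i (rot J a') (rot J b'))
    (hm : Mono (g.1 * el i (pl J a c) 1 * (g⁻¹).1)) : Mono g.1 := by
  haveI := C.toEnv.neZero
  have h := C.frm
  have hk := C.four
  obtain ⟨d, hd, hdd⟩ := h.exists_perp_aniso (v := ![a, c])
    (by intro x y hxy; fin_cases x <;> fin_cases y <;> simp_all [qc.orth, (qc.symm h).orth])
    (by intro x; fin_cases x <;> simp [qc.left, qc.right]) (by rw [Fintype.card_fin, Fintype.card_fin]; omega)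
  have qad : Pl J a d := ⟨qc.left, hdd, hd 0⟩
  have qcd : Pl J c d := ⟨qc.right, hdd, hd 1⟩
  have hXp := L.fuse g hg a b a' b' qc.left hb ha' hb' hx _ ⟨a, c, qc, Or.inl rfl⟩
    (by rw [el_mul, el_mul, Matrix.one_mul, Matrix.mul_one, pl_comm_rot h qc]) hm
  have step : ∀ u v, Pl J u v → pl J u v * rot J a = rot J a * pl J u v →
      pl J u v * pl J a c = pl J a c * pl J u v →
      PurePl J i (g.1 * el i (pl J u v) 1 * (g⁻¹).1) := by
    intro u v q hc1 hc2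
    refine L.fuse g hg a b a' b' qc.left hb ha' hb' hx _ ⟨u, v, q, Or.inl rfl⟩
      (by rw [el_mul, el_mul, Matrix.one_mul, Matrix.mul_one, hc1]) ?_
    obtain ⟨z, hz, ez⟩ := C.exists_pl_left q
    rw [← C.val_conj g z ez]
    refine L.cent _ (M.mul_mem (M.mul_mem hg hz) (M.inv_mem hg)) _ hXp ?_
    rw [C.val_conj g z ez, ← conj_mul, ← conj_mul, el_mul, el_mul, hc2]
  refine C.mono_of_three_pure hg qc qad (hd 1) hXp (step a d qad (pl_comm_rot h qad) ?_)
    (step c d qcd (pl_comm_rot_perp h (qc.symm h).orth (qad.symm h).orth) ?_)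
  · rw [pl_mul_pl h qad, pl_mul_pl h qc, rot_comm_orth h (qcd.symm h).orth]
  · have e1 : rot J c * pl J a c = pl J a c * rot J c := by rw [pl_comm h qc, pl_comm_rot h (qc.symm h)]
    have e2 : rot J d * pl J a c = pl J a c * rot J d := (pl_comm_rot_perp h qad.orth qcd.orth).symm
    show rot J c * rot J d * pl J a c = pl J a c * (rot J c * rot J d)
    rw [Matrix.mul_assoc, e2, ← Matrix.mul_assoc, e1, Matrix.mul_assoc]

omit L

/-- The monomial part. -/
def monoSub : Subgroup (GL (Ix τ k) F) where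
  carrier := {g | g ∈ M ∧ Mono g.1}
  one_mem' := ⟨M.one_mem, by rw [Units.val_one, ← el_one (i := i)]; exact mono_el _ _⟩
  mul_mem' ha hb := ⟨M.mul_mem ha.1 hb.1, by rw [Units.val_mul]; exact ha.2.mul hb.2⟩
  inv_mem' {a} ha := ⟨M.inv_mem ha.1, by haveI := C.toEnv.neZero; exact ha.2.inv a.mul_inv⟩

theorem mem_monoSub {g : GL (Ix τ k) F} : g ∈ C.monoSub ↔ g ∈ M ∧ Mono g.1 := Iff.rfl

theorem mem_cent {g y : GL (Ix τ k) F} {X : Matrix (Ix τ k) (Ix τ k) F} (e : y.1 = X) :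
    g ∈ M ⊓ Subgroup.centralizer {y} ↔ g ∈ M ∧ g.1 * X = X * g.1 := by
  rw [Subgroup.mem_inf, Subgroup.mem_centralizer_singleton_iff, ← e, Units.ext_iff, Units.val_mul, Units.val_mul]

theorem exists_xx {a b : Fin k → F} (ha : bf J a a ≠ 0) (hb : bf J b b ≠ 0) :
    ∃ x ∈ M, x.1 = el i (rot J a) (rot J b) :=
  C.exists_el (isSim_rot C.frm ha) (isSim_rot C.frm hb)
    (by rw [det_rot C.frm C.even ha, det_rot C.frm C.even hb])

include L

/-- The common centraliser of a product of two rotations and of two planes through their lines. -/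
theorem cent_three {a b c₀ d₀ : Fin k → F} (qa : Pl J a c₀) (qb : Pl J b d₀) {g : GL (Ix τ k) F} (hg : g ∈ M)
    (h1 : g.1 * el i (rot J a) (rot J b) = el i (rot J a) (rot J b) * g.1)
    (h2 : g.1 * el i (pl J a c₀) (pl J b d₀) = el i (pl J a c₀) (pl J b d₀) * g.1) : Mono g.1 := by
  classical
  haveI := C.toEnv.neZero
  have h := C.frm
  have hk := C.four
  obtain ⟨c, hc, hcc⟩ := h.exists_perp_aniso (v := ![a, c₀])
    (by intro x y hxy; fin_cases x <;> fin_cases y <;> simp_all [qa.orth, (qa.symm h).orth])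
    (by intro x; fin_cases x <;> simp [qa.left, qa.right]) (by rw [Fintype.card_fin, Fintype.card_fin]; omega)
  have qc : Pl J a c := ⟨qa.left, hcc, hc 0⟩
  obtain ⟨x₀, hx₀, ex₀⟩ := C.exists_xx qa.left qb.left
  obtain ⟨p₀, hp₀, ep₀⟩ := C.exists_el (isSim_pl h qa) (isSim_pl h qb) (by rw [C.det_pl qa, C.det_pl qb])
  obtain ⟨x, hx, ex⟩ := C.exists_pl_left qa
  obtain ⟨y, hy, ey⟩ := C.exists_pl_left qc
  obtain ⟨K, hK⟩ : ∃ K, K = (M ⊓ Subgroup.centralizer {x₀}) ⊓ (M ⊓ Subgroup.centralizer {p₀}) := ⟨_, rfl⟩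
  have memK : ∀ z, z ∈ K ↔ (z ∈ M ∧ z.1 * el i (rot J a) (rot J b) = el i (rot J a) (rot J b) * z.1) ∧
      (z ∈ M ∧ z.1 * el i (pl J a c₀) (pl J b d₀) = el i (pl J a c₀) (pl J b d₀) * z.1) := fun z => by
    rw [hK, Subgroup.mem_inf, C.mem_cent ex₀, C.mem_cent ep₀]
  suffices K ≤ C.monoSub from (this ((memK g).2 ⟨⟨hg, h1⟩, ⟨hg, h2⟩⟩)).2
  have hc1 : bf J c₀ c = 0 := hc 1
  have hcomm : pl J a c * pl J a c₀ = pl J a c₀ * pl J a c := by
    rw [pl_mul_pl h qc, pl_mul_pl h qa, rot_comm_orth h hc1]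
  have one_pt : ∀ u, (q : Pl J a u) → ∀ z : GL (Ix τ k) F, z.1 = el i (pl J a u) 1 →
      ∀ g ∈ K, g * z * g⁻¹ ∈ C.monoSub → g ∈ C.monoSub := by
    intro u q z ez g hgK hgz
    refine ⟨((memK g).1 hgK).1.1, C.onept L ((memK g).1 hgK).1.1 qa.left qb.left qb.left q
      (conj_of_comm ((memK g).1 hgK).1.2) ?_⟩
    rw [← C.val_conj g z ez]
    exact hgz.2
  refine le_of_pair K C.monoSub ((memK x).2 ⟨⟨hx, ?_⟩, hx, ?_⟩) ((memK y).2 ⟨⟨hy, ?_⟩, hy, ?_⟩)
    ⟨hx, ex ▸ mono_el _ _⟩ ?_ ?_ (one_pt c₀ qa x ex) (one_pt c qc y ey) ?_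
  · rw [ex, el_mul, el_mul, Matrix.one_mul, Matrix.mul_one, pl_comm_rot h qa]
  · rw [ex, el_mul, el_mul, Matrix.one_mul, Matrix.mul_one]
  · rw [ey, el_mul, el_mul, Matrix.one_mul, Matrix.mul_one, pl_comm_rot h qc]
  · rw [ey, el_mul, el_mul, Matrix.one_mul, Matrix.mul_one, hcomm]
  · exact Units.ext (by rw [Units.val_mul, ex, el_mul, pl_mul_self h qa, Matrix.mul_one, el_one, Units.val_one])
  · exact Units.ext (by rw [Units.val_mul, ey, el_mul, pl_mul_self h qc, Matrix.mul_one, el_one, Units.val_one])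
  intro w hwK hwH
  refine ⟨1, fun g hgK hgc => ⟨((memK g).1 hgK).1.1, ?_⟩⟩
  rw [pow_one] at hgc
  obtain ⟨⟨hwM, hw1⟩, -, hw2⟩ := (memK w).1 hwK
  have hgc' : g.1 * (el i (pl J a c₀) 1 * (w.1 * el i (pl J a c) 1 * (w⁻¹).1)) =
      el i (pl J a c₀) 1 * (w.1 * el i (pl J a c) 1 * (w⁻¹).1) * g.1 := by
    have := congrArg Units.val hgc.eq
    simp only [Units.val_mul, ex, ey] at this
    exact this
  obtain ⟨A, B, μ, hA, hB, hh | hh⟩ := C.toEnv.mono_conj (C.iso_mem hwM) hwH.2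
  · have e1 := hh _ _ _ _ (hA.rot a) (hB.rot b)
    rw [conj_of_comm hw1] at e1
    obtain ⟨ra, rb⟩ := C.toEnv.el_rot_inj qa.left qb.left (hA.bf_ne qa.left) (hB.bf_ne qb.left) e1
    have e2 := hh _ _ _ _ (hA.pl a c₀) (hB.pl b d₀)
    rw [conj_of_comm hw2] at e2
    simp only [pl] at e2
    rw [← ra, ← rb] at e2
    have o1 : bf J a (A *ᵥ c₀) = 0 := hA.perp_of_rot h (by omega) qa.left ra.symm qa.orth
    have o2 : bf J b (B *ᵥ d₀) = 0 := hB.perp_of_rot h (by omega) qb.left rb.symm qb.orth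
    obtain ⟨r0, -⟩ := C.toEnv.el_pl_inj qa qb ⟨qa.left, hA.bf_ne qa.right, o1⟩ ⟨qb.left, hB.bf_ne qb.right, o2⟩
      e2.symm
    have e3 := hh (pl J a c) 1 (pl J (A *ᵥ a) (A *ᵥ c)) 1 (hA.pl a c) (by rw [Matrix.mul_one, Matrix.one_mul])
    have eA : pl J (A *ᵥ a) (A *ᵥ c) = pl J a (A *ᵥ c) := by rw [pl, ← ra]; rfl
    rw [e3, eA, el_mul, Matrix.one_mul, pl_mul_pl h qa] at hgc'
    exact L.cent g ((memK g).1 hgK).1.1 _
      ⟨c₀, A *ᵥ c, ⟨qa.right, hA.bf_ne qc.right, hA.perp_of_rot h (by omega) qa.right r0 (hc 1)⟩,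
        Or.inl rfl⟩ hgc'
  · have e1 := hh _ _ _ _ (hA.rot b) (hB.rot a)
    rw [conj_of_comm hw1] at e1
    obtain ⟨ra, rb⟩ := C.toEnv.el_rot_inj qa.left qb.left (hA.bf_ne qb.left) (hB.bf_ne qa.left) e1
    have e2 := hh _ _ _ _ (hA.pl b d₀) (hB.pl a c₀)
    rw [conj_of_comm hw2] at e2
    simp only [pl] at e2
    rw [← ra, ← rb] at e2
    have o1 : bf J a (A *ᵥ d₀) = 0 := hA.perp_of_rot h (by omega) qa.left ra.symm qb.orth
    have o2 : bf J b (B *ᵥ c₀) = 0 := hB.perp_of_rot h (by omega) qb.left rb.symm qa.orth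
    obtain ⟨-, r0⟩ := C.toEnv.el_pl_inj qa qb ⟨qa.left, hA.bf_ne qb.right, o1⟩ ⟨qb.left, hB.bf_ne qa.right, o2⟩
      e2.symm
    have e3 := hh (pl J a c) 1 1 (pl J (B *ᵥ a) (B *ᵥ c)) (by rw [Matrix.mul_one, Matrix.one_mul]) (hB.pl a c)
    have eB : pl J (B *ᵥ a) (B *ᵥ c) = pl J b (B *ᵥ c) := by rw [pl, ← rb]; rfl
    rw [e3, eB, el_mul, Matrix.mul_one, Matrix.one_mul] at hgc'
    have h3 := comm_mul ((memK g).1 hgK).2.2 hgc'
    rw [el_mul, pl_mul_self h qa, pl_mul_pl h qb] at h3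
    exact L.cent g ((memK g).1 hgK).1.1 _
      ⟨d₀, B *ᵥ c, ⟨qb.right, hB.bf_ne qc.right, hB.perp_of_rot h (by omega) qb.right r0 (hc 1)⟩,
        Or.inr rfl⟩ h3

/-- The centraliser of a product of two rotations. -/
theorem cent_xx {a b : Fin k → F} (ha : bf J a a ≠ 0) (hb : bf J b b ≠ 0) {g : GL (Ix τ k) F} (hg : g ∈ M)
    (h1 : g.1 * el i (rot J a) (rot J b) = el i (rot J a) (rot J b) * g.1) : Mono g.1 := by
  classical
  haveI := C.toEnv.neZero
  have h := C.frm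
  have hk := C.four
  obtain ⟨x₁, hx₁, hxx⟩ := h.exists_perp_aniso (v := fun _ : Fin 1 => a)
    (fun p q hpq => absurd (Subsingleton.elim p q) hpq) (fun _ => ha)
    (by rw [Fintype.card_fin, Fintype.card_fin]; omega)
  cases nonempty_fintype F
  obtain ⟨ns, hns⟩ := FiniteField.exists_nonsquare (F := F) (fun e2 => h.two (by
    have := CharP.cast_eq_zero F (ringChar F)
    rwa [e2, Nat.cast_ofNat] at this))
  obtain ⟨z₁, hz₁, hzz⟩ := h.exists_perp_value (κ := Fin 1) (v := fun _ => a)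
    (fun p q hpq => absurd (Subsingleton.elim p q) hpq) (fun _ => ha)
    (by rw [Fintype.card_fin, Fintype.card_fin]; omega) (ns * bf J x₁ x₁)
  have hns0 : ns ≠ 0 := fun e0 => hns (by rw [e0]; exact IsSquare.zero)
  have qx : Pl J a x₁ := ⟨ha, hxx, hx₁ 0⟩
  have qz : Pl J a z₁ := ⟨ha, by rw [hzz]; exact mul_ne_zero hns0 hxx, hz₁ 0⟩
  obtain ⟨x₀, hx₀, ex₀⟩ := C.exists_xx ha hb
  obtain ⟨x, hx, ex⟩ := C.exists_pl_left qx
  obtain ⟨y, hy, ey⟩ := C.exists_pl_left qz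
  obtain ⟨K, hK⟩ : ∃ K, K = M ⊓ Subgroup.centralizer {x₀} := ⟨_, rfl⟩
  have memK : ∀ z, z ∈ K ↔ (z ∈ M ∧ z.1 * el i (rot J a) (rot J b) = el i (rot J a) (rot J b) * z.1) := fun z => by
    rw [hK, C.mem_cent ex₀]
  suffices K ≤ C.monoSub from (this ((memK g).2 ⟨hg, h1⟩)).2
  have one_pt : ∀ u, (q : Pl J a u) → ∀ z : GL (Ix τ k) F, z.1 = el i (pl J a u) 1 →
      ∀ g ∈ K, g * z * g⁻¹ ∈ C.monoSub → g ∈ C.monoSub := by
    intro u q z ez g hgK hgz
    refine ⟨((memK g).1 hgK).1, C.onept L ((memK g).1 hgK).1 ha hb hb q (conj_of_comm ((memK g).1 hgK).2) ?_⟩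
    rw [← C.val_conj g z ez]
    exact hgz.2
  refine le_of_pair K C.monoSub ((memK x).2 ⟨hx, ?_⟩) ((memK y).2 ⟨hy, ?_⟩) ⟨hx, ex ▸ mono_el _ _⟩ ?_ ?_
    (one_pt x₁ qx x ex) (one_pt z₁ qz y ey) ?_
  · rw [ex, el_mul, el_mul, Matrix.one_mul, Matrix.mul_one, pl_comm_rot h qx]
  · rw [ey, el_mul, el_mul, Matrix.one_mul, Matrix.mul_one, pl_comm_rot h qz]
  · exact Units.ext (by rw [Units.val_mul, ex, el_mul, pl_mul_self h qx, Matrix.mul_one, el_one, Units.val_one])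
  · exact Units.ext (by rw [Units.val_mul, ey, el_mul, pl_mul_self h qz, Matrix.mul_one, el_one, Units.val_one])
  intro w hwK hwH
  obtain ⟨hwM, hw1⟩ := (memK w).1 hwK
  have val : (x * (w * y * w⁻¹)).1 = el i (pl J a x₁) 1 * (w.1 * el i (pl J a z₁) 1 * (w⁻¹).1) := by
    simp only [Units.val_mul, ex, ey]
  obtain ⟨A, B, μ, hA, hB, hh | hh⟩ := C.toEnv.mono_conj (C.iso_mem hwM) hwH.2
  · have e1 := hh _ _ _ _ (hA.rot a) (hB.rot b)
    rw [conj_of_comm hw1] at e1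
    obtain ⟨ra, -⟩ := C.toEnv.el_rot_inj ha hb (hA.bf_ne ha) (hB.bf_ne hb) e1
    have e3 := hh (pl J a z₁) 1 (pl J (A *ᵥ a) (A *ᵥ z₁)) 1 (hA.pl a z₁) (by rw [Matrix.mul_one, Matrix.one_mul])
    have eA : pl J (A *ᵥ a) (A *ᵥ z₁) = pl J a (A *ᵥ z₁) := by rw [pl, ← ra]; rfl
    rw [e3, eA, el_mul, Matrix.one_mul, pl_mul_pl h qx] at val
    obtain ⟨z, hz⟩ : ∃ z, z = A *ᵥ z₁ := ⟨_, rfl⟩
    rw [← hz] at val
    have hz0 : bf J z z ≠ 0 := hz ▸ hA.bf_ne qz.right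
    obtain ⟨D, hD⟩ : ∃ D, D = rotG J x₁ hxx * rotG J z hz0 := ⟨_, rfl⟩
    have hDv : ∀ n : ℕ, (D ^ n).1 = (rot J x₁ * rot J z) ^ n := fun n => by
      rw [Units.val_pow_eq_pow_val, hD, Units.val_mul]; rfl
    obtain ⟨hpow, hodd⟩ := rot_pair h C.even hxx hz0
    rcases Nat.even_or_odd (orderOf D) with ⟨n, hn⟩ | ho
    · refine ⟨n, fun g hgK hgc => ⟨((memK g).1 hgK).1, ?_⟩⟩
      have hpos := orderOf_pos D
      have hne : (rot J x₁ * rot J z) ^ n ≠ 1 := fun h1 => by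
        have h2 : D ^ n = 1 := Units.ext (by rw [hDv, h1, Units.val_one])
        have := Nat.le_of_dvd (by omega) (orderOf_dvd_of_pow_eq_one h2)
        omega
      have hsq : (rot J x₁ * rot J z) ^ n * (rot J x₁ * rot J z) ^ n = 1 := by
        rw [← pow_add, ← hn, ← hDv, pow_orderOf_eq_one, Units.val_one]
      obtain ⟨hs1, hd1, hfix⟩ := hpow n
      obtain ⟨f, f', q, ef⟩ := (pl_of_fix h hs1 hsq hd1 hfix).resolve_left hne
      refine L.cent g ((memK g).1 hgK).1 (((x * (w * y * w⁻¹)) ^ n).1) ⟨f, f', q, Or.inl ?_⟩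
        (by rw [← Units.val_mul, ← Units.val_mul, hgc.eq])
      rw [Units.val_pow_eq_pow_val, val, el_pow, one_pow, ef]
    · exfalso
      obtain ⟨s, hs, e⟩ := hodd _ ho (by rw [← hDv, pow_orderOf_eq_one, Units.val_one])
      obtain ⟨t, ht⟩ := rot_inj ha (by omega) h ra.symm
      have hμ : bf J a a = t * t * (μ * bf J a a) := by
        conv_lhs => rw [ht, bf_smul_left, bf_smul_right, hA.bf]
        ring
      have hμ' : t * t * μ = 1 := mul_right_cancel₀ ha (by rw [one_mul]; linear_combination -hμ)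
      rw [hz, hA.bf, hzz] at e
      refine hns ⟨t * s, mul_right_cancel₀ hxx ?_⟩
      linear_combination (t * t) * e - ns * bf J x₁ x₁ * hμ'
  · refine ⟨1, fun g hgK hgc => ⟨((memK g).1 hgK).1, ?_⟩⟩
    rw [pow_one] at hgc
    have e1 := hh _ _ _ _ (hA.rot b) (hB.rot a)
    rw [conj_of_comm hw1] at e1
    obtain ⟨-, rb⟩ := C.toEnv.el_rot_inj ha hb (hA.bf_ne hb) (hB.bf_ne ha) e1
    have e3 := hh (pl J a z₁) 1 1 (pl J (B *ᵥ a) (B *ᵥ z₁)) (by rw [Matrix.mul_one, Matrix.one_mul]) (hB.pl a z₁)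
    have eB : pl J (B *ᵥ a) (B *ᵥ z₁) = pl J b (B *ᵥ z₁) := by rw [pl, ← rb]; rfl
    rw [e3, eB, el_mul, Matrix.mul_one, Matrix.one_mul] at val
    refine C.cent_three L qx ⟨hb, hB.bf_ne qz.right, hB.perp_of_rot h (by omega) hb rb.symm qz.orth⟩
      ((memK g).1 hgK).1 ((memK g).1 hgK).2 ?_
    rw [← val, ← Units.val_mul, ← Units.val_mul, hgc.eq]

/-- An element carrying a product of two rotations to a monomial element is monomial. -/
theorem xx_one {a b : Fin k → F} (ha : bf J a a ≠ 0) (hb : bf J b b ≠ 0) {x : GL (Ix τ k) F} (hxM : x ∈ M)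
    (ex : x.1 = el i (rot J a) (rot J b)) {g : GL (Ix τ k) F} (hg : g ∈ M) (hm : Mono (g * x * g⁻¹).1) :
    Mono g.1 := by
  haveI := C.toEnv.neZero
  have h := C.frm
  have hk := C.four
  obtain ⟨a', b', ha', hb', e⟩ := C.toEnv.xx_conj (C.iso_mem hg) ha hb ex
    (C.le (M.mul_mem (M.mul_mem hg hxM) (M.inv_mem hg))) hm
  rw [C.val_conj g x ex] at e
  obtain ⟨c, hc, hcc⟩ := h.exists_perp_aniso (v := fun _ : Fin 1 => a)
    (fun p q hpq => absurd (Subsingleton.elim p q) hpq) (fun _ => ha)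
    (by rw [Fintype.card_fin, Fintype.card_fin]; omega)
  have qc : Pl J a c := ⟨ha, hcc, hc 0⟩
  obtain ⟨z, hz, ez⟩ := C.exists_pl_left qc
  refine C.onept L hg ha' hb hb' qc e ?_
  rw [← C.val_conj g z ez]
  refine C.cent_xx L ha' hb' (M.mul_mem (M.mul_mem hg hz) (M.inv_mem hg)) ?_
  rw [C.val_conj g z ez, ← e, ← conj_mul, ← conj_mul, el_mul, el_mul, pl_comm_rot h qc, Matrix.one_mul,
    Matrix.mul_one]

/-- The powers available in the centraliser of two planes. -/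
theorem pp_step {a b c e u q : Fin k → F} (qa : Pl J a u) (qb : Pl J b q) (hc : bf J c c ≠ 0) (he : bf J e e ≠ 0)
    (hPc : pl J a u *ᵥ c = -c) (hQe : pl J b q *ᵥ e = e) :
    ∃ n : ℕ, ∀ g ∈ M, g.1 * el i (pl J a u) (pl J b q) = el i (pl J a u) (pl J b q) * g.1 →
      g.1 * (el i (rot J a) (rot J b) * el i (rot J c) (rot J e)) ^ n =
        (el i (rot J a) (rot J b) * el i (rot J c) (rot J e)) ^ n * g.1 → Mono g.1 := by
  classical
  have h := C.frm
  have hk := C.four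
  have neg : ∀ {x : F}, x = -x → x = 0 := fun {x} hx =>
    (mul_eq_zero.1 (show (2 : F) * x = 0 by linear_combination hx)).resolve_left h.two
  have hQb : pl J b q *ᵥ q = -q := by rw [pl_comm h qb]; exact pl_mulVec_mem h (qb.symm h)
  have hbe : bf J b e = 0 := by
    have := (isSim_pl h qb).bf b e
    rw [pl_mulVec_mem h qb, hQe, one_mul, ← neg_one_smul F b, bf_smul_left, neg_one_mul] at this
    exact neg this.symm
  have hqe : bf J q e = 0 := by
    have := (isSim_pl h qb).bf q e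
    rw [hQb, hQe, one_mul, ← neg_one_smul F q, bf_smul_left, neg_one_mul] at this
    exact neg this.symm
  have qbe : Pl J b e := ⟨qb.left, he, hbe⟩
  have hper : ∀ y, bf J a y = 0 → bf J u y = 0 → bf J c y = 0 := fun y h1 h2 => by
    have := (isSim_pl h qa).bf c y
    rw [hPc, pl_mulVec_perp h qa h1 h2, one_mul, ← neg_one_smul F c, bf_smul_left, neg_one_mul] at this
    exact neg this.symm
  obtain ⟨hpow, -⟩ := rot_pair h C.even qa.left hc
  obtain ⟨D, hD⟩ : ∃ D, D = rotG J a qa.left * rotG J c hc := ⟨_, rfl⟩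
  have hDv : ∀ n : ℕ, (D ^ n).1 = (rot J a * rot J c) ^ n := fun n => by
    rw [Units.val_pow_eq_pow_val, hD, Units.val_mul]; rfl
  have hval : ∀ n : ℕ, (el i (rot J a) (rot J b) * el i (rot J c) (rot J e)) ^ n =
      el i ((rot J a * rot J c) ^ n) (pl J b e ^ n) := fun n => by rw [el_mul, el_pow]; rfl
  have hplp : pl J b e * pl J b e = 1 := pl_mul_self h qbe
  rcases Nat.even_or_odd (orderOf D) with ⟨n, hn⟩ | ⟨r, hr⟩
  · have hpos := orderOf_pos D
    have hne : (rot J a * rot J c) ^ n ≠ 1 := fun h1 => by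
      have h2 : D ^ n = 1 := Units.ext (by rw [hDv, h1, Units.val_one])
      have := Nat.le_of_dvd (by omega) (orderOf_dvd_of_pow_eq_one h2)
      omega
    have hsq : (rot J a * rot J c) ^ n * (rot J a * rot J c) ^ n = 1 := by
      rw [← pow_add, ← hn, ← hDv, pow_orderOf_eq_one, Units.val_one]
    obtain ⟨hs1, hd1, hfix⟩ := hpow n
    have eP := (pl_of_fix_plane h (by omega) qa hs1 hsq hd1
      (fun y h1 h2 => hfix y h1 (hper y h1 h2))).resolve_left hne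
    refine ⟨n, fun g hg hgP hgc => ?_⟩
    rw [hval, eP] at hgc
    rcases Nat.even_or_odd n with ⟨r, hr⟩ | ⟨r, hr⟩
    · rw [hr, pow_add, ← (Commute.refl (pl J b e)).mul_pow, hplp, one_pow] at hgc
      exact L.cent g hg _ ⟨a, u, qa, Or.inl rfl⟩ hgc
    · rw [hr, pow_succ, two_mul, pow_add, ← (Commute.refl (pl J b e)).mul_pow, hplp, one_pow, Matrix.one_mul] at hgc
      have h3 := comm_mul hgP hgc
      rw [el_mul, pl_mul_self h qa, pl_mul_pl h qb] at h3
      exact L.cent g hg _ ⟨q, e, ⟨qb.right, he, hqe⟩, Or.inr rfl⟩ h3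
  · refine ⟨orderOf D, fun g hg _ hgc => ?_⟩
    rw [hval, ← hDv, pow_orderOf_eq_one, Units.val_one, hr, pow_succ, two_mul, pow_add,
      ← (Commute.refl (pl J b e)).mul_pow, hplp, one_pow, Matrix.one_mul] at hgc
    exact L.cent g hg _ ⟨b, e, qbe, Or.inr rfl⟩ hgc

/-- The centraliser of a product of two planes. -/
theorem cent_pp {a b u q : Fin k → F} (qa : Pl J a u) (qb : Pl J b q) {g : GL (Ix τ k) F} (hg : g ∈ M)
    (h1 : g.1 * el i (pl J a u) (pl J b q) = el i (pl J a u) (pl J b q) * g.1) : Mono g.1 := by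
  classical
  haveI := C.toEnv.neZero
  have h := C.frm
  have p := C.pr
  have hk := C.four
  obtain ⟨d, hd, hdd⟩ := h.exists_perp_aniso (v := ![b, q])
    (by intro x y hxy; fin_cases x <;> fin_cases y <;> simp_all [qb.orth, (qb.symm h).orth])
    (by intro x; fin_cases x <;> simp [qb.left, qb.right]) (by rw [Fintype.card_fin, Fintype.card_fin]; omega)
  obtain ⟨x, hx, ex⟩ := C.exists_xx qa.left qb.left
  obtain ⟨y, hy, ey⟩ := C.exists_xx qa.left hdd
  obtain ⟨p₀, hp₀, ep₀⟩ := C.exists_el (isSim_pl h qa) (isSim_pl h qb) (by rw [C.det_pl qa, C.det_pl qb])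
  obtain ⟨K, hK⟩ : ∃ K, K = M ⊓ Subgroup.centralizer {p₀} := ⟨_, rfl⟩
  have memK : ∀ z, z ∈ K ↔ (z ∈ M ∧ z.1 * el i (pl J a u) (pl J b q) = el i (pl J a u) (pl J b q) * z.1) :=
    fun z => by rw [hK, C.mem_cent ep₀]
  suffices K ≤ C.monoSub from (this ((memK g).2 ⟨hg, h1⟩)).2
  refine le_of_pair K C.monoSub ((memK x).2 ⟨hx, ?_⟩) ((memK y).2 ⟨hy, ?_⟩) ⟨hx, ex ▸ mono_el _ _⟩ ?_ ?_
    (fun g hgK hgm => ⟨((memK g).1 hgK).1, C.xx_one L qa.left qb.left hx ex ((memK g).1 hgK).1 hgm.2⟩)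
    (fun g hgK hgm => ⟨((memK g).1 hgK).1, C.xx_one L qa.left hdd hy ey ((memK g).1 hgK).1 hgm.2⟩) ?_
  · rw [ex, el_mul, el_mul, pl_comm_rot h qa, pl_comm_rot h qb]
  · have hbd : bf J b d = 0 := hd 0
    have hqd : bf J q d = 0 := hd 1
    rw [ey, el_mul, el_mul, pl_comm_rot h qa, pl_comm_rot_perp h hbd hqd]
  · exact Units.ext (by
      rw [Units.val_mul, ex, el_mul, rot_mul_self J qa.left, rot_mul_self J qb.left, el_one, Units.val_one])
  · exact Units.ext (by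
      rw [Units.val_mul, ey, el_mul, rot_mul_self J qa.left, rot_mul_self J hdd, el_one, Units.val_one])
  intro w hwK hwH
  obtain ⟨hwM, hw1⟩ := (memK w).1 hwK
  suffices ∃ c e, bf J c c ≠ 0 ∧ bf J e e ≠ 0 ∧ w.1 * el i (rot J a) (rot J d) * (w⁻¹).1 = el i (rot J c) (rot J e) ∧
      ((pl J a u *ᵥ c = -c ∧ pl J b q *ᵥ e = e) ∨ (pl J a u *ᵥ c = c ∧ pl J b q *ᵥ e = -e)) by
    obtain ⟨c, e, hc, he, ew, hce⟩ := this
    have val : ∀ n : ℕ, ((x * (w * y * w⁻¹)) ^ n).1 =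
        (el i (rot J a) (rot J b) * el i (rot J c) (rot J e)) ^ n := fun n => by
      rw [Units.val_pow_eq_pow_val, Units.val_mul, C.val_conj w y ey, ew, ex]
    rcases hce with ⟨hPc, hQe⟩ | ⟨hPc, hQe⟩
    · obtain ⟨n, hn⟩ := C.pp_step L qa qb hc he hPc hQe
      exact ⟨n, fun g hgK hgc => ⟨((memK g).1 hgK).1, hn g ((memK g).1 hgK).1 ((memK g).1 hgK).2
        (by rw [← val, ← Units.val_mul, ← Units.val_mul, hgc.eq])⟩⟩
    · obtain ⟨n, hn⟩ := C.symm.pp_step (L.swap p) qb qa he hc hQe hPc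
      refine ⟨n, fun g hgK hgc => ⟨((memK g).1 hgK).1, hn g ((memK g).1 hgK).1 ?_ ?_⟩⟩
      · rw [p.el_swap]; exact ((memK g).1 hgK).2
      · rw [p.el_swap, p.el_swap, ← val, ← Units.val_mul, ← Units.val_mul, hgc.eq]
  have sgn : ∀ {P P' : Matrix (Fin k) (Fin k) F} {s : F}, P * P = 1 → P' * P' = 1 → P' = s • P → s * s = 1 := by
    intro P P' s hP hP' e
    rw [e, Matrix.smul_mul, Matrix.mul_smul, hP, smul_smul] at hP'
    have := congrFun₂ hP' 0 0
    simpa using this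
  obtain ⟨A, B, μ, hA, hB, hh | hh⟩ := C.toEnv.mono_conj (C.iso_mem hwM) hwH.2
  · refine ⟨A *ᵥ a, B *ᵥ d, hA.bf_ne qa.left, hB.bf_ne hdd, hh _ _ _ _ (hA.rot a) (hB.rot d), ?_⟩
    have e2 := hh _ _ _ _ (hA.pl a u) (hB.pl b q)
    rw [conj_of_comm hw1] at e2
    obtain ⟨s, hs, e3, e4⟩ := p.el_eq_el e2.symm ((isSim_pl h (hA.map_pl qa)).ne_zero h)
      ((isSim_pl h (hB.map_pl qb)).ne_zero h)
    have hs2 := sgn (pl_mul_self h qa) (pl_mul_self h (hA.map_pl qa)) e3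
    have h5 := congrArg (fun Z => Z *ᵥ (A *ᵥ a)) e3
    simp only [pl_mulVec_mem h (hA.map_pl qa), Matrix.smul_mulVec] at h5
    have h6 := congrArg (fun Z => Z *ᵥ (B *ᵥ d)) e4
    simp only [pl_mulVec_perp h (hB.map_pl qb) (by rw [hB.bf]; exact mul_eq_zero_of_right _ (hd 0))
      (by rw [hB.bf]; exact mul_eq_zero_of_right _ (hd 1)), Matrix.smul_mulVec] at h6
    rcases mul_self_eq_one_iff.1 hs2 with rfl | rfl
    · exact Or.inl ⟨by rw [one_smul] at h5; exact h5.symm, by rw [one_smul] at h6; exact h6⟩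
    · exact Or.inr ⟨by rw [neg_one_smul, neg_inj] at h5; exact h5.symm, by rw [neg_one_smul] at h6; exact h6⟩
  · refine ⟨A *ᵥ d, B *ᵥ a, hA.bf_ne hdd, hB.bf_ne qa.left, hh _ _ _ _ (hA.rot d) (hB.rot a), ?_⟩
    have e2 := hh _ _ _ _ (hA.pl b q) (hB.pl a u)
    rw [conj_of_comm hw1] at e2
    obtain ⟨s, hs, e3, e4⟩ := p.el_eq_el e2.symm ((isSim_pl h (hA.map_pl qb)).ne_zero h)
      ((isSim_pl h (hB.map_pl qa)).ne_zero h)
    have hs2 := sgn (pl_mul_self h qa) (pl_mul_self h (hA.map_pl qb)) e3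
    have h5 := congrArg (fun Z => Z *ᵥ (A *ᵥ d)) e3
    simp only [pl_mulVec_perp h (hA.map_pl qb) (by rw [hA.bf]; exact mul_eq_zero_of_right _ (hd 0))
      (by rw [hA.bf]; exact mul_eq_zero_of_right _ (hd 1)), Matrix.smul_mulVec] at h5
    have h6 := congrArg (fun Z => Z *ᵥ (B *ᵥ a)) e4
    simp only [pl_mulVec_mem h (hB.map_pl qa), Matrix.smul_mulVec] at h6
    rcases mul_self_eq_one_iff.1 hs2 with rfl | rfl
    · exact Or.inr ⟨by rw [one_smul] at h5; exact h5.symm, by rw [one_smul] at h6; exact h6⟩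
    · refine Or.inl ⟨?_, by rw [neg_one_smul, neg_neg] at h6; exact h6⟩
      rw [neg_one_smul] at h5
      conv_rhs => rw [h5, neg_neg]

/-- All of the group is monomial. -/
theorem all_mono {g : GL (Ix τ k) F} (hg : g ∈ M) : Mono g.1 := by
  classical
  haveI := C.toEnv.neZero
  have h := C.frm
  have p := C.pr
  have hk := C.four
  obtain ⟨a, ha⟩ := h.exists_good (A := J) (by rw [Fintype.card_fin]; omega)
  cases nonempty_fintype F
  obtain ⟨ns, hns⟩ := FiniteField.exists_nonsquare (F := F) (fun e2 => h.two (by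
    have := CharP.cast_eq_zero F (ringChar F)
    rwa [e2, Nat.cast_ofNat] at this))
  have hns0 : ns ≠ 0 := fun e0 => hns (by rw [e0]; exact IsSquare.zero)
  obtain ⟨d, -, hdd⟩ := h.exists_perp_value (κ := Fin 1) (v := fun _ => a)
    (fun p q hpq => absurd (Subsingleton.elim p q) hpq) (fun _ => ha.1)
    (by rw [Fintype.card_fin, Fintype.card_fin]; omega) (ns * bf J a a)
  have hd0 : bf J d d ≠ 0 := by rw [hdd]; exact mul_ne_zero hns0 ha.1
  obtain ⟨x, hx, ex⟩ := C.exists_xx ha.1 ha.1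
  obtain ⟨y, hy, ey⟩ := C.exists_xx ha.1 hd0
  suffices M ≤ C.monoSub from (this hg).2
  refine le_of_pair M C.monoSub hx hy ⟨hx, ex ▸ mono_el _ _⟩ ?_ ?_
    (fun g hgM hgm => ⟨hgM, C.xx_one L ha.1 ha.1 hx ex hgM hgm.2⟩)
    (fun g hgM hgm => ⟨hgM, C.xx_one L ha.1 hd0 hy ey hgM hgm.2⟩) ?_
  · exact Units.ext (by rw [Units.val_mul, ex, el_mul, rot_mul_self J ha.1, el_one, Units.val_one])
  · exact Units.ext (by
      rw [Units.val_mul, ey, el_mul, rot_mul_self J ha.1, rot_mul_self J hd0, el_one, Units.val_one])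
  intro w hwM hwH
  obtain ⟨c, e, hc, he, ew, hQ⟩ : ∃ c e, bf J c c ≠ 0 ∧ bf J e e ≠ 0 ∧
      w.1 * el i (rot J a) (rot J d) * (w⁻¹).1 = el i (rot J c) (rot J e) ∧
      bf J c c * bf J e e = bf J a a * bf J d d := by
    obtain ⟨A, B, μ, hA, hB, hh | hh⟩ := C.toEnv.mono_conj (C.iso_mem hwM) hwH.2
    · refine ⟨A *ᵥ a, B *ᵥ d, hA.bf_ne ha.1, hB.bf_ne hd0, hh _ _ _ _ (hA.rot a) (hB.rot d), ?_⟩
      rw [hA.bf, hB.bf, mul_mul_mul_comm, mul_inv_cancel₀ hA.1, one_mul]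
    · refine ⟨A *ᵥ d, B *ᵥ a, hA.bf_ne hd0, hB.bf_ne ha.1, hh _ _ _ _ (hA.rot d) (hB.rot a), ?_⟩
      rw [hA.bf, hB.bf, mul_mul_mul_comm, mul_inv_cancel₀ hA.1, one_mul, mul_comm]
  obtain ⟨D, hD⟩ : ∃ D : GL (Fin k) F × GL (Fin k) F,
      D = (rotG J a ha.1 * rotG J c hc, rotG J a ha.1 * rotG J e he) := ⟨_, rfl⟩
  have hDv : ∀ n : ℕ, ((D ^ n).1).1 = (rot J a * rot J c) ^ n ∧ ((D ^ n).2).1 = (rot J a * rot J e) ^ n :=
    fun n => by
      rw [Prod.pow_fst, Prod.pow_snd, Units.val_pow_eq_pow_val, Units.val_pow_eq_pow_val, hD]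
      exact ⟨rfl, rfl⟩
  have hval : ∀ n : ℕ, ((x * (w * y * w⁻¹)) ^ n).1 =
      el i ((rot J a * rot J c) ^ n) ((rot J a * rot J e) ^ n) := fun n => by
    rw [Units.val_pow_eq_pow_val, Units.val_mul, C.val_conj w y ey, ew, ex, el_mul, el_pow]
  obtain ⟨p1, o1⟩ := rot_pair h C.even ha.1 hc
  obtain ⟨p2, o2⟩ := rot_pair h C.even ha.1 he
  rcases Nat.even_or_odd (orderOf D) with ⟨n, hn⟩ | ho
  · refine ⟨n, fun g hgM hgc => ⟨hgM, ?_⟩⟩
    have hgc' : g.1 * el i ((rot J a * rot J c) ^ n) ((rot J a * rot J e) ^ n) =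
        el i ((rot J a * rot J c) ^ n) ((rot J a * rot J e) ^ n) * g.1 := by
      rw [← hval, ← Units.val_mul, ← Units.val_mul, hgc.eq]
    have hpos := orderOf_pos D
    have hone : (rot J a * rot J c) ^ n * (rot J a * rot J c) ^ n = 1 ∧
        (rot J a * rot J e) ^ n * (rot J a * rot J e) ^ n = 1 := by
      constructor
      · rw [← pow_add, ← hn, ← (hDv _).1, pow_orderOf_eq_one]; rfl
      · rw [← pow_add, ← hn, ← (hDv _).2, pow_orderOf_eq_one]; rfl
    obtain ⟨s1, d1, f1⟩ := p1 n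
    obtain ⟨s2, d2, f2⟩ := p2 n
    rcases pl_of_fix h s1 hone.1 d1 f1 with z1 | ⟨u1, v1, q1, z1⟩ <;>
      rcases pl_of_fix h s2 hone.2 d2 f2 with z2 | ⟨u2, v2, q2, z2⟩ <;> rw [z1, z2] at hgc'
    · exfalso
      have h2 : D ^ n = 1 :=
        Prod.ext (Units.ext (by rw [(hDv n).1, z1]; rfl)) (Units.ext (by rw [(hDv n).2, z2]; rfl))
      have := Nat.le_of_dvd (by omega) (orderOf_dvd_of_pow_eq_one h2)
      omega
    · exact L.cent g hgM _ ⟨u2, v2, q2, Or.inr rfl⟩ hgc'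
    · exact L.cent g hgM _ ⟨u1, v1, q1, Or.inl rfl⟩ hgc'
    · exact C.cent_pp L q1 q2 hgM hgc'
  · exfalso
    obtain ⟨s, hs, es⟩ := o1 _ ho (by rw [← (hDv _).1, pow_orderOf_eq_one]; rfl)
    obtain ⟨t, ht, et⟩ := o2 _ ho (by rw [← (hDv _).2, pow_orderOf_eq_one]; rfl)
    rw [es, et, hdd] at hQ
    refine hns ⟨s * t, mul_right_cancel₀ (mul_ne_zero ha.1 ha.1) ?_⟩
    linear_combination -hQ

end Ctx2

end CfsgLib.Classical.TensorWreathOrth.Two
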